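import Cfsg.Agent.H23.MinS
import Cfsg.Agent.H23.Elem

/-! Solvability criteria that follow from the list of minimal simple groups. -/

set_option autoImplicit false

namespace H23.MinS
open Subgroup Cfsg MulAction
open scoped MatrixGroups commutatorElement

universe u
variable {G : Type*} [Group G]

theorem lift_pp [Finite G] {H : Type*} [Group H] (f : G →* H) (hf : Function.Surjective f) {p : ℕ}
    (hp : p.Prime) {y : H} (hy : ∃ k, orderOf y = p ^ k) : ∃ x : G, f x = y ∧ ∃ k, orderOf x = p ^ k := by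
  obtain ⟨x, rfl⟩ := hf y
  obtain ⟨k, hk⟩ := hy
  obtain ⟨a, ha, b, hb, e, h1, h2⟩ := exists_pPart p hp x
  refine ⟨a, ?_, h1⟩
  have h3 : orderOf (f b) ∣ p ^ k := hk ▸ orderOf_dvd_of_mem_zpowers (by
    obtain ⟨i, rfl⟩ := hb; exact ⟨i, by simp⟩)
  have h4 : f b = 1 := orderOf_eq_one_iff.1 (Nat.eq_one_of_self_dvd_coprime
    ((h2.coprime_dvd_left (orderOf_map_dvd f b)).pow_right k) h3)
  rw [← e, map_mul, h4, mul_one]
where Nat.eq_one_of_self_dvd_coprime {a b : ℕ} (h : a.Coprime b) (h2 : a ∣ b) : a = 1 :=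
  Nat.Coprime.eq_one_of_dvd h h2

theorem solv_map {H : Type*} [Group H] (f : G →* H) {a b : G}
    (h : Group.IsSolvable (closure ({a, b} : Set G))) : Group.IsSolvable (closure ({f a, f b} : Set H)) := by
  rw [← Set.image_pair, ← MonoidHom.map_closure]
  exact Group.isSolvable_of_surjective (f.subgroupMap_surjective _)

theorem solv_of_map {H : Type*} [Group H] (f : G →* H) (hf : Group.IsSolvable f.ker) {a b : G}
    (h : Group.IsSolvable (closure ({f a, f b} : Set H))) : Group.IsSolvable (closure ({a, b} : Set G)) := by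
  rw [← Set.image_pair, ← MonoidHom.map_closure] at h
  let K := closure ({a, b} : Set G)
  haveI : Group.IsSolvable (f.ker ⊓ K : Subgroup G) := Cfsg.Agent.S0810.solv_of_le inf_le_left hf
  refine Group.isSolvable_of_ker_le_range (inclusion (inf_le_right : f.ker ⊓ K ≤ K)) (f.subgroupMap K) ?_
  intro x hx
  exact ⟨⟨x, congrArg Subtype.val hx, x.2⟩, rfl⟩

theorem ker_sub (H : Subgroup G) : Group.IsSolvable H.subtype.ker := by
  rw [ker_subtype]; infer_instance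

theorem exists_conj_notMem [IsSimpleGroup G] {M : Subgroup G} (hM : M ≠ ⊤) {y : G} (hy : y ≠ 1) :
    ∃ g : G, g * y * g⁻¹ ∉ M := by
  by_contra c
  push Not at c
  rcases M.normalCore_normal.eq_bot_or_eq_top with e | e
  · exact hy (mem_bot.1 (e ▸ c))
  · exact hM (eq_top_iff.2 (e ▸ M.normalCore_le))

theorem s4103 (ms : MS.{u}) {G : Type u} [Group G] [Finite G] :
    Group.IsSolvable G ↔ ∀ x y : G, (∃ p k : ℕ, p.Prime ∧ p ≠ 2 ∧ orderOf x = p ^ k) → (∃ k : ℕ, orderOf y = 2 ^ k) →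
      Group.IsSolvable (Subgroup.closure ({x, y * x * y⁻¹} : Set G)) := by
  refine ⟨fun h _ _ _ _ => inferInstance, red (fun G _ => ∀ x y : G,
    (∃ p k : ℕ, p.Prime ∧ p ≠ 2 ∧ orderOf x = p ^ k) → (∃ k : ℕ, orderOf y = 2 ^ k) →
      Group.IsSolvable (Subgroup.closure ({x, y * x * y⁻¹} : Set G))) ?_ ?_ ?_ G⟩
  · intro G _ _ H h x y hx hy
    exact solv_of_map H.subtype (ker_sub H) (h x y (by simpa using hx) (by simpa using hy))
  · rintro G _ _ N _ - h x y ⟨p, k, hp, p2, hx⟩ hy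
    obtain ⟨x, rfl, j, hj⟩ := lift_pp _ (QuotientGroup.mk'_surjective N) hp ⟨k, hx⟩
    obtain ⟨y, rfl, hy'⟩ := lift_pp _ (QuotientGroup.mk'_surjective N) Nat.prime_two hy
    exact solv_map (QuotientGroup.mk' N) (h x y ⟨p, j, hp, p2, hj⟩ hy')
  intro G _ _ hG h
  haveI := hG.1
  obtain ⟨x, M, x1, hx, hM, hK⟩ := ms.U hG
  obtain ⟨t, ht⟩ := exists_prime_orderOf_dvd_card' (G := G) 2 (even_iff_two_dvd.1 (Nat.not_odd_iff_even.1
    fun c => not_solv hG (Cfsg.Agent.S0205.result c)))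
  obtain ⟨g, hg⟩ := exists_conj_notMem hM (y := t) (fun c => by simp [c] at ht)
  have hy : orderOf (g * t * g⁻¹) = 2 := ht ▸ (MulAut.conj g).orderOf_eq t
  generalize g * t * g⁻¹ = y at hg hy
  have y2 : y * y = 1 := by rw [← sq, ← hy, pow_orderOf_eq_one]
  have h1 : closure ({x, y} : Set G) = ⊤ := by
    by_contra c
    exact hg (hK _ (hG.2.2 _ c) (subset_closure (by simp)) (subset_closure (by simp)))
  have h2 := h x y hx ⟨1, hy⟩
  have h3 : (closure ({x, y * x * y⁻¹} : Set G)).Normal := by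
    rw [← normalizer_eq_top_iff, eq_top_iff, ← h1, closure_le]
    rintro z (rfl | rfl)
    · exact le_normalizer (subset_closure (by simp))
    · refine mem_normalizer_iff_map_conj_eq.2 ?_
      rw [MonoidHom.map_closure, Set.image_pair, Set.pair_comm]
      congr 2
      change z * (z * x * z⁻¹) * z⁻¹ = x
      rw [inv_eq_of_mul_eq_one_right y2]
      calc _ = (z * z) * x * (z * z) := by group
        _ = x := by simp [y2]
  rcases h3.eq_bot_or_eq_top with e | e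
  · exact x1 (mem_bot.1 (e ▸ subset_closure (by simp)))
  · rw [e] at h2
    exact not_solv hG (Cfsg.Agent.S0810.solv_congr topEquiv.symm h2)

theorem s3843 (ms : MS.{u}) {G : Type u} [Group G] [Finite G] :
    Group.IsSolvable G ↔ ∀ p q : ℕ, p.Prime → q.Prime → p ≠ q → ∀ x y : G, (∃ k : ℕ, orderOf x = p ^ k) → (∃ k : ℕ, orderOf y = q ^ k) →
      Group.IsSolvable ↥(Subgroup.closure ({x, y} : Set G)) → ∀ g : G, Group.IsSolvable ↥(Subgroup.closure ({x, g * y * g⁻¹} : Set G)) := by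
  refine ⟨fun h _ _ _ _ _ _ _ _ _ _ _ => inferInstance, red (fun G _ => ∀ p q : ℕ, p.Prime → q.Prime → p ≠ q →
    ∀ x y : G, (∃ k : ℕ, orderOf x = p ^ k) → (∃ k : ℕ, orderOf y = q ^ k) →
      Group.IsSolvable ↥(Subgroup.closure ({x, y} : Set G)) →
        ∀ g : G, Group.IsSolvable ↥(Subgroup.closure ({x, g * y * g⁻¹} : Set G))) ?_ ?_ ?_ G⟩
  · intro G _ _ H h p q hp hq pq x y hx hy hs g
    exact solv_of_map H.subtype (ker_sub H) (h p q hp hq pq x y (by simpa using hx) (by simpa using hy)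
      (solv_map H.subtype hs) g)
  · intro G _ _ N _ hN h p q hp hq pq x y hx hy hs g
    obtain ⟨x, rfl, hx'⟩ := lift_pp _ (QuotientGroup.mk'_surjective N) hp hx
    obtain ⟨y, rfl, hy'⟩ := lift_pp _ (QuotientGroup.mk'_surjective N) hq hy
    obtain ⟨g, rfl⟩ := QuotientGroup.mk'_surjective N g
    exact solv_map (QuotientGroup.mk' N) (h p q hp hq pq x y hx' hy'
      (solv_of_map _ (by rwa [QuotientGroup.ker_mk']) hs) g)
  intro G _ _ hG h
  haveI := hG.1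
  obtain ⟨x, M, x1, ⟨r, k, hr, r2, hx⟩, hM, hK⟩ := ms.U hG
  haveI := Fact.mk hr
  have xM : x ∈ M := hK (zpowers x) inferInstance (mem_zpowers x) (mem_zpowers x)
  have hc : IsCoatom M := ⟨hM, fun L hL => by
    by_contra c
    exact hL.not_ge (hK L (hG.2.2 L c) (hL.le xM))⟩
  obtain ⟨q, hq, h1, h2⟩ : ∃ q, q.Prime ∧ q ∣ Nat.card M ∧ q ≠ r := by
    by_contra c
    push Not at c
    have e := Nat.eq_prime_pow_of_unique_prime_dvd Nat.card_pos.ne' fun hd h => c _ hd h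
    exact not_solv hG (Cfsg.Agent.S4040.result M hc (IsPGroup.of_card e).isNilpotent
      (e ▸ (hr.odd_of_ne_two r2).pow))
  haveI := Fact.mk hq
  obtain ⟨y, hy⟩ := exists_prime_orderOf_dvd_card' (G := M) q h1
  obtain ⟨g, hg⟩ := exists_conj_notMem hM (y := (y : G)) (fun c => hq.one_lt.ne (by
    rw [← hy, ← orderOf_coe, c, orderOf_one]))
  refine hg (hK _ (h r q hr hq h2.symm x y ⟨k, hx⟩ ⟨1, by simpa using hy⟩
    (Cfsg.Agent.S0810.solv_of_le (K := M) ?_ (hG.2.2 M hM)) g) (subset_closure (by simp))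
      (subset_closure (by simp)))
  rw [closure_le]
  rintro z (rfl | rfl)
  · exact xM
  · exact y.2

/-! ### the law of Bray, Wilson and Wilson -/

/-- one step -/
def st (y s : G) : G := (y⁻¹ * s * y) * (s⁻¹) * (y⁻¹ * s * y)⁻¹ * (s⁻¹)⁻¹

/-- the law -/
def Law (G : Type*) [Group G] : Prop := ∃ n : ℕ, ∀ x y : G, @Nat.rec (fun _ => G) x (fun _ s => st y s) n = 1

theorem map_st {H : Type*} [Group H] (f : G →* H) (x y : G) (n : ℕ) :
    f (@Nat.rec (fun _ => G) x (fun _ s => st y s) n) =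
      @Nat.rec (fun _ => H) (f x) (fun _ s => st (f y) s) n := by
  induction n with
  | zero => rfl
  | succ n ih =>
    change f (st y _) = st (f y) _
    rw [← ih]
    simp only [st, map_mul, map_inv]

theorem Law.inj {H : Type*} [Group H] (f : G →* H) (hf : Function.Injective f) (h : Law H) : Law G :=
  let ⟨n, h⟩ := h; ⟨n, fun x y => hf (by rw [map_st, h, map_one])⟩

theorem Law.surj {H : Type*} [Group H] (f : G →* H) (hf : Function.Surjective f) (h : Law G) : Law H := by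
  obtain ⟨n, h⟩ := h
  refine ⟨n, fun x y => ?_⟩
  obtain ⟨x, rfl⟩ := hf x
  obtain ⟨y, rfl⟩ := hf y
  rw [← map_st, h, map_one]

theorem not_law {H : Type*} [Group H] (f : G →* H) (P : G → Prop) (x y : G) (hx : P x)
    (hP : ∀ s, P s → P (st y s)) (h1 : ∀ s, P s → f s ≠ 1) : ¬ Law H := by
  rintro ⟨n, h⟩
  refine h1 _ ?_ ((map_st f x y n).trans (h _ _))
  clear h
  induction n with
  | zero => exact hx
  | succ n ih => exact hP _ ih

theorem law_of_solv (h : Group.IsSolvable G) : Law G := by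
  obtain ⟨n, hn⟩ := h
  refine ⟨n, fun x y => mem_bot.1 (hn ▸ ?_)⟩
  clear hn
  induction n with
  | zero => exact mem_top _
  | succ n ih =>
    exact commutator_mem_commutator (by simpa using (derivedSeries_normal G n).conj_mem _ ih y⁻¹) (inv_mem ih)

theorem not_law_sz (h : Lie.IsoSuzuki G) : ¬ Law G := by
  obtain ⟨F, _, _, m, m1, h2, ⟨e⟩⟩ := h
  letI := Sz.titsOfCard h2
  letI := (Sz.lieModel h2).ofEquiv e
  haveI := Sz.big_of_card_eq m1 h2
  obtain ⟨b, hb⟩ := Sz.exists_unit_ne_one (F := F)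
  have hy : (Sz.T (0 : F) 1 : G)⁻¹ = Sz.T (0 : F) 1 := by rw [Sz.T_inv]; simp
  have hc : ∀ {g : G} {b : F}, g ∉ Sz.B F G → b ≠ 0 → g * Sz.T 0 b * g⁻¹ ∉ Sz.B F G := fun hg hb c =>
    hg (Sz.mem_B_of_conj ⟨_, _, rfl⟩ (by simp [Sz.T_eq_one, hb]) c)
  refine not_law (MonoidHom.id G) (fun s => ∃ (b : F) (m : G), b ≠ 0 ∧ b ≠ 1 ∧ m⁻¹ = m ∧ m ∉ Sz.B F G ∧
    s = Sz.T 0 b * m) _ (Sz.T (0 : F) 1) ⟨b, Sz.W F, b.ne_zero, by simpa using hb, Sz.W_inv,
      Sz.W_notMem_B, rfl⟩ ?_ ?_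
  · rintro _ ⟨b, m, b0, b1, hm, mB, rfl⟩
    have hb : ∀ b : F, (Sz.T (0 : F) b : G)⁻¹ = Sz.T (0 : F) b := fun b => by rw [Sz.T_inv]; simp
    have b2 : 1 + b ≠ 0 := fun c => b1 (Sz.add_eq_zero'.1 c).symm
    have hn : (m * Sz.T (0 : F) 1 * m⁻¹)⁻¹ = m * Sz.T (0 : F) 1 * m⁻¹ := by simp [mul_assoc, hy]
    refine ⟨1 + b, _, b2, by simpa using b0, by simp only [mul_inv_rev, inv_inv, hb, mul_assoc],
      hc (hc mB one_ne_zero) b2, ?_⟩
    have e1 : (Sz.T (0 : F) 1 : G) * Sz.T 0 b = Sz.T 0 (1 + b) := by simp [Sz.T_mul]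
    have e2 : (Sz.T (0 : F) b : G) * Sz.T (0 : F) 1 = Sz.T 0 (1 + b) := by simp [Sz.T_mul, add_comm]
    have e3 : (Sz.T (0 : F) (1 + b) : G) * Sz.T (0 : F) b = Sz.T (0 : F) 1 := by
      simp [Sz.T_mul, add_assoc, Sz.add_self]
    rw [hn, hm]
    calc _ = (Sz.T (0 : F) 1 * Sz.T 0 b) * (m * Sz.T (0 : F) 1 * m * (Sz.T 0 b * Sz.T (0 : F) 1) *
        (m * (Sz.T 0 b * Sz.T (0 : F) 1 * Sz.T 0 b) * m)) := by
          simp only [st, mul_inv_rev, inv_inv, hb, hm, mul_assoc]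
      _ = _ := by rw [e1, e2, e3]
  · rintro _ ⟨b, m, -, -, -, mB, rfl⟩ c
    refine mB ?_
    rw [eq_inv_of_mul_eq_one_right c]
    exact inv_mem (Sz.T_mem_B _ _)

section sl
variable {F : Type*} [Field F]

theorem off_eq_zero {ι : Type*} [Fintype ι] [DecidableEq ι] {s : Matrix.SpecialLinearGroup ι F}
    (h : QuotientGroup.mk' (center _) s = 1) : ∃ r : F, ∀ i j, s i j = if i = j then r else 0 := by
  obtain ⟨r, -, e⟩ := Matrix.SpecialLinearGroup.mem_center_iff.1 ((QuotientGroup.eq_one_iff s).1 h)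
  refine ⟨r, fun i j => ?_⟩
  change s.1 i j = _
  rw [← e, Matrix.scalar_apply, Matrix.diagonal_apply]

theorem m_ap (a b : SL(2, F)) (i j : Fin 2) : (a * b) i j = a i 0 * b 0 j + a i 1 * b 1 j := by
  simp [Matrix.mul_apply, Fin.sum_univ_two]

theorem i_ap (a : SL(2, F)) : a⁻¹ 0 0 = a 1 1 ∧ a⁻¹ 0 1 = - a 0 1 ∧ a⁻¹ 1 0 = - a 1 0 ∧ a⁻¹ 1 1 = a 0 0 := by
  simp [Matrix.adjugate_fin_two]

theorem ex_sl {a b c d : F} (h : a * d - b * c = 1) :
    ∃ y : SL(2, F), y 0 0 = a ∧ y 0 1 = b ∧ y 1 0 = c ∧ y 1 1 = d :=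
  ⟨⟨!![a, b; c, d], by simpa [Matrix.det_fin_two] using h⟩, rfl, rfl, rfl, rfl⟩

theorem not_law_two (h2 : (2 : F) = 0) {a : F} (a0 : a ≠ 0) (a1 : a ≠ 1) : ¬ Law PSL(2, F) := by
  obtain ⟨y, hy⟩ := ex_sl (F := F) (a := 1) (b := 1) (c := 0) (d := 1) (by simp)
  obtain ⟨x, hx⟩ := ex_sl (F := F) (a := a) (b := 1) (c := 1) (d := 0) (by grind)
  refine not_law (QuotientGroup.mk' (center SL(2, F)))
    (fun s => s 1 0 ≠ 0 ∧ s 0 0 + s 1 1 ≠ 0 ∧ s 0 0 + s 1 1 + s 1 0 ≠ 0)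
    x y (by simp only [hx]; grind) ?_ ?_
  · rintro s ⟨h1, h3, h4⟩
    have hd := H11.sl2_det s
    have e1 : (st y s) 1 0 = s 1 0 ^ 3 * (s 0 0 + s 1 1 + s 1 0) := by
      simp only [st, inv_inv, mul_inv_rev, m_ap, i_ap, hy]
      grind
    have e2 : (st y s) 0 0 + (st y s) 1 1 =
        s 1 0 ^ 2 * (s 0 0 + s 1 1 + s 1 0) ^ 2 := by
      simp only [st, inv_inv, mul_inv_rev, m_ap, i_ap, hy]
      grind
    rw [e2, e1]
    refine ⟨by positivity, by positivity, ?_⟩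
    rw [show s 1 0 ^ 2 * (s 0 0 + s 1 1 + s 1 0) ^ 2 + s 1 0 ^ 3 * (s 0 0 + s 1 1 + s 1 0) =
      s 1 0 ^ 2 * (s 0 0 + s 1 1 + s 1 0) * (s 0 0 + s 1 1) by grind]
    positivity
  · rintro s ⟨h1, -⟩ c
    obtain ⟨r, hr⟩ := off_eq_zero c
    exact h1 (by simpa using hr 1 0)

theorem not_law_odd' [Fintype F] (h2 : (2 : F) ≠ 0) {X L : F} (hX : X ≠ 0) (hL : L ≠ 0)
    (h : ¬ IsSquare (-2 * (X ^ 2 + L ^ 2 - 4))) : ¬ Law PSL(2, F) := by
  obtain ⟨A, B, e⟩ : ∃ A B : F, A ^ 2 + B ^ 2 = X ^ 2 + L ^ 2 - 4 := by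
    obtain ⟨A, B, e⟩ := FiniteField.exists_root_sum_quadratic (R := F) (f := Polynomial.X ^ 2)
      (g := Polynomial.X ^ 2 - Polynomial.C (X ^ 2 + L ^ 2 - 4)) (Polynomial.degree_X_pow 2)
      (Polynomial.degree_X_pow_sub_C (by norm_num) _) (Nat.odd_iff.1 (H27.two_ne_zero_iff_odd.1 h2))
    exact ⟨A, B, by simp at e; linear_combination e⟩
  obtain ⟨y, hy⟩ := ex_sl (F := F) (a := 0) (b := 1) (c := -1) (d := 0) (by simp)
  obtain ⟨x, hx⟩ := ex_sl (F := F) (a := (X + A) / 2) (b := (B + L) / 2) (c := (B - L) / 2)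
    (d := (X - A) / 2) (by grind)
  refine not_law (QuotientGroup.mk' (center SL(2, F)))
    (fun s => s 0 0 + s 1 1 ≠ 0 ∧ s 0 1 - s 1 0 ≠ 0 ∧
      ¬ IsSquare (-2 * ((s 0 0 + s 1 1) ^ 2 + (s 0 1 - s 1 0) ^ 2 - 4)))
    x y ?_ ?_ ?_
  · have e1 : (X + A) / 2 + (X - A) / 2 = X := by grind
    have e2 : (B + L) / 2 - (B - L) / 2 = L := by grind
    simp only [hx, e1, e2]
    exact ⟨hX, hL, h⟩
  · rintro s ⟨h1, h3, h4⟩
    have hd := H11.sl2_det s
    have e1 : (st y s) 0 0 + (st y s) 1 1 =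
        2 + ((s 0 0 + s 1 1) ^ 2 + (s 0 1 - s 1 0) ^ 2 - 4) * (s 0 1 - s 1 0) ^ 2 := by
      simp only [st, inv_inv, mul_inv_rev, m_ap, i_ap, hy]
      clear * - hd
      grind
    have e2 : (st y s) 0 1 - (st y s) 1 0 =
        -(((s 0 0 + s 1 1) ^ 2 + (s 0 1 - s 1 0) ^ 2 - 4) * (s 0 1 - s 1 0) * (s 0 0 + s 1 1)) := by
      simp only [st, inv_inv, mul_inv_rev, m_ap, i_ap, hy]
      clear * - hd
      grind
    rw [e2, e1]
    generalize s 0 0 + s 1 1 = x at *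
    generalize s 0 1 - s 1 0 = l at *
    have D0 : x ^ 2 + l ^ 2 - 4 ≠ 0 := fun c => h4 (by simp [c])
    have D2 : x ^ 2 + l ^ 2 - 4 + 2 ≠ 0 := fun c => h4 ⟨2, by linear_combination (-2) * c⟩
    refine ⟨fun c => h4 ⟨2 / l, ?_⟩, neg_ne_zero.2 (by positivity), ?_⟩
    · rw [div_mul_div_comm, eq_div_iff (by positivity)]
      linear_combination (-2) * c
    rintro ⟨z, hz⟩
    refine h4 ⟨z / (l * (x ^ 2 + l ^ 2 - 4 + 2)), ?_⟩
    rw [div_mul_div_comm, eq_div_iff (by positivity)]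
    linear_combination hz
  · rintro s ⟨-, h1, -⟩ c
    obtain ⟨r, hr⟩ := off_eq_zero c
    exact h1 (by simp [hr])

theorem not_law_odd [Fintype F] (ho : Odd (Fintype.card F)) (h5 : 5 ≤ Fintype.card F) : ¬ Law PSL(2, F) := by
  have h2 : (2 : F) ≠ 0 := H27.two_ne_zero_iff_odd.2 ho
  rcases h5.eq_or_lt with h5 | h5
  · refine not_law_odd' h2 h2 h2 ?_
    rintro ⟨z, hz⟩
    have e1 := FiniteField.pow_card z
    have e2 := FiniteField.cast_card_eq_zero F
    rw [← h5] at e1 e2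
    grind
  obtain ⟨m, hm⟩ := exists_pow_ne_one_of_isCyclic (G := Fˣ) (k := 4) (by norm_num) (by
    rw [Nat.card_units, Nat.card_eq_fintype_card]; omega)
  have m0 := m.ne_zero
  have m4 : (m : F) ^ 4 ≠ 1 := fun c => hm (Units.ext (by simpa using c))
  generalize (m : F) = m at *
  obtain ⟨n, hn, n8⟩ : ∃ n : F, ¬ IsSquare n ∧ n ≠ 8 := by
    obtain ⟨n, hn⟩ := FiniteField.exists_nonsquare (F := F) (fun c => h2 (by
      simpa [c] using ringChar.Nat.cast_ringChar (R := F)))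
    by_cases c : n = 8
    · refine ⟨n * m ^ 2, fun ⟨z, hz⟩ => hn ⟨z / m, by grind⟩, fun e => m4 ?_⟩
      have : m ^ 2 = 1 := mul_left_cancel₀ (pow_ne_zero 3 h2) (by rw [c] at e; linear_combination e)
      linear_combination (m ^ 2 + 1) * this
    · exact ⟨n, hn, c⟩
  obtain ⟨A, B, e⟩ : ∃ A B : F, A ^ 2 + B ^ 2 = 4 - n / 2 := by
    obtain ⟨A, B, e⟩ := FiniteField.exists_root_sum_quadratic (R := F) (f := Polynomial.X ^ 2)
      (g := Polynomial.X ^ 2 - Polynomial.C (4 - n / 2)) (Polynomial.degree_X_pow 2)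
      (Polynomial.degree_X_pow_sub_C (by norm_num) _) (Nat.odd_iff.1 ho)
    exact ⟨A, B, by simp at e; linear_combination e⟩
  have key : ∀ f : F, f ^ 2 = 4 - n / 2 → ¬ Law PSL(2, F) := fun f hf => by
    have f0 : f ≠ 0 := by grind
    have m1 : 1 + m ^ 2 ≠ 0 := by grind
    have m2 : 1 - m ^ 2 ≠ 0 := by grind
    refine not_law_odd' h2 (X := f * (1 - m ^ 2) / (1 + m ^ 2)) (L := f * (2 * m) / (1 + m ^ 2))
      (by positivity) (by positivity) ?_
    convert hn using 1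
    grind
  by_cases a : A = 0
  · exact key B (by grind)
  by_cases b : B = 0
  · exact key A (by grind)
  refine not_law_odd' h2 a b ?_
  convert hn using 1
  grind

/-- a cycle in `SL₃(3)` -/
def cy : Fin 4 → SL(3, ZMod 3) := ![⟨!![0, 1, 0; 1, 1, 1; 2, 1, 1], by decide +kernel⟩,
  ⟨!![0, 1, 1; 1, 1, 2; 0, 2, 1], by decide +kernel⟩, ⟨!![0, 1, 0; 1, 1, 2; 1, 2, 1], by decide +kernel⟩,
  ⟨!![0, 1, 2; 1, 1, 1; 0, 1, 1], by decide +kernel⟩]

theorem not_law_33 [Fintype F] (h : Fintype.card F = 3) : ¬ Law PSL(3, F) := by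
  haveI : CharP F 3 := charP_of_card_eq_prime h
  refine not_law ((QuotientGroup.mk' (center SL(3, F))).comp
    (Matrix.SpecialLinearGroup.map (ZMod.castHom dvd_rfl F))) (fun s => ∃ i, s = cy i) _
    ⟨!![2, 0, 0; 0, 2, 0; 0, 0, 1], by decide +kernel⟩ ⟨0, rfl⟩ ?_ ?_
  · rintro _ ⟨i, rfl⟩
    refine ⟨i + 1, ?_⟩
    revert i
    decide +kernel
  · rintro _ ⟨i, rfl⟩ c
    obtain ⟨r, hr⟩ := off_eq_zero c
    have e : ∀ i, cy i 0 1 = 1 := by decide +kernel
    have := hr 0 1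
    change ZMod.castHom dvd_rfl F (cy i 0 1) = _ at this
    simp [e] at this

end sl

theorem s3936 (ms : MS.{u}) {G : Type u} [Group G] [Finite G] : Group.IsSolvable G ↔ Law G := by
  refine ⟨law_of_solv, red (fun G _ => Law G) (fun G _ _ H => Law.inj _ H.subtype_injective)
    (fun G _ _ N _ _ => Law.surj _ (QuotientGroup.mk'_surjective N)) ?_ G⟩
  intro G _ _ h c
  rcases ms G h with ⟨p, hp, F, _, _, hF, ⟨e⟩⟩ | ⟨p, hp, p2, F, _, _, hF, ⟨e⟩⟩ | ⟨p, hp, p5, F, _, _, hF, ⟨e⟩⟩ |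
    ⟨F, _, _, hF, ⟨e⟩⟩ | ⟨hs, -⟩
  · haveI : CharP F 2 := charP_of_card_eq_prime_pow hF
    haveI : Nontrivial Fˣ := by
      rw [← Finite.one_lt_card_iff_nontrivial, Nat.card_units, Nat.card_eq_fintype_card, hF]
      have := Nat.pow_le_pow_right (n := 2) two_pos hp.two_le
      omega
    obtain ⟨a, ha⟩ := exists_ne (1 : Fˣ)
    exact not_law_two CharTwo.two_eq_zero a.ne_zero (by simpa using ha) (c.surj e.toMonoidHom e.surjective)
  · exact not_law_odd (hF ▸ Odd.pow (by decide)) (hF ▸ le_trans (by norm_num)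
      (Nat.pow_le_pow_right (n := 3) three_pos hp.two_le)) (c.surj e.toMonoidHom e.surjective)
  · exact not_law_odd (hF ▸ hp.odd_of_ne_two (by omega)) (by omega) (c.surj e.toMonoidHom e.surjective)
  · exact not_law_33 hF (c.surj e.toMonoidHom e.surjective)
  · exact not_law_sz (iso_sz hs (not_solv h)) c

end H23.MinS
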