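import Cfsg.Agent.H27.MS1

/-! S5899: transfer of the Bender data from the quotient. -/

set_option autoImplicit false
set_option linter.unusedVariables false
set_option linter.unusedSectionVars false

namespace H23.MS
open Cfsg Subgroup H18 H17.GS H28.S H2.GW
open H19 hiding eq_bot_mono
open H28.NG hiding Hyp Uniq Ch
open H27.MS

universe u

/-- the data `Be` in the quotient -/
structure BX {X : Type} [Group X] (S E : Subgroup X) : Prop where
  mem : ∀ a, a ∈ E ↔ a ∈ S ∧ a * a = 1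
  cen : ∀ t ∈ S, ∀ e ∈ E, t * e = e * t
  dim : ∃ p, Odd p ∧ 3 ≤ p ∧ #E = 2 ^ p ∧ (S = E ∨ #S = 2 ^ p * #E)
  sqE : ∀ t ∈ S, t * t ∈ E
  sq : S = E ∨ ∀ x ∈ S, ∀ y ∈ S, x * x = y * y → x * y⁻¹ ∈ E
  tr : ∀ a ∈ E, ∀ b ∈ E, a ≠ 1 → b ≠ 1 → ∃ h ∈ N(S), h * a * h⁻¹ = b
  se : ∀ g, ∀ a ∈ E, a ≠ 1 → g * a * g⁻¹ ∈ N(S) → g ∈ N(S)
  gen : ∀ Y : Subgroup X, ∀ a ∈ E, ∀ b ∈ E, a ≠ 1 → b ≠ 1 → a ≠ b → ∀ c, c * c = 1 → c ∉ S →
    a ∈ Y → b ∈ Y → c ∈ Y → ¬ Sol Y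
  idx : Nat.card X = (#S + 1) * #N(S)
  lb : ∃ r k : ℕ, r.Prime ∧ r ≠ 2 ∧ ∃ x : X, orderOf x = r ^ (k + 1) ∧
    ∀ d, 0 < d → r ^ (k + 1) ∣ 2 ^ d - 1 → #S ^ 2 ≤ 2 ^ d

variable {G : Type u} [Group G] [Finite G] {N Q T V₀ V : Subgroup G} {X : Type} [Group X] {π : N →* X}

/-- the preimage in `N` -/
def pr (π : N →* X) (Y : Subgroup X) : Subgroup G := (Y.comap π).map N.subtype

omit [Finite G] in
theorem mem_pr {Y : Subgroup X} {g : N} : (g : G) ∈ pr π Y ↔ π g ∈ Y :=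
  ⟨fun ⟨y, a, b⟩ => (Subtype.ext b : y = g) ▸ a, fun h => ⟨g, h, rfl⟩⟩

omit [Finite G] in
theorem pr_le (Y : Subgroup X) : pr π Y ≤ N := map_subtype_le _

theorem cm_le (h : Fr N Q T) (s : Sec N Q V₀ V) {g : G} (a : g ∈ N) (b : g ∈ Cm V₀ V) : g ∈ Q :=
  ((h.smp (N ⊓ Cm V₀ V) ⟨inf_le_left, norms_inf le_normalizer (norms_Cm s.n0 s.nV)⟩).resolve_right
    fun e => s.nc (e ▸ inf_le_right)) ⟨a, b⟩

theorem qt (h : Fr N Q T) : Q ≤ T := h.syl.le_of_norm' h.nq.le h.pg (h.syl.le.trans h.nq.norm)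

/-- an element of order `r ^ (k + 1)` modulo `Q` is semiregular on a nontrivial section -/
theorem lb_of (h : Fr N Q T) (s : Sec N Q V₀ V) {r k : ℕ} (hr : r.Prime) (r2 : r ≠ 2) {y : G} (hy : y ∈ N)
    (h1 : y ^ r ^ (k + 1) ∈ Q) (h2 : y ^ r ^ k ∉ Q) : ∃ d, 0 < d ∧ r ^ (k + 1) ∣ 2 ^ d - 1 ∧ 2 ^ d * #V₀ ≤ #V := by
  haveI := Fact.mk hr
  obtain ⟨j, hj⟩ := h.pg.exists_card
  have co : (2 ^ j).Coprime r := Nat.Coprime.pow_left _ ((Nat.coprime_primes Nat.prime_two hr).2 r2.symm)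
  have q1 : ∀ g ∈ Q, g ^ 2 ^ j = 1 := fun g a =>
    congrArg Subtype.val (hj ▸ pow_card_eq_one' (x := (⟨g, a⟩ : Q)))
  obtain ⟨x, hx⟩ : ∃ x, x = y ^ 2 ^ j := ⟨_, rfl⟩
  have xN : x ∈ N := hx ▸ pow_mem hy _
  have x1 : x ^ r ^ (k + 1) = 1 := by rw [hx, ← pow_mul, mul_comm, pow_mul]; exact q1 _ h1
  have x2 : x ^ r ^ k ∉ Q := fun a => h2 (by
    rw [hx, ← pow_mul, mul_comm, pow_mul] at a
    rw [pow_succ, pow_mul] at h1
    obtain ⟨u, v, e⟩ := Nat.isCoprime_iff_coprime.2 co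
    have := mul_mem (zpow_mem a u) (zpow_mem h1 v)
    rwa [← zpow_natCast, ← zpow_natCast _ r, ← zpow_mul, ← zpow_mul, ← zpow_add, mul_comm _ u, mul_comm _ v, e,
      zpow_one] at this)
  have ox : orderOf x = r ^ (k + 1) := orderOf_eq_prime_pow (fun e => x2 (e ▸ one_mem _)) x1
  have og : OG (zpowers x) := piG_zpowers.2 fun p a b c => by
    rw [ox] at b
    exact r2 (((Nat.prime_dvd_prime_iff_eq a hr).1 (a.dvd_of_dvd_pow b)).symm.trans c)
  have zx : zpowers (x ^ r ^ k) ≤ zpowers x := zpowers_le.2 (pow_mem (mem_zpowers x) _)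
  have xn := zpowers_le.2 xN
  have zV := (zx.trans xn).trans s.nV
  have z0 := (zx.trans xn).trans s.n0
  have w := s.ea.subB zV
  have d := w.dvd_pred og (norms_br (xn.trans s.nV) (norms_of_comm (inferInstance : Ab (zpowers x)) le_rfl zx)
    (xn.trans s.n0)) (xn.trans s.n0) fun g a b => by
      refine le_trans (inf_le_inf_left _ (Cm_anti ?_)) (s.ea.br_inf (og.of_le zx) zV z0)
      obtain ⟨i, i1, i2⟩ := (Nat.dvd_prime_pow hr).1 (ox ▸ orderOf_dvd_of_mem_zpowers a)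
      refine cyc_le_of_dvd (inferInstance : Cyc (zpowers x)) zx (zpowers_le.2 a) ?_
      rw [Nat.card_zpowers, Nat.card_zpowers, i2, orderOf_pow' _ (pow_ne_zero _ hr.ne_zero), ox,
        Nat.gcd_eq_right (pow_dvd_pow _ k.le_succ), pow_succ', Nat.mul_div_cancel _ (pow_pos hr.pos _)]
      exact dvd_pow_self _ fun e => b (orderOf_eq_one_iff.1 (by rw [i2, e, pow_zero]))
  obtain ⟨e, he⟩ := (w.pgV.relIndex V₀).exists_pow (relIndex_ne_zero' _ _)
  refine ⟨e, Nat.pos_of_ne_zero fun e0 => x2 (cm_le h s (pow_mem xN _) ?_), by rwa [Nat.card_zpowers, ox, he] at d, ?_⟩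
  · rw [e0, pow_zero, relIndex_eq_one] at he
    exact le_Cm' z0 (le_sup_left.trans he) (mem_zpowers _)
  · rw [← he, mul_comm, card_mul_relIndex w.le]
    exact card_le (s.ea.br_le zV)

section
variable (hs : Function.Surjective π) (hk : ∀ g : N, π g = 1 ↔ (g : G) ∈ Q) (h : Fr N Q T)
include hs hk h

theorem card_pr (Y : Subgroup X) : #(pr π Y) = #Y * #Q := by
  rw [pr, card_map_of_injective N.subtype_injective, H1.card_comap_of_surjective hs,
    show π.ker = Q.subgroupOf N from Subgroup.ext hk, Nat.card_congr (subgroupOfEquivOfLe h.nq.le).toEquiv, mul_comm]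

theorem mem_S {g : N} : π g ∈ (T.subgroupOf N).map π ↔ (g : G) ∈ T := by
  refine ⟨fun ⟨y, a, b⟩ => ?_, fun a => ⟨g, a, rfl⟩⟩
  have : ((y⁻¹ * g : N) : G) ∈ Q := (hk _).1 (by rw [map_mul, map_inv, b, inv_mul_cancel])
  simpa using mul_mem (show (y : G) ∈ T from a) (qt h this)

theorem mem_nS {g : N} : π g ∈ N((T.subgroupOf N).map π) ↔ (g : G) ∈ N(T) := by
  refine ⟨fun a => mem_norm_of_cj_le fun w hw => ?_, fun a => mem_normalizer_iff.2 fun y => ?_⟩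
  · obtain ⟨t, b, rfl⟩ := mem_cj'.1 hw
    have := (mem_normalizer_iff.1 a _).1 ((mem_S hs hk h (g := ⟨t, h.syl.le b⟩)).2 b)
    rw [← map_inv, ← map_mul, ← map_mul] at this
    exact (mem_S hs hk h).1 this
  · obtain ⟨y, rfl⟩ := hs y
    rw [← map_inv, ← map_mul, ← map_mul]
    exact (mem_S hs hk h).trans ((mem_normalizer_iff.1 a _).trans (mem_S hs hk h (g := g * y * g⁻¹)).symm)

theorem be_pr {E : Subgroup X} (b : BX ((T.subgroupOf N).map π) E) : Be N Q T (pr π E) := by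
  have mS := fun g => mem_S hs hk h (g := g)
  have mN := fun g => mem_nS hs hk h (g := g)
  set S := (T.subgroupOf N).map π
  have eT : T = pr π S := Subgroup.ext fun g => ⟨fun a => (mem_pr (g := ⟨g, h.syl.le a⟩)).2 ((mS _).2 a),
    fun a => (mS ⟨g, pr_le _ a⟩).1 (mem_pr.1 a)⟩
  have eN : N ⊓ N(T) = pr π N(S) := Subgroup.ext fun g => ⟨fun a => (mem_pr (g := ⟨g, a.1⟩)).2 ((mN _).2 a.2),
    fun a => ⟨pr_le _ a, (mN ⟨g, pr_le _ a⟩).1 (mem_pr.1 a)⟩⟩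
  have cT : #T = #S * #Q := eT ▸ card_pr hs hk h S
  have iv : ∀ a : N, Iv T Q a → π a ∈ E ∧ π a ≠ 1 := fun a i =>
    ⟨(b.mem _).2 ⟨(mS a).2 i.1, by rw [← map_mul]; exact (hk _).2 i.2.2⟩, mt (hk a).1 i.2.1⟩
  have l := h.syl.le
  refine ⟨fun a => ⟨fun k => ?_, fun k => ?_⟩, fun t ht => ⟨h.nq.norm (l ht), fun e he => ?_⟩, ?_, fun t ht => ?_,
    b.sq.imp (fun e => eT.trans (congrArg _ e)) fun k x hx y hy e => ?_, fun x y i j => ?_, fun g hg a i k => ?_,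
    fun Y x y z i j k m n p q r => ?_, ?_, fun V₀ V s => ?_⟩
  · lift a to N using pr_le _ k
    obtain ⟨p, q⟩ := (b.mem _).1 (mem_pr.1 k)
    exact ⟨(mS a).1 p, (hk (a * a)).1 (by rw [map_mul, q])⟩
  · lift a to N using l k.1
    exact mem_pr.2 ((b.mem _).2 ⟨(mS a).2 k.1, by rw [← map_mul]; exact (hk _).2 k.2⟩)
  · lift t to N using l ht
    lift e to N using pr_le _ he
    exact (hk (t * e * t⁻¹ * e⁻¹)).1 (by
      simp only [map_mul, map_inv]; rw [b.cen _ ((mS t).2 ht) _ (mem_pr.1 he)]; simp)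
  · obtain ⟨p, p1, p2, p3, p4⟩ := b.dim
    refine ⟨p, p1, p2, by rw [card_pr hs hk h, p3], p4.imp (fun e => eT.trans (congrArg _ e)) fun e => ?_⟩
    rw [cT, e, card_pr hs hk h, mul_assoc]
  · lift t to N using l ht
    exact (mem_pr (g := t * t)).2 (by rw [map_mul]; exact b.sqE _ ((mS t).2 ht))
  · lift x to N using l hx
    lift y to N using l hy
    have := (hk (x * x * (y * y)⁻¹)).2 e
    rw [map_mul, map_inv, mul_inv_eq_one, map_mul, map_mul] at this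
    exact (mem_pr (g := x * y⁻¹)).2 (by rw [map_mul, map_inv]; exact k _ ((mS x).2 hx) _ ((mS y).2 hy) this)
  · lift x to N using l i.1
    lift y to N using l j.1
    obtain ⟨g, p, q⟩ := b.tr _ (iv x i).1 _ (iv y j).1 (iv x i).2 (iv y j).2
    obtain ⟨g, rfl⟩ := hs g
    exact ⟨g, ⟨g.2, (mN g).1 p⟩, (hk (g * x * g⁻¹ * y⁻¹)).1 (by simp only [map_mul, map_inv]; rw [q, mul_inv_cancel])⟩
  · lift g to N using hg
    lift a to N using l i.1
    exact (mN g).1 (b.se _ _ (iv a i).1 (iv a i).2 (by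
      rw [← map_inv, ← map_mul, ← map_mul]; exact (mN (g * a * g⁻¹)).2 k))
  · lift x to N using l i.1
    lift y to N using l j.1
    lift z to N using m.1
    have := b.gen (((Y ⊔ Q).subgroupOf N).map π) _ (iv x i).1 _ (iv y j).1 (iv x i).2 (iv y j).2
      (fun e => k ((hk (x * y)).1 (by rw [map_mul, e, ← map_mul]; exact (hk _).2 j.2.2))) (π z)
      (by rw [← map_mul]; exact (hk _).2 m.2.2) (mt (mS z).1 n) ⟨x, mem_sup_left p, rfl⟩ ⟨y, mem_sup_left q, rfl⟩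
      ⟨z, mem_sup_left r, rfl⟩
    by_contra c
    refine this (H1.isSolvable_map ?_ π)
    rw [← inf_subgroupOf_right]
    exact Cfsg.Agent.S0810.solv_congr (subgroupOfEquivOfLe inf_le_right)
      (h.sol _ (lt_of_le_of_ne inf_le_right fun e => c (inf_eq_right.1 e)))
  · have : #N = Nat.card X * #Q := by
      rw [← card_top (G := X), ← card_pr hs hk h, pr, comap_top, ← MonoidHom.range_eq_map, range_subtype]
    rw [this, eN, card_pr hs hk h, cT, b.idx]; ring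
  · obtain ⟨r, k, r1, r2, x, o, H⟩ := b.lb
    obtain ⟨y, rfl⟩ := hs x
    obtain ⟨d, d1, d2, d3⟩ := lb_of h s r1 r2 (k := k) y.2
      ((hk (y ^ r ^ (k + 1))).1 (by rw [map_pow, ← o, pow_orderOf_eq_one])) fun a => by
        have := (hk (y ^ r ^ k)).2 a
        rw [map_pow, ← orderOf_dvd_iff_pow_eq_one, o, Nat.pow_dvd_pow_iff_le_right r1.one_lt] at this
        omega
    rw [cT, mul_pow, mul_right_comm]
    exact Nat.mul_le_mul_right _ ((Nat.mul_le_mul_right _ (H d d1 d2)).trans d3)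
end

theorem be_of (h : Fr N Q T) (i : Iso N Q X) (H : ∀ P : Sylow 2 X, ∃ E, BX (P : Subgroup X) E) :
    ∃ E, Be N Q T E := by
  obtain ⟨π, hs, hk⟩ := i
  haveI := Finite.of_surjective π hs
  have := h.syl.subgroupOf_top.map π
  rw [map_top_of_surjective _ hs] at this
  obtain ⟨P, e⟩ := this.exists_sylow_top
  obtain ⟨E, b⟩ := H P
  exact ⟨_, be_pr hs hk h (e ▸ b)⟩

/-- in the quotient, proper subgroups are solvable -/
theorem sol_q (h : Fr N Q T) (i : Iso N Q X) (Y : Subgroup X) (hY : Y ≠ ⊤) : Sol Y := by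
  obtain ⟨π, hs, hk⟩ := i
  have := h.sol (pr π Y) (lt_of_le_of_ne (pr_le _) fun e => hY (eq_top_iff.2 fun x _ => by
    obtain ⟨y, rfl⟩ := hs x
    exact mem_pr.1 (e.ge y.2)))
  rw [← map_comap_eq_self_of_surjective hs Y]
  exact H1.isSolvable_map ((H1.isSolvable_map_iff N.subtype_injective).1 this) π

end H23.MS
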