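import Cfsg.Agent.H27.MS2
import Cfsg.Agent.H14.MS1
import Cfsg.Agent.H29.BB3

/-! S5899, chunks `SC`, `D7`. -/

set_option autoImplicit false
set_option linter.unusedVariables false
set_option linter.unusedSectionVars false

namespace H23.MS
open Cfsg Subgroup H18 H17.GS H28.S H2.GW
open H19 hiding eq_bot_mono
open H28.NG hiding Hyp Uniq Ch
open H29.PU (bm nrm_bm bm_le)
open H27.MS H14.MS

universe u
variable {G : Type u} [Group G] [Finite G] {S Y Q A D : Subgroup G}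

theorem zY (h : Mn S Y) : Zs S ≤ Y := le_Kc.trans h.eY.ge

theorem nbq (h : Mn S Y) (l : Lc C(Zs S) Q S) : ¬ bm 2 S ≤ Q := fun k => h.nz (le_trans (by
  rw [← H29.BB.bm_eq_of_le k (QT l.toFr)]; exact nrm_bm l.nq.norm) h.NB)

theorem sc (fu : FU.{u}) (tr : TR.{u}) : SC.{u} := by
  intro G _ _ S Y Q h l yq ab
  have uq : Kc Y C(Zs S) ≤ Q := Kc_le_of yq l.nq.norm
  obtain ⟨U, ⟨u1, u2, u3⟩, m⟩ := (wellFounded_lt (α := Subgroup G)).has_min
    {X | Zs S < X ∧ X ≤ Kc Y C(Zs S) ∧ C(Zs S) ≤ N(X)} ⟨_, lt_of_lt_of_le (lt_of_le_of_ne (zY h) fun e =>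
      h.nz (e ▸ cent_le_norm _)) le_Kc, le_rfl, Kc_norm⟩
  have a := abelem_mono ab u2
  have nc : ¬ C(Zs S) ≤ C(U) := fun k => u1.not_ge
    (abelem_le_Ohm1 a (le_inf ((u2.trans uq).trans (QT l.toFr)) (cents_symm (l.syl.le.trans k))))
  have := fu l.toFr a u1.le (u2.trans uq) u3 le_rfl (fun X x1 x2 x3 => by_contra fun k => m X
    ⟨lt_of_le_of_ne x1 fun e => k (.inl e.symm), x2.trans u2, x3⟩ (lt_of_le_of_ne x2 fun e => k (.inr e))) nc
  exact (tr h.hz l fun k => nc (k.trans (cent_mono (abelem_le_Ohm1 a (le_inf (u2.trans uq) (cents_symm this)))))).resolve_left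
    (nbq h l)

theorem sg7 {H : Type*} [Group H] {K : Subgroup H} (c : K.index = 7) {a : H} (h2 : a * a = 1)
    (h : ∀ x : H, x⁻¹ * a * x ∈ K ↔ x ∈ K) [Fintype (H ⧸ K)] [DecidableEq (H ⧸ K)] :
    Equiv.Perm.sign (MulAction.toPermHom H (H ⧸ K) a) = -1 := by
  rw [Equiv.Perm.sign_of_pow_two_eq_one (by rw [← map_pow, sq, h2, map_one]), ← Nat.card_eq_fintype_card,
    ← Nat.card_eq_fintype_card, ← index_eq_card, c, Nat.card_eq_one_iff_exists.2 ⟨⟨((1 : H) : H ⧸ K),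
      (QuotientGroup.eq.2 (by simpa using (h 1).2 (one_mem _)) : ((1 : H) : H ⧸ K) = ((a * 1 : H) : H ⧸ K)).symm⟩, ?_⟩]
  · rfl
  · rintro ⟨x, hx⟩
    obtain ⟨x, rfl⟩ := QuotientGroup.mk_surjective x
    have := QuotientGroup.eq.1 (show (x : H ⧸ K) = ((a * x : H) : H ⧸ K) from hx.symm)
    exact Subtype.ext (QuotientGroup.eq.2 (by simpa using (h x).1 (by rwa [mul_assoc])))

theorem mid {X : Subgroup G} (c : #D = 4 * #Q) (h1 : Q < X) (h2 : X < D) : #D = 2 * #X := by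
  have a := card_mul_relIndex h1.le
  have b := card_mul_relIndex h2.le
  have e : Q.relIndex X * X.relIndex D = 4 :=
    Nat.eq_of_mul_eq_mul_left (card_pos Q) (by rw [← mul_assoc, a, b, c, mul_comm])
  have i : Q.relIndex X ≠ 1 := fun k => h1.not_ge (relIndex_eq_one.1 k)
  have j : X.relIndex D ≠ 1 := fun k => h2.not_ge (relIndex_eq_one.1 k)
  have := Nat.le_of_dvd four_pos (Dvd.intro_left _ e)
  rw [← b, mul_comm]
  congr 1
  interval_cases X.relIndex D <;> omega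

theorem d7 (f1 : F1.{u}) (nl : NL.{u}) : D7.{u} := by
  intro G _ _ S Y Q h l t
  refine ⟨_, le_rfl, inf_le_left, h.nz, fun A aY ab ⟨p, hp, np⟩ => ?_⟩
  obtain ⟨A₁, m1, c1, -, n1⟩ := t.four
  set C := C(Zs S)
  have le : C ⊓ N(bm 2 S) ≤ C ⊓ N(Y) := inf_le_inf_left _ h.NB
  have i7 : (C ⊓ N(bm 2 S)).relIndex C = 7 := Nat.eq_of_mul_eq_mul_left (card_pos _)
    (by rw [card_mul_relIndex inf_le_left, t.idx, mul_comm])
  have e7 : (C ⊓ N(Y)).relIndex C = 7 := ((Nat.dvd_prime (by norm_num)).1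
    (i7 ▸ relIndex_dvd_of_le_left _ le)).resolve_left fun k => h.nz ((relIndex_eq_one.1 k).trans inf_le_right)
  have ge : C ⊓ N(Y) ≤ C ⊓ N(bm 2 S) := relIndex_eq_one.1 (Nat.eq_of_mul_eq_mul_right (by norm_num : 0 < 7) (by
    rw [one_mul]; nth_rewrite 1 [← e7]; rw [relIndex_mul_relIndex _ _ _ le inf_le_left, i7]))
  have sD : S ≤ C ⊓ N(Y) := (le_inf l.syl.le (nrm_bm le_normalizer)).trans le
  have aD : A ≤ C ⊓ N(Y) := le_inf (aY.trans (cent_mono (zY h))) (aY.trans (cent_le_norm _))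
  have qx : ∀ x ∈ C, Q ≤ N(cj x Y) := fun x hx => by
    rw [← cj_norm, ← cj_of_mem_norm (l.nq.norm hx)]
    exact cj_mono _ (((QT l.toFr).trans sD).trans inf_le_right)
  by_cases H : ∀ a ∈ A, ∀ b ∈ A, a ∉ Q → b ∉ Q → a * b ∈ Q
  · exact ⟨p, hp, hyp_of np fun a ha b hb a1 b1 => qx p hp (H a ha b hb (mt (qx p hp ·) a1) (mt (qx p hp ·) b1))⟩
  push Not at H
  obtain ⟨a, ha, b, hb, a1, b1, ab1⟩ := H
  have aC := aD.trans inf_le_left
  have cs : ∀ g ∈ C, cj g A ⊔ Q = cj g (A ⊔ Q) := fun g hg => by rw [cj_sup, cj_of_mem_norm (l.nq.norm hg)]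
  have c4 : #(A ⊔ Q) = 4 * #Q := by
    obtain ⟨g, hg, k⟩ := l.syl.scj_le aC (ab_pg ab)
    have k' := sup_le k (QT l.toFr)
    have lt := card_lt (lt_of_le_of_ne k' fun e => f1 l.toFr l.q0 (abelem_J ab g) k e.ge)
    have pg := l.syl.pi.of_le k'
    rw [cs g hg] at lt pg
    rw [card_cj] at lt
    obtain ⟨j, hj⟩ := ((PiN.of_le pg le_rfl).dvd (card_cj g (A ⊔ Q)).symm.dvd |>.dvd
      (relIndex_dvd_card Q (A ⊔ Q))).exists_pow (relIndex_ne_zero' _ _)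
    have e := card_mul_relIndex (le_sup_right : Q ≤ A ⊔ Q)
    have := cT l.toFr t.l7
    rw [hj] at e
    rcases j with _ | _ | _ | j
    · exact absurd (relIndex_eq_one.1 hj (mem_sup_left ha)) a1
    · exact absurd (odd2 le_sup_right (by omega) (mem_sup_left ha) (mem_sup_left hb) a1 b1) ab1
    · omega
    · have : #Q * 8 ≤ #Q * 2 ^ (j + 1 + 1 + 1) := Nat.mul_le_mul_left _ (by have := Nat.one_le_two_pow (n := j); omega)
      omega
  have key : ∀ g ∈ C, cj g A ≤ C ⊓ N(Y) → ∃ d ∈ C ⊓ N(Y), cj (d * g) (A ⊔ Q) = A₁ ⊔ Q := fun g hg k => by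
    obtain ⟨d, hd, k'⟩ := (l.syl.of_le sD inf_le_left).scj_le k (ab_pg (abelem_J ab g))
    rw [cj_cj] at k'
    have m := mul_mem hd.1 hg
    exact ⟨d, hd, cs _ m ▸ nl l.toFr t.l7 l.q0 (abelem_J ab _) m1.ea k' m1.le (by rw [cs _ m, card_cj, c4]) c1⟩
  have fx : ∀ x ∈ C, A ≤ N(cj x Y) → x ∈ C ⊓ N(Y) := fun x hx k => by
    obtain ⟨d, hd, e⟩ := key 1 (one_mem _) (by rwa [cj_one])
    obtain ⟨d', hd', e'⟩ := key x⁻¹ (inv_mem hx) (le_inf (cj_le_of_mem_norm (le_normalizer (inv_mem hx)) aC) (by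
      rw [← cj_norm] at k; exact cj_le_iff.2 (by rwa [inv_inv])))
    have : d' * x⁻¹ * d⁻¹ ∈ C ⊓ N(A₁ ⊔ Q) := ⟨C.mul_mem (C.mul_mem hd'.1 (inv_mem hx)) (C.inv_mem hd.1),
      mem_norm_iff_cj.2 (by nth_rewrite 1 [← e]; rw [cj_cj, ← e']; congr 1; group)⟩
    have := mul_mem (mul_mem (inv_mem hd) (inv_mem (le (n1 ▸ this)))) hd'
    rwa [show d⁻¹ * (d' * x⁻¹ * d⁻¹)⁻¹ * d' = x by group] at this
  by_contra k
  push Not at k
  have pt : ∀ c ∈ A, c ∉ Q → ∀ x ∈ C, x⁻¹ * c * x ∈ C ⊓ N(Y) ↔ x ∈ C ⊓ N(Y) := fun c hc c0 x hx => by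
    refine ⟨fun e => by_contra fun n => ?_, fun e => conj_mem_of_norm' (le_normalizer e) (aD hc)⟩
    have cx : c ∈ N(cj x Y) := by rw [← cj_norm]; exact mem_cj.2 e.2
    have nA := mt (fx x hx) n
    have := mid c4 (X := (A ⊔ Q) ⊓ N(cj x Y)) (lt_of_le_of_ne (le_inf le_sup_right (qx x hx))
      fun e => c0 (e ▸ ⟨mem_sup_left hc, cx⟩)) (lt_of_le_of_ne inf_le_left fun e =>
        nA (le_sup_left.trans (inf_eq_left.1 e)))
    exact k x hx (hyp_of nA fun u hu v hv u1 v1 =>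
      (odd2 inf_le_left this (mem_sup_left hu) (mem_sup_left hv) (mt (·.2) u1) (mt (·.2) v1)).2)
  classical
  haveI := Fintype.ofFinite (C ⧸ (C ⊓ N(Y)).subgroupOf C)
  have s := fun (c : C) (hc : c.1 ∈ A) (c0 : c.1 ∉ Q) => sg7 (K := (C ⊓ N(Y)).subgroupOf C) e7 (a := c)
    (Subtype.ext (by simpa [sq] using ab.2 _ hc)) fun x => pt c hc c0 x x.2
  have := s (⟨a, aC ha⟩ * ⟨b, aC hb⟩) (mul_mem ha hb) ab1
  rw [map_mul, map_mul, s _ ha a1, s _ hb b1] at this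
  exact absurd this (by decide)

end H23.MS
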