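import Cfsg.Agent.H27.MS0
import Cfsg.Agent.H23.SzSub2
import Cfsg.Agent.H23.SzMat

/-! S5899, chunk `KSz`. -/

set_option autoImplicit false

namespace H23.MS
open Cfsg Subgroup H27.MS H23.Sz

universe u

theorem fac {n : ℕ} (h : 2 ≤ n) : n.Prime ∨ (∃ r s : ℕ, r.Prime ∧ s.Prime ∧ n = r * s) ∨
    ∃ a b : ℕ, 2 ≤ a ∧ a ∣ b ∧ a < b ∧ b ∣ n ∧ b < n := by
  by_cases p : n.Prime
  · exact .inl p
  obtain ⟨r, hr, k, rfl⟩ := Nat.exists_prime_and_dvd (n := n) (by omega)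
  have k2 : 2 ≤ k := by
    rcases k with _ | _ | k
    · simp at h
    · simp [hr] at p
    · omega
  by_cases q : k.Prime
  · exact .inr (.inl ⟨r, k, hr, q, rfl⟩)
  obtain ⟨d, d1, d2, d3⟩ := Nat.exists_dvd_of_not_prime2 k2 q
  exact .inr (.inr ⟨d, k, d2, d1, d3, dvd_mul_left _ _, by nlinarith [hr.two_le]⟩)

theorem ksz : KSz.{u} := by
  rintro G _ ⟨F, _, _, m, hm, hF, ⟨e⟩⟩ n c
  letI := titsOfCard hF
  letI := (lieModel hF).ofEquiv e
  have cF : Nat.card F = 2 ^ (2 * m + 1) := Nat.card_eq_fintype_card.trans hF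
  have ct : Nat.card (⊤ : Subfield F) = 2 ^ (2 * m + 1) := (Nat.card_congr Subfield.topEquiv.toEquiv).trans cF
  rcases fac (n := 2 * m + 1) (by omega) with p | ⟨r, s, a, b, h⟩ | ⟨a, b, a2, ab, lt, bn, lt'⟩
  · obtain ⟨K, k1, k2⟩ := n
    obtain ⟨F0, x, _, rfl⟩ := eq_subG_of_not_isSolvable (F := F) k2
    obtain ⟨k, h1, h2, h3, -⟩ := subfield_card_data cF F0 (by
      rintro rfl; exact k1 (by rw [subG_top]; ext; simp [mem_conj_smul]))
    rcases (Nat.dvd_prime p).1 h3 with h | h <;> omega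
  · have o : Odd (r * s) := h ▸ ⟨m, rfl⟩
    have e' : (r * s + 1) / 2 = m + 1 := by omega
    exact .inr (.inr (.inr (.inr (.inr (.inr ⟨F, _, _, r, s, a, b, (Nat.odd_mul.1 o).1, (Nat.odd_mul.1 o).2,
      h ▸ hF, ⟨e' ▸ e⟩⟩)))))
  · obtain ⟨F1, h1⟩ := exists_subfield cF bn
    obtain ⟨F0, h0⟩ := exists_subfield h1 ab
    have h0' : Nat.card (F0.map F1.subtype) = 2 ^ a := by
      rw [← h0]
      exact (Nat.card_congr (Equiv.Set.image F1.subtype (F0 : Set F1) F1.subtype.injective)).symm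
    have le : F0.map F1.subtype ≤ F1 := by rintro _ ⟨y, -, rfl⟩; exact y.2
    haveI := big_of_card (F := F0.map F1.subtype)
      (h0' ▸ lt_of_lt_of_le (by norm_num) (Nat.pow_le_pow_right two_pos a2))
    refine absurd ⟨subG G (F0.map F1.subtype), subG G F1, lt_of_le_of_ne (subG_mono le) fun h => ?_, fun h => ?_,
      not_isSolvable_subG _⟩ c
    · rw [le_antisymm le (subG_inj (G := G) h.ge), h1] at h0'
      exact lt.ne' (Nat.pow_right_injective le_rfl h0')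
    · have : F1 = ⊤ := top_le_iff.1 (subG_inj (G := G) (h ▸ le_top))
      rw [this, ct] at h1
      exact lt'.ne' (Nat.pow_right_injective le_rfl h1)

end H23.MS
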