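import Cfsg.Agent.H23.MS3
import Cfsg.Agent.H23.SzSub2
import Cfsg.Agent.H24.Zsig

/-! S5899, chunk `TYs`. -/

set_option autoImplicit false

namespace H23.MS
open Cfsg Subgroup H27.MS H23.Sz

universe u

theorem bx_sz {F : Type} [Field F] [Tits F] [Finite F] {X : Type} [Group X] [Model F X] {m : ℕ} (hm : 1 ≤ m)
    (hq : Nat.card F = 2 ^ (2 * m + 1)) : BX (Q F X) (Z F X) := by
  haveI := finite_G F X
  refine ⟨fun a => ⟨?_, fun k => mem_Z_of_sq (Q_le_B k.1) k.2⟩, ?_,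
    ⟨2 * m + 1, ⟨m, rfl⟩, by omega, card_Z.trans hq, .inr (by rw [card_Q, card_Z, ← hq, sq])⟩, ?_, .inr ?_, ?_,
    fun g a k a1 h => ?_, fun Y a ha b hb a1 b1 ab c c1 c2 aY bY cY => ?_, ?_, ?_⟩
  · rintro ⟨b, rfl⟩; exact ⟨T_mem_Q _ _, T0_sq b⟩
  · rintro _ ⟨a, b, rfl⟩ _ ⟨d, rfl⟩; exact T_commute.2 (.inr (.inl rfl))
  · rintro _ ⟨a, b, rfl⟩; rw [T_sq]; exact T_mem_Z _
  · rintro _ ⟨a, b, rfl⟩ _ ⟨c, d, rfl⟩ h
    rw [T_sq, T_sq, T_inj] at h
    obtain rfl : a = c := (Finite.injective_iff_surjective (f := fun y : F => y * θ y)).2 exists_mul_θ h.2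
    rw [T_inv, T_mul, show a + a = 0 by grind]
    exact T_mem_Z _
  · rintro _ ⟨b, rfl⟩ _ ⟨d, rfl⟩ b1 d1
    have b0 : b ≠ 0 := fun e => b1 (T_eq_one.2 ⟨rfl, e⟩)
    obtain ⟨k, hk⟩ := exists_units_θ (div_ne_zero (fun e => d1 (T_eq_one.2 ⟨rfl, e⟩)) b0)
    exact ⟨M k, normalizer_Q (F := F) (G := X) ▸ M_mem_B k, by rw [M_T_conj, hk, mul_zero, div_mul_cancel₀ _ b0]⟩
  · rw [normalizer_Q] at h ⊢
    exact mem_B_of_conj (Z_le_Q k) a1 h
  · obtain ⟨s, rfl⟩ := ha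
    obtain ⟨t, rfl⟩ := hb
    rcases cases_of_two_invol aY bY (T0_sq s) (T0_sq t) a1 b1 ab (T_inf 0 s) (T_inf 0 t) with h | ⟨F0, x, _, rfl⟩
    · exact absurd (Z_le_Q (mem_Z_of_sq (h cY) c1)) c2
    · exact fun k => not_isSolvable_subG (G := X) F0 (Cfsg.Agent.S0810.solv_congr (equivSMul _ _) k)
  · rw [normalizer_Q, card_Q, card_B, card_G F X, mul_comm]
  · obtain ⟨r, hr, h1, h2⟩ := H24.zsigmondy (a := 2) (n := 2 * (2 * (2 * m + 1))) one_lt_two (by omega) (by omega)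
      (by omega)
    haveI := Fact.mk hr
    have h3 : r ∣ Nat.card X := by
      rw [card_G F X, hq, ← pow_mul, mul_comm (2 * m + 1)]
      rw [mul_comm 2, pow_mul, ← one_pow 2, Nat.sq_sub_sq] at h1
      exact ((hr.dvd_mul.1 h1).resolve_right (h2 _ (by omega) (by omega))).mul_left _
    obtain ⟨x, hx⟩ := exists_prime_orderOf_dvd_card' r h3
    refine ⟨r, 0, hr, ?_, x, by simpa using hx, fun d d0 h => ?_⟩
    · rintro rfl
      exact absurd (Nat.dvd_sub (dvd_pow_self 2 (n := 2 * (2 * (2 * m + 1))) (by omega)) h1) (by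
        rw [Nat.sub_sub_self Nat.one_le_two_pow]; norm_num)
    · rw [card_Q, hq, ← pow_mul, ← pow_mul]
      refine Nat.pow_le_pow_right two_pos (not_lt.1 fun k => h2 d d0 (by omega) (by simpa using h))

theorem tys : TYs.{u} := by
  rintro G _ _ N Q T h ⟨F, _, _, m, hm, hF, i⟩
  refine be_of h i fun P => ?_
  letI := titsOfCard hF
  obtain ⟨h', e⟩ := exists_model_Q (lieModel hF) P
  exact ⟨_, e ▸ bx_sz hm (Nat.card_eq_fintype_card.trans hF)⟩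

end H23.MS
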