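import Cfsg.Agent.H21.UM1

/-! S1819, Theorem A: chunk `HB`. -/

set_option autoImplicit false
set_option linter.unusedVariables false
set_option linter.unusedSectionVars false

namespace H23.UM
open H9 hiding zj
open Cfsg Subgroup H28 H29 H29.PU H29.BB H28.GC H21.UM
open scoped commutatorElement

universe u
variable {X : Type u} [Group X] [Finite X] {F : Type} [Field F] [Finite F] {T M B C U V A₁ A₂ : Subgroup X} {a g k t y z : X}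

theorem c_idx2 (hU : IsElementaryAbelian 2 U) (h1 : U ≤ 𝐍 V) (h2 : t ∈ 𝐍 U) (t2 : t * t = 1) :
    (fm t V).relIndex U ≤ V.relIndex (U ⊓ 𝐜 t) := by
  refine relIndex_le_card (fun a : U => (QuotientGroup.mk ⟨⁅t, a.1⁆, comm_mem_of' h2 a.2, comm_inv_c hU h2 t2 a.2⟩ :
    ↥(U ⊓ 𝐜 t) ⧸ V.subgroupOf _)) fun a b e => ⟨h1 (mul_mem (inv_mem a.2) b.2), ?_⟩
  rw [comm_inv_mul]
  exact conj_mem_of_mem_normalizer' (h1 a.2) (QuotientGroup.eq (s := V.subgroupOf (U ⊓ 𝐜 t)).1 e)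

theorem big (D : Hs F B C A₁ A₂) (h1 : t ∈ 𝐍 A₁) (h2 : t ∈ 𝐍 A₂) (t2 : t * t = 1) (n : t ∉ B) :
    # F ≤ C.relIndex (A₁ ⊓ 𝐜 t) * C.relIndex (A₁ ⊓ 𝐜 t) :=
  have := c_idx2 D.ea₁ (D.le₁.trans D.nBC) h1 t2
  (D.fi₁ h1 h2 ⟨1, by rw [pow_one, sq, t2]⟩ n).trans (Nat.mul_le_mul this this)

variable (b : H4 F T M B C A₁ A₂ z) (l : 𝐜 z ≤ 𝐍 B)
include b

theorem z2 : z * z = 1 := sq_of_ea b.hs.some.eaC b.zC

/-- all involutions of `B` are conjugate to `z` in the small case -/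
theorem cjz (h : # C ≤ # F) (hy : y ∈ B) (y2 : y * y = 1) (y1 : y ≠ 1) : ∃ k, y = k * z * k⁻¹ := by
  have D := b.hs.some
  obtain ⟨h', c, hc, rfl⟩ : ∃ h, y ∈ cj h C := (D.inv_or hy y2).elim (fun e => (b.c₁ y e).imp fun _ e => e.2)
    fun e => (b.c₂ y e).imp fun _ e => e.2
  obtain ⟨a, a1, a2⟩ := D.exists₁
  obtain ⟨w, hw, rfl⟩ := D.onto h a1 a2 hc
  obtain ⟨x, hx, v, hv, rfl⟩ := D.dec hw
  have e : ⁅x * v, a⁆ = ⁅a, v⁆ := by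
    rw [comm_mul_left, comm_eq_one.2 (comm_of_ea D.ea₁ hx a1), mul_one, D.cC (D.le₁ hx) (D.symm.comm_mem hv a1), mul_inv_cancel_right,
      ← commutatorElement_inv, inv_of_ea D.eaC (D.comm_mem a1 hv)]
  obtain ⟨k, hk⟩ := b.z₁ a a1 a2 v hv fun c => y1 (by
    rw [e, comm_eq_one.2 (D.cC (D.le₁ a1) c)]; exact map_one _)
  exact ⟨h' * k, by rw [e, hk]; simp [mul_assoc]⟩

include l

theorem cN (g : X) : 𝐜 (g * z * g⁻¹) ≤ 𝐍 (cj g B) := by rw [← cj_c, ← cj_normalizer]; exact cj_mono g l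

theorem uq (h : cj g B ≤ 𝐜 (k * z * k⁻¹)) : cj g B = cj k B := by
  have := b.hs.some.cj_eq' b.q4 (g := k⁻¹ * g) (by rw [← cj_cj, cj_le_iff, inv_inv, cj_normalizer]; exact h.trans (cN b l k))
  conv_rhs => rw [← this, cj_cj, mul_inv_cancel_left]

theorem k0 (h : k * z * k⁻¹ ∈ B) : C ≤ cj k B ∧ ∀ t ∈ cj k B, t ∈ 𝐍 B → t ∈ B := by
  have D := b.hs.some
  have c : ∀ {h}, k * z * k⁻¹ ∈ cj h C → cj h B = cj k B := fun e => uq b l ((D.conj _).cenC.trans (cen_le_c e))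
  rcases D.inv_or h (conj_sq (z2 b)) with e | e
  · obtain ⟨h, h1, h2⟩ := b.c₁ _ e
    exact c h2 ▸ ⟨D.C₁.trans ((cj_eq_self h1).ge.trans (cj_mono h D.le₁)), b.s₁ h h1⟩
  · obtain ⟨h, h1, h2⟩ := b.c₂ _ e
    exact c h2 ▸ ⟨D.C₂.trans ((cj_eq_self h1).ge.trans (cj_mono h D.le₂)), b.s₂ h h1⟩

/-- (K) -/
theorem kk (h : k * z * k⁻¹ ∈ B) (h' : k * z * k⁻¹ ∈ cj g B) (n : g * z * g⁻¹ ∈ 𝐍 B) : g * z * g⁻¹ ∈ B := by
  refine (k0 b l h).2 _ ?_ n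
  have := conj_mem_cj (g := g) ((k0 b l (k := g⁻¹ * k) (by simpa [mul_assoc] using mem_cj.1 h')).1 b.zC)
  rwa [cj_cj, mul_inv_cancel_left] at this

/-- (F) -/
theorem ff (n : g * z * g⁻¹ ∈ 𝐍 B) (n1 : g * z * g⁻¹ ∈ 𝐍 A₁) : g * z * g⁻¹ ∈ B := by
  have D := b.hs.some
  have D' := D.conj g
  have := D.ch
  have n2 := D.n₂_of n n1
  have t2 := conj_sq (g := g) (z2 b)
  have cn := cN b l g
  by_contra nB
  have b1 := big D n1 n2 t2 nB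
  have b2 := big D.symm n2 n1 t2 nB
  suffices ∃ u ∈ A₁, u ∉ C ∧ ∃ a ∈ A₂, a ∉ C ∧ ⁅u, a⁆ ∈ cj g B by
    obtain ⟨u, u1, u2, a, a1, a2, e⟩ := this
    obtain ⟨k, hk⟩ := b.z₁ u u1 u2 a a1 a2
    exact nB (kk b l (hk ▸ D.CB (D.comm_mem u1 a1)) (hk ▸ e) n)
  generalize g * z * g⁻¹ = t at *
  rcases q_cases F with q | q | q
  · have := b.q4; omega
  · have ex : ∀ {A}, # F ≤ C.relIndex (A ⊓ 𝐜 t) * C.relIndex (A ⊓ 𝐜 t) → ∃ u ∈ A ⊓ 𝐜 t, u ∉ C := fun h =>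
      SetLike.not_le_iff_exists.1 fun e => by have := two_of_sq h; rw [relIndex_eq_one.2 e] at this; omega
    obtain ⟨u, u1, u2⟩ := ex b1
    obtain ⟨a, a1, a2⟩ := ex b2
    refine ⟨u, u1.1, u2, a, a1.1, a2, by_contra fun nc => ?_⟩
    have i := D'.idxS (S := B ⊓ 𝐜 t) (D.pg.to_le inf_le_left) (inf_le_right.trans cn)
    have uR : u ∈ B ⊓ 𝐜 t := ⟨D.le₁ u1.1, u1.2⟩
    have aR : a ∈ B ⊓ 𝐜 t := ⟨D.le₂ a1.1, a1.2⟩
    have iu := inv_of_ea D.ea₁ u1.1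
    have ia := inv_of_ea D.ea₂ a1.1
    have c1 : u ∉ cj g B := fun e => nc (commutatorElement_mem_comm.1 (comm_mem_of' (cn a1.2) e))
    have c2 : a ∉ cj g B := fun e => nc (comm_mem_of' (cn u1.2) e)
    have c3 : u * a ∉ cj g B := fun e => nc (D.sq_eq u1.1 a1.1 ▸ mul_mem e e)
    have c4 : a * u ∉ cj g B := fun e => c3 (by simpa [iu, ia] using inv_mem e)
    have := five_le uR aR (mul_mem uR aR) (mul_mem aR uR) c1 c2 c3 c4 (by rwa [iu]) (by rwa [inv_mul_cancel_left])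
      (fun e => c2 (by simpa [mul_assoc] using conj_mem_of_mem_normalizer (cn u1.2) e))
      (fun e => c1 (by simpa [mul_assoc] using conj_mem_of_mem_normalizer (cn a1.2) e)) (by rwa [inv_mul_cancel_left])
      fun e => nc (commutatorElement_mem_comm.1 (by rwa [mul_inv_rev, iu, ia, D.symm.sq_eq a1.1 u1.1] at e))
    rw [q.2] at i; omega
  · have ex : ∀ {A}, # F ≤ C.relIndex (A ⊓ 𝐜 t) * C.relIndex (A ⊓ 𝐜 t) → ∃ u ∈ A, u ∉ C ∧ u ∈ 𝐍 (cj g A₁) ⊓ 𝐍 (cj g A₂) := fun {A} h => by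
      obtain ⟨u, u1, v, v1, h1, h2, h3⟩ := exists_three (three_of_sq (by omega) h)
      have k : ∀ x ∈ A ⊓ 𝐜 t, x ∉ C → x ∈ 𝐍 (cj g A₁) → ∃ u ∈ A, u ∉ C ∧ u ∈ 𝐍 (cj g A₁) ⊓ 𝐍 (cj g A₂) := fun x hx e e' =>
        ⟨x, hx.1, e, e', D'.n₂_of (cn hx.2) e'⟩
      by_cases e1 : u ∈ 𝐍 (cj g A₁)
      · exact k u u1 h1 e1
      by_cases e2 : v ∈ 𝐍 (cj g A₁)
      · exact k v v1 h2 e2
      exact k _ (mul_mem (inv_mem u1) v1) h3 (D'.two_N _ (cn (inv_mem u1.2)) _ (cn v1.2) (mt inv_mem_iff.1 e1) e2)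
    obtain ⟨u, u1, u2, u3⟩ := ex b1
    obtain ⟨a, a1, a2, a3⟩ := ex b2
    refine ⟨u, u1, u2, a, a1, a2, D'.mem_of_sg ⁅(⟨u, u3⟩ : ↥(𝐍 (cj g A₁) ⊓ 𝐍 (cj g A₂))), ⟨a, a3⟩⁆
      (D.pow2 (D.CB (D.comm_mem u1 a1))) ?_⟩
    have := H22.isCyclic_ringAut (F := F)
    rw [map_commutatorElement, commutatorElement_eq_one_iff_mul_comm]
    exact IsCyclic.commGroup.mul_comm _ _

theorem hb' (n : g * z * g⁻¹ ∈ 𝐍 B) : g * z * g⁻¹ ∈ B := by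
  by_cases n1 : g * z * g⁻¹ ∈ 𝐍 A₁
  · exact ff b l n n1
  have D := b.hs.some
  have D' := D.conj g
  have := D.ch
  have t2 := conj_sq (g := g) (z2 b)
  have cn := cN b l g
  by_contra nB
  have c2 : # ↥(C ⊓ 𝐜 (g * z * g⁻¹)) ≤ 2 := by
    have := card_idx (𝐍 (cj g A₁)) (C ⊓ 𝐜 (g * z * g⁻¹))
    rw [show 𝐍 (cj g A₁) ⊓ (C ⊓ 𝐜 (g * z * g⁻¹)) = ⊥ from eq_bot_iff.2 fun c hc => by_contra fun c1 => ?_, card_bot, mul_one] at this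
    · exact this ▸ (idx_mono (inf_le_right.trans cn)).trans (two_idx D'.two_N)
    obtain ⟨k, rfl⟩ := b.z₂ _ n n1 c hc.2.1 c1 hc.2.2
    have m1 := cn hc.2.2
    have m2 : k * z * k⁻¹ ∈ 𝐍 (cj g A₁) := hc.1
    rw [← cj_normalizer, mem_cj] at m1 m2
    refine nB (kk b l (D.CB hc.2.1) (mem_cj.2 ?_) n)
    simpa [mul_assoc] using ff b l (g := g⁻¹ * k) (by simpa [mul_assoc] using m1) (by simpa [mul_assoc] using m2)
  have c3 := idx_sq D.eaC (D.NC n) t2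
  have c4 := card_idx (𝐜 (g * z * g⁻¹)) C
  rw [inf_comm] at c4
  obtain ⟨h, -, -, c5, -⟩ := b.tor
  have c6 : 0 < # ↥(C ⊓ 𝐜 h) := Nat.card_pos
  have q4 := b.q4
  have c7 : # C ≤ 4 := by nlinarith
  have c8 : # F ≤ # C := by nlinarith
  have c9 := D.cnt2 n t2
  have i := D'.idxS (S := 𝐜 (g * z * g⁻¹) ⊓ B) (D.pg.to_le inf_le_right) (inf_le_left.trans cn)
  rw [((q_cases F).resolve_left (by omega)).resolve_right (by omega) |>.2] at i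
  obtain ⟨x, x1, x2, x3⟩ := exists_ne_of_idx (i.trans_lt (by nlinarith))
  obtain ⟨y, y1, y2, y3⟩ := exists_inv (D.pg.to_le (inf_le_left : B ⊓ cj g B ≤ B)) fun e => x3 (mem_bot.1 (e.le ⟨x1.2, x2⟩))
  obtain ⟨k, rfl⟩ := cjz b (by omega) y1.1 y2 y3
  exact nB (kk b l y1.1 y1.2 n)

omit b l in
theorem hb : HB.{u} := fun _ _ _ _ _ _ _ _ _ _ _ _ _ b l _ n => hb' b l n

end H23.UM
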