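import Mathlib
import Cfsg.Agent.H10.HH4

/-! Fixed spaces under extension of scalars; the Frobenius dimension formula over any field;
embedding a module in a module with large `Hom` spaces. -/

set_option autoImplicit false

namespace H23

open Subgroup Cfsg H19 H18 H10.HH Module TensorProduct

universe u

section
variable {F : Type*} [Field F] {X : Type*} [Group X] [Finite X] {U : Type*} [AddCommGroup U]
  [Module F U] [FiniteDimensional F U] {ρ : X →* End F U} {K R : Subgroup X}

theorem finrank_fix_bc (ρ : X →* End F U) (H : Subgroup X) :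
    finrank (AlgebraicClosure F) (fix (bc ρ) H) = finrank F (fix ρ H) := by
  classical
  have := Fintype.ofFinite H
  let L := AlgebraicClosure F
  change finrank L _ = _
  let Φ : U →ₗ[F] (H → U) := LinearMap.pi fun h => ρ h - 1
  have e1 : LinearMap.ker Φ = fix ρ H := by
    ext v; simp [Φ, mem_fix, funext_iff, sub_eq_zero]
  have e0 : ∀ h : H, ∀ v, (LinearMap.proj h : (H → U) →ₗ[F] U).baseChange L (Φ.baseChange L v) =
      bc ρ h v - v := fun h v => by
    rw [← LinearMap.comp_apply, ← LinearMap.baseChange_comp, LinearMap.proj_pi,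
      LinearMap.baseChange_sub, LinearMap.baseChange_one]; rfl
  have e2 : LinearMap.ker (Φ.baseChange L) = fix (bc ρ) H := by
    ext v
    rw [LinearMap.mem_ker, mem_fix]
    refine ⟨fun h x hx => by rw [← sub_eq_zero, ← e0 ⟨x, hx⟩, h, map_zero], fun h => ?_⟩
    have : (1 : End F (H → U)) = ∑ x : H, LinearMap.single F (fun _ => U) x ∘ₗ LinearMap.proj x := by
      ext1 v; simp [LinearMap.ext_iff, Finset.univ_sum_single]
    have := congrArg (fun f => End.baseChangeHom F L (H → U) f (Φ.baseChange L v)) this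
    simp only [map_one, map_sum, End.one_apply, LinearMap.sum_apply] at this
    rw [this]
    refine Finset.sum_eq_zero fun x _ => ?_
    change LinearMap.baseChange L _ _ = 0
    rw [LinearMap.baseChange_comp, LinearMap.comp_apply, e0, h x x.2, sub_self, map_zero]
  have a1 := Φ.finrank_range_add_finrank_ker
  have a2 := (Φ.baseChange L).finrank_range_add_finrank_ker
  rw [finrank_range_baseChange, finrank_baseChange, e2] at a2
  rw [e1, ← a2] at a1
  exact (Nat.add_left_cancel a1).symm

theorem finrank_frobenius (hK : (#K : F) ≠ 0) (hn : R ≤ N(K)) (hs : Sol K) (hr : Semireg K R)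
    (hfix : fix ρ K = ⊥) : finrank F U = #R * finrank F (fix ρ R) := by
  have := finrank_Frobenius (ρ := bc ρ) (S := ⊤) (bc_cast hK) hn hs hr RInv.top RInv.top (by
    rw [top_inf_eq, ← Submodule.finrank_eq_zero, finrank_fix_bc, hfix, finrank_bot])
  rwa [finrank_top, finrank_baseChange, top_inf_eq, finrank_fix_bc] at this

end

section
variable {k R : Type*} [Field k] [Ring R] [Algebra k R] {M : Type u} {V : Type*} [AddCommGroup M]
  [Module R M] [Module k M] [IsScalarTower k R M] [FiniteDimensional k M] [AddCommGroup V]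
  [Module R V] [Module k V] [IsScalarTower k R V] [FiniteDimensional k V]

instance finite_hom : FiniteDimensional k (M →ₗ[R] V) :=
  FiniteDimensional.of_injective (LinearMap.restrictScalarsₗ k R M V k)
    (LinearMap.restrictScalars_injective k)

theorem exists_injective_of_hom (r : ℕ)
    (hV : ∀ (N : Type u) [AddCommGroup N] [Module R N] [Module k N] [IsScalarTower k R N]
      [FiniteDimensional k N], finrank k (N →ₗ[R] V) = r * finrank k N)
    (hM : ∀ S : Submodule R M, finrank k (S →ₗ[R] M) ≤ r * finrank k S) :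
    ∃ f : M →ₗ[R] V, Function.Injective f := by
  haveI hN : IsNoetherian R M := isNoetherian_of_tower k inferInstance
  haveI : IsArtinian R M := isArtinian_of_tower k inferInstance
  haveI fs : ∀ I : Submodule R M, FiniteDimensional k I := fun I =>
    FiniteDimensional.of_injective (I.subtype.restrictScalars k) I.injective_subtype
  haveI fq : ∀ I : Submodule R M, FiniteDimensional k (M ⧸ I) := fun I =>
    Module.Finite.of_surjective (I.mkQ.restrictScalars k) I.mkQ_surjective
  have ext : ∀ (I : Submodule R M) (g : I →ₗ[R] V), ∃ f : M →ₗ[R] V, f ∘ₗ I.subtype = g := fun I => by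
    let res : (M →ₗ[R] V) →ₗ[k] (I →ₗ[R] V) := LinearMap.lcomp k V I.subtype
    let inf : ((M ⧸ I) →ₗ[R] V) →ₗ[k] (M →ₗ[R] V) := LinearMap.lcomp k V I.mkQ
    have h1 : LinearMap.ker res ≤ LinearMap.range inf := fun f hf =>
      ⟨I.liftQ f fun x hx => LinearMap.congr_fun hf ⟨x, hx⟩, LinearMap.ext fun _ => rfl⟩
    have h2 := (Submodule.finrank_mono h1).trans inf.finrank_range_le
    have h3 := res.finrank_range_add_finrank_ker
    have h4 := (I.restrictScalars k).finrank_quotient_add_finrank
    have h5 : finrank k (M ⧸ I.restrictScalars k) = finrank k (M ⧸ I) :=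
      (Submodule.Quotient.restrictScalarsEquiv k I).finrank_eq
    have h6 : finrank k (I.restrictScalars k) = finrank k I := rfl
    rw [hV] at h2 h3
    refine LinearMap.range_eq_top.1 (Submodule.eq_top_of_finrank_eq
      (le_antisymm (Submodule.finrank_le _) ?_) : LinearMap.range res = ⊤)
    rw [hV]
    rw [← h4, h5, h6, mul_add] at h3
    omega
  obtain ⟨I, ⟨f, hf⟩, hmax⟩ := set_has_maximal_iff_noetherian.2 hN
    {I : Submodule R M | ∃ f : M →ₗ[R] V, Disjoint I (LinearMap.ker f)} ⟨⊥, 0, disjoint_bot_left⟩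
  refine ⟨f, LinearMap.ker_eq_bot.1 (by_contra fun h0 => ?_)⟩
  obtain ⟨S, hS, hSf⟩ := (eq_bot_or_exists_atom_le (LinearMap.ker f)).resolve_left h0
  have hd : Disjoint I S := hf.mono_right hSf
  let c1 : (S →ₗ[R] I) →ₗ[k] (S →ₗ[R] M) := LinearMap.compRight k I.subtype
  let c2 : (S →ₗ[R] I) →ₗ[k] (S →ₗ[R] V) := LinearMap.compRight k (f ∘ₗ I.subtype)
  have i1 : Function.Injective c1 := fun a b e => LinearMap.ext fun x =>
    Subtype.ext (LinearMap.congr_fun e x)
  have n1 : LinearMap.range c1 ≠ ⊤ := fun e => by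
    obtain ⟨a, ha⟩ : S.subtype ∈ LinearMap.range c1 := e ▸ trivial
    exact hS.1 (hd.symm.eq_bot_of_le fun x hx => by
      have : x = (a ⟨x, hx⟩ : M) := (LinearMap.congr_fun ha ⟨x, hx⟩).symm
      rw [this]; exact (a _).2)
  have l1 := Submodule.finrank_lt n1
  rw [LinearMap.finrank_range_of_inj i1] at l1
  have n2 : LinearMap.range c2 ≠ ⊤ := fun e => by
    have := c2.finrank_range_le
    rw [e, finrank_top, hV] at this
    exact absurd (l1.trans_le (hM S)) (not_lt.2 this)
  obtain ⟨g, hg⟩ : ∃ g, g ∉ LinearMap.range c2 := by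
    by_contra h; push Not at h; exact n2 (eq_top_iff.2 fun g _ => h g)
  haveI : IsSimpleModule R S := isSimpleModule_iff_isAtom.2 hS
  have fi : Function.Injective (f ∘ₗ I.subtype) := by
    rw [← LinearMap.ker_eq_bot, LinearMap.ker_comp, ← Submodule.disjoint_iff_comap_eq_bot]
    exact hf
  have hg2 : (LinearMap.range (f ∘ₗ I.subtype)).comap g = ⊥ :=
    (eq_bot_or_eq_top _).resolve_right fun e => hg ⟨(LinearEquiv.ofInjective _ fi).symm.toLinearMap ∘ₗ
      g.codRestrict _ fun x => (e.ge trivial : x ∈ Submodule.comap g _), LinearMap.ext fun x =>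
        LinearEquiv.ofInjective_symm_apply (h := fi) _ ⟨g x, (e.ge trivial : x ∈ Submodule.comap g _)⟩⟩
  let j : (I × S) →ₗ[R] M := I.subtype.coprod S.subtype
  have ji : Function.Injective j := by
    rw [← LinearMap.ker_eq_bot, LinearMap.ker_coprod_of_disjoint_range _ _ (by simpa using hd)]
    simp
  obtain ⟨f', hf'⟩ := ext (LinearMap.range j) (((f ∘ₗ I.subtype).coprod g) ∘ₗ
    (LinearEquiv.ofInjective j ji).symm.toLinearMap)
  refine hmax (LinearMap.range j) ⟨f', Submodule.disjoint_def.2 ?_⟩ (lt_of_le_of_ne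
    (fun x hx => ⟨(⟨x, hx⟩, 0), by simp [j]⟩) fun e => hS.1 (hd.symm.eq_bot_of_le
      fun x hx => e ▸ ⟨(0, ⟨x, hx⟩), by simp [j]⟩))
  rintro _ ⟨⟨a, b⟩, rfl⟩ hx
  have e : f' (j (a, b)) = f a + g b := by
    have := LinearMap.congr_fun hf' (LinearEquiv.ofInjective j ji (a, b))
    simpa using this
  rw [LinearMap.mem_ker, e] at hx
  have hb : b = 0 := hg2.le ⟨-a, by simpa [neg_eq_iff_add_eq_zero] using hx⟩
  have ha : a = 0 := fi (by simpa [hb] using hx)
  rw [ha, hb]; exact map_zero j

end

end H23
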