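import Cfsg.Agent.H27.MS3
import Cfsg.Agent.H14.MS1
import Cfsg.Agent.H29.BB3

/-! S5899, chunks `CZ`, `IW`. -/

set_option autoImplicit false
set_option linter.unusedVariables false
set_option linter.unusedSectionVars false

namespace H23.MS
open Cfsg Subgroup H18 H17.GS H28.S H2.GW
open H19 hiding eq_bot_mono
open H28.NG hiding Hyp Uniq Ch
open H29.PU (bm nrm_bm bm_le JJ_le_bm)
open H9 (JJ MaxAb)
open H27.MS H14.MS

universe u
variable {G : Type u} [Group G] [Finite G] {N Q T V X : Subgroup G}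

theorem zp2 (c : #X = 2) : ∃ p, X = zpowers p := by
  obtain ⟨p, hp⟩ := (isCyclic_of_prime_card (p := 2) c).exists_generator
  exact ⟨p, le_antisymm (fun x hx => let ⟨k, e⟩ := hp ⟨x, hx⟩; ⟨k, congrArg Subtype.val e⟩) (zpowers_le.2 p.2)⟩

theorem cz (cs : CS.{u}) (ci : CI.{u}) : CZ.{u} := by
  intro G _ _ N Q T V h c
  obtain ⟨p, e⟩ := zp2 c
  rw [e, cent_zpowers]
  exact cs h e (ci h e)

theorem bd_ne (h : Lc N Q T) : N ≠ ⊤ := fun e =>
  (h.hy.simple.eq_bot_or_eq_top_of_normal Q (normalizer_eq_top_iff.1 (top_le_iff.1 (e ▸ h.nq.norm)))).elim h.q0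
    fun k => h.ns (sol_mono h.pg.sol (k ▸ le_top))

/-- `J(T) ≤ Q` gives `B(T) ≤ Q` and `N = N(B(T))` -/
theorem bm_Q (h : Lc N Q T) (s : Sec N Q ⊥ V) (j : JJ 2 T ≤ Q) : bm 2 T ≤ Q ∧ N(bm 2 T) = N := by
  have qV : Q ≤ C(V) := Cm_bot (W := V) ▸ s.cq
  have vQ : V ≤ Q := (cents_symm qV).trans h.chr
  have vB : V ≤ H29.PU.zj 2 T := fun x hx => H9.mem_omegaOneCenter_JJ_iff.2 fun A m =>
    m.mem_of_mem_centralizer (QT h.toFr (vQ hx)) (pow_two x ▸ mem_bot.1 (s.ea.sq x hx)) (cents_symm ((m.le_JJ.trans j).trans qV) hx)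
  have b : bm 2 T ≤ Q := fun x hx =>
    faith h.toFr s (h.syl.le hx.1) (by rw [Cm_bot]; exact cent_mono vB hx.2)
  refine ⟨b, h.nrm _ (fun e => s.nc ?_) ⟨b.trans h.nq.le, ?_⟩⟩
  · have : V ≤ bm 2 T := le_inf (vQ.trans (QT h.toFr)) (vB.trans H29.PU.zj_comm)
    rw [le_bot_iff.1 (this.trans e.le), Cm_bot]
    exact fun x _ => mem_centralizer_iff.2 fun y hy => by rw [mem_bot.1 hy, one_mul, mul_one]
  · rw [← H29.BB.bm_eq_of_le b (QT h.toFr)]; exact nrm_bm h.nq.norm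

theorem iw (fk : FK.{u}) (cz : CZ.{u}) (nr : NR.{u}) : IW.{u} := by
  intro G _ _ hy N Q T V h
  obtain ⟨b, e⟩ := bm_Q h.toLc h.sec (fk h)
  refine ⟨b, fun c => bd_ne h.toLc (hy.cs T N (nr h).1 (cz h c) fun R r0 rb nR => ?_)⟩
  refine ((h.mx _ (e.ge.trans nR)).resolve_right fun k => ?_).le
  exact (hy.simple.eq_bot_or_eq_top_of_normal R (normalizer_eq_top_iff.1 k)).elim r0 fun t =>
    h.ns (sol_mono h.pg.sol ((t ▸ le_top : N ≤ R).trans (rb.trans b)))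

end H23.MS
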