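import Cfsg.Agent.H13.MS2
import Cfsg.Agent.H23.MS6
import Cfsg.Agent.H17.MS1
import Cfsg.Agent.H29.NA2

/-! S5899, chunk `TE`. -/

set_option autoImplicit false
set_option linter.unusedVariables false
set_option linter.unusedSectionVars false

namespace H23.MS
open Cfsg Subgroup H18 H17.GS H28.S H2.GW
open H19 hiding eq_bot_mono
open H28.NG hiding Hyp Uniq Ch
open H27.MS H14.MS
open scoped commutatorElement

universe u
variable {G : Type u} [Group G] [Finite G] {N Q T V X : Subgroup G} {t x y : G}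

theorem eq2 (h : #X = 2) (hx : x ∈ X) (hy : y ∈ X) (x1 : x ≠ 1) (y1 : y ≠ 1) : x = y :=
  congrArg Subtype.val (((Nat.card_eq_two_iff' (1 : X)).1 h).unique (y₁ := ⟨x, hx⟩) (y₂ := ⟨y, hy⟩)
    (fun r => x1 (congrArg Subtype.val r)) fun r => y1 (congrArg Subtype.val r))

/-- involutions modulo `Q` are transvections on `V` -/
theorem tvV (h : Fr N Q T) (s : Sec N Q ⊥ V) (pV : H19.PG 2 V) (c : #V = 8) (t1 : t ∈ N) (t2 : t ∉ Q)
    (t3 : t * t ∈ Q) : #(V ⊓ C[t]) = 4 ∧ #(cm V t) = 2 := by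
  have c3 := s.ea.card_br (s.nV t1) (s.n0 t1)
  have l := card_le (s.ea.br_le_cm (s.nV t1) (s.n0 t1) (s.cq t3))
  have lt := pg_lt_card pV (lt_of_le_of_ne (inf_le_left : V ⊓ Cm ⊥ (zpowers t) ≤ V) fun e =>
    t2 (faith h s t1 (Cm_symm (e.ge.trans inf_le_right) (zpowers_le' (s.n0 t1)) (mem_zpowers t))))
  rw [Cm_bot, cent_zpowers, c] at *
  rw [sup_bot_eq] at c3 l
  rw [card_bot] at c3
  generalize #(V ⊓ C[t]) = m at *
  have : m ≤ 4 := by omega
  interval_cases m <;> omega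

theorem idx24 (hT : H19.PG 2 T) (c : #T = 8 * #Q) (h1 : Q < X) (h2 : X < T) : #X = 2 * #Q ∨ #X = 4 * #Q := by
  obtain ⟨m, hm⟩ := card_dvd_of_le h1.le
  obtain ⟨n, hn⟩ := card_dvd_of_le h2.le
  have a := pg_lt_card (hT.of_le h2.le) h1
  have b := pg_lt_card hT h2
  have p := card_pos Q
  rw [hm] at a b hn ⊢
  rw [c] at b hn
  have e : 8 = m * n := Nat.eq_of_mul_eq_mul_left p (by linarith)
  have a := Nat.le_of_mul_le_mul_left a p
  have b : m * 2 ≤ 8 := Nat.le_of_mul_le_mul_left (by linarith) p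
  have : m ≤ 4 := by omega
  interval_cases m <;> omega

theorem te (bk : BK.{u}) (el : EL.{u}) (nr : NR.{u}) (ty : Ty.{u}) (f1 : F1.{u}) : H13.MS.TE.{u} := by
  intro G _ _ N Q T V Z p h z nz
  have f := h.toFr
  obtain ⟨l7, ab, -, cV, nV, c2, -, -, pt⟩ := bk h.toBd
  obtain ⟨P, R, pt⟩ := pt p h.pV h.p1
  have tN := f.syl.le
  have zT : Z ≤ T := (nr h.toBd).1.le_of_norm' le_top (ab_pg z.ab) z.TN
  obtain ⟨t, t1, t2⟩ := SetLike.not_le_iff_exists.1 fun k : Z ≤ Q => nz (cents_symm (cV ▸ k))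
  have tt := sq_one z.ab t1
  have c : #(Z ⊔ Q) = 2 * #Q := (idx24 f.syl.pi (H17.MS.l7 f l7).1 (lt_of_le_of_ne le_sup_right fun e =>
      t2 (e.ge (mem_sup_left t1))) (lt_of_le_of_ne (sup_le zT (QT f)) fun e => f1 f h.q0 z.ab zT e.ge)).resolve_right
    fun k => el (n := 0) f (.inl l7) (ty f).1 ⟨bot_le, h.sec.n0⟩ (bot_lt_iff_ne_bot.2 h.q0)
      ⟨zT, z.TN⟩ (commg_eq_bot.2 (ab_cent z.ab)).le (fun e he => sq_one z.ab he ▸ one_mem _) k (tN (zT t1)) t2
      (tt ▸ one_mem _)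
  have od : ∀ x ∈ Z, x ∉ Q → x * t ∈ C(V) := fun x a b => cV ▸ odd2 le_sup_right c (mem_sup_left a) (mem_sup_left t1) b t2
  obtain ⟨c4, cm2⟩ := tvV f h.sec (ab_pg ab) h.c8 (tN (zT t1)) t2 (tt ▸ one_mem _)
  have eW : V ⊓ C(Z) = V ⊓ C[t] := le_antisymm (inf_le_inf_left _ (cent_le_cent1 t1)) (le_inf inf_le_left
    (cents_symm fun x hx => by
      by_cases b : x ∈ Q
      · exact cent_mono inf_le_left (cV ▸ b)
      · exact (mul_mem_cancel_right (cents_symm (inf_le_right.trans (cent_zpowers t).ge) (mem_zpowers t))).1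
          (cent_mono inf_le_left (od x hx b))))
  have eC : ⁅V, Z⁆ = cm V t := le_antisymm (commutator_le.2 fun v hv x hx => by
    by_cases b : x ∈ Q
    · rw [commutatorElement_eq_one_iff_mul_comm.2 (mem_centralizer_iff.1 (cV ▸ b : x ∈ C(V)) v hv)]
      exact one_mem _
    · have k := mem_centralizer_iff.1 (od x hx b)
      have m : v * t * v⁻¹ * t⁻¹ ∈ V := cm_le (h.sec.nV (tN (zT t1))) (mem_cm hv)
      have e : ⁅v, x⁆ = v * t * v⁻¹ * t⁻¹ := by
        rw [← mul_left_inj (x * t), k _ m, commutatorElement_def, ← mul_assoc (x * t), ← mul_assoc (x * t),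
          ← mul_assoc (x * t), ← k v hv]
        simp [mul_assoc, inv_eq_of_mul_eq_one_right tt, ← mul_assoc t t, tt]
      exact e ▸ mem_cm hv) (commutator_mono le_rfl (zpowers_le' t1))
  have nC : T ≤ N(cm V t) := eC ▸ norms_comm (tN.trans h.sec.nV) z.TN
  have nW : ∀ {X}, X ≤ N → X ≤ N(Z) → X ≤ N(V ⊓ C(Z)) := fun a b => norms_inf (a.trans h.sec.nV) (norms_cent b)
  refine ⟨eC ▸ fun w hw => ?_, (commg_of_Cm' fun g hg => H29.NA.cm_hyp (hyp_of_card inf_le_left (by rw [eW, c4, h.c8]))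
    (nW tN z.TN hg) (h.sec.nV (tN hg))).trans inf_le_right, fun k => ?_, t, zT t1, t2, tt⟩
  · by_cases w1 : w = 1
    · exact w1 ▸ one_mem _
    rw [eq2 c2 ⟨cm_le (h.sec.nV (tN (zT t1))) hw, mem_centralizer_iff.2 fun g hg => mul_inv_eq_iff_eq_mul.1
      (eq2 cm2 (conj_mem_of_norm (nC hg) hw) hw (by simpa using w1) w1)⟩ ⟨h.pV, cents_symm (h.pT.trans (cent_zpowers p).ge)
      (mem_zpowers p)⟩ w1 h.p1]
    exact mem_zpowers p
  · rw [← eW] at c4
    rcases pt.uni _ inf_le_left (pt.eP ▸ nW inf_le_left k) with e | e | e <;> rw [e] at c4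
    · simp at c4
    · rw [card_zp (sq_one ab h.pV) h.p1] at c4; omega
    · rw [h.c8] at c4; omega

end H23.MS
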