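import Cfsg.Agent.H1.MS2
import Cfsg.Agent.H23.MS7

/-! S5899, chunk `LN`. -/

set_option autoImplicit false
set_option linter.unusedVariables false
set_option linter.unusedSectionVars false

namespace H23.MS
open Cfsg Subgroup H18 H17.GS H28.S H2.GW
open H19 hiding eq_bot_mono
open H28.NG hiding Hyp Uniq Ch
open H27.MS

universe u
variable {G : Type u} [Group G] [Finite G] {X Y Z : Subgroup G} {x : G}

/-- orbit counting -/
theorem orb (l : Z ≤ Y) {m : ℕ} (c : #Y = m + #Z) (h1 : ∀ r ∈ X, r * x * r⁻¹ ∈ Y ∧ r * x * r⁻¹ ∉ Z)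
    (h2 : ∀ a ∈ Y, a ∉ Z → ∃ r ∈ X, r * x * r⁻¹ = a) : #X = m * #(X ⊓ C[x]) := by
  have e : {w | ∃ r ∈ X, r * x * r⁻¹ = w} = (Y : Set G) \ Z :=
    Set.ext fun w => ⟨fun ⟨r, a, b⟩ => b ▸ h1 r a, fun k => h2 w k.1 k.2⟩
  rw [← card_inf_mul_relIndex C[x] X, relIndex_cent1, e, Set.ncard_diff l, ← Nat.card_coe_set_eq,
    ← Nat.card_coe_set_eq, inf_comm, mul_comm]
  exact congrArg (· * _) (Nat.sub_eq_of_eq_add c)

theorem ln (bk : BK.{u}) : H1.MS.LN.{u} := by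
  intro G _ _ N Q T V P R W p h pV p1 k pW l c
  have f := h.toFr
  obtain ⟨l7, ab, -, -, -, -, tr, -, pt⟩ := bk h
  have sq : ∀ {a}, a ∈ W → a * a = 1 := fun a => sq_one ab (l a)
  have c2 := card_zp (sq pW) p1
  have nz : ∀ {a : G}, a ∉ zpowers p → a ≠ 1 := fun b e => b (e ▸ one_mem _)
  have nW : ∀ {a r}, a ∈ W → a ∉ zpowers p → r * p * r⁻¹ ∈ W → r * a * r⁻¹ ∈ W → r ∈ N(W) := fun {a r} a1 a2 b d => by
    have K : K4 p a := ⟨two_of_mul_self (sq pW) p1, two_of_mul_self (sq a1) (nz a2), fun e => a2 (e ▸ mem_zpowers p),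
      mul_comm_of_comm ab.1 pV (l a1)⟩
    have e := eq_of_le_of_card_eq (V4_le.2 ⟨pW, a1⟩) (K.card.trans c.symm)
    exact mem_norm_of_cj_le (by rw [← e, cj_V4, e]; exact V4_le.2 ⟨b, d⟩)
  obtain ⟨w, w1, w2⟩ := SetLike.not_le_iff_exists.1 fun j : W ≤ zpowers p => by have := card_le j; omega
  have PN : P ≤ N := k.eP ▸ inf_le_left
  have Pp : ∀ r ∈ P, r * p * r⁻¹ = p := fun r hr => mem_cent1_conj.1 (k.eP.le hr).2
  have nz' : ∀ r ∈ P, r * w * r⁻¹ ∉ zpowers p := fun r hr j =>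
    w2 ((mem_normalizer_iff.1 (cent1_le_norm_zpowers p (k.eP.le hr).2) w).2 j)
  have c6 := orb (X := P) (x := w) (zpowers_le' pV) (m := 6) (by rw [c2, h.c8])
    (fun r hr => ⟨conj_mem_of_norm (h.sec.nV (PN hr)) (l w1), nz' r hr⟩) fun a a1 a2 => k.tr w (l w1) a a1 w2 a2
  have c2' := orb (X := P ⊓ N(W)) (x := w) (zpowers_le' pW) (m := 2) (by rw [c2, c])
    (fun r hr => ⟨conj_mem_of_norm hr.2 w1, nz' r hr.1⟩) fun a a1 a2 => by
      obtain ⟨r, b, d⟩ := k.tr w (l w1) a (l a1) w2 a2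
      exact ⟨r, ⟨b, nW w1 w2 ((Pp r b).symm ▸ pW) (d ▸ a1)⟩, d⟩
  rw [inf_right_comm, (inf_eq_left (a := P ⊓ C[w])).2 fun r hr => nW w1 w2 ((Pp r hr.1).symm ▸ pW)
    ((mem_cent1_conj.1 hr.2).symm ▸ w1)] at c2'
  have c3 := orb (X := N ⊓ N(W)) (x := p) (bot_le (a := W)) (m := 3) (by rw [c, card_bot])
    (fun r hr => ⟨conj_mem_of_norm hr.2 pW, mt conj_eq_one_iff.1 p1⟩) fun a a1 a2 => by
      by_cases j : a = p
      · exact ⟨1, one_mem _, by simp [j]⟩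
      have a3 : a ∉ zpowers p := fun i => (mem_zpowers_of_sq (sq pW) i).elim a2 j
      obtain ⟨n, n1, n2⟩ := tr p pV a (l a1) p1 a2
      obtain ⟨P', R', k'⟩ := pt a (l a1) a2
      obtain ⟨g, g1, g2⟩ := k'.tr (n * a * n⁻¹) (conj_mem_of_norm (h.sec.nV n1) (l a1)) p pV
        (fun i => (mem_zpowers_of_sq (sq a1) i).elim (mt conj_eq_one_iff.1 a2) fun e => j (by simpa using e.trans n2.symm))
        fun i => (mem_zpowers_of_sq (sq a1) i).elim p1 (Ne.symm j)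
      have e : g * n * p * (g * n)⁻¹ = a := by rw [← conj_conj', n2]; exact mem_cent1_conj.1 (k'.eP.le g1).2
      exact ⟨g * n, ⟨mul_mem (k'.eP.le g1).1 n1, nW a1 a3 (e.symm ▸ a1) (by rw [← conj_conj', g2]; exact pW)⟩, e⟩
  rw [inf_right_comm, ← k.eP] at c3
  have := k.cP
  have := k.cR
  have := (H17.MS.l7 f l7).1
  refine ⟨⟨f.pg, f.nq, f.syl.of_card (inf_le_left.trans PN) (by omega), f.ns, f.sol, f.smp⟩, by omega, c3, fun j => ?_⟩
  rcases k.uni W l (j.ge.trans inf_le_right) with e | e | e <;> rw [e] at c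
  · simp at c
  · omega
  · have := h.c8; omega

end H23.MS
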