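import Cfsg.Agent.H1.MS2

/-! S5899, chunk `LB`. -/

set_option autoImplicit false
set_option linter.unusedVariables false
set_option linter.unusedSectionVars false

namespace H23.MS
open Cfsg Subgroup H18 H17.GS H28.S H2.GW
open H19 hiding eq_bot_mono
open H28.NG hiding Hyp Uniq Ch
open H27.MS
open H1.MS (V3 e1 e3 pt)
open scoped MatrixGroups
open Matrix

universe u

theorem pt_mul (x z : SL(3, ZMod 2)) : pt (x * z) = x.1 *ᵥ pt z := (mulVec_mulVec _ _ _).symm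

theorem fl0 : ∀ p l : V3, p ≠ 0 → l ≠ 0 → l ⬝ᵥ p = 0 → ∃ b c : V3, l ⬝ᵥ b = 0 ∧ l ⬝ᵥ c = 1 ∧
    p 0 * b 1 * c 2 - p 0 * c 1 * b 2 - b 0 * p 1 * c 2 + b 0 * c 1 * p 2 + c 0 * p 1 * b 2 - c 0 * b 1 * p 2 = 1 := by
  decide +kernel

/-- flag transitivity -/
theorem flag {p l : V3} (a : p ≠ 0) (b : l ≠ 0) (c : l ⬝ᵥ p = 0) : ∃ z, pt z = p ∧ H1.MS.ln z = l := by
  obtain ⟨r, s, h1, h2, h3⟩ := fl0 p l a b c
  let z : SL(3, ZMod 2) := ⟨(of ![p, r, s])ᵀ, by rw [det_fin_three]; exact h3⟩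
  have e : l ᵥ* z.1 = e3 := by
    ext i; fin_cases i
    exacts [c, h1, h2]
  refine ⟨z, ?_, ?_⟩
  · ext i; simp [pt, z, e1, mulVec, dotProduct, Fin.sum_univ_three]
  · rw [H1.MS.ln, ← e, vecMul_vecMul, show z.1 * (z⁻¹).1 = 1 from congrArg Subtype.val (mul_inv_cancel z), vecMul_one]

theorem fl1 : ∀ y y' p : V3, p ≠ 0 → y ⬝ᵥ e1 + e3 ⬝ᵥ y' ≠ 0 → (∀ l : V3, l ≠ 0 → l ≠ e3 → l ⬝ᵥ e1 = 0 →
    y ⬝ᵥ e1 + l ⬝ᵥ y' = 0) → (∀ l : V3, l ≠ 0 → l ⬝ᵥ p = 0 → y ⬝ᵥ p + l ⬝ᵥ y' = 0) → e3 ⬝ᵥ p = 0 := by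
  decide +kernel

theorem pt_inv {x z : SL(3, ZMod 2)} (e : pt z = pt x) : pt (x⁻¹ * z) = e1 := by
  rw [pt_mul, e, ← pt_mul, inv_mul_cancel]; exact one_mulVec _

theorem lb (nm : H1.MS.NM7.{u}) (lam : H1.MS.LAM.{u}) : H1.MS.LB.{u} := by
  intro G _ _ N Q T T₀ P P' a h f l7 l0 c0 lP PN cP lP' PN' cP' ne aQ a0 h1 hN h2
  obtain ⟨π, md, eP, eP'⟩ := nm f l7 lP PN cP
  replace eP' := eP' P' lP' PN' cP' ne
  obtain ⟨y, y', k⟩ := lam f md l0 c0 a aQ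
  have p0 : pt (π ⟨h, hN⟩) ≠ 0 := fun j => by
    have := pt_inv (rfl : pt (π ⟨h, hN⟩) = _)
    rw [pt_mul, j, mulVec_zero] at this
    exact absurd this (by decide)
  have e := fl1 y y' _ p0 (fun j => a0 (by
    have := (k 1).2 (by rw [map_one]; simpa [pt, H1.MS.ln] using j)
    simpa using this)) (fun l l0 l3 l1 => by
      obtain ⟨z, z1, z2⟩ := flag (by decide) l0 l1
      obtain ⟨g, rfl⟩ := md.sj z
      exact z1 ▸ z2 ▸ (k g).1 (h1 g ((eP g).2 z1) fun j => l3 (z2.symm.trans ((md.mT g).1 j).2))) fun l l0 l1 => by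
      obtain ⟨z, z1, z2⟩ := flag p0 l0 l1
      obtain ⟨g, rfl⟩ := md.sj z
      have := h2 _ ((eP (⟨h, hN⟩⁻¹ * g)).2 (by rw [map_mul, map_inv]; exact pt_inv z1))
      exact z1 ▸ z2 ▸ (k g).1 (by simpa using this)
  obtain ⟨z, z1, z2⟩ := flag p0 (by decide) e
  obtain ⟨g, rfl⟩ := md.sj z
  exact ⟨g, (eP' g).2 z2, (eP (g⁻¹ * ⟨h, hN⟩)).2 (by rw [map_mul, map_inv]; exact pt_inv z1.symm)⟩

end H23.MS
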