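import Cfsg.Agent.H10.Y0

/-! Commuting pairs without common neighbour, for `2¹⁺²²` (adapted from `H0.U.J`). -/

set_option autoImplicit false
set_option linter.unusedSectionVars false

open Subgroup
namespace H23.Bb.Wc
open H0 H19
open scoped commutatorElement
open H10.Y hiding QS M exists_M

universe u
variable {G : Type u} [Group G]

variable {V : Type*} [AddCommGroup V] {q : V → ZMod 2} {b : V → V → ZMod 2}

/-- a nondegenerate quadratic space with `2²²` vectors -/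
structure QS (q : V → ZMod 2) (b : V → V → ZMod 2) : Prop where
  two : ∀ v : V, v + v = 0
  qadd : ∀ u v, q (u + v) = q u + q v + b u v
  badd : ∀ u v w, b (u + v) w = b u w + b v w
  nd : ∀ v, (∀ w, b v w = 0) → v = 0
  card : Nat.card V = 2 ^ 22

namespace QS
variable (h : QS q b)
include h

theorem fin : Finite V := Nat.finite_of_card_ne_zero (h.card ▸ by decide)
theorem symm (u v : V) : b u v = b v u := by
  have := h.qadd u v
  rw [add_comm, h.qadd, add_comm (q v)] at this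
  exact (add_left_cancel this).symm
theorem badd' (u v w : V) : b u (v + w) = b u v + b u w := by rw [h.symm, h.badd, h.symm v, h.symm w]
theorem b0 (v : V) : b 0 v = 0 := by simpa using h.badd 0 0 v
theorem b0' (v : V) : b v 0 = 0 := by rw [h.symm, h.b0]
theorem q0 : q 0 = 0 := by simpa [h.b0] using h.qadd 0 0
theorem bs (v : V) : b v v = 0 := by simpa [h.two, h.q0, z2_self] using (h.qadd v v).symm
theorem neg (v : V) : -v = v := neg_eq_of_add_eq_zero_left (h.two v)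
theorem eq_iff {u v : V} : u + v = 0 ↔ u = v := by rw [add_eq_zero_iff_eq_neg, h.neg]
theorem can (u v : V) : u + v + v = u := by rw [add_assoc, h.two, add_zero]
theorem can' (u v : V) : u + (u + v) = v := by rw [← add_assoc, h.two, zero_add]

theorem sep (S : AddSubgroup V) {x : V} (H : ∀ k, (∀ s ∈ S, b k s = 0) → b k x = 0) : x ∈ S := by
  by_contra hx
  have := h.fin
  let _ := AddCommGroup.zmodModule (n := 2) (G := V) fun x => by rw [two_nsmul, h.two]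
  have : Fact (Nat.Prime 2) := ⟨Nat.prime_two⟩
  obtain ⟨f, f1, f2⟩ := Submodule.exists_le_ker_of_notMem (p := AddSubgroup.toZModSubmodule 2 S) (v := x) hx
  let β : V →ₗ[ZMod 2] Module.Dual (ZMod 2) V := (AddMonoidHom.mk' (fun u =>
    (AddMonoidHom.mk' (b u) (h.badd' u)).toZModLinearMap 2) fun u v => LinearMap.ext (h.badd u v)).toZModLinearMap 2
  have i : Function.Injective β := (injective_iff_map_eq_zero β).2 fun v e => h.nd v fun w => LinearMap.congr_fun e w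
  obtain ⟨k, rfl⟩ := (LinearMap.injective_iff_surjective_of_finrank_eq_finrank Subspace.dual_finrank_eq.symm).1 i f
  exact f1 (H k fun s hs => f2 (show s ∈ AddSubgroup.toZModSubmodule 2 S from hs))

theorem card_mul (f : V →+ V) : Nat.card f.ker * Nat.card f.range = 2 ^ 22 := by
  rw [← h.card, ← AddSubgroup.index_ker, AddSubgroup.card_mul_index]

end QS

/-- a model of the extraspecial group and of the action of the centralizer -/
structure M (Q : Subgroup G) (z : G) (π : G → V) (ρ : G → V →+ V) (q : V → ZMod 2)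
    (b : V → V → ZMod 2) : Prop where
  le : LE Q z
  qs : QS q b
  card : #Q = 2 ^ 23
  add : ∀ x ∈ Q, ∀ y ∈ Q, π (x * y) = π x + π y
  ker : ∀ x ∈ Q, π x = 0 ↔ x = 1 ∨ x = z
  surj : ∀ v, ∃ x ∈ Q, π x = v
  sq : ∀ x ∈ Q, x * x = 1 ↔ q (π x) = 0
  cm : ∀ x ∈ Q, ∀ y ∈ Q, Commute x y ↔ b (π x) (π y) = 0
  conj : ∀ g, Commute z g → ∀ x ∈ Q, π (g * x * g⁻¹) = ρ g (π x)

theorem exists_M [Finite G] {Q : Subgroup G} {z : G} (h : LE Q z) (hc : #Q = 2 ^ 23) :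
    ∃ (V : Type u) (_ : AddCommGroup V) (π : G → V) (ρ : G → V →+ V) (q : V → ZMod 2)
      (b : V → V → ZMod 2), M Q z π ρ q b := by
  classical
  obtain ⟨E, _, _, π, ρ, q, m⟩ := h.es.exists_model
  have := m.sec.finite
  refine ⟨E, _, π, fun g => if k : g ∈ N(Q) then (ρ ⟨g, k⟩).toAddMonoidHom else 0, q,
    QuadraticMap.polar q, h, ⟨fun v => ?_, fun u v => ?_, QuadraticMap.polar_add_left q, fun v k => ?_, ?_⟩,
    hc, m.sec.add, fun x hx => (m.sec.ker x hx).trans h.es.mem_zp, m.sec.surj, fun x hx => (m.N0 hx).symm,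
    fun x hx y hy => (m.B0 hx hy).symm, fun g hg x hx => ?_⟩
  · rw [← two_smul (ZMod 2) v, show (2 : ZMod 2) = 0 from rfl, zero_smul]
  · rw [QuadraticMap.polar]; ring
  · obtain ⟨x, hx, rfl⟩ := m.sec.surj v
    exact (m.sec.ker x hx).2 (h.es.mem_zp.2 (h.es.ctr x hx fun y hy => (m.B0 hx hy).1 (k _)))
  · have e := m.card_eq
    rw [hc, pow_succ] at e
    rw [Module.natCard_eq_pow_finrank (K := ZMod 2), Nat.card_zmod]; omega
  · have k : g ∈ N(Q) := h.norm (mem_cent1.2 hg.symm)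
    simp only [dif_pos k]; exact m.sec.conj ⟨g, k⟩ x hx

namespace M
variable {Q : Subgroup G} {z g k x y : G} {π : G → V} {ρ : G → V →+ V} (h : M Q z π ρ q b)
include h

theorem zQ : z ∈ Q := h.le.es.zQ
theorem zz : z * z = 1 := h.le.es.zz
theorem z1 : z ≠ 1 := h.le.es.z1
theorem zc (hx : x ∈ Q) : Commute z x := (h.le.es.cent x hx).symm
theorem nm (hg : Commute z g) (hx : x ∈ Q) : g * x * g⁻¹ ∈ Q :=
  (mem_normalizer_iff.1 (h.le.norm (mem_cent1.2 hg.symm)) x).1 hx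
theorem p1 : π 1 = 0 := (h.ker 1 (one_mem _)).2 (Or.inl rfl)
theorem pz : π z = 0 := (h.ker z h.zQ).2 (Or.inr rfl)
theorem pinv (hx : x ∈ Q) : π x⁻¹ = π x :=
  h.qs.eq_iff.1 (by rw [← h.add _ (inv_mem hx) _ hx, inv_mul_cancel, h.p1])
theorem pzm (hx : x ∈ Q) : π (z * x) = π x := by rw [h.add _ h.zQ _ hx, h.pz, zero_add]
theorem eq_of (hx : x ∈ Q) (hy : y ∈ Q) (e : π x = π y) : x = y ∨ x = z * y :=
  ((h.ker _ (mul_mem hx (inv_mem hy))).1 (by rw [h.add _ hx _ (inv_mem hy), h.pinv hy, e, h.qs.two])).imp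
    mul_inv_eq_one.1 mul_inv_eq_iff_eq_mul.1
theorem sqz (hx : x ∈ Q) (e : q (π x) ≠ 0) : x * x = z :=
  (h.le.es.sq x hx).resolve_left fun k => e ((h.sq x hx).1 k)
theorem cjz (hx : x ∈ Q) (hy : y ∈ Q) (e : b (π x) (π y) ≠ 0) : x * y * x⁻¹ = z * y :=
  (h.le.es.conj_eq hx hy fun k => e ((h.cm x hx y hy).1 k)).trans (h.zc hy).symm
theorem rmul (hg : Commute z g) (hk : Commute z k) (v : V) : ρ (g * k) v = ρ g (ρ k v) := by
  obtain ⟨x, hx, rfl⟩ := h.surj v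
  rw [← h.conj k hk x hx, ← h.conj g hg _ (h.nm hk hx), ← h.conj _ (hg.mul_right hk) x hx]
  congr 1; group
theorem rQ (hx : x ∈ Q) (v : V) : ρ x v = v := by
  obtain ⟨y, hy, rfl⟩ := h.surj v
  rw [← h.conj x (h.zc hx) y hy, h.add _ (mul_mem hx hy) _ (inv_mem hx), h.add _ hx _ hy, h.pinv hx,
    add_right_comm, h.qs.two, zero_add]
theorem r1 (v : V) : ρ 1 v = v := h.rQ (one_mem _) v
theorem rinv (hg : Commute z g) (v : V) : ρ g⁻¹ (ρ g v) = v := by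
  rw [← h.rmul hg.inv_right hg, inv_mul_cancel, h.r1]
theorem rinv' (hg : Commute z g) (v : V) : ρ g (ρ g⁻¹ v) = v := by
  rw [← h.rmul hg hg.inv_right, mul_inv_cancel, h.r1]
theorem rinj (hg : Commute z g) {u v : V} (e : ρ g u = ρ g v) : u = v := by
  rw [← h.rinv hg u, e, h.rinv hg]
theorem rq (hg : Commute z g) (v : V) : q (ρ g v) = q v := by
  obtain ⟨x, hx, rfl⟩ := h.surj v
  refine z2_ext _ _ ?_
  rw [← h.conj g hg x hx, ← h.sq _ (h.nm hg hx), ← h.sq x hx, conj_mul]; simp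
theorem rb (hg : Commute z g) (u v : V) : b (ρ g u) (ρ g v) = b u v := by
  have := h.qs.qadd (ρ g u) (ρ g v)
  rw [← map_add, h.rq hg, h.rq hg, h.rq hg, h.qs.qadd] at this
  exact (add_left_cancel this).symm
theorem rsq (hg : Commute z g) (e : g * g ∈ Q) (v : V) : ρ g (ρ g v) = v := by
  rw [← h.rmul hg hg, h.rQ e]
theorem rcm (hg : Commute z g) (hk : Commute z k) (c : Commute g k) (v : V) :
    ρ g (ρ k v) = ρ k (ρ g v) := by rw [← h.rmul hg hk, c.eq, h.rmul hk hg]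
theorem pcm (hg : Commute z g) (hx : x ∈ Q) : π (x * g * x⁻¹ * g⁻¹) = ρ g (π x) + π x := by
  rw [mul_assoc, mul_assoc, ← mul_assoc g, h.add _ hx _ (h.nm hg (inv_mem hx)), h.conj g hg _ (inv_mem hx),
    h.pinv hx, add_comm]
theorem mcm (hg : Commute z g) (hx : x ∈ Q) : x * g * x⁻¹ * g⁻¹ ∈ Q := by
  rw [mul_assoc, mul_assoc, ← mul_assoc g]; exact mul_mem hx (h.nm hg (inv_mem hx))
theorem fx (hg : Commute z g) (hx : x ∈ Q) (c : Commute g x) : ρ g (π x) = π x := by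
  rw [← h.conj g hg x hx, c.eq, mul_inv_cancel_right]
theorem fx' (hg : Commute z g) (hx : x ∈ Q) (e : ρ g (π x) = π x) :
    Commute g x ∨ g * x * g⁻¹ = z * x :=
  (h.eq_of (h.nm hg hx) hx (by rw [h.conj g hg x hx, e])).imp_left mul_inv_eq_iff_eq_mul.1
theorem cent (k : ∀ x ∈ Q, Commute g x) : g = 1 ∨ g = z :=
  h.le.es.mem_zp.1 (h.le.cent_eq.le fun x hx => (k x hx).symm)
theorem triv [Finite G] (hg : Commute z g) (e : ∀ v, ρ g v = v) : g ∈ Q :=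
  h.le.mem_of_triv (mem_cent1.2 hg.symm) fun x hx => h.le.es.mem_zp.2 ((h.fx' hg hx (e _)).imp
    commutatorElement_eq_one_iff_commute.2 fun k => by rw [commutatorElement_def, k]; group)
theorem triv' [Finite G] (hg : Commute z g) (hk : Commute z k) (e : ∀ v, ρ g v = ρ k v) : g⁻¹ * k ∈ Q :=
  h.triv (hg.inv_right.mul_right hk) fun v => by rw [h.rmul hg.inv_right hk, ← e, h.rinv hg]

/-- the preimage of a subspace -/
def grp (S : AddSubgroup V) : Subgroup G where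
  carrier := {x | x ∈ Q ∧ π x ∈ S}
  one_mem' := ⟨one_mem _, h.p1 ▸ zero_mem _⟩
  mul_mem' := fun a c => ⟨mul_mem a.1 c.1, h.add _ a.1 _ c.1 ▸ add_mem a.2 c.2⟩
  inv_mem' := fun a => ⟨inv_mem a.1, h.pinv a.1 ▸ a.2⟩

theorem J (g : G) : M (cj g Q) (g * z * g⁻¹) (fun x => π (g⁻¹ * x * g)) (fun x => ρ (g⁻¹ * x * g)) q b := by
  refine ⟨h.le.J g, h.qs, (card_cj g Q).trans h.card, fun x hx y hy => ?_, fun x hx => ?_, fun v => ?_,
    fun x hx => ?_, fun x hx y hy => ?_, fun k hk x hx => ?_⟩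
  · rw [← h.add _ (mem_cj.1 hx) _ (mem_cj.1 hy)]; congr 1; group
  · rw [h.ker _ (mem_cj.1 hx)]
    exact or_congr ⟨fun e => by simpa [mul_assoc] using congrArg (fun y => g * y * g⁻¹) e, fun e => by simp [e]⟩ ⟨fun e => by rw [← e]; group, fun e => by rw [e]; group⟩
  · obtain ⟨x, hx, rfl⟩ := h.surj v
    exact ⟨_, conj_mem_cj.2 hx, by congr 1; group⟩
  · rw [← h.sq _ (mem_cj.1 hx), show g⁻¹ * x * g * (g⁻¹ * x * g) = g⁻¹ * (x * x) * g by group]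
    exact ⟨fun e => by simp [e], fun e => by simpa [mul_assoc] using congrArg (fun y => g * y * g⁻¹) e⟩
  · rw [← h.cm _ (mem_cj.1 hx) _ (mem_cj.1 hy)]
    exact ⟨fun c => by simpa using c.conj g⁻¹, fun c => by simpa [mul_assoc] using c.conj g⟩
  · rw [← h.conj _ (by simpa [mul_assoc] using hk.conj g⁻¹) _ (mem_cj.1 hx)]; congr 1; group

/-- the commutator image of an involution is the perp of its fixed space -/
theorem perp {t : G} (c : Commute z t) (tt : t * t ∈ Q) {m : V} (H : ∀ k, ρ t k = k → b k m = 0) :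
    ∃ v, ρ t v + v = m := by
  obtain ⟨v, e⟩ := h.qs.sep (ρ t + AddMonoidHom.id V).range (x := m) fun k hk => H k (h.qs.eq_iff.1
    (h.qs.nd _ fun w => by
      rw [h.qs.badd, ← h.rb c, h.rsq c tt, ← h.qs.badd']; exact hk _ ⟨w, rfl⟩))
  exact ⟨v, e⟩

theorem c11 {t : G} (c : Commute z t) (tt : t * t ∈ Q) : Nat.card (ρ t + AddMonoidHom.id V).range ≤ 2 ^ 11 := by
  have := h.qs.fin
  have e := h.qs.card_mul (ρ t + AddMonoidHom.id V)
  have : Nat.card (ρ t + AddMonoidHom.id V).range ≤ Nat.card (ρ t + AddMonoidHom.id V).ker :=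
    AddSubgroup.card_le_of_le (by
      rintro _ ⟨v, rfl⟩
      simp [h.rsq c tt, add_comm v, h.qs.two])
  nlinarith

end M

/-- a commuting pair without common neighbour -/
structure Pr (D : Set G) (Q : Subgroup G) (z : G) (π : G → V) (ρ : G → V →+ V) (Q' : Subgroup G) (t : G)
    (π' : G → V) (ρ' : G → V →+ V) (q : V → ZMod 2) (b : V → V → ZMod 2) : Prop where
  l : M Q z π ρ q b
  r : M Q' t π' ρ' q b
  c : Commute z t
  zD : z ∈ D
  tD' : t ∈ D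
  cjD : ∀ g, ∀ x ∈ D, g * x * g⁻¹ ∈ D
  no : ∀ x ∈ D, x ∈ Q → x ∉ Q'

def PP (Q : Subgroup G) (z t : G) : Prop := ∃ x ∈ Q, x * t * x⁻¹ = z * t

theorem inv_cm {x t : G} (tt : t * t = 1) : t * (x * t * x⁻¹ * t⁻¹) * t⁻¹ = (x * t * x⁻¹ * t⁻¹)⁻¹ := by
  have : t⁻¹ = t := inv_eq_of_mul_eq_one_right tt
  simp only [mul_inv_rev, inv_inv, this, mul_assoc, tt, mul_one]

namespace Pr
variable {D : Set G} {Q Q' : Subgroup G} {z t x y a c d : G} {π π' : G → V} {ρ ρ' : G → V →+ V} {v k : V}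
  (h : Pr D Q z π ρ Q' t π' ρ' q b)
include h

theorem symm : Pr D Q' t π' ρ' Q z π ρ q b := ⟨h.r, h.l, h.c.symm, h.tD', h.zD, h.cjD, fun x a b c => h.no x a c b⟩
theorem tt : t * t = 1 := h.r.zz
theorem ttQ : t * t ∈ Q := h.tt ▸ one_mem _
theorem tQ : t ∉ Q := fun k => h.no t h.tD' k h.r.zQ
theorem rtt (v : V) : ρ t (ρ t v) = v := h.l.rsq h.c h.ttQ v
theorem rI (v : V) : ρ t (ρ t v + v) = ρ t v + v := by rw [map_add, h.rtt, add_comm]
theorem bI (e : ρ t k = k) (v : V) : b k (ρ t v + v) = 0 := by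
  rw [h.l.qs.badd', ← h.l.rb h.c k v, e, z2_self]
theorem B1 (hc : c ∈ Q) (hc' : c ∈ Q') (e : π c = 0) : c = 1 :=
  ((h.l.ker c hc).1 e).resolve_right fun k => h.symm.tQ (k ▸ hc')
theorem Binj (hc : c ∈ Q ⊓ Q') (hd : d ∈ Q ⊓ Q') (e : π c = π d) : c = d :=
  inv_mul_eq_one.1 (h.B1 (Q.mul_mem (Q.inv_mem hc.1) hd.1) (Q'.mul_mem (Q'.inv_mem hc.2) hd.2) (by
    rw [h.l.add _ (Q.inv_mem hc.1) _ hd.1, h.l.pinv hc.1, e, h.l.qs.two]))
theorem yA (hy : y ∈ Q') (cy : Commute z y) (ha : a ∈ Q) (ca : Commute t a) :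
    ∃ c ∈ Q ⊓ Q', π c = ρ y (π a) + π a ∧ a * y * a⁻¹ * y⁻¹ = c :=
  ⟨_, ⟨h.l.mcm cy ha, Q'.mul_mem (h.r.nm ca hy) (Q'.inv_mem hy)⟩, h.l.pcm cy ha, rfl⟩
theorem Bc (hc : c ∈ Q ⊓ Q') (ha : a ∈ Q) (ca : Commute t a) : Commute a c := by
  obtain ⟨d, hd, e, e'⟩ := h.yA hc.2 (h.l.zc hc.1) ha ca
  rw [h.B1 hd.1 hd.2 (by rw [e, h.l.rQ hc.1, h.l.qs.two]), mul_inv_eq_one, mul_inv_eq_iff_eq_mul] at e'
  exact e'
theorem Bq (hc : c ∈ Q ⊓ Q') : c * c = 1 :=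
  h.B1 (mul_mem hc.1 hc.1) (mul_mem hc.2 hc.2) (by rw [h.l.add _ hc.1 _ hc.1, h.l.qs.two])
theorem cases (hx : x ∈ Q) (hy : y ∈ Q) (e : π y = ρ t (π x) + π x) :
    x * t * x⁻¹ = y * t ∨ x * t * x⁻¹ = z * y * t :=
  (h.l.eq_of (h.l.mcm h.c hx) hy (by rw [h.l.pcm h.c hx, e])).imp mul_inv_eq_iff_eq_mul.1
    mul_inv_eq_iff_eq_mul.1
theorem tD (x : G) : x * t * x⁻¹ ∈ D := h.cjD x t h.tD'
theorem F0 (hc : c ∈ Q ⊓ Q') (e : c * t ∈ D) : c = 1 := by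
  by_contra n
  obtain ⟨y, -, k⟩ := h.r.le.es.exists_conj hc.2 fun m => (h.r.le.es.mem_zp.1 m).elim n fun m => h.tQ (m ▸ hc.1)
  refine h.no c ?_ hc.1 hc.2
  simpa [← k, mul_assoc] using h.cjD y⁻¹ _ e
theorem Fb (hc : c ∈ Q ⊓ Q') (c1 : c ≠ 1) (hx : x ∈ Q) (e : π c = ρ t (π x) + π x) :
    x * t * x⁻¹ = z * c * t :=
  (h.cases hx hc.1 e).resolve_left fun k => c1 (h.F0 hc (k ▸ h.tD x))
theorem both (p : PP Q z t) (hc : c ∈ Q) (e : π c = ρ t v + v) : c * t ∈ D := by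
  obtain ⟨x, hx, rfl⟩ := h.l.surj v
  obtain ⟨y, hy, k⟩ := p
  rcases h.cases hx hc e with e | e
  · exact e ▸ h.tD x
  have := h.tD (x * y)
  rwa [mul_inv_rev, mul_assoc x, mul_assoc x, ← mul_assoc (y * t), k, ← mul_assoc, ← mul_assoc,
    ← (h.l.zc hx).eq, mul_assoc z, mul_assoc z, e, ← mul_assoc, ← mul_assoc, h.l.zz, one_mul] at this
theorem F1 (p : PP Q z t) (hc : c ∈ Q ⊓ Q') (e : π c = ρ t v + v) : c = 1 := h.F0 hc (h.both p hc.1 e)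
theorem F2 (hc : c ∈ Q ⊓ Q') (hd : d ∈ Q ⊓ Q') (c1 : c ≠ 1) (d1 : d ≠ 1) (n : c ≠ d) (e : π c = ρ t v + v)
    (e' : π d = ρ t k + k) : b v (π d) = 1 := by
  obtain ⟨x, hx, rfl⟩ := h.l.surj v
  obtain ⟨y, hy, rfl⟩ := h.l.surj k
  refine z2_one _ fun k => n ?_
  have k := (h.l.cm x hx d hd.1).2 k
  have := h.tD (x * y)
  rw [mul_inv_rev, mul_assoc x, mul_assoc x, ← mul_assoc (y * t), h.Fb hd d1 hy e', ← mul_assoc, ← mul_assoc,
    ((h.l.zc hx).symm.mul_right k).eq, mul_assoc (z * d), mul_assoc (z * d), h.Fb hc c1 hx e, ← mul_assoc,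
    ← mul_assoc, mul_assoc z, ← (h.l.zc hd.1).eq, ← mul_assoc, h.l.zz, one_mul] at this
  have := h.F0 (mul_mem hd hc) this
  rw [← mul_one c, ← h.Bq hd, ← mul_assoc, (h.Bc hd hc.1 (h.r.zc hc.2)).eq, this, one_mul]
theorem PP_of (hx : x ∈ Q) (e : t * x * t⁻¹ = z * x) : x⁻¹ * t * x⁻¹⁻¹ = z * t := by
  rw [inv_inv, mul_assoc, mul_inv_eq_iff_eq_mul.1 e, (h.l.zc hx).eq]; group
theorem cA (p : ¬ PP Q z t) (hx : x ∈ Q) (e : ρ t (π x) = π x) : Commute t x :=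
  (h.l.fx' h.c hx e).resolve_right fun k => p ⟨_, inv_mem hx, h.PP_of hx k⟩
theorem KA (hx : x ∈ Q) (e : x * t * x⁻¹ = z * t) (hk : ρ t k = k) :
    ∃ a ∈ Q, Commute t a ∧ (k = π a ∨ k = π a + π x) := by
  obtain ⟨y, hy, rfl⟩ := h.l.surj k
  rcases h.l.fx' h.c hy hk with k | k
  · exact ⟨y, hy, k, Or.inl rfl⟩
  refine ⟨y * x, mul_mem hy hx, ?_, Or.inr (by rw [h.l.add y hy x hx, h.l.qs.can])⟩
  rw [Commute, SemiconjBy, ← mul_assoc, mul_inv_eq_iff_eq_mul.1 k, mul_assoc y, mul_inv_eq_iff_eq_mul.1 e,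
    (h.l.zc hy).eq]
  simp only [mul_assoc]
theorem KP (hx : x ∈ Q) (e : x * t * x⁻¹ = z * t) : ρ t (π x) = π x :=
  h.l.qs.eq_iff.1 (by rw [← h.l.pcm h.c hx, e, mul_inv_cancel_right, h.l.pz])
theorem perp {m : V} (H : ∀ k, ρ t k = k → b k m = 0) : ∃ v, m = ρ t v + v :=
  let ⟨v, e⟩ := h.l.perp h.c h.ttQ H; ⟨v, e.symm⟩
theorem perpB (p : ¬ PP Q z t) (hc : c ∈ Q ⊓ Q') : ∃ v, π c = ρ t v + v :=
  h.perp fun k hk => by
    obtain ⟨x, hx, rfl⟩ := h.l.surj k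
    exact (h.l.cm x hx c hc.1).1 (h.Bc hc hx (h.cA p hx hk))
theorem perpP (hx : x ∈ Q) (e : x * t * x⁻¹ = z * t) (hc : c ∈ Q ⊓ Q') (k : b (π x) (π c) = 0) : c = 1 := by
  obtain ⟨v, e'⟩ := h.perp (m := π c) fun k' hk => by
    obtain ⟨a, ha, ca, rfl | rfl⟩ := h.KA hx e hk
    · exact (h.l.cm a ha c hc.1).1 (h.Bc hc ha ca)
    · rw [h.l.qs.badd, k, (h.l.cm a ha c hc.1).1 (h.Bc hc ha ca), add_zero]
  exact h.F1 ⟨x, hx, e⟩ hc e'
theorem B2 (p : PP Q z t) (hc : c ∈ Q ⊓ Q') (hd : d ∈ Q ⊓ Q') (c1 : c ≠ 1) (d1 : d ≠ 1) : c = d := by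
  obtain ⟨x, hx, e⟩ := p
  refine inv_mul_eq_one.1 (h.perpP hx e (mul_mem (inv_mem hc) hd) ?_)
  rw [h.l.add _ (Q.inv_mem hc.1) _ hd.1, h.l.pinv hc.1, h.l.qs.badd', z2_one _ (mt (h.perpP hx e hc) c1),
    z2_one _ (mt (h.perpP hx e hd) d1), z2_self]

variable [Finite G]

theorem cK : 2 ^ 12 ≤ #(h.l.grp (ρ t + AddMonoidHom.id V).ker) := by
  have := h.l.qs.fin
  have e := card_le_mul (A := Q) (B := h.l.grp (ρ t + AddMonoidHom.id V).ker) (fun x => ρ t (π x) + π x)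
    (S := (ρ t + AddMonoidHom.id V).range) (Set.toFinite _) (fun x _ => ⟨π x, rfl⟩) fun x hx y hy e =>
    ⟨mul_mem (inv_mem hx) hy, show ρ t (π (x⁻¹ * y)) + π (x⁻¹ * y) = 0 by
      rw [h.l.add _ (inv_mem hx) _ hy, h.l.pinv hx, map_add, add_add_add_comm, e, h.l.qs.two]⟩
  have := h.l.c11 h.c h.ttQ
  rw [h.l.card, ← Nat.card_coe_set_eq] at e
  change 2 ^ 23 ≤ Nat.card (ρ t + AddMonoidHom.id V).range * _ at e
  nlinarith
theorem cK1 (p : ¬ PP Q z t) : #(h.l.grp (ρ t + AddMonoidHom.id V).ker) ≤ #(Q ⊓ C[t] : Subgroup G) :=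
  card_le fun _ hx => ⟨hx.1, mem_cent1.2 (h.cA p hx.1 (h.l.qs.eq_iff.1 hx.2)).symm⟩
theorem cK2 {S : AddSubgroup V} (hS : ∀ v ∈ S, ρ t v = v) : #(h.l.grp S) ≤ 2 * #(Q ⊓ C[t] : Subgroup G) :=
  idx2 fun x hx y hy nx ny => ⟨Q.mul_mem (Q.inv_mem hx.1) hy.1, mem_cent1.2 (by
    have k : ∀ x ∈ h.l.grp S, x ∉ Q ⊓ C[t] → t * x * t⁻¹ = z * x := fun x hx n =>
      (h.l.fx' h.c hx.1 (hS _ hx.2)).resolve_left fun c => n ⟨hx.1, mem_cent1.2 c.symm⟩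
    rw [eq_comm, ← mul_inv_eq_iff_eq_mul, ← conj_mul, ← conj_inv, k x hx nx, k y hy ny]; group)⟩
theorem c11 : 2 ^ 11 ≤ #(Q ⊓ C[t] : Subgroup G) := by
  have := h.cK2 (S := (ρ t + AddMonoidHom.id V).ker) fun v hv => h.l.qs.eq_iff.1 hv
  have := h.cK; omega
theorem B4 (p : ¬ PP Q z t) : #(Q ⊓ Q' : Subgroup G) ≤ 4 := by
  by_cases k : ∀ c ∈ Q ⊓ Q', c = 1
  · rw [(eq_bot_iff_forall _).2 k, card_bot]; decide
  push Not at k
  obtain ⟨c, hc, c1⟩ := k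
  obtain ⟨v, e⟩ := h.perpB p hc
  have k : ∀ d ∈ Q ⊓ Q', d ∉ zpowers c → b v (π d) = 1 := fun d hd n =>
    let ⟨_, e'⟩ := h.perpB p hd
    h.F2 hc hd c1 (fun k => n (k ▸ one_mem _)) (fun k => n (k ▸ mem_zpowers _)) e e'
  have := idx2 (A := Q ⊓ Q') (B := zpowers c) fun x hx y hy nx ny => by_contra fun n => by
    have := k _ (mul_mem (inv_mem hx) hy) n
    rw [h.l.add _ (Q.inv_mem hx.1) _ hy.1, h.l.pinv hx.1, h.l.qs.badd', k x hx nx, k y hy ny] at this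
    exact absurd this (by decide)
  rwa [Nat.card_zpowers, orderOf_inv2 c1 (h.Bq hc)] at this
theorem B2' (p : PP Q z t) : #(Q ⊓ Q' : Subgroup G) ≤ 2 := by
  simpa using idx2 (A := Q ⊓ Q') (B := ⊥) fun x hx y hy nx ny => by
    simp [h.B2 p hx hy (by simpa using nx) (by simpa using ny)]

end Pr

/-- the facts on a commuting pair that are used -/
structure Fa (Q : Subgroup G) (z : G) (Q' : Subgroup G) (t : G) : Prop where
  c : Commute z t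
  tt : t * t = 1
  tQ : t ∉ Q
  r : LE Q' t
  d4 : #(Q' ⊓ Q : Subgroup G) ≤ 4
  a11 : 2 ^ 11 ≤ #(Q' ⊓ C[z] : Subgroup G)
  kk : ∃ K : Subgroup G, (∀ x ∈ Q', ⁅z, x⁆ ∈ zpowers t → x ∈ K) ∧ #K ≤ 2 * #(Q' ⊓ C[z] : Subgroup G) ∧
    (#(Q' ⊓ Q : Subgroup G) ≤ 2 ∨ #K ≤ #(Q' ⊓ C[z] : Subgroup G))
  pP : ∀ x ∈ Q, t * x * t⁻¹ = z * x → ∀ c ∈ Q' ⊓ Q, Commute x c → c = 1
  pp : ∀ x ∈ Q, (∀ k ∈ Q, ⁅t, k⁆ ∈ zpowers z → Commute k x) → ∃ y ∈ Q, x * ⁅t, y⁆ ∈ zpowers z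

theorem Pr.fa [Finite G] {D : Set G} {Q Q' : Subgroup G} {z t : G} {π π' : G → V} {ρ ρ' : G → V →+ V}
    (h : Pr D Q z π ρ Q' t π' ρ' q b) : Fa Q z Q' t := by
  refine ⟨h.c, h.tt, h.tQ, h.r.le, ?_, h.symm.c11, ⟨h.r.grp (ρ' z + AddMonoidHom.id V).ker, fun x hx e => ⟨hx, ?_⟩,
    h.symm.cK2 fun v hv => h.l.qs.eq_iff.1 hv, ?_⟩, fun x hx e c hc k => h.perpP (inv_mem hx) (h.PP_of hx e)
    ⟨hc.2, hc.1⟩ ((h.l.cm _ (inv_mem hx) _ hc.2).1 k.inv_left), fun x hx H => ?_⟩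
  · by_cases p : PP Q' t z
    exacts [(h.symm.B2' p).trans (by decide), h.symm.B4 p]
  · have := (h.r.ker _ (Q'.mul_mem (h.r.nm h.c.symm hx) (Q'.inv_mem hx))).2 (h.r.le.es.mem_zp.1 e)
    rwa [h.r.add _ (h.r.nm h.c.symm hx) _ (Q'.inv_mem hx), h.r.pinv hx, h.r.conj z h.c.symm x hx] at this
  · by_cases p : PP Q' t z
    exacts [.inl (h.symm.B2' p), .inr (h.symm.cK1 p)]
  obtain ⟨v, e⟩ := h.perp (m := π x) fun k hk => by
    obtain ⟨y, hy, rfl⟩ := h.l.surj k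
    refine (h.l.cm y hy x hx).1 (H y hy (h.l.le.es.mem_zp.2 ((h.l.fx' h.c hy hk).imp
      commutatorElement_eq_one_iff_commute.2 fun k => by rw [commutatorElement_def, k]; group)))
  obtain ⟨y, hy, rfl⟩ := h.l.surj v
  have m : t * y * t⁻¹ * y⁻¹ ∈ Q := Q.mul_mem (h.l.nm h.c hy) (Q.inv_mem hy)
  refine ⟨y, hy, h.l.le.es.mem_zp.2 ((h.l.ker _ (Q.mul_mem hx m)).1 ?_)⟩
  rw [h.l.add _ hx _ m, h.l.add _ (h.l.nm h.c hy) _ (Q.inv_mem hy), h.l.pinv hy, h.l.conj t h.c y hy, e, h.l.qs.two]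

theorem fa [Finite G] {Q : Subgroup G} {z g : G} (l : LE Q z) (hc : #Q = 2 ^ 23) (c : Commute z (g * z * g⁻¹))
    (n : ∀ w, IsConj z w → w ∈ Q → w ∉ cj g Q) :
    Fa Q z (cj g Q) (g * z * g⁻¹) ∧ Fa (cj g Q) (g * z * g⁻¹) Q z := by
  obtain ⟨V, _, π, ρ, q, b, m⟩ := exists_M l hc
  have p : Pr {x | IsConj z x} _ _ _ _ _ _ _ _ q b := ⟨m, m.J g, c, IsConj.refl z, isConj_iff.2 ⟨g, rfl⟩,
    fun g x hx => hx.trans (isConj_iff.2 ⟨g, rfl⟩), n⟩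
  exact ⟨p.fa, p.symm.fa⟩

end H23.Bb.Wc
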