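import Cfsg.Agent.H0.Bb.B
import Cfsg.Agent.H0.Bb.U5
import Cfsg.Agent.H15.Co1Inv

/-! Lattice lemmas: `2`-subgroups of `Co₂` fixing a nonsingular vector of the `2²²`; involutions of `Co₂`. -/

set_option autoImplicit false

namespace H23.Bb
open Cfsg H15 H19 H0 H0.Mo H0.M H0.Y H0.U H0.Bb MulAction
open scoped symmDiff

variable {K : Subgroup Co0} {u v : Lam} {g : Co0}

theorem two_le {T : Subgroup Co0} (hK : IsPGroup 2 K) (g : Co0) {n m : ℕ} (c : #T = 2 ^ n * m)
    (o : Nat.Coprime 2 m) : #(K ⊓ cj g T : Subgroup Co0) ≤ 2 ^ n := by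
  obtain ⟨k, e⟩ := IsPGroup.iff_card.1 (hK.to_inf_left (K := cj g T))
  have d := Subgroup.card_dvd_of_le (inf_le_right : K ⊓ cj g T ≤ _)
  rw [e, card_cj, c] at d
  rw [e]
  exact Nat.pow_le_pow_right two_pos ((Nat.pow_dvd_pow_iff_le_right one_lt_two).1
    ((o.pow_left k).dvd_of_dvd_mul_right d))

theorem mem_st {a b : Lam} {k : Co0} : k ∈ cj g (stabilizer Co0 a ⊓ stabilizer Co0 b) ↔
    k • g • a = g • a ∧ k • g • b = g • b := by
  simp [mem_cj, mul_smul, inv_smul_eq_iff]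

theorem pm {w : Lam} (k : Co0) (hv : dt v v = 48) (hw : dt w w = 48) (c : Cg (k • v) w) : k • v = w ∨ k • v = -w :=
  c.short (by rw [co_norm, ← dt_self]; omega) (by rw [← dt_self]; omega)

theorem stH (hK : IsPGroup 2 K) (hu : Nm u) (hv : dt v v = 48) (e : dt v u = -16)
    (H : ∀ k ∈ K, k • u = u ∧ Cu u (k • v) v) : #K ≤ 2 ^ 10 := by
  have n : dt (v + u) (v + u) = 48 := by simp [hu, hv, e, dt_comm u v]
  obtain ⟨g, rfl, rfl⟩ := std_VU' (dt_self.symm.trans hv) (x := u) ⟨hu.sq, e⟩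
  have s : ∀ k ∈ K, k ∉ K ⊓ cj g sHS → k • g • lV = -(g • lV + g • lU') := fun k hk m => by
    obtain ⟨a, b⟩ := H k hk
    have d := dt_smul (v := g • lV) (w := g • lU') k
    rw [a] at d
    rcases Cu.cases.1 b with c | c
    · rcases pm k hv hv c with c | c
      · exact absurd ⟨hk, mem_st.2 ⟨c, a⟩⟩ m
      · rw [c, neg_dt] at d; omega
    · refine (pm k hv n c).resolve_left fun c => ?_
      rw [c, add_dt, hu] at d; omega
  have i := H10.Y.idx2 (A := K) (B := K ⊓ cj g sHS) fun a ha b hb na nb => ⟨K.mul_mem (K.inv_mem ha) hb, mem_st.2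
    ⟨by rw [mul_smul, s b hb nb, ← s a ha na, inv_smul_smul], (H _ (K.mul_mem (K.inv_mem ha) hb)).1⟩⟩
  have := two_le (T := sHS) hK g (n := 9) (m := 86625) (by rw [card_sHS]; norm_num) (by norm_num)
  omega

theorem ty3 (h : ¬ 32 ∣ dt v v) : ∃ w, dt w w = 48 ∧ Cg v w := by
  obtain c | ⟨g, c | c | c⟩ := std v <;> have := c.norm <;> rw [← dt_self] at this
  · exact absurd (by simpa [sqNorm_zero] using this) h
  · rw [co_norm, norm_U] at this; omega
  · exact ⟨_, by rw [dt_smul, dt_self, norm_V], c⟩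
  · rw [co_norm, norm_e8] at this; omega

theorem stM (hK : IsPGroup 2 K) (hu : Nm u) (hv : dt v v = 48) (e : dt v u = 0)
    (H : ∀ k ∈ K, k • u = u ∧ Cu u (k • v) v) : #K ≤ 2 ^ 10 := by
  have n : dt (v + u) (v + u) = 80 := by simp [hu, hv, e, dt_comm u v]
  obtain ⟨w, hw, c⟩ := ty3 (v := v + u) (by omega)
  obtain ⟨y, hy⟩ := id c
  rw [two_nsmul, sub_eq_iff_eq_add] at hy
  have n' := n
  rw [hy] at n'
  simp only [dt_add, add_dt, dt_comm w y, hw] at n'
  have h1 : 32 ≤ dt y y := not_lt.1 fun k => by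
    rw [eq_zero k, show dt 0 0 = 0 by decide +kernel, show dt 0 w = 0 by simp [dt, cf, dotInt]] at n'; omega
  have h2 : 32 ≤ dt (y + w) (y + w) := not_lt.1 fun k => by
    obtain rfl := eq_neg_of_add_eq_zero_left (eq_zero k)
    simp [hw] at n'
  simp only [dt_add, add_dt, dt_comm w y, hw] at h2
  obtain ⟨g, e1, e2⟩ := std_VU (dt_self.symm.trans hw) (x := y) ⟨Nm.sq (by omega), show dt w y = _ by
    rw [dt_comm]; omega⟩
  have c' : Cg (w + u) v := (c.symm.add (.refl u)).trans ⟨u, by rw [two_nsmul]; abel⟩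
  have i := H10.Y.card_le_mul (A := K) (B := K ⊓ cj g sMcL) (fun k => (k • v, k • w))
    (S := ![(v, w), (v, -w), (-v, w), (-v, -w), (w, v), (w, -v), (-w, v), (-w, -v)] '' Set.univ) (Set.toFinite _)
    (fun k hk => ?_) fun a ha b hb q => ⟨K.mul_mem (K.inv_mem ha) hb, mem_st.2 ?_⟩
  · have := two_le (T := sMcL) hK g (n := 7) (m := 7016625) (by rw [card_sMcL]; norm_num) (by norm_num)
    have j := Set.ncard_image_le (f := ![(v, w), (v, -w), (-v, w), (-v, -w), (w, v), (w, -v), (-w, v), (-w, -v)])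
      (s := Set.univ)
    rw [Set.ncard_univ, Nat.card_fin] at j
    nlinarith
  · obtain ⟨a, b⟩ := H k hk
    have d : Cg (k • w) (k • v + u) := by simpa [co_add, a] using c.symm.smul k
    rw [Set.image_univ]
    rcases Cu.cases.1 b with b | b
    · rcases pm k hv hv b with p | p <;> rcases pm k hw hw ((d.trans (b.add (.refl u))).trans c) with q | q <;>
        simp [p, q]
    · rcases pm k hv hw (b.trans c) with p | p <;>
        rcases pm k hw hv ((d.trans ((b.trans c).add (.refl u))).trans c') with q | q <;> simp [p, q]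
  · obtain ⟨q1, q2⟩ := Prod.mk.inj q
    have r0 := (H _ (K.mul_mem (K.inv_mem ha) hb)).1
    have r1 := (mul_smul _ b v).trans (inv_smul_eq_iff.2 q1.symm)
    have r2 := (mul_smul _ b w).trans (inv_smul_eq_iff.2 q2.symm)
    rw [e1, e2]
    refine ⟨r2, ?_⟩
    generalize _⁻¹ * b = k at r0 r1 r2 ⊢
    have := congrArg (k • ·) hy
    simp only [co_add, r0, r1, r2] at this
    rw [hy, add_left_inj, ← two_nsmul, ← two_nsmul] at this
    exact (nsmul_right_injective two_ne_zero this).symm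

/-- a `2`-subgroup of `Co₂` fixing a nonsingular vector of the `2²²` -/
theorem st10 (hK : IsPGroup 2 K) (hu : Nm u) (e : 16 ∣ dt v u) (n : ¬ 32 ∣ dt v v)
    (H : ∀ k ∈ K, k • u = u ∧ Cu u (k • v) v) : #K ≤ 2 ^ 10 := by
  obtain ⟨w, hw, c⟩ := ty3 n
  have c' := Cu.of_cg (u := u) c
  replace H : ∀ k ∈ K, k • u = u ∧ Cu u (k • w) w := fun k hk =>
    ⟨(H k hk).1, ((c'.symm.smul' (H k hk).1).trans (H k hk).2).trans c'⟩
  have d := (Cu.of_cg (u := 0) c).dvd (x := u) (by simp [dt, cf, dotInt])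
  rw [dt_comm u, dt_comm u] at d
  have h1 : 32 ≤ dt (w + u) (w + u) := not_lt.1 fun k => by
    obtain rfl := eq_neg_of_add_eq_zero_left (eq_zero k)
    simp [hu] at hw
  have h2 : 32 ≤ dt (w - u) (w - u) := not_lt.1 fun k => by
    obtain rfl := sub_eq_zero.1 (eq_zero k)
    simp [hu] at hw
  simp only [dt_add, add_dt, dt_sub, sub_dt, dt_comm u w, hw, hu] at h1 h2
  rcases (by omega : dt w u = -16 ∨ dt w u = 0 ∨ dt w u = 16) with k | k | k
  · exact stH hK hu hw k H
  · exact stM hK hu hw k H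
  · exact stH (v := -w) hK hu (by simpa) (by simp [k]) fun k hk => ⟨(H k hk).1, by
      rw [co_neg]; exact ((Cu.neg _).trans (H k hk).2).trans (Cu.neg _).symm⟩

def a8 : Fin 8 → Lam := ![e8 (pt 0) 1, rt (pt 0) (pt 1) true true, rt (pt 0) (pt 2) true true,
  rt (pt 0) (pt 3) true true, rt (pt 0) (pt 5) true true, rt (pt 0) (pt 14) true true, rt (pt 0) (pt 17) true true, vB]

theorem sumO (F : GolayPt → ℤ) : ∑ i ∈ O0, F i = F (pt 0) + F (pt 1) + F (pt 2) + F (pt 3) + F (pt 5) + F (pt 14) +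
    F (pt 17) + F (pt 23) := by
  simp [sumS (m := 8536111) (l := [0, 1, 2, 3, 5, 14, 17, 23]) (by decide +kernel), add_assoc]

theorem fix8 (h : ∀ k, 16 ∣ dt v (a8 k)) : Cg (sgn hO • v + v) 0 := by
  have h0 : 16 ∣ 8 * cf v (pt 0) := by rw [← dot_e8, dotInt_comm]; exact h 0
  have h1 := h 1; have h2 := h 2; have h3 := h 3; have h4 := h 4; have h5 := h 5; have h6 := h 6
  have h7 : 16 ∣ 2 * ∑ i ∈ O0, cf v i := by
    convert h 7
    show _ = ∑ i, cf v i * cf vB i
    simp [cf_vB, mul_comm, Finset.mul_sum]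
  simp only [a8, Matrix.cons_val, dt_rt, H0.M.sg, if_true] at h1 h2 h3 h4 h5 h6
  have s := sumO (cf v)
  have r : ∀ i ∈ O0, cf v i % 4 = cf v (pt 0) % 4 := fun i hi => by
    rcases (by decide +kernel : ∀ i ∈ O0, i = pt 0 ∨ i = pt 1 ∨ i = pt 2 ∨ i = pt 3 ∨ i = pt 5 ∨ i = pt 14 ∨ i = pt 17 ∨
      i = pt 23) i hi with e | e | e | e | e | e | e | e <;> rw [e] <;> omega
  let e : Lam := ⟨fun i => if i ∈ O0 then cf v i else 0, mem_leech.2 ⟨0, if cf v (pt 0) % 4 = 0 then ∅ else O0,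
    .inl rfl, by split_ifs; exacts [cw_empty, hO], fun i => by
      by_cases k : i ∈ O0
      · have := r i k
        split_ifs <;> simp_all; omega
      · split_ifs <;> simp_all, by
      rw [← Finset.sum_filter, Finset.filter_univ_mem]; omega⟩⟩
  refine ⟨v - e, Subtype.ext (funext fun i => ?_)⟩
  show cf (sgn hO • v) i + cf v i - 0 = 2 • (cf v i - if i ∈ O0 then cf v i else 0)
  rw [cf_sgn]; split_ifs <;> simp [two_mul]

/-- the commutator space has at most `2⁸` elements -/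
def Oc8 (g : Co0) : Prop := ∃ φ : Lam → Fin 8 → ZMod 2, ∀ v w, φ v = φ w → Cg (g • (v + w) + (v + w)) 0

theorem oc8 : Oc8 (sgn hO) := ⟨fun v k => (dt v (a8 k) / 8 : ℤ), fun v w e => fix8 fun k => by
  have := (ZMod.intCast_eq_intCast_iff_dvd_sub _ _ 2).1 (congrFun e k)
  have := dt8 v (a8 k); have := dt8 w (a8 k)
  rw [add_dt]; omega⟩

theorem Oc8.cj (h : Oc8 g) (m : Co0) : Oc8 (m * g * m⁻¹) :=
  let ⟨φ, h⟩ := h
  ⟨fun v => φ (m⁻¹ • v), fun v w e => by simpa [co_add, co_zero, mul_smul] using (h _ _ e).smul m⟩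

theorem Oc8.neg (h : Oc8 g) : Oc8 (coN * g) :=
  let ⟨φ, h⟩ := h
  ⟨φ, fun v w e => by rw [mul_smul, coN_smul]; exact ((Cg.neg _).add (.refl _)).trans (h _ _ e)⟩

/-- the dodecad type -/
def Dd (g : Co0) (u : Lam) : Prop := (∃ x, 16 ∣ dt x u ∧ ¬ 32 ∣ dt (g • x + x) (g • x + x)) ∧
  ∀ v, Cg (g • v + v) 0 → 16 ∣ dt v u

theorem Dd.cj (m : Co0) (h : Dd g (m⁻¹ • u)) : Dd (m * g * m⁻¹) u := by
  obtain ⟨⟨x, a, b⟩, h⟩ := h
  refine ⟨⟨m • x, by rwa [← dt_smul m, smul_inv_smul] at a, ?_⟩, fun v c => ?_⟩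
  · rwa [mul_smul, inv_smul_smul, mul_smul, ← co_add, dt_smul]
  · rw [← dt_smul m⁻¹]
    exact h _ (by simpa [co_add, co_zero, mul_smul] using c.smul m⁻¹)

theorem dd {c : Finset GolayPt} (hc : c ∈ dodecads) (hu : Nm u) (e : sgn hc.1 • u = u) : Dd (sgn hc.1) u := by
  have n : cᶜ.card = 12 := by rw [Finset.card_compl, card_pt, hc.2]
  have z : ∀ i ∈ c, cf u i = 0 := fun i hi => by
    have := (cf_sgn hc.1 u i).symm.trans (congrArg (cf · i) e)
    simp only [hi, if_true] at this; omega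
  refine ⟨?_, fun v h => ?_⟩
  · obtain ⟨x, a, b⟩ := exists_odd (u := u) (v := lE) fun k => (Cu.cases.1 k).elim (nz_of (norm_e8 _) (by norm_num))
      fun k => cg_64 nE hu (by simpa using k)
    rw [dt_comm, show dt lE x = _ from dot_e8 _ _] at b
    obtain ⟨m, D, l⟩ := mem_leech.1 x.2
    have p := l.res (pt 23)
    have := l.par
    obtain rfl : m = 1 := by simp only [cf] at *; split_ifs at p <;> omega
    refine ⟨x, a, fun k => ?_⟩
    have d := dvd_sum_sub Finset.univ (fun i => cf (sgn hc.1 • x + x) i ^ 2) (fun i => if i ∈ cᶜ then 4 else 0) 32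
      fun i _ => by
        have r : cf x i % 4 = _ := l.res i
        obtain ⟨q, e⟩ : ∃ q, cf x i = 2 * q + 1 := ⟨cf x i / 2, by split_ifs at r <;> omega⟩
        obtain ⟨t, ht⟩ := Int.even_mul_succ_self q
        simp only [cf_add, Pi.add_apply, cf_sgn, Finset.mem_compl, e]
        split_ifs
        exacts [by simp, ⟨t, by linear_combination 16 * ht⟩]
    rw [sum_ind, n] at d
    rw [dt_self, sqNorm] at k
    omega
  have p := pc_dod hc h (by simp [cf])
  rcases min_shape u.2 hu.sq with ⟨i, j, a, b, n, ha, hb, k⟩ | ⟨o, ho, s, -, -, k⟩ | ⟨d, -, i, k⟩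
  · have k : cf u = pr i j a b := k
    have hi : i ∉ c := fun m => by have := z i m; simp [k, pr, n] at this; omega
    have hj : j ∉ c := fun m => by have := z j m; simp [k, pr, n.symm] at this; omega
    have := p i j (by simp [hi, hj])
    have := p i i .rfl
    rw [dt, k, pr, dotInt_add_right, dotInt_single_right, dotInt_single_right]
    rcases ha with rfl | rfl <;> rcases hb with rfl | rfl <;> omega
  · have k : cf u = oc o s := k
    rcases sub_cw ho.1 (cw_compl hc.1) (fun i hi => Finset.mem_compl.2 fun m => by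
      have := z i m
      simp only [k, oc, hi, if_true] at this
      split_ifs at this <;> omega) n.le with t | t <;> have := ho.2 <;> simp [t, n] at this
  · have k : cf u = od d i := k
    obtain ⟨j, hj⟩ := Finset.card_pos.1 (hc.2 ▸ by norm_num : 0 < c.card)
    have := z j hj
    simp only [k, od] at this
    split_ifs at this <;> omega

theorem typ (hu : Nm u) (e : g • u = u) (g2 : g * g = 1) (g1 : g ≠ 1) : Oc8 g ∨ Dd g u := by
  have cN := Subgroup.mem_center_iff.1 coN_mem_center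
  have tw {b : Co0} (k : IsConj (pc1 b) (pc1 g)) : ∃ m : Co0, g = m * b * m⁻¹ ∨ g = m * (coN * b) * m⁻¹ := by
    obtain ⟨m, k⟩ := isConj_iff.1 k
    obtain ⟨m, rfl⟩ := pc1_surj m
    rw [← map_inv, ← map_mul, ← map_mul, eq_comm, pc1_eq] at k
    exact ⟨m, k.imp_right fun k => by rw [k, ← mul_assoc, ← mul_assoc, ← mul_assoc, cN]⟩
  rcases Co1I.inv (pc1 g) (by rw [pow_two, ← map_mul, g2, map_one]) with k | k | k | k
  · rcases (pc1_eq (b := 1)).1 (k.trans (map_one _).symm) with rfl | rfl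
    · exact absurd rfl g1
    · rw [mul_one, coN_smul] at e
      have := congrArg (dt u) e
      rw [dt_neg, hu] at this; omega
  · obtain ⟨m, rfl | rfl⟩ := tw ((isConj_of Co1I.tO).trans k) <;> rw [mo_eq (one_mem _) hO]
    exacts [.inl (oc8.cj m), .inl (oc8.neg.cj m)]
  · have h7 : Co1I.h 7 * Co1I.h 7 = coN := by
      simpa [Co1I.h1] using eqV_sound Co1I.ml Co1I.k4.2.2.2.2.2.2.2.2.2.2
    refine absurd ?_ coN_ne_one
    obtain ⟨m, rfl | rfl⟩ := tw k <;> rw [conj_mul, conj_eq_one_iff] at g2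
    · exact h7.symm.trans g2
    · rwa [mul_assoc, ← mul_assoc _ coN, cN, mul_assoc, ← mul_assoc, coN_mul_self, one_mul, h7] at g2
  · have f {c} (hc : c ∈ dodecads) (m : Co0) (e : (m * sgn hc.1 * m⁻¹) • u = u) : Dd (m * sgn hc.1 * m⁻¹) u :=
      (dd hc ((dt_smul _).trans hu) (by rwa [mul_smul, mul_smul, ← eq_inv_smul_iff] at e)).cj m
    obtain ⟨m, rfl | rfl⟩ := tw (Co1I.h3 ▸ k) <;> rw [mo_eq (one_mem _) D0_mem.1] at e ⊢
    · exact .inr (f D0_mem m e)
    · have : coN * mono (one_mem _) D0_mem.1 = sgn (cw_compl D0_mem.1) :=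
        (sgn_mul cw_univ D0_mem.1).trans (by congr 1)
      rw [this] at e ⊢
      exact .inr (f ⟨cw_compl D0_mem.1, by decide +kernel⟩ m e)

end H23.Bb
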