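import Cfsg.Agent.H23.BbA
import Cfsg.Agent.H23.BbB

/-! Groups of Baby Monster type: commuting conjugates of `z` have a common neighbour; control of fusion. -/

set_option autoImplicit false

namespace H23.Bb
open Cfsg H15 H19 H0 H0.Mo H0.M H0.Y H0.U H0.Bb Subgroup Wc
open scoped commutatorElement

universe u
variable {G : Type u} [Group G] [Finite G] {Q Q' : Subgroup G} {z t x y p s : G} {u : Lam} {f : C[z] →* Co0}
  {R : G → Lam → Prop} (M : BT Q z u f R) (F : Fa Q z Q' t) {v w : Lam} {g : Co0}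
include M

theorem cnt (a : Ac f t g) (o : Oc8 g) {K : Subgroup G} (hK : ∀ x ∈ Q, ⁅t, x⁆ ∈ zpowers z → x ∈ K) : 2 ^ 15 ≤ #K := by
  obtain ⟨φ, o⟩ := o
  choose! v r using M.tot
  have := H10.Y.card_le_mul' (A := Q) (B := K) (fun x => φ (v x)) fun x hx y hy e =>
    hK _ (mul_mem (inv_mem hx) hy) ((M.rk (M.comm a (M.mul (M.inv (r x hx)) (r y hy)))).2 (.of_cg (o _ _ e)))
  rw [M.card, Nat.card_fun, Nat.card_zmod, Nat.card_fin] at this
  omega

include F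

omit [Finite G] in
theorem cmD (hy : y ∈ Q' ⊓ C[z]) (hp : p ∈ Q) (c : Commute t p) : ⁅y, p⁆ ∈ Q' ⊓ Q :=
  ⟨by simpa [commutatorElement_def, mul_assoc] using
      Q'.mul_mem hy.1 (conj_mem_of_norm (F.r.norm (mem_cent1.2 c.symm)) (Q'.inv_mem hy.1)),
    Q.mul_mem (conj_mem_of_norm (M.le.norm hy.2) hp) (Q.inv_mem hp)⟩

/-- the bound given by an element of order four -/
theorem bd (hp : p ∈ Q) (c : Commute t p) (n : p * p ≠ 1) {d : ℕ} (hd : #(Q' ⊓ Q : Subgroup G) ≤ d) :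
    #(Q' ⊓ C[z] : Subgroup G) ≤ d * (2 ^ 10 * d) := by
  have s1 : #(Q' ⊓ C[z] : Subgroup G) ≤ #(Q' ⊓ Q : Subgroup G) * #(Q' ⊓ C[z] ⊓ C[p] : Subgroup G) :=
    H10.Y.card_le_mul (⁅·, p⁆) (S := (Q' ⊓ Q : Subgroup G)) (Set.toFinite _) (fun y hy => cmD M F hy hp c)
      fun a ha b hb e => ⟨Subgroup.mul_mem _ (Subgroup.inv_mem _ ha) hb, mem_cent1.2 (by
        simp only [commutatorElement_def, mul_left_inj] at e
        calc _ = a⁻¹ * (b * p * b⁻¹) * b := by group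
          _ = _ := by rw [← e]; group)⟩
  obtain ⟨v, r⟩ := M.tot p hp
  set B := Q' ⊓ C[z] ⊓ C[p]
  have s2 := st10 (K := Bb.im f B) (fun ⟨k, hk⟩ => ⟨2, Subtype.ext (by
    obtain ⟨y, k1, k2⟩ := Bb.mem_im.1 hk
    have := k2.pow 4
    rw [F.r.es.pow4 k1.1.1] at this
    exact this.eq .one)⟩) M.nu (M.prp r) (mt (M.sq r).2 n) fun k hk =>
      let ⟨_, m, a⟩ := Bb.mem_im.1 hk
      ⟨M.afix a, M.fixc a r m.2⟩
  have s3 := M.card_im (X := B) fun _ h => h.1.2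
  have s4 : #(B ⊓ Q : Subgroup G) ≤ d := (card_le (inf_le_inf_right Q (inf_le_left.trans inf_le_left))).trans hd
  exact s1.trans (Nat.mul_le_mul hd (s3 ▸ Nat.mul_le_mul s2 s4))

theorem noD (a : Ac f t g) (d : Dd g u) : False := by
  have E := M.es
  obtain ⟨⟨v0, d0, d1⟩, d⟩ := d
  have g2 : g * g = 1 := (F.tt ▸ a.mul a).eq .one
  have gg (v : Lam) : g • g • v = v := by rw [← mul_smul, g2, one_smul]
  have ad (v w : Lam) : dt (g • v) w = dt v (g • w) := by rw [← dt_smul g, gg]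
  have gu := M.afix a
  obtain ⟨x, rx⟩ := M.sur v0 d0
  have m := M.comm a rx
  have m2 := (E.sq _ (M.mem m)).resolve_left fun e => d1 ((M.sq m).1 e)
  have ti := inv_eq_of_mul_eq_one_right F.tt
  have tm : t * ⁅t, x⁆ * t⁻¹ = z * ⁅t, x⁆ := by
    rw [eq_inv_of_mul_eq_one_left (show z * ⁅t, x⁆ * ⁅t, x⁆ = 1 by rw [mul_assoc, m2, E.zz]), commutatorElement_inv]
    simp only [commutatorElement_def, ti, ← mul_assoc, F.tt, one_mul]
  have D : ∀ c ∈ Q' ⊓ Q, c = 1 := fun c hc => F.pP _ (M.mem m) tm c hc (by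
      have c1 : Commute c t := F.r.es.cent c hc.1
      have : c * ⁅t, x⁆ * c⁻¹ = ⁅t, c * x * c⁻¹⁆ := by rw [conjugate_commutatorElement, c1.eq, mul_inv_cancel_right]
      refine (mul_inv_eq_iff_eq_mul.1 (this.trans ?_)).symm
      by_cases e : c * x = x * c
      · rw [e, mul_inv_cancel_right]
      rw [E.conj_eq hc.2 (M.mem rx) e]
      calc _ = t * x * (z * t⁻¹ * z⁻¹) * x⁻¹ := by rw [commutatorElement_def]; group
        _ = _ := by rw [F.c.inv_right.eq, mul_inv_cancel_right, commutatorElement_def])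
  have cm : ∀ k ∈ Q, ⁅t, k⁆ ∈ zpowers z → Commute k ⁅t, x⁆ := fun k hk e => by
    obtain ⟨w, r⟩ := M.tot k hk
    have := ((M.rk (M.comm a r)).1 e).dvd d0
    rw [show dt v0 0 = 0 by simp [dt, cf, dotInt], dt_add, ← ad] at this
    exact (M.comm_iff r m).2 (by rw [dt_add, dt_comm w, dt_comm w]; omega)
  have fx : ∀ k ∈ Q, ⁅t, k⁆ ∈ zpowers z → ∃ k' ∈ Q, Commute t k' ∧ (k = k' ∨ k = k' * ⁅t, x⁆⁻¹) := fun k hk e => by
    rcases E.mem_zp.1 e with e | e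
    · exact ⟨k, hk, comm_eq_one.1 e, .inl rfl⟩
    refine ⟨k * ⁅t, x⁆, mul_mem hk (M.mem m), mul_inv_eq_iff_eq_mul.1 ?_, .inr (mul_inv_cancel_right _ _).symm⟩
    rw [← conj_mul, tm, mul_inv_eq_iff_eq_mul.1 e, mul_assoc, ← mul_assoc k, E.cent k hk, ← mul_assoc, ← mul_assoc,
      E.zz, one_mul]
  obtain ⟨x1, n1⟩ := odd0 (nz_of M.nu.sq (by norm_num))
  have := dt8 x1 u
  obtain ⟨b, rb⟩ := M.sur (g • x1 + x1) (by rw [add_dt, ad, gu]; omega)
  have tb : ⁅t, b⁆ ∈ zpowers z := (M.rk (M.comm a rb)).2 (by rw [co_add, gg, add_comm x1]; exact .two _)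
  obtain ⟨k, hk, tk, nk⟩ : ∃ k ∈ Q, ⁅t, k⁆ ∈ zpowers z ∧ ¬ Commute k b := by
    by_contra! H
    obtain ⟨y, hy, e⟩ := F.pp b (M.mem rb) H
    obtain ⟨w, r⟩ := M.tot y hy
    have c := (M.rk (M.mul rb (M.comm a r))).1 e
    rw [add_add_add_comm, ← co_add] at c
    have := M.prp r
    have : 16 ∣ dt (x1 + w) u := (Cu.cases.1 c).elim (d _) fun c => by
      generalize x1 + w = s at c
      have h1 := c.norm
      have h2 := (Cu.of_cg (u := 0) c).dvd (x := s) (by simp [dt, cf, dotInt])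
      have := dt16 s
      rw [← dt_self, ← dt_self, zero_add, M.nu] at h1
      simp only [zero_add, dt_add, add_dt, dt_smul, dt_comm (g • s) s] at h1 h2
      omega
    rw [add_dt] at this; omega
  obtain ⟨k', hk', c1, e1⟩ := fx k hk tk
  obtain ⟨b', hb', c2, e2⟩ := fx b (M.mem rb) tb
  have z1 {k} (c : Commute t k) : ⁅t, k⁆ ∈ zpowers z := by rw [c.commutator_eq]; exact one_mem _
  have nc : ¬ Commute k' b' := fun c => nk (by
    have p1 := (cm k' hk' (z1 c1)).inv_right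
    have p2 := (cm b' hb' (z1 c2)).inv_right
    rcases e1 with rfl | rfl <;> rcases e2 with rfl | rfl
    exacts [c, c.mul_right p1, c.mul_left p2.symm, (c.mul_right p1).mul_left (p2.symm.mul_right (.refl _))])
  obtain ⟨p, hp, c, n⟩ : ∃ p ∈ Q, Commute t p ∧ p * p ≠ 1 := by
    by_contra! H
    refine nc ?_
    have := H _ (mul_mem hk' hb') (c1.mul_right c2)
    rw [Commute, SemiconjBy, ← inv_eq_of_mul_eq_one_right this, mul_inv_rev, inv_eq_of_mul_eq_one_right (H _ hk' c1),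
      inv_eq_of_mul_eq_one_right (H _ hb' c2)]
  have := bd M F hp c n (d := 1) (by rw [(eq_bot_iff_forall _).2 D, card_bot])
  have := F.a11
  omega

theorem oc : ∃ g, Ac f t g ∧ Oc8 g := by
  obtain ⟨g, a⟩ := Ac.tot (f := f) (mem_cent1.2 F.c.symm)
  exact ⟨g, a, (typ M.nu (M.afix a) ((F.tt ▸ a.mul a).eq .one) (mt (M.aker a).2 F.tQ)).resolve_right (noD M F a)⟩

omit F

/-- commuting conjugates of `z` have a common neighbour -/
theorem near {g : G} (c : Commute z (g * z * g⁻¹)) (_n : g * z * g⁻¹ ∉ Q) : ∃ w ∈ Q ⊓ cj g Q, IsConj z w := by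
  by_contra! H
  obtain ⟨F, F'⟩ := fa M.le M.card c fun w a b d => H w ⟨b, d⟩ a
  obtain ⟨f', M', -⟩ := M.cjB g
  obtain ⟨_, a, o⟩ := oc M F
  obtain ⟨_, a', o'⟩ := oc M' F'
  obtain ⟨K, k1, k2, k3⟩ := F.kk
  obtain ⟨K', k1', k2', -⟩ := F'.kk
  have h := cnt M a o k1'
  have h' := cnt M' a' o' k1
  obtain ⟨p, hp, n⟩ : ∃ p ∈ Q ⊓ C[g * z * g⁻¹], p * p ≠ 1 := by
    by_contra! H
    have := M.es.card_le_of_not (M.es.not_hasEA (m := 11) M.card) inf_le_left (abelem2_iff.2 H)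
    omega
  have b := fun d => bd M F hp.1 (mem_cent1.1 hp.2).symm n (d := d)
  have := b 4 F.d4
  rcases k3 with e | e
  · have := b 2 e; omega
  · omega

variable {H : Subgroup G} (hs : s ∈ Q) (h1 : IsConj z s) (h2 : s ≠ z) (l : C[z] ≤ H) (k : ∃ h ∈ H, h * z * h⁻¹ = s)
include hs h1 h2 l k

theorem inQ (hx : x ∈ Q) (c : IsConj z x) : ∃ h ∈ H, h * z * h⁻¹ = x := by
  by_cases e : x = z
  · exact ⟨1, one_mem _, by simp [e]⟩
  obtain ⟨_, L⟩ := M.lp hs h1 h2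
  obtain ⟨a, ha, rfl⟩ := M.conjZ (M.typZ L) ((M.conj_iff L hx).1 ⟨c, e⟩)
  obtain ⟨h, hh, rfl⟩ := k
  exact ⟨a * h, mul_mem (l ha) hh, by group⟩

/-- an overgroup of `C(z)` fusing `z` to `s` controls the fusion of `z` -/
theorem fusB (g : G) (hg : g * z * g⁻¹ ∈ H) : ∃ h ∈ H, h * z * h⁻¹ = g * z * g⁻¹ := by
  obtain ⟨T, hT⟩ := exists_syl 2 C[z]
  obtain ⟨a, ha, e⟩ := ((M.le.syl_top hT).of_le (hT.le.trans l) le_top).scj_le (zpowers_le.2 hg)
    (pg_zpowers (by rw [conj_mul, M.es.zz]; simp))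
  have c : a * g * z * (a * g)⁻¹ ∈ C[z] := by
    simpa [mul_assoc] using hT.le (e (conj_mem_cj.2 (mem_zpowers _)))
  have i := fun x hx => inQ M hs h1 h2 l k (x := x * z * x⁻¹) hx (isConj_iff.2 ⟨x, rfl⟩)
  by_cases n : a * g * z * (a * g)⁻¹ ∈ Q
  · obtain ⟨h, hh, e⟩ := i _ n
    exact ⟨a⁻¹ * h, mul_mem (inv_mem ha) hh, by rw [mul_inv_rev, mul_assoc a⁻¹, mul_assoc a⁻¹, ← mul_assoc (h * z), e]; group⟩
  obtain ⟨w, hw, cw⟩ := near M (mem_cent1.1 c).symm n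
  obtain ⟨h, hh, rfl⟩ := inQ M hs h1 h2 l k hw.1 cw
  have := mem_cj.1 (M.le.symm (g := (a * g)⁻¹ * h) (by simpa [mul_assoc] using mem_cj.1 hw.2))
  obtain ⟨h', hh', e⟩ := i (h⁻¹ * (a * g)) (by simpa [mul_assoc] using this)
  refine ⟨a⁻¹ * h * h', mul_mem (mul_mem (inv_mem ha) hh) hh', ?_⟩
  calc _ = a⁻¹ * h * (h' * z * h'⁻¹) * (a⁻¹ * h)⁻¹ := by group
    _ = _ := by rw [e]; group

end H23.Bb
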