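import Cfsg.Agent.H23.BbC
import Cfsg.Agent.S2901

/-! A simple group of Baby Monster type containing a suitable copy of the Baby Monster is the Baby Monster. -/

set_option autoImplicit false

namespace H23.Bb
open Cfsg H15 H19 H0 H0.Mo H0.Bb Subgroup Function

universe u
variable {G : Type u} [Group G] [Finite G] {Q : Subgroup G} {z s : G} {u : Lam} {f : C[z] →* Co0}
  {R : G → Lam → Prop}

theorem holt [IsSimpleGroup G] (hG : ¬ IsMulCommutative G) (M : BT Q z u f R) {B : Type*} [Group B] (hB : IsB B)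
    (ψ : B →* G) (i : Injective ψ) (hs : s ∈ Q) (h1 : IsConj z s) (h2 : s ≠ z) (l : C[z] ≤ ψ.range)
    (k : ∃ h ∈ ψ.range, h * z * h⁻¹ = s) : Nonempty (G ≃* B) := by
  have := hB.1
  let ε := (MonoidHom.ofInjective i).symm
  have c := (Nat.card_congr ε.toEquiv).trans hB.2
  suffices ψ.range = ⊤ from ⟨(MulEquiv.ofBijective ψ ⟨i, MonoidHom.range_eq_top.1 this⟩).symm⟩
  by_contra n
  have := Fact.mk Nat.prime_two
  obtain ⟨T, hT⟩ := exists_syl 2 C[z]
  rcases Agent.S2901.result hG _ n z (l (mem_cent1.2 rfl)) ⟨M.es.ord, by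
      obtain ⟨S, rfl⟩ := (M.le.syl_top hT).exists_sylow_top
      exact ⟨S, M.le.le_syl hT M.es.zQ, fun x hx => mem_cent1.1 (hT.le hx)⟩⟩ l (fusB M hs h1 h2 l k)
    with ⟨-, S, k⟩ | ⟨n, hn, -, ⟨k⟩⟩
  · have := ε.isSimpleGroup
    have nm : (S.1.subgroupOf ψ.range).Normal := normal_subgroupOf_of_le_normalizer k.le
    have l' : S.1 ≤ ψ.range := k ▸ le_normalizer
    rcases nm.eq_bot_or_eq_top with t | t
    · have := S.not_dvd_index
      rw [subgroupOf_eq_bot, disjoint_iff, inf_eq_left.2 l'] at t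
      rw [t, index_bot] at this
      exact this ((by rw [c]; norm_num : 2 ∣ _).trans (card_subgroup_dvd_card ψ.range))
    · obtain ⟨m, t⟩ := IsPGroup.iff_card.1 (S.2.to_le (subgroupOf_eq_top.1 t))
      exact absurd (Nat.prime_three.dvd_of_dvd_pow (m := 2) (n := m) (by rw [← t, c]; norm_num)) (by norm_num)
  · have := Fin.nontrivial_iff_two_le.2 (show 2 ≤ n - 1 by omega)
    have d := two_mul_nat_card_alternatingGroup (α := Fin (n - 1))
    rw [← Nat.card_congr k.toEquiv, Nat.card_perm, Nat.card_fin, c] at d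
    have := (Nat.Prime.dvd_factorial (p := 47) (n := n - 1) (by norm_num)).1 (by rw [← d]; norm_num)
    exact absurd (d ▸ (Nat.Prime.dvd_factorial (p := 43) (n := n - 1) (by norm_num)).2 (by omega)) (by norm_num)

/-- the form with the presented Baby Monster; `hB` is `Agent.S1704.result` -/
theorem holtB [IsSimpleGroup G] (hB : IsB Spor.BabyMonster) (hG : ¬ IsMulCommutative G) (M : BT Q z u f R)
    (ψ : Spor.BabyMonster →* G) (i : Injective ψ) (hs : s ∈ Q) (h1 : IsConj z s) (h2 : s ≠ z) (l : C[z] ≤ ψ.range)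
    (k : ∃ h ∈ ψ.range, h * z * h⁻¹ = s) : Spor.IsoB G := holt hG M hB ψ i hs h1 h2 l k

end H23.Bb
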