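import Cfsg.Agent.H18.CL0
set_option autoImplicit false
/-! S5242, chunk EXT: the central extension defined by stable elements. -/
namespace H23.CL
open Subgroup
open scoped IsMulCommutative

universe u v

section ext
variable {S : Type u} [Group S] {H : Type v} [Group H] (π : S →* H)

abbrev XX := H ⧸ π.range

theorem exists_dt : ∃ (d : XX π → H) (t : XX π → S),
    (∀ x, ((π (t x) * d x : H) : XX π) = x) ∧ ∀ (s : S) (x : XX π), d (π s • x) = d x := by
  classical
  let o : XX π → XX π := fun x => (Quotient.mk (MulAction.orbitRel π.range (XX π)) x).out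
  have ho : ∀ x, ∃ t : S, π t • o x = x := by
    intro x
    have h1 : (MulAction.orbitRel π.range (XX π)) x (o x) := by
      have := Quotient.mk_out (s := MulAction.orbitRel π.range (XX π)) x
      exact (MulAction.orbitRel π.range (XX π)).symm this
    rw [MulAction.orbitRel_apply] at h1
    obtain ⟨⟨g, s, rfl⟩, hg⟩ := h1
    exact ⟨s, hg⟩
  choose t ht using ho
  refine ⟨fun x => (o x).out, t, fun x => ?_, fun s x => ?_⟩
  · have : ((π (t x) * (o x).out : H) : XX π) = π (t x) • (((o x).out : H) : XX π) := rfl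
    rw [this, QuotientGroup.out_eq', ht]
  · have : Quotient.mk (MulAction.orbitRel π.range (XX π)) (π s • x) =
        Quotient.mk (MulAction.orbitRel π.range (XX π)) x := by
      apply Quotient.sound
      change (MulAction.orbitRel π.range (XX π)) _ _
      rw [MulAction.orbitRel_apply]
      exact ⟨⟨π s, s, rfl⟩, rfl⟩
    simp only [o, this]

abbrev Wr := (XX π → S) ⋊[(mulAutArrow : H →* MulAut (XX π → S))] H

theorem mul_left' (a b : Wr π) (x : XX π) : (a * b).left x = a.left x * b.left (a.right⁻¹ • x) := rfl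

theorem inv_left' (a : Wr π) (x : XX π) : (a⁻¹).left x = (a.left (a.right • x))⁻¹ := by
  have : (a⁻¹).left x = (a.left ((a.right⁻¹)⁻¹ • x))⁻¹ := rfl
  rw [this, inv_inv]

/-- the pull-back group -/
def WW (r : XX π → H) : Subgroup (Wr π) where
  carrier := {w | ∀ x, π (w.left x) = (r x)⁻¹ * w.right * r (w.right⁻¹ • x)}
  one_mem' := fun x => by simp
  mul_mem' := fun {a b} ha hb x => by
    rw [mul_left', map_mul, ha, hb, SemidirectProduct.mul_right, mul_inv_rev, mul_smul]; group
  inv_mem' := fun {a} ha x => by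
    rw [inv_left', map_inv, ha, SemidirectProduct.inv_right, inv_inv, inv_smul_smul]; group

variable {π}

theorem mem_WW {r : XX π → H} {w : Wr π} :
    w ∈ WW π r ↔ ∀ x, π (w.left x) = (r x)⁻¹ * w.right * r (w.right⁻¹ • x) := Iff.rfl

theorem coc_mem {r : XX π → H} (hr : ∀ x, (r x : XX π) = x) (g : H) (x : XX π) :
    (r x)⁻¹ * g * r (g⁻¹ • x) ∈ π.range := by
  rw [mul_assoc, ← QuotientGroup.eq, hr]
  have : ((g * r (g⁻¹ • x) : H) : XX π) = g • ((r (g⁻¹ • x) : H) : XX π) := rfl
  rw [this, hr, smul_inv_smul]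

theorem left_ker {r : XX π → H} (w : WW π r) (h : w.1.right = 1) (x : XX π) : w.1.left x ∈ π.ker := by
  rw [MonoidHom.mem_ker, w.2 x, h]; simp

open Classical in
/-- central part -/
noncomputable def cz (s : S) : center S := if h : s ∈ center S then ⟨s, h⟩ else 1

theorem cz_of {s : S} (h : s ∈ center S) : cz s = ⟨s, h⟩ := by simp [cz, h]

theorem cz_mul {s t : S} (hs : s ∈ center S) (ht : t ∈ center S) : cz (s * t) = cz s * cz t := by
  rw [cz_of hs, cz_of ht, cz_of (mul_mem hs ht)]; rfl

/-- norm -/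
noncomputable def PP [Finite H] (e : XX π → S) : center S := ∏ᶠ x, cz (e x)

theorem PP_mul [Finite H] {e e' : XX π → S} (h : ∀ x, e x ∈ center S) (h' : ∀ x, e' x ∈ center S) :
    PP (fun x => e x * e' x) = PP e * PP e' := by
  unfold PP
  rw [← finprod_mul_distrib (Set.toFinite _) (Set.toFinite _)]
  exact finprod_congr fun x => cz_mul (h x) (h' x)

theorem PP_smul [Finite H] (e : XX π → S) (g : H) : PP (fun x => e (g • x)) = PP e :=
  finprod_comp_equiv (f := fun x => cz (e x)) (MulAction.toPerm g)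

theorem PP_const [Finite H] {a : S} (ha : a ∈ center S) :
    (PP (fun _ : XX π => a) : S) = a ^ π.range.index := by
  classical
  have := Fintype.ofFinite (XX π)
  unfold PP
  rw [finprod_eq_prod_of_fintype, Finset.prod_const, cz_of ha, Finset.card_univ, Subgroup.index,
    Nat.card_eq_fintype_card]
  rfl

theorem PP_ker [Finite H] (hz : π.ker ≤ center S) {e : XX π → S} (h : ∀ x, e x ∈ π.ker) : (PP e : S) ∈ π.ker := by
  have : PP e ∈ π.ker.subgroupOf (center S) := by
    unfold PP
    refine finprod_induction (fun y => y ∈ π.ker.subgroupOf (center S)) (one_mem _)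
      (fun _ _ h1 h2 => mul_mem h1 h2) fun x => ?_
    rw [mem_subgroupOf, cz_of (hz (h x))]; exact h x
  exact this

/-- the kernel of the norm -/
def A0 [Finite H] (hz : π.ker ≤ center S) (r : XX π → H) : Subgroup (WW π r) where
  carrier := {w | w.1.right = 1 ∧ PP w.1.left = 1}
  one_mem' := ⟨rfl, by
    apply Subtype.ext
    have := PP_const (π := π) (one_mem (center S))
    rw [one_pow] at this; exact this⟩
  mul_mem' := fun {a b} ha hb => ⟨by simp [ha.1, hb.1], by
    have : (a * b).1.left = fun x => a.1.left x * b.1.left x := by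
      funext x; rw [coe_mul, mul_left', ha.1, inv_one, one_smul]
    rw [this, PP_mul (fun x => hz (left_ker a ha.1 x)) (fun x => hz (left_ker b hb.1 x)), ha.2, hb.2, mul_one]⟩
  inv_mem' := fun {a} ha => ⟨by simp [ha.1], by
    have h1 : a⁻¹.1.right = 1 := by simp [ha.1]
    have h2 := PP_mul (fun x => hz (left_ker a⁻¹ h1 x)) (fun x => hz (left_ker a ha.1 x))
    have h3 : (fun x => a⁻¹.1.left x * a.1.left x) = fun _ => 1 := by
      funext x; rw [coe_inv, inv_left', ha.1, one_smul, inv_mul_cancel]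
    rw [h3, ha.2, mul_one] at h2
    rw [← h2]
    apply Subtype.ext
    have := PP_const (π := π) (one_mem (center S))
    rw [one_pow] at this; exact this⟩

theorem mem_A0 [Finite H] {hz : π.ker ≤ center S} {r : XX π → H} {w : WW π r} :
    w ∈ A0 hz r ↔ w.1.right = 1 ∧ PP w.1.left = 1 := Iff.rfl

instance A0_normal [Finite H] (hz : π.ker ≤ center S) (r : XX π → H) : (A0 hz r).Normal := ⟨by
  intro a ha w
  refine ⟨by simp [ha.1], ?_⟩
  have : (w * a * w⁻¹).1.left = fun x => a.1.left (w.1.right⁻¹ • x) := by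
    funext x
    rw [coe_mul, coe_mul, coe_inv, mul_left', mul_left', inv_left', SemidirectProduct.mul_right, ha.1, mul_one,
      smul_inv_smul, mem_center_iff.1 (hz (left_ker a ha.1 _)), mul_inv_cancel_right]
  rw [this, PP_smul, ha.2]⟩

end ext

theorem ext : H18.CL.EXT.{u, v} := by
  intro p _ S _ _ H _ _ π hS hidx hz hφ
  classical
  choose φ hφ1 hφ2 hφ3 using hφ
  obtain ⟨d, t, hr, hd⟩ := exists_dt π
  set r : XX π → H := fun x => π (t x) * d x with hrdef
  have key : ∀ (s : S) (x : XX π),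
      (d x)⁻¹ * π ((t x)⁻¹ * s * t ((π s)⁻¹ • x)) * (d x)⁻¹⁻¹ = (r x)⁻¹ * π s * r ((π s)⁻¹ • x) := by
    intro s x
    have := hd s⁻¹ x
    rw [map_inv] at this
    simp only [hrdef, this, map_mul, map_inv]; group
  have keym : ∀ (s : S) (x : XX π),
      (d x)⁻¹ * π ((t x)⁻¹ * s * t ((π s)⁻¹ • x)) * (d x)⁻¹⁻¹ ∈ π.range := fun s x => by
    rw [key]; exact coc_mem hr _ _
  let j0 : S → WW π r := fun s => ⟨⟨fun x => φ (d x)⁻¹ ((t x)⁻¹ * s * t ((π s)⁻¹ • x)), π s⟩, fun x => by
    rw [hφ2 _ _ (keym s x), key]⟩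
  have j0mul : ∀ s s', j0 (s * s') = j0 s * j0 s' := by
    intro s s'
    apply Subtype.ext
    apply SemidirectProduct.ext
    · funext x
      rw [coe_mul, mul_left']
      have h1 := hd s⁻¹ x
      rw [map_inv] at h1
      have h2 := keym s' ((π s)⁻¹ • x)
      rw [h1] at h2
      change φ (d x)⁻¹ _ = φ (d x)⁻¹ _ * φ (d ((π s)⁻¹ • x))⁻¹ _
      rw [h1, ← hφ1 _ _ _ (keym s x) h2]
      congr 1
      simp only [map_mul, mul_inv_rev, mul_smul]; group
    · exact map_mul π s s'
  let j1 : S →* WW π r := MonoidHom.mk' j0 j0mul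
  have j1r : ∀ s, (j1 s).1.right = π s := fun s => rfl
  have j1l : ∀ a ∈ π.ker, (j1 a).1.left = fun _ => a := by
    intro a ha
    funext x
    change φ (d x)⁻¹ ((t x)⁻¹ * a * t ((π a)⁻¹ • x)) = a
    rw [MonoidHom.mem_ker.1 ha, inv_one, one_smul, mem_center_iff.1 (hz ha), inv_mul_cancel_right]
    exact hφ3 _ a ha
  let q0 : WW π r →* H := SemidirectProduct.rightHom.comp (WW π r).subtype
  have q0a : ∀ w, q0 w = w.1.right := fun w => rfl
  have : Finite (Wr π) := Finite.of_equiv _ (SemidirectProduct.equivProd).symm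
  let q : (WW π r ⧸ A0 hz r) →* H := QuotientGroup.lift (A0 hz r) q0 fun w hw => hw.1
  let j : S →* (WW π r ⧸ A0 hz r) := (QuotientGroup.mk' (A0 hz r)).comp j1
  have hcop : ∀ a : S, (orderOf a).Coprime π.range.index := by
    intro a
    obtain ⟨k, hk⟩ := (IsPGroup.iff_orderOf.1 hS) a
    rw [hk]
    exact Nat.Coprime.pow_left _ ((Nat.Prime.coprime_iff_not_dvd Fact.out).2 hidx)
  have hker : q.ker = π.ker.map j := by
    apply le_antisymm
    · intro g hg
      obtain ⟨w, rfl⟩ := QuotientGroup.mk_surjective g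
      have hw : w.1.right = 1 := hg
      have hb := PP_ker hz (left_ker w hw)
      set b : S := (PP w.1.left).1 with hbdef
      obtain ⟨m, hm⟩ := exists_pow_eq_self_of_coprime (hcop b).symm
      refine ⟨b ^ m, pow_mem hb m, ?_⟩
      change ((j1 (b ^ m) : WW π r) : WW π r ⧸ A0 hz r) = w
      rw [QuotientGroup.eq, ← map_inv]
      have hbm : (b ^ m)⁻¹ ∈ π.ker := inv_mem (pow_mem hb m)
      refine ⟨by rw [coe_mul, SemidirectProduct.mul_right, j1r, hw, mul_one]; exact hbm, ?_⟩
      have : (j1 (b ^ m)⁻¹ * w).1.left = fun x => (b ^ m)⁻¹ * w.1.left x := by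
        funext x
        rw [coe_mul, mul_left', j1l _ hbm, j1r, MonoidHom.mem_ker.1 hbm, inv_one, one_smul]
      rw [this, PP_mul (fun _ => hz hbm) (fun x => hz (left_ker w hw x))]
      apply Subtype.ext
      rw [coe_mul, PP_const (hz hbm), ← hbdef, inv_pow, ← pow_mul, mul_comm m, pow_mul, hm, inv_mul_cancel]
      rfl
    · rintro _ ⟨a, ha, rfl⟩
      exact ha
  refine ⟨WW π r ⧸ A0 hz r, inferInstance, inferInstance, q, j, fun g => ?_, ?_, fun s => rfl, hker, ?_⟩
  · have : ∀ x, ∃ s : S, π s = (r x)⁻¹ * g * r (g⁻¹ • x) := fun x => coc_mem hr g x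
    choose e he using this
    exact ⟨((⟨⟨e, g⟩, he⟩ : WW π r) : WW π r ⧸ A0 hz r), rfl⟩
  · rw [injective_iff_map_eq_one]
    intro a ha
    have h1 : j1 a ∈ A0 hz r := (QuotientGroup.eq_one_iff _).1 ha
    have ha' : a ∈ π.ker := h1.1
    have h2 := congrArg Subtype.val h1.2
    rw [j1l a ha', PP_const (hz ha')] at h2
    have h3 : orderOf a ∣ π.range.index := orderOf_dvd_of_pow_eq_one h2
    exact orderOf_eq_one_iff.1 (Nat.Coprime.eq_one_of_dvd (hcop a) h3)
  · rw [hker]
    rintro _ ⟨a, ha, rfl⟩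
    rw [mem_center_iff]
    intro g
    obtain ⟨w, rfl⟩ := QuotientGroup.mk_surjective g
    have : w * j1 a = j1 a * w := by
      apply Subtype.ext
      apply SemidirectProduct.ext
      · funext x
        rw [coe_mul, coe_mul, mul_left', mul_left', j1l a ha, j1r, MonoidHom.mem_ker.1 ha, inv_one, one_smul]
        exact mem_center_iff.1 (hz ha) _
      · rw [coe_mul, coe_mul, SemidirectProduct.mul_right, SemidirectProduct.mul_right, j1r,
          MonoidHom.mem_ker.1 ha, mul_one, one_mul]
    exact congrArg (fun y : WW π r => (y : WW π r ⧸ A0 hz r)) this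

end H23.CL
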