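import Cfsg.Agent.H18.CL0
import Cfsg.Agent.H19.Amb3
set_option autoImplicit false
/-! S5242, chunk ALP: the Alperin step. -/
namespace H23.CL
open Subgroup H19 H18.CL

universe u

section alp
variable {G : Type*} [Group G] {S A : Subgroup G} {Fm : Subgroup G → (G → G) → Prop} {χ : G → G}

/-- conjugation by `g` on `P` is realised by the fusion data (twisted by `χ`) -/
def TT (Fm : Subgroup G → (G → G) → Prop) (χ : G → G) (g : G) (P : Subgroup G) : Prop :=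
  ∃ φ, Fm P φ ∧ ∀ x ∈ P, φ x * χ (φ x) = g * (x * χ x) * g⁻¹

structure Ctx (S A : Subgroup G) (Fm : Subgroup G → (G → G) → Prop) (χ : G → G) : Prop where
  AS : A ≤ S
  Az : A ≤ center G
  fz : Fz S A Fm
  ch : Ch S A χ

theorem Ctx.cm (h : Ctx S A Fm χ) {a : G} (ha : a ∈ A) (g : G) : g * a = a * g := mem_center_iff.1 (h.Az ha) g

theorem Ctx.cjA (h : Ctx S A Fm χ) {a : G} (ha : a ∈ A) (g : G) : g * a * g⁻¹ = a := by
  rw [h.cm ha, mul_inv_cancel_right]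

theorem Ctx.chi_conj (h : Ctx S A Fm χ) {s x : G} (hs : s ∈ S) (hx : x ∈ S) : χ (s * x * s⁻¹) = χ x := by
  have h1 : χ s * χ s⁻¹ = 1 := by
    rw [← h.ch.2.1 s hs _ (inv_mem hs), mul_inv_cancel, h.ch.2.2 1 (one_mem _)]
  rw [h.ch.2.1 _ (mul_mem hs hx) _ (inv_mem hs), h.ch.2.1 _ hs _ hx, h.cm (h.ch.1 x hx), mul_assoc, h1, mul_one]

theorem Ctx.al_inj (h : Ctx S A Fm χ) {x y : G} (hx : x ∈ S) (hy : y ∈ S) (e : x * χ x = y * χ y) : x = y := by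
  have ha : χ y * (χ x)⁻¹ ∈ A := mul_mem (h.ch.1 y hy) (inv_mem (h.ch.1 x hx))
  have e1 : x = y * (χ y * (χ x)⁻¹) := by rw [← mul_assoc, ← e, mul_inv_cancel_right]
  have e2 : χ x = χ y := by
    conv_lhs => rw [e1]
    rw [h.ch.2.1 y hy _ (h.AS ha), h.ch.2.2 _ ha, mul_one]
  rw [e2] at e; exact mul_right_cancel e

theorem Ctx.al_surj (h : Ctx S A Fm χ) {P : Subgroup G} (hA : A ≤ P) (hP : P ≤ S) {z : G} (hz : z ∈ P) :
    ∃ x ∈ P, x * χ x = z := by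
  have ha : (χ z)⁻¹ ∈ A := inv_mem (h.ch.1 z (hP hz))
  refine ⟨z * (χ z)⁻¹, mul_mem hz (hA ha), ?_⟩
  rw [h.ch.2.1 z (hP hz) _ (h.AS ha), h.ch.2.2 _ ha, mul_one, inv_mul_cancel_right]

/-- a realising map agrees with conjugation modulo `A` -/
theorem Ctx.modA (h : Ctx S A Fm χ) {g x y : G} (hx : x ∈ S) (hy : y ∈ S) (e : y * χ y = g * (x * χ x) * g⁻¹) :
    y * (g * x * g⁻¹)⁻¹ ∈ A := by
  have : y * (g * x * g⁻¹)⁻¹ = χ x * (χ y)⁻¹ := by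
    have e1 : y = g * x * g⁻¹ * (χ x * (χ y)⁻¹) := by
      rw [← mul_assoc, mul_assoc (g * x), h.cm (h.ch.1 x hx) g⁻¹, ← mul_assoc, mul_assoc g x, ← e,
        mul_inv_cancel_right]
    conv_lhs => rw [e1]
    rw [h.cm (mul_mem (h.ch.1 x hx) (inv_mem (h.ch.1 y hy))), mul_inv_cancel_right]
  rw [this]; exact mul_mem (h.ch.1 x hx) (inv_mem (h.ch.1 y hy))

theorem memA {Q : Subgroup G} (hA : A ≤ Q) {y z : G} (h : y * z⁻¹ ∈ A) : y ∈ Q ↔ z ∈ Q := by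
  constructor
  · intro hy
    have := mul_mem (inv_mem (hA h)) hy
    simpa using this
  · intro hz
    have := mul_mem (hA h) hz
    simpa using this

theorem Ctx.res (h : Ctx S A Fm χ) {g : G} {P P' : Subgroup G} (hT : TT Fm χ g P) (hle : P' ≤ P) : TT Fm χ g P' := by
  obtain ⟨φ, h1, h2⟩ := hT
  exact ⟨φ, h.fz.res _ _ _ h1 hle, fun x hx => h2 x (hle hx)⟩

theorem Ctx.comp (h : Ctx S A Fm χ) {g k : G} {P Q : Subgroup G} (h1 : TT Fm χ g P) (h2 : TT Fm χ k Q) (hA : A ≤ Q)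
    (hc : cj g P ≤ Q) : TT Fm χ (k * g) P := by
  obtain ⟨φ, a1, a2⟩ := h1
  obtain ⟨ψ, b1, b2⟩ := h2
  have hm : ∀ x ∈ P, φ x ∈ Q := fun x hx =>
    (memA hA (h.modA (h.fz.le _ _ a1 hx) (h.fz.mem _ _ a1 x hx) (a2 x hx))).2 (hc (conj_mem_cj.2 hx))
  refine ⟨fun x => ψ (φ x), h.fz.comp _ _ _ _ a1 b1 hm, fun x hx => ?_⟩
  rw [b2 _ (hm x hx), a2 x hx]; group

theorem Ctx.le_cj (h : Ctx S A Fm χ) {P : Subgroup G} (hA : A ≤ P) (g : G) : A ≤ cj g P := fun a ha => by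
  rw [← h.cjA ha g]; exact conj_mem_cj.2 (hA ha)

/-- image of a realising map -/
theorem Ctx.img (h : Ctx S A Fm χ) {g : G} {P : Subgroup G} {φ : G → G} (hA : A ≤ P) (a1 : Fm P φ)
    (a2 : ∀ x ∈ P, φ x * χ (φ x) = g * (x * χ x) * g⁻¹) (y : G) : y ∈ cj g P ↔ ∃ x ∈ P, φ x = y := by
  have hP := h.fz.le _ _ a1
  have hm : ∀ x ∈ P, φ x * (g * x * g⁻¹)⁻¹ ∈ A := fun x hx => h.modA (hP hx) (h.fz.mem _ _ a1 x hx) (a2 x hx)
  have hS : cj g P ≤ S := by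
    intro y hy
    obtain ⟨x, hx, rfl⟩ := mem_cj'.1 hy
    exact (memA h.AS (hm x hx)).1 (h.fz.mem _ _ a1 x hx)
  constructor
  · intro hy
    obtain ⟨z, hz, e⟩ := mem_cj'.1 (mul_mem hy (h.le_cj hA g (h.ch.1 y (hS hy))))
    obtain ⟨x, hx, rfl⟩ := h.al_surj hA hP hz
    exact ⟨x, hx, h.al_inj (h.fz.mem _ _ a1 x hx) (hS hy) (by rw [a2 x hx, e])⟩
  · rintro ⟨x, hx, rfl⟩
    exact (memA (h.le_cj hA g) (hm x hx)).2 (conj_mem_cj.2 hx)

theorem Ctx.inv (h : Ctx S A Fm χ) {g : G} {P : Subgroup G} (h1 : TT Fm χ g P) (hA : A ≤ P) :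
    TT Fm χ g⁻¹ (cj g P) := by
  obtain ⟨φ, a1, a2⟩ := h1
  obtain ⟨ψ, b1, b2⟩ := h.fz.inv _ _ _ a1 (h.img hA a1 a2)
  refine ⟨ψ, b1, fun y hy => ?_⟩
  obtain ⟨x, hx, rfl⟩ := (h.img hA a1 a2 y).1 hy
  rw [b2 x hx, a2 x hx]; group

theorem Ctx.inner (h : Ctx S A Fm χ) {s : G} {P : Subgroup G} (hs : s ∈ S) (hP : P ≤ S) : TT Fm χ s P := by
  refine ⟨_, h.fz.cj s hs P hP, fun x hx => ?_⟩
  rw [h.chi_conj hs (hP hx), mul_assoc (s * x), h.cm (h.ch.1 x (hP hx)) s⁻¹]; group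

theorem Ctx.cent (h : Ctx S A Fm χ) {c : G} {P : Subgroup G} (hc : c ∈ C(P)) (hP : P ≤ S) : TT Fm χ c P := by
  refine ⟨_, h.fz.cj 1 (one_mem _) P hP, fun x hx => ?_⟩
  rw [one_mul, inv_one, mul_one, ← mul_assoc, ← mem_cent.1 hc x hx, mul_assoc x, mul_assoc x,
    h.cjA (h.ch.1 x (hP hx))]

/-- elements acting trivially on `Q` modulo the central subgroup `A` -/
def Ct (hA : A ≤ center G) (Q : Subgroup G) : Subgroup G where
  carrier := {z | ∀ x ∈ Q, z * x * z⁻¹ * x⁻¹ ∈ A}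
  one_mem' := fun x _ => by simp
  mul_mem' := fun {z w} hz hw x hx => by
    have e : z * w * x * (z * w)⁻¹ * x⁻¹ = z * (w * x * w⁻¹ * x⁻¹) * z⁻¹ * (z * x * z⁻¹ * x⁻¹) := by group
    rw [e, mem_center_iff.1 (hA (hw x hx)) z, mul_inv_cancel_right]
    exact mul_mem (hw x hx) (hz x hx)
  inv_mem' := fun {z} hz x hx => by
    have e : z⁻¹ * x * z⁻¹⁻¹ * x⁻¹ = z⁻¹ * (z * x * z⁻¹ * x⁻¹)⁻¹ * z := by group
    rw [e, mem_center_iff.1 (hA (inv_mem (hz x hx))) z⁻¹, inv_mul_cancel_right]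
    exact inv_mem (hz x hx)

theorem mem_Ct {hA : A ≤ center G} {Q : Subgroup G} {z : G} :
    z ∈ Ct hA Q ↔ ∀ x ∈ Q, z * x * z⁻¹ * x⁻¹ ∈ A := Iff.rfl

theorem Ct_normal [Finite G] (hA : A ≤ center G) {Q : Subgroup G} (hQ : A ≤ Q) : Ct hA Q ⊴ N(Q) := by
  refine ⟨fun z hz => mem_norm_of_cj_le fun y hy => ?_, fun n hn => mem_norm_of_cj_le fun y hy => ?_⟩
  · obtain ⟨x, hx, rfl⟩ := mem_cj'.1 hy
    exact (memA hQ (hz x hx)).2 hx
  · obtain ⟨z, hz, rfl⟩ := mem_cj'.1 hy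
    intro x hx
    have h1 := hz _ (conj_mem_of_norm' hn hx)
    have e : n * z * n⁻¹ * x * (n * z * n⁻¹)⁻¹ * x⁻¹ = n * (z * (n⁻¹ * x * n) * z⁻¹ * (n⁻¹ * x * n)⁻¹) * n⁻¹ := by
      group
    rw [e, mem_center_iff.1 (hA h1) n, mul_inv_cancel_right]; exact h1

theorem Ct_pow (hA : A ≤ center G) {Q : Subgroup G} {z x : G} (hz : z ∈ Ct hA Q) (hx : x ∈ Q) (n : ℕ) :
    z ^ n * x = (z * x * z⁻¹ * x⁻¹) ^ n * x * z ^ n := by
  have hc := mem_center_iff.1 (hA (hz x hx))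
  induction n with
  | zero => simp
  | succ n ih =>
    have e : z * x = (z * x * z⁻¹ * x⁻¹) * x * z := by group
    set a := z * x * z⁻¹ * x⁻¹
    rw [pow_succ, mul_assoc, e, ← mul_assoc, ← mul_assoc, hc, mul_assoc a, ih, pow_succ' a]
    simp only [mul_assoc]

theorem Ct_idx [Finite G] {p : ℕ} [Fact p.Prime] (hA : A ≤ center G) (hp : IsPGroup p A) {Q : Subgroup G}
    (hQ : A ≤ Q) : C(Q) ≤ Ct hA Q ∧ PiN {p} (C(Q).relIndex (Ct hA Q)) := by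
  have hle : C(Q) ≤ Ct hA Q := fun c hc x hx => by
    rw [← mem_cent.1 hc x hx]; simp
  refine ⟨hle, ?_⟩
  have : (C(Q).subgroupOf (Ct hA Q)).Normal :=
    (normal_subgroupOf_iff_le_normalizer hle).2 (norms_cent (Ct_normal hA hQ).le)
  obtain ⟨k, hk⟩ := IsPGroup.iff_card.1 hp
  have hq : IsPGroup p (Ct hA Q ⧸ C(Q).subgroupOf (Ct hA Q)) := by
    intro y
    obtain ⟨z, rfl⟩ := QuotientGroup.mk_surjective y
    refine ⟨k, ?_⟩
    rw [← QuotientGroup.mk_pow, QuotientGroup.eq_one_iff, mem_subgroupOf, mem_cent]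
    intro x hx
    have h1 : (z.1 * x * z.1⁻¹ * x⁻¹) ^ p ^ k = 1 := by
      have := pow_card_eq_one' (x := (⟨_, z.2 x hx⟩ : A))
      rw [hk] at this
      exact congrArg Subtype.val this
    rw [coe_pow, Ct_pow hA z.2 hx, h1, one_mul]
  obtain ⟨m, hm⟩ := IsPGroup.iff_card.1 hq
  have : C(Q).relIndex (Ct hA Q) = p ^ m := hm
  rw [this]; exact PiN.prime_pow Fact.out m

variable [Finite G] {p : ℕ} [Fact p.Prime]

theorem Ctx.stepN (h : Ctx S A Fm χ) (hS : Syl p S ⊤) {Q : Subgroup G} (hA : A ≤ Q) (hQ : Q ≤ S) (hc : ¬ Cc p A Q)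
    (hN : Syl p (S ⊓ N(Q)) N(Q))
    (ih : ∀ P : Subgroup G, #Q < #P → A ≤ P → P ≤ S → ∀ g, cj g P ≤ S → TT Fm χ g P) {n : G} (hn : n ∈ N(Q)) :
    TT Fm χ n Q := by
  have hCn := Ct_normal h.Az hA
  have hR := hN.inf_normal hCn
  set R := S ⊓ N(Q) ⊓ Ct h.Az Q with hRdef
  have hRS : R ≤ S := inf_le_left.trans inf_le_left
  have hRN : R ≤ N(Q) := inf_le_left.trans inf_le_right
  have hRQ : ¬ R ≤ Q := by
    intro hle
    apply hc
    refine ⟨(hS.pi.of_le hQ).isPGroup, hA, fun z ⟨k, hk⟩ hz => ?_⟩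
    have hz' : zpowers z ≤ Ct h.Az Q := zpowers_le.2 hz
    have hpz : PG p (zpowers z) := by
      obtain ⟨m, -, hm⟩ := (Nat.dvd_prime_pow Fact.out).1 (orderOf_dvd_of_pow_eq_one hk)
      exact PiN.of_card_pow Fact.out (by rw [Nat.card_zpowers, hm])
    obtain ⟨y, hy, hle'⟩ := hR.scj_le hz' hpz
    have h1 : y * z * y⁻¹ ∈ Q := hle (hle' (conj_mem_cj.2 (mem_zpowers z)))
    have := conj_mem_of_norm' (hCn.le hy) h1
    simpa [mul_assoc] using this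
  have hfr := hR.frattini hCn
  obtain ⟨c, hc', n', hn', rfl⟩ := (mem_sup_of_norm (inf_le_left.trans hCn.norm)).1 (hfr.symm ▸ hn)
  have h1 : TT Fm χ n' Q := by
    have hlt : Q < Q ⊔ R := lt_of_le_of_ne le_sup_left fun e => hRQ (e ▸ le_sup_right)
    refine h.res (ih _ (card_lt hlt) (hA.trans le_sup_left) (sup_le hQ hRS) n' ?_) le_sup_left
    rw [cj_sup, cj_of_mem_norm hn'.1, cj_of_mem_norm hn'.2]; exact sup_le hQ hRS
  have h2 : TT Fm χ c Q := by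
    obtain ⟨hle, hi⟩ := Ct_idx h.Az (hS.pi.of_le h.AS).isPGroup hA
    have hsup := hR.sup_eq hle hi
    obtain ⟨c0, hc0, r, hr, rfl⟩ := (mem_sup_of_norm (norms_cent hRN)).1 (hsup.symm ▸ hc')
    exact h.comp (h.inner (hRS hr) hQ) (h.cent hc0 hQ) hA (cj_of_mem_norm (hRN hr)).le
  exact h.comp h1 h2 hA (cj_of_mem_norm hn'.1).le

theorem Ctx.all (h : Ctx S A Fm χ) (hS : Syl p S ⊤)
    (hcc : ∀ (g : G) (P : Subgroup G), P ≤ S → cj g P ≤ S → Cc p A P → TT Fm χ g P)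
    (P : Subgroup G) : A ≤ P → P ≤ S → ∀ g, cj g P ≤ S → TT Fm χ g P := by
  induction hn : Nat.card G - #P using Nat.strong_induction_on generalizing P with
  | _ n IH =>
  intro hA hP g hg
  have ih : ∀ P' : Subgroup G, #P < #P' → A ≤ P' → P' ≤ S → ∀ g, cj g P' ≤ S → TT Fm χ g P' := by
    intro P' hlt
    have := card_le (le_top (a := P'))
    rw [card_top] at this
    exact IH _ (by omega) P' rfl
  by_cases hc : Cc p A P
  · exact hcc g P hP hg hc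
  have hne : ∀ k, cj k P ≠ S := by
    intro k e
    apply hc
    have hPs : Syl p P ⊤ := by
      have := hS.Jtop k⁻¹
      rwa [← e, cj_inv_cj] at this
    refine ⟨hPs.pi.isPGroup, hA, fun z ⟨m, hm⟩ hz => ?_⟩
    refine hPs.mem_of_norm (mem_top z) ?_ ((Ct_normal h.Az hA).le hz)
    obtain ⟨m', -, hm'⟩ := (Nat.dvd_prime_pow Fact.out).1 (orderOf_dvd_of_pow_eq_one hm)
    unfold PiE; rw [hm']; exact PiN.prime_pow Fact.out _
  obtain ⟨T, hT⟩ := exists_syl p N(P)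
  obtain ⟨k, -, hk⟩ := hS.scj_le le_top hT.pi
  have hPT : P ≤ T := hT.le_of_norm' le_normalizer (hS.pi.of_le hP) hT.le
  set Q := cj k P with hQ
  have hQS : Q ≤ S := (cj_mono k hPT).trans hk
  have hAQ : A ≤ Q := h.le_cj hA k
  have hN : Syl p (S ⊓ N(Q)) N(Q) := by
    have h1 := hT.J k
    rw [cj_norm] at h1
    rw [h1.max (le_inf hk h1.le) inf_le_right (hS.pi.infl _)]; exact h1
  have hcQ : ¬ Cc p A Q := by
    intro hq
    apply hc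
    refine ⟨(hS.pi.of_le hP).isPGroup, hA, fun z ⟨m, hm⟩ hz => ?_⟩
    refine conj_mem_cj.1 (hq.2.2 (k * z * k⁻¹) ⟨m, by rw [conj_pow, hm]; simp⟩ fun y hy => ?_)
    obtain ⟨x, hx, rfl⟩ := mem_cj'.1 hy
    have e : k * z * k⁻¹ * (k * x * k⁻¹) * (k * z * k⁻¹)⁻¹ * (k * x * k⁻¹)⁻¹ = k * (z * x * z⁻¹ * x⁻¹) * k⁻¹ := by
      group
    rw [e, h.cjA (hz x hx)]; exact hz x hx
  have key : ∀ a, cj a P ≤ S → ∃ m ∈ N(Q), TT Fm χ (m * (k * a⁻¹)) (cj a P) := by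
    intro a ha
    have hlt : cj a P < S ⊓ N(cj a P) := hS.pi.lt_norm (lt_of_le_of_ne ha (hne a))
    have h1 : cj (k * a⁻¹) (S ⊓ N(cj a P)) ≤ N(Q) := by
      refine (cj_mono _ inf_le_right).trans ?_
      rw [cj_norm, cj_cj, inv_mul_cancel_right]
    obtain ⟨m, hm, hle⟩ := hN.scj_le h1 ((hS.pi.infl _).J _)
    refine ⟨m, hm, h.res (ih _ ?_ ((h.le_cj hA a).trans hlt.le) inf_le_left _ ?_) hlt.le⟩
    · have := card_lt hlt
      rwa [card_cj] at this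
    · rw [cj_mul]; exact hle.trans inf_le_left
  obtain ⟨m1, hm1, t1⟩ := key 1 (by rwa [cj_one])
  obtain ⟨m2, hm2, t2⟩ := key g hg
  rw [cj_one, inv_one, mul_one] at t1
  have t3 := h.inv t2 (h.le_cj hA g)
  have e3 : cj (m2 * (k * g⁻¹)) (cj g P) = Q := by
    rw [cj_mul, cj_cj (k * g⁻¹), inv_mul_cancel_right, cj_of_mem_norm hm2]
  rw [e3] at t3
  have t4 := h.stepN hS hAQ hQS hcQ hN (fun P' hlt => ih P' (by rwa [hQ, card_cj] at hlt))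
    (mul_mem hm2 (inv_mem hm1))
  have e1 : cj (m1 * k) P = Q := by rw [cj_mul, cj_of_mem_norm hm1]
  have t5 := h.comp t1 t4 hAQ e1.le
  have t6 := h.comp t5 t3 hAQ (by rw [cj_mul, e1, cj_of_mem_norm (mul_mem hm2 (inv_mem hm1))])
  have e : (m2 * (k * g⁻¹))⁻¹ * (m2 * m1⁻¹ * (m1 * k)) = g := by group
  rwa [e] at t6

end alp

theorem alp : ALP.{u} := by
  intro p _ G _ _ S A Fm χ hAS hAz hF hχ hcc P φ hP hφ
  have h : Ctx (S : Subgroup G) A Fm χ := ⟨hAS, hAz, hF, hχ⟩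
  have all := h.all (syl_sylow_top S) fun g P hP hg hc => hcc g P hP (fun x hx => hg (conj_mem_cj.2 hx)) hc
  constructor
  · intro hm
    obtain ⟨ψ, hψ, e⟩ := hF.ext _ _ hm
    have hA1 : A ≤ P ⊔ A := le_sup_right
    obtain ⟨θ, Q, hθ, hQ, hsat⟩ := hF.sat (P ⊔ A) hA1 (sup_le hP hAS)
    have hAQ : A ≤ Q := fun a ha => (hQ a).2 ⟨a, hA1 ha, hF.fixA _ _ hθ a ha (hA1 ha)⟩
    have L : ∀ β, Fm Q β → ∃ g : G, ∀ x ∈ Q, β x * χ (β x) = g * (x * χ x) * g⁻¹ := by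
      intro β hβ
      have hQS := hF.le _ _ hβ
      obtain ⟨g, hg⟩ := hF.bar _ _ hβ hAQ
      have hgS : cj g Q ≤ S := by
        intro y hy
        obtain ⟨x, hx, rfl⟩ := mem_cj'.1 hy
        exact (memA hAS (hg x hx)).1 (hF.mem _ _ hβ x hx)
      obtain ⟨β', a1, a2⟩ := all Q hAQ hQS g hgS
      obtain ⟨γ, b1, b2⟩ := hF.inv _ _ _ a1 (h.img hAQ a1 a2)
      have hm1 : ∀ x ∈ Q, β x ∈ cj g Q := fun x hx => (memA (h.le_cj hAQ g) (hg x hx)).2 (conj_mem_cj.2 hx)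
      have hm2 : ∀ x ∈ Q, β' x ∈ cj g Q := fun x hx => (h.img hAQ a1 a2 _).2 ⟨x, hx, rfl⟩
      obtain ⟨s, hs, hs'⟩ := hsat (fun x => γ (β x)) (hF.comp _ _ _ _ hβ b1 hm1) (by
        intro x hx
        have ha : β x * (β' x)⁻¹ ∈ A := by
          have := mul_mem (hg x hx) (inv_mem (h.modA (hQS hx) (hF.mem _ _ a1 x hx) (a2 x hx)))
          simpa [mul_assoc] using this
        have e1 : β x = β x * (β' x)⁻¹ * β' x := by group
        have hcA := h.le_cj hAQ g ha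
        change γ (β x) * x⁻¹ ∈ A
        rw [e1, hF.mul _ _ b1 _ hcA _ (hm2 x hx), b2 x hx, hF.fixA _ _ b1 _ ha hcA, mul_inv_cancel_right]
        exact ha)
      refine ⟨g * s, fun x hx => ?_⟩
      obtain ⟨y, hy, e1⟩ := (h.img hAQ a1 a2 _).1 (hm1 x hx)
      have e2 : y = s * x * s⁻¹ := by rw [← hs' x hx, ← e1, b2 y hy]
      rw [← e1, a2 y hy, e2, h.chi_conj hs (hQS hx), mul_assoc (s * x), h.cm (hχ.1 x (hQS hx)) s⁻¹]; group
    obtain ⟨θ', c1, c2⟩ := hF.inv _ _ _ hθ hQ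
    have hm3 : ∀ y ∈ Q, θ' y ∈ P ⊔ A := fun y hy => by
      obtain ⟨x, hx, rfl⟩ := (hQ y).1 hy
      rw [c2 x hx]; exact hx
    obtain ⟨g1, hg1⟩ := L θ' c1
    obtain ⟨g2, hg2⟩ := L _ (hF.comp _ _ _ _ c1 hψ hm3)
    refine ⟨g2 * g1⁻¹, fun x hx => ?_⟩
    have hx' : x ∈ P ⊔ A := mem_sup_left hx
    have hy : θ x ∈ Q := (hQ _).2 ⟨x, hx', rfl⟩
    have e1 := hg1 _ hy
    have e2 := hg2 _ hy
    rw [c2 x hx'] at e1 e2
    rw [← e x hx, e2, e1]; group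
  · rintro ⟨g, hg⟩
    have hgS : cj g (P ⊔ A) ≤ S := by
      rw [cj_sup]
      refine sup_le (fun y hy => ?_) fun y hy => ?_
      · obtain ⟨x, hx, rfl⟩ := mem_cj'.1 hy
        exact (memA hAS (h.modA (hP hx) (hφ x hx) (hg x hx))).1 (hφ x hx)
      · obtain ⟨x, hx, rfl⟩ := mem_cj'.1 hy
        rw [h.cjA hx]; exact hAS hx
    obtain ⟨ψ, a1, a2⟩ := h.res (all (P ⊔ A) le_sup_right (sup_le hP hAS) g hgS) le_sup_left
    exact hF.cg _ _ _ a1 fun x hx => h.al_inj (hφ x hx) (hF.mem _ _ a1 x hx) (by rw [hg x hx, a2 x hx])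

end H23.CL
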