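import Cfsg.Agent.H18.CL0
set_option autoImplicit false
/-! S5242, chunk TVF: basic facts on transvections. -/
namespace H23.CL
open Subgroup H18.CL

universe u v

section tv
variable {G : Type*} [Group G] {D : Type*} [AddCommGroup D] [DistribMulAction G D] {c c' : G} {v v' : D}

theorem tv_mv (h : Tv c v) {d : D} (hd : c • d ≠ d) : c • d = d + v := (h.2.2 d).resolve_left hd

theorem tv_two (h : Tv c v) : v + v = 0 := by
  obtain ⟨d, hd⟩ := h.2.1
  have e := tv_mv h hd
  rcases h.2.2 (d + d) with h1 | h1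
  · rw [smul_add, e] at h1; linear_combination (norm := abel) h1
  · rw [smul_add, e] at h1
    exact absurd (by linear_combination (norm := abel) h1) h.1

theorem tv_fix (h : Tv c v) : c • v = v := by
  by_contra hn
  have := tv_mv h hn
  rw [tv_two h, smul_eq_zero_iff_eq] at this
  exact h.1 this

theorem tv_ne (h : Tv c v) (d : D) : d + v ≠ d := fun e => h.1 (by linear_combination (norm := abel) e)

theorem tv_sq [FaithfulSMul G D] (h : Tv c v) : c * c = 1 := by
  apply eq_of_smul_eq_smul (α := D)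
  intro d
  rw [mul_smul, one_smul]
  rcases h.2.2 d with h1 | h1
  · rw [h1, h1]
  · rw [h1, smul_add, h1, tv_fix h, add_assoc, tv_two h, add_zero]

theorem tv_inv [FaithfulSMul G D] (h : Tv c v) : c⁻¹ = c := inv_eq_of_mul_eq_one_right (tv_sq h)

theorem tv_ne_one (h : Tv c v) : c ≠ 1 := by
  rintro rfl
  obtain ⟨d, hd⟩ := h.2.1
  exact hd (one_smul _ d)

theorem tv_uniq (h : Tv c v) (h' : Tv c v') : v = v' := by
  obtain ⟨d, hd⟩ := h.2.1
  exact add_left_cancel ((tv_mv h hd).symm.trans (tv_mv h' hd))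

theorem tv_add (h : Tv c v) (d d' : D) : c • (d + d') = d + d' ↔ (c • d = d ↔ c • d' = d') := by
  have h2 := tv_two h
  rw [smul_add]
  rcases h.2.2 d with h1 | h1 <;> rcases h.2.2 d' with h3 | h3 <;> rw [h1, h3]
  · simp
  · simp [h.1]
  · simp [h.1]
  · simp only [add_eq_left, iff_true]; linear_combination (norm := abel) h2

theorem tv_conj (h : Tv c v) (g : G) : Tv (g * c * g⁻¹) (g • v) := by
  refine ⟨by rw [Ne, smul_eq_zero_iff_eq]; exact h.1, ?_, fun d => ?_⟩
  · obtain ⟨d, hd⟩ := h.2.1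
    exact ⟨g • d, by rw [mul_smul, inv_smul_smul, mul_smul]; exact fun e => hd (smul_left_cancel g e)⟩
  · rw [mul_smul, mul_smul]
    rcases h.2.2 (g⁻¹ • d) with h1 | h1
    · left; rw [h1, smul_inv_smul]
    · right; rw [h1, smul_add, smul_inv_smul]

theorem tv_comm [FaithfulSMul G D] (h : Tv c v) (h' : Tv c' v') : c * c' = c' * c ↔ c • v' = v' ∧ c' • v = v := by
  constructor
  · intro e
    constructor
    · have := tv_conj h' c
      rw [e, mul_inv_cancel_right] at this
      exact tv_uniq this h'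
    · have := tv_conj h c'
      rw [← e, mul_inv_cancel_right] at this
      exact tv_uniq this h
  · rintro ⟨e1, e2⟩
    apply eq_of_smul_eq_smul (α := D)
    intro d
    rw [mul_smul, mul_smul]
    rcases h.2.2 d with h1 | h1 <;> rcases h'.2.2 d with h3 | h3 <;>
      simp only [h1, h3, smul_add, e1, e2]
    abel

theorem tv_braid [FaithfulSMul G D] (h : Tv c v) (h' : Tv c' v') (m : c • v' ≠ v') (m' : c' • v ≠ v) :
    c * c' * c = c' * c * c' := by
  have e1 := tv_mv h m
  have e2 := tv_mv h' m'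
  have f1 := tv_fix h
  have f2 := tv_fix h'
  have t1 := tv_two h
  have t2 := tv_two h'
  apply eq_of_smul_eq_smul (α := D)
  intro d
  simp only [mul_smul]
  rcases h.2.2 d with h1 | h1 <;> rcases h'.2.2 d with h3 | h3 <;>
    simp only [h1, h3, smul_add, e1, e2, f1, f2]
  · linear_combination (norm := abel) -t2
  · linear_combination (norm := abel) t1
  · linear_combination (norm := abel) t1 - t2

theorem tv_mul [FaithfulSMul G D] (h : Tv c v) (h' : Tv c' v) (hne : c ≠ c') : Tv (c * c') v := by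
  refine ⟨h.1, ?_, fun d => ?_⟩
  · by_contra hn
    push Not at hn
    have : c * c' = 1 := eq_of_smul_eq_smul (α := D) fun d => by rw [hn, one_smul]
    exact hne (by rw [← tv_inv h', eq_inv_iff_mul_eq_one, this])
  · rw [mul_smul]
    rcases h.2.2 d with h1 | h1 <;> rcases h'.2.2 d with h3 | h3 <;> simp only [h1, h3, smul_add, tv_fix h]
    · left; trivial
    · right; trivial
    · right; trivial
    · left; rw [add_assoc, tv_two h, add_zero]

theorem tv_pgroup [FaithfulSMul G D] {P : Subgroup G} (hP : IsPGroup 2 P) (hc : c ∈ P) (hc' : c' ∈ P) (h : Tv c v)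
    (h' : Tv c' v') : c • v' = v' ∨ c' • v = v := by
  by_contra hn
  push Not at hn
  have e := tv_braid h h' hn.1 hn.2
  have e3 : (c * c') ^ 3 = 1 := by
    have : (c * c') ^ 3 = (c * c' * c) * (c' * c * c') := by simp only [pow_succ, pow_zero, one_mul, mul_assoc]
    rw [this, e]
    have : c' * c * c' * (c' * c * c') = c' * (c * (c' * c') * c) * c' := by simp only [mul_assoc]
    rw [this, tv_sq h', mul_one, tv_sq h, mul_one, tv_sq h']
  obtain ⟨k, hk⟩ := hP ⟨c * c', mul_mem hc hc'⟩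
  have hk' : (c * c') ^ 2 ^ k = 1 := congrArg Subtype.val hk
  have h1 : orderOf (c * c') = 1 :=
    Nat.eq_one_of_dvd_coprimes (Nat.Coprime.pow_right k (by norm_num : Nat.Coprime 3 2))
      (orderOf_dvd_of_pow_eq_one e3) (orderOf_dvd_of_pow_eq_one hk')
  rw [orderOf_eq_one_iff] at h1
  have : c = c' := by rw [← tv_inv h', eq_inv_iff_mul_eq_one, h1]
  subst this
  exact hn.1 (tv_fix h')

variable (D) in
/-- the commutator map of an element -/
def dl (c : G) : D →+ D := DistribSMul.toAddMonoidHom D c - AddMonoidHom.id D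

theorem dl_apply (c : G) (d : D) : dl D c d = c • d - d := rfl

theorem fx_zpowers (c : G) : fx D (zpowers c) = (dl D c).ker := by
  ext d
  rw [AddMonoidHom.mem_ker, dl_apply, sub_eq_zero, mem_fx]
  refine ⟨fun h => h c (mem_zpowers c), fun h g hg => ?_⟩
  exact (zpowers_le (H := MulAction.stabilizer G d)).2 h hg

theorem card_dl (c : G) : Nat.card (fx D (zpowers c)) * Nat.card (dl D c).range = Nat.card D := by
  rw [fx_zpowers, ← AddSubgroup.index_ker, AddSubgroup.card_mul_index]

theorem fx_bot : fx D (⊥ : Subgroup G) = ⊤ := by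
  rw [eq_top_iff]
  intro d _ g hg
  rw [mem_bot.1 hg, one_smul]

theorem card_bot_fx : Nat.card (⊥ : Subgroup G) * Nat.card (fx D (⊥ : Subgroup G)) = Nat.card D := by
  rw [fx_bot, card_bot, one_mul, AddSubgroup.card_top]

theorem fx_anti {A B : Subgroup G} (h : A ≤ B) : fx D B ≤ fx D A := fun _ hd g hg => hd g (h hg)

theorem tv_BO [FaithfulSMul G D] [Finite D] (h : Tv c v) : BO D (zpowers c) := by
  classical
  have ho : orderOf c = 2 := orderOf_eq_prime (by rw [sq, tv_sq h]) (tv_ne_one h)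
  refine ⟨fun e => tv_ne_one h (zpowers_eq_bot.1 e), ?_, fun B hB => ?_⟩
  · rintro _ ⟨m, rfl⟩ _ ⟨n, rfl⟩
    exact zpow_mul_comm c m n
  by_cases hc : c ∈ B
  · rw [le_antisymm hB (zpowers_le.2 hc)]
  have hB' : B = ⊥ := by
    rw [eq_bot_iff]
    intro x hx
    have := hB hx
    have hf : IsOfFinOrder c := by rw [← orderOf_pos_iff, ho]; norm_num
    rw [hf.mem_zpowers_iff_mem_range_orderOf, ho] at this
    simp only [Finset.mem_image, Finset.mem_range] at this
    obtain ⟨i, hi, rfl⟩ := this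
    interval_cases i
    · simp
    · exact absurd (by simpa using hx) hc
  rw [hB', card_bot_fx, Nat.card_zpowers, ho, ← card_dl c, mul_comm]
  refine Nat.mul_le_mul_right _ ?_
  have : ((dl D c).range : Set D) ⊆ {0, v} := by
    rintro _ ⟨d, rfl⟩
    rw [dl_apply]
    rcases h.2.2 d with h1 | h1 <;> simp [h1]
  have h2 := Set.ncard_le_ncard this (Set.toFinite _)
  rw [Set.ncard_pair h.1.symm] at h2
  exact h2

theorem tv_good [FaithfulSMul G D] [Finite D] {a b : G} {va vb : D} (ha : Tv a va) (hb : Tv b vb)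
    (m : a • vb ≠ vb) (f : b • va = va) : Good D 2 (closure {b, a * b * a * b}) := by
  have e1 := tv_mv ha m
  have fa := tv_fix ha
  have fb := tv_fix hb
  have ta := tv_two ha
  have tb := tv_two hb
  let R : G → D → Prop := fun g u => b • u = u ∧ u + u = 0 ∧ ∀ d, (b • d = d → g • d = d) ∧ (b • d ≠ d → g • d = d + u)
  have Rb : R b vb := ⟨fb, tb, fun d => ⟨id, tv_mv hb⟩⟩
  have Rz : R (a * b * a * b) va := by
    refine ⟨f, ta, fun d => ⟨fun h1 => ?_, fun h1 => ?_⟩⟩
    · simp only [mul_smul]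
      rcases ha.2.2 d with h2 | h2 <;> simp only [h1, h2, smul_add, f, fa]
      linear_combination (norm := abel) ta
    · have h3 := tv_mv hb h1
      simp only [mul_smul]
      rcases ha.2.2 d with h2 | h2 <;> simp only [h3, h2, smul_add, f, fa, fb, e1]
      · linear_combination (norm := abel) tb + ta
      · linear_combination (norm := abel) tb + ta + ta
  have Rmul : ∀ g u g' u', R g u → R g' u' → R (g * g') (u + u') := by
    intro g u g' u' h1 h2
    refine ⟨by rw [smul_add, h1.1, h2.1], by linear_combination (norm := abel) h1.2.1 + h2.2.1,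
      fun d => ⟨fun h => ?_, fun h => ?_⟩⟩
    · rw [mul_smul, (h2.2.2 d).1 h, (h1.2.2 d).1 h]
    · rw [mul_smul, (h2.2.2 d).2 h, smul_add, (h1.2.2 d).2 h, (h1.2.2 _).1 h2.1, add_assoc]
  have Rsq : ∀ g u, R g u → g * g = 1 := by
    intro g u h1
    have h2 := Rmul _ _ _ _ h1 h1
    apply eq_of_smul_eq_smul (α := D)
    intro d
    rw [one_smul]
    by_cases h : b • d = d
    · exact (h2.2.2 d).1 h
    · rw [(h2.2.2 d).2 h, h1.2.1, add_zero]
  have RJ : ∀ g ∈ closure {b, a * b * a * b}, ∃ u, R g u := by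
    intro g hg
    induction hg using closure_induction with
    | mem x hx => rcases hx with rfl | rfl; exacts [⟨_, Rb⟩, ⟨_, Rz⟩]
    | one => exact ⟨0, smul_zero _, add_zero _, fun d => ⟨fun _ => one_smul _ d, fun _ => by simp⟩⟩
    | mul x y _ _ hx hy =>
      obtain ⟨u, hu⟩ := hx
      obtain ⟨u', hu'⟩ := hy
      exact ⟨_, Rmul _ _ _ _ hu hu'⟩
    | inv x _ hx =>
      obtain ⟨u, hu⟩ := hx
      exact ⟨u, by rwa [inv_eq_of_mul_eq_one_right (Rsq _ _ hu)]⟩
  have hbJ : b ∈ closure {b, a * b * a * b} := subset_closure (by simp)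
  have hzJ : a * b * a * b ∈ closure {b, a * b * a * b} := subset_closure (by simp)
  refine ⟨fun g => ⟨1, ?_⟩, ⟨zpowers b, zpowers_le.2 hbJ, tv_BO hb⟩, fun J₁ hJ hi => ?_⟩
  · obtain ⟨u, hu⟩ := RJ g.1 g.2
    apply Subtype.ext
    rw [pow_one, sq]; exact Rsq _ _ hu
  have hex : ∃ g ∈ J₁, ∃ u, u ≠ 0 ∧ R g u := by
    by_cases h1 : b ∈ J₁
    · exact ⟨b, h1, vb, hb.1, Rb⟩
    by_cases h2 : a * b * a * b ∈ J₁
    · exact ⟨_, h2, va, ha.1, Rz⟩
    have := (mul_mem_iff_of_index_two (H := J₁.subgroupOf (closure {b, a * b * a * b})) hi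
      (a := ⟨b, hbJ⟩) (b := ⟨_, hzJ⟩)).2 (by simp only [mem_subgroupOf]; tauto)
    refine ⟨_, this, vb + va, fun e => m ?_, Rmul _ _ _ _ Rb Rz⟩
    have : vb = va := by linear_combination (norm := abel) e - ta
    rw [this, fa]
  obtain ⟨g, hg, u, hu, hR⟩ := hex
  have hne : ¬ closure {b, a * b * a * b} ≤ J₁ := fun e => by
    rw [relIndex_eq_one.2 e] at hi; exact absurd hi (by norm_num)
  obtain ⟨x, hx, hx'⟩ := SetLike.not_le_iff_exists.1 hne
  refine ⟨x, hx, hx', fun w hw h2 => ?_⟩
  have hbw : b • w = w := by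
    by_contra hn
    have := (hR.2.2 w).2 hn
    rw [hw g hg] at this
    exact hu (by linear_combination (norm := abel) -this)
  obtain ⟨u', hu'⟩ := RJ x hx
  rw [Finset.sum_range_succ, Finset.sum_range_one, pow_zero, pow_one, one_smul, (hu'.2.2 w).1 hbw, ← two_nsmul, h2]

end tv

theorem tvf : TVF.{u, v} := fun _ _ _ _ _ _ =>
  ⟨fun _ _ h => ⟨tv_two h, tv_fix h, tv_sq h⟩, fun _ _ _ => tv_uniq, fun _ _ d d' h => tv_add h d d',
    fun _ g _ h => tv_conj h g, fun _ _ _ _ => tv_comm, fun _ _ _ _ => tv_braid, fun _ _ _ => tv_mul,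
    fun _ _ _ _ _ => tv_pgroup, fun _ _ _ => tv_BO, fun _ _ _ _ _ => tv_good⟩

end H23.CL
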