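import Cfsg.Agent.H23.CL3
import Cfsg.Agent.H19.Amb3
set_option autoImplicit false
set_option linter.unusedSectionVars false
/-! S5242, chunk NA: orbit sums and Glauberman's norm argument. -/
namespace H23.CL
open Subgroup H19 H18.CL MulAction

universe u v

section idx
variable {G : Type*} [Group G] [Finite G] {p : ℕ} [hp : Fact p.Prime]

theorem exists_idx {B J : Subgroup G} (hJ : IsPGroup p J) (h : B < J) :
    ∃ J₁, B ≤ J₁ ∧ J₁ ≤ J ∧ J₁.relIndex J = p := by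
  obtain ⟨k, hk⟩ := IsPGroup.iff_card.1 hJ
  obtain ⟨n, hn⟩ := IsPGroup.iff_card.1 (hJ.to_le h.le)
  have hlt : n < k := by
    have := card_lt h
    rw [hk, hn] at this
    exact (Nat.pow_lt_pow_iff_right hp.out.one_lt).1 this
  obtain ⟨m, rfl⟩ : ∃ m, k = m + 1 := ⟨k - 1, by omega⟩
  obtain ⟨K, hK, hle⟩ := Sylow.exists_subgroup_card_pow_prime_le p (G := J) (n := n) (m := m)
    (by rw [hk]; exact pow_dvd_pow _ (by omega)) (B.subgroupOf J)
    (by rw [← hn]; exact Nat.card_congr (subgroupOfEquivOfLe h.le).toEquiv) (by omega)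
  refine ⟨K.map J.subtype, fun x hx => ⟨⟨x, h.le hx⟩, hle hx, rfl⟩, map_subtype_le _, ?_⟩
  have e : (K.map J.subtype).subgroupOf J = K := comap_map_eq_self_of_injective J.subtype_injective K
  have := K.index_mul_card
  rw [hK, hk, pow_succ'] at this
  rw [relIndex, e]
  exact Nat.eq_of_mul_eq_mul_right (pow_pos hp.out.pos _) this

theorem cosets {K K₁ : Subgroup G} (hK : IsPGroup p K) (hi : K₁.relIndex K = p) {a : G} (ha : a ∈ K) (ha' : a ∉ K₁) :
    (∀ k ∈ K, ∃ i < p, (a ^ i)⁻¹ * k ∈ K₁) ∧ ∀ i < p, ∀ j < p, (a ^ i)⁻¹ * a ^ j ∈ K₁ → i = j := by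
  classical
  obtain ⟨k, hk⟩ := IsPGroup.iff_card.1 hK
  have hk0 : k ≠ 0 := by
    rintro rfl
    have := (K₁.subgroupOf K).index_dvd_card
    rw [hk, pow_zero, Nat.dvd_one] at this
    exact hp.out.one_lt.ne' (hi.symm.trans this)
  have : (K₁.subgroupOf K).Normal :=
    normal_of_index_eq_minFac_card (by rw [hk, hp.out.pow_minFac hk0]; exact hi)
  have hc : Nat.card (K ⧸ K₁.subgroupOf K) = p := hi
  let b : K ⧸ K₁.subgroupOf K := (⟨a, ha⟩ : K)
  have hb : b ≠ 1 := fun e => ha' ((QuotientGroup.eq_one_iff (N := K₁.subgroupOf K) ⟨a, ha⟩).1 e)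
  have ho : orderOf b = p := by
    have := orderOf_dvd_natCard b
    rw [hc] at this
    exact ((Nat.dvd_prime hp.out).1 this).resolve_left fun e => hb (orderOf_eq_one_iff.1 e)
  constructor
  · intro k hk
    have h1 : ((⟨k, hk⟩ : K) : K ⧸ K₁.subgroupOf K) ∈ zpowers b := by
      rw [zpowers_eq_top_of_prime_card hc hb]; exact mem_top _
    rw [mem_zpowers_iff_mem_range_orderOf, ho] at h1
    simp only [Finset.mem_image, Finset.mem_range] at h1
    obtain ⟨i, hi, e⟩ := h1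
    refine ⟨i, hi, ?_⟩
    rw [← QuotientGroup.mk_pow, QuotientGroup.eq] at e
    exact e
  · intro i hi j hj h
    refine pow_injOn_Iio_orderOf (x := b) (by rwa [ho]) (by rwa [ho]) ?_
    change b ^ i = b ^ j
    rw [← QuotientGroup.mk_pow, ← QuotientGroup.mk_pow, QuotientGroup.eq]
    exact h
end idx

section os
variable {G : Type*} [Group G] {Ω : Type*} [MulAction G Ω] [Finite Ω] {D : Type*} [AddCommGroup D]
  [DistribMulAction G D]

open Classical in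
/-- the orbit of `ω` under `K` -/
noncomputable def Ob (K : Subgroup G) (ω : Ω) : Finset Ω := (Set.toFinite {x | ∃ k ∈ K, k • ω = x}).toFinset

theorem mem_Ob {K : Subgroup G} {ω x : Ω} : x ∈ Ob K ω ↔ ∃ k ∈ K, k • ω = x := by simp [Ob]

theorem self_Ob (K : Subgroup G) (ω : Ω) : ω ∈ Ob K ω := mem_Ob.2 ⟨1, one_mem _, one_smul _ _⟩

theorem smul_Ob {K : Subgroup G} {ω x : Ω} {g : G} (hg : g ∈ K) : g • x ∈ Ob K ω ↔ x ∈ Ob K ω := by
  simp only [mem_Ob]
  constructor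
  · rintro ⟨k, hk, e⟩
    exact ⟨g⁻¹ * k, mul_mem (inv_mem hg) hk, by rw [mul_smul, e, inv_smul_smul]⟩
  · rintro ⟨k, hk, e⟩
    exact ⟨g * k, mul_mem hg hk, by rw [mul_smul, e]⟩

theorem Ob_eq {K : Subgroup G} {ω x : Ω} (h : x ∈ Ob K ω) : Ob K x = Ob K ω := by
  obtain ⟨k, hk, rfl⟩ := mem_Ob.1 h
  ext y
  simp only [mem_Ob]
  constructor
  · rintro ⟨l, hl, e⟩
    exact ⟨l * k, mul_mem hl hk, by rw [mul_smul, e]⟩
  · rintro ⟨l, hl, e⟩
    exact ⟨l * k⁻¹, mul_mem hl (inv_mem hk), by rw [mul_smul, inv_smul_smul, e]⟩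

theorem Ob_fix {K : Subgroup G} {ω : Ω} (h : ∀ k ∈ K, k • ω = ω) : Ob K ω = {ω} := by
  ext y
  rw [mem_Ob, Finset.mem_singleton]
  exact ⟨fun ⟨k, hk, e⟩ => by rw [← e, h k hk], fun e => ⟨1, one_mem _, by rw [e, one_smul]⟩⟩

/-- orbit sum -/
noncomputable def OS (F : Ω → D) (K : Subgroup G) (ω : Ω) : D := ∑ x ∈ Ob K ω, F x

variable {F : Ω → D}

theorem OS_fx (hF : ∀ (g : G) x, F (g • x) = g • F x) (K : Subgroup G) (ω : Ω) : OS F K ω ∈ fx D K := by
  intro g hg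
  unfold OS
  rw [Finset.smul_sum]
  refine Finset.sum_bij' (fun x _ => g • x) (fun x _ => g⁻¹ • x) (fun x hx => (smul_Ob hg).2 hx)
    (fun x hx => (smul_Ob (inv_mem hg)).2 hx) (fun x _ => inv_smul_smul g x) (fun x _ => smul_inv_smul g x)
    fun x _ => (hF g x).symm

theorem OS_tor {n : ℕ} (h : ∀ x, n • F x = 0) (K : Subgroup G) (ω : Ω) : n • OS F K ω = 0 := by
  unfold OS
  rw [Finset.smul_sum]; exact Finset.sum_eq_zero fun x _ => h x

theorem OS_fix {K : Subgroup G} {ω : Ω} (h : ∀ k ∈ K, k • ω = ω) : OS F K ω = F ω := by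
  unfold OS; rw [Ob_fix h, Finset.sum_singleton]

theorem OS_split {K L : Subgroup G} (hle : K ≤ L) {ω : Ω} (h : ∀ k ∈ K, k • ω = ω)
    (h0 : ∀ x ∈ Ob L ω, x ≠ ω → OS F K x = 0) : OS F L ω = F ω := by
  classical
  unfold OS
  rw [← Finset.sum_fiberwise_of_maps_to (g := fun x => Ob K x) (t := (Ob L ω).image fun x => Ob K x)
    (fun x hx => Finset.mem_image_of_mem _ hx)]
  have key : ∀ x ∈ Ob L ω, ∑ y ∈ Ob L ω with Ob K y = Ob K x, F y = OS F K x := by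
    intro x hx
    refine Finset.sum_congr ?_ fun _ _ => rfl
    ext y
    rw [Finset.mem_filter]
    constructor
    · rintro ⟨-, e⟩
      rw [← e]; exact self_Ob K y
    · intro hy
      obtain ⟨k, hk, rfl⟩ := mem_Ob.1 hy
      exact ⟨(smul_Ob (hle hk)).2 hx, Ob_eq hy⟩
  rw [Finset.sum_eq_single (Ob K ω)]
  · rw [key ω (self_Ob L ω), OS_fix h]
  · intro t ht hne
    obtain ⟨x, hx, rfl⟩ := Finset.mem_image.1 ht
    rw [key x hx]
    exact h0 x hx fun e => hne (by rw [e])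
  · intro hn
    exact absurd (Finset.mem_image_of_mem _ (self_Ob L ω)) hn

theorem OS_tower [Finite G] {p : ℕ} [Fact p.Prime] (hF : ∀ (g : G) x, F (g • x) = g • F x) {K K₁ : Subgroup G}
    (hK : IsPGroup p K) (hle : K₁ ≤ K) (hi : K₁.relIndex K = p) {a : G} (ha : a ∈ K) (ha' : a ∉ K₁) {ω : Ω}
    (hs : K ⊓ stabilizer G ω ≤ K₁) : OS F K ω = ∑ i ∈ Finset.range p, a ^ i • OS F K₁ ω := by
  obtain ⟨c1, c2⟩ := cosets hK hi ha ha'
  unfold OS
  simp only [Finset.smul_sum]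
  rw [← Finset.sum_product' (f := fun i x => a ^ i • F x)]
  symm
  refine Finset.sum_nbij (fun y => a ^ y.1 • y.2) ?_ ?_ ?_ fun y _ => (hF _ _).symm
  · rintro ⟨i, x⟩ hy
    obtain ⟨k, hk, e⟩ := mem_Ob.1 (Finset.mem_product.1 hy).2
    exact (smul_Ob (pow_mem ha i)).2 (mem_Ob.2 ⟨k, hle hk, e⟩)
  · rintro ⟨i, x⟩ hy ⟨j, x'⟩ hy' e
    obtain ⟨hi, hx⟩ := Finset.mem_product.1 hy
    obtain ⟨hj, hx'⟩ := Finset.mem_product.1 hy'
    obtain ⟨k, hk, rfl⟩ := mem_Ob.1 hx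
    obtain ⟨k', hk', rfl⟩ := mem_Ob.1 hx'
    change a ^ i • k • ω = a ^ j • k' • ω at e
    have h1 : k⁻¹ * ((a ^ i)⁻¹ * a ^ j) * k' ∈ K₁ := by
      refine hs (mem_inf.2 ⟨mul_mem (mul_mem (inv_mem (hle hk)) (mul_mem (inv_mem (pow_mem ha i)) (pow_mem ha j)))
        (hle hk'), ?_⟩)
      rw [mem_stabilizer_iff, mul_smul, mul_smul, mul_smul, ← e, inv_smul_smul, inv_smul_smul]
    rw [mul_mem_cancel_right hk', mul_mem_cancel_left (inv_mem hk)] at h1
    obtain rfl := c2 i (Finset.mem_range.1 hi) j (Finset.mem_range.1 hj) h1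
    rw [smul_left_cancel _ e]
  · intro x hx
    obtain ⟨k, hk, rfl⟩ := mem_Ob.1 hx
    obtain ⟨i, hi, h1⟩ := c1 k hk
    refine ⟨(i, ((a ^ i)⁻¹ * k) • ω), Finset.mem_product.2 ⟨Finset.mem_range.2 hi, mem_Ob.2 ⟨_, h1, rfl⟩⟩, ?_⟩
    change a ^ i • ((a ^ i)⁻¹ * k) • ω = k • ω
    rw [mul_smul, smul_inv_smul]
end os

section nm
variable {G : Type*} [Group G] {D : Type*} [AddCommGroup D] [DistribMulAction G D]

/-- the equivariant map `G / M → D` attached to a fixed vector of `M` -/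
def FF {M : Subgroup G} {s : D} (hs : s ∈ fx D M) : G ⧸ M → D :=
  Quotient.lift (fun g : G => g • s) fun a b h => by
    have := hs _ (QuotientGroup.leftRel_apply.1 h)
    rw [mul_smul, inv_smul_eq_iff] at this
    exact this.symm

theorem FF_mk {M : Subgroup G} {s : D} (hs : s ∈ fx D M) (g : G) : FF hs (g : G ⧸ M) = g • s := rfl

theorem FF_smul {M : Subgroup G} {s : D} (hs : s ∈ fx D M) (g : G) (x : G ⧸ M) : FF hs (g • x) = g • FF hs x := by
  obtain ⟨a, rfl⟩ := QuotientGroup.mk_surjective x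
  exact mul_smul g a s

theorem FF_tor {M : Subgroup G} {s : D} (hs : s ∈ fx D M) {n : ℕ} (h : n • s = 0) (x : G ⧸ M) : n • FF hs x = 0 := by
  obtain ⟨a, rfl⟩ := QuotientGroup.mk_surjective x
  rw [FF_mk, smul_comm, h, smul_zero]

theorem stab_mk {M : Subgroup G} (g : G) : stabilizer G (g : G ⧸ M) = cj g M := by
  ext x
  rw [mem_stabilizer_iff, mem_cj, ← inv_mem_iff]
  change ((x * g : G) : G ⧸ M) = g ↔ _
  rw [QuotientGroup.eq]; simp only [mul_inv_rev, inv_inv, mul_assoc]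

theorem smul_one_mk {M : Subgroup G} (g : G) : g • ((1 : G) : G ⧸ M) = g := by
  change ((g * 1 : G) : G ⧸ M) = g
  rw [mul_one]

variable [Finite G]

theorem card_Ob {M N : Subgroup G} : (Ob N ((1 : G) : G ⧸ M)).card = M.relIndex N := by
  have h1 : ((Ob N ((1 : G) : G ⧸ M) : Finset _) : Set (G ⧸ M)) = orbit N ((1 : G) : G ⧸ M) := by
    ext x
    rw [Finset.mem_coe, mem_Ob]
    exact ⟨fun ⟨k, hk, e⟩ => ⟨⟨k, hk⟩, e⟩, fun ⟨k, e⟩ => ⟨k, k.2, e⟩⟩
  have h2 : stabilizer N ((1 : G) : G ⧸ M) = M.subgroupOf N := by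
    ext x
    rw [mem_stabilizer_iff, mem_subgroupOf]
    change (x : G) • ((1 : G) : G ⧸ M) = _ ↔ _
    rw [smul_one_mk, eq_comm, QuotientGroup.eq, inv_one, one_mul]
  rw [← Set.ncard_coe_finset, h1, ← index_stabilizer, h2, relIndex]

theorem n1 {p : ℕ} [hp : Fact p.Prime] {e : ℕ} (he : ∀ d : D, p ^ e • d = 0) {M N : Subgroup G} (hle : M ≤ N)
    (hi : ¬ p ∣ M.relIndex N) (h : ∀ v ∈ fx D M, p • v = 0 → v ∈ fx D N) : fx D M ≤ fx D N := by
  suffices ∀ k, ∀ s ∈ fx D M, p ^ k • s = 0 → s ∈ fx D N from fun s hs => this e s hs (he s)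
  intro k
  induction k with
  | zero => intro s _ h0; rw [pow_zero, one_smul] at h0; rw [h0]; exact zero_mem _
  | succ k ih =>
    intro s hs h0
    have h1 : p • s ∈ fx D N := ih _ (nsmul_mem hs p) (by rw [smul_smul, ← pow_succ, h0])
    have h2 := OS_fx (FF_smul hs) N ((1 : G) : G ⧸ M)
    have h3 : OS (FF hs) N ((1 : G) : G ⧸ M) - M.relIndex N • s ∈ fx D N := by
      refine h _ (sub_mem (fx_anti hle h2) (nsmul_mem hs _)) ?_
      rw [← card_Ob, ← Finset.sum_const, OS, ← Finset.sum_sub_distrib, Finset.smul_sum]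
      refine Finset.sum_eq_zero fun x hx => ?_
      obtain ⟨g, hg, rfl⟩ := mem_Ob.1 hx
      rw [smul_one_mk, FF_mk, smul_sub, smul_comm, h1 g hg, sub_self]
    have h4 : M.relIndex N • s ∈ fx D N := by
      have := sub_mem h2 h3
      rwa [sub_sub_cancel] at this
    obtain ⟨a, b, hab⟩ := ((Nat.Prime.coprime_iff_not_dvd hp.out).2 hi).isCoprime
    have e1 : s = a • (p • s) + b • (M.relIndex N • s) := by
      rw [← natCast_zsmul, ← natCast_zsmul, smul_smul, smul_smul, ← add_smul, hab, one_smul]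
    rw [e1]
    exact add_mem (zsmul_mem h1 a) (zsmul_mem h4 b)

/-- a weakly closed subgroup fixes only the base point -/
theorem wc_lt {p : ℕ} [hp : Fact p.Prime] {N T M J : Subgroup G} (hTM : T ≤ M) (hMN : M ≤ N) (hT : IsPGroup p T)
    (hi : ¬ p ∣ T.relIndex N) (hJ : J ≤ T) (hw : ∀ g ∈ N, cj g J ≤ T → cj g J = J) (hn : N ⊓ N(J) ≤ M)
    {g : G} (hg : g ∈ N) (hne : (g : G ⧸ M) ≠ (1 : G)) : J ⊓ stabilizer G (g : G ⧸ M) < J := by
  refine lt_of_le_of_ne inf_le_left fun e => hne ?_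
  have h1 : J ≤ cj g M := by rw [← stab_mk, ← e]; exact inf_le_right
  have hS : Syl p T M := (syl_mk (hTM.trans hMN) (pG_iff.2 hT) hi).of_le hTM hMN
  obtain ⟨m, hm, h2⟩ := hS.scj_le (le_cj_iff.1 h1) (((pG_iff.2 hT).of_le hJ).J _)
  rw [cj_cj] at h2
  have h3 : m * g⁻¹ ∈ N := mul_mem (hMN hm) (inv_mem hg)
  have h4 := hn ⟨h3, mem_norm_iff_cj.2 (hw _ h3 h2)⟩
  rw [mul_mem_cancel_left hm] at h4
  rw [QuotientGroup.eq, mul_one]; exact h4

end nm

theorem na : NA.{u, v} := by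
  intro p _ G _ _ D _ _ e he N T M J hTM hMN hT hi hJ hNG hw hn
  refine n1 he hMN (fun h => hi (h.trans (relIndex_dvd_of_le_left N hTM))) fun v hv hpv => ?_
  have h1 : OS (FF hv) N ((1 : G) : G ⧸ M) = FF hv ((1 : G) : G ⧸ M) := by
    refine OS_split (K := J) (hJ.trans (hTM.trans hMN)) (fun k hk => ?_) fun x hx hne => ?_
    · rw [smul_one_mk, QuotientGroup.eq, mul_one]; exact inv_mem (hTM (hJ hk))
    · obtain ⟨g, hg, rfl⟩ := mem_Ob.1 hx
      rw [smul_one_mk] at hne ⊢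
      obtain ⟨J₁, h1, h2, h3⟩ := exists_idx (hT.to_le hJ) (wc_lt hTM hMN hT hi hJ hw hn hg hne)
      obtain ⟨a, ha, ha', hs⟩ := hNG J₁ h2 h3
      rw [OS_tower (FF_smul hv) (hT.to_le hJ) h2 h3 ha ha' h1]
      exact hs _ (OS_fx (FF_smul hv) _ _) (OS_tor (FF_tor hv hpv) _ _)
  have h2 := OS_fx (FF_smul hv) N ((1 : G) : G ⧸ M)
  rwa [h1, FF_mk, one_smul] at h2

end H23.CL
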