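import Cfsg.Agent.H23.CL4
set_option autoImplicit false
set_option linter.unusedSectionVars false
/-! S5242, chunk MO: minimal best offenders. -/
namespace H23.CL
open Subgroup H19 H18.CL

universe u v

section mo
variable {G : Type*} [Group G] {D : Type*} [AddCommGroup D] [Finite D] {p : ℕ} [hp : Fact p.Prime] {e : ℕ}

theorem dvd_addOrderOf {D : Type*} [AddCommGroup D] {r : D} (he : p ^ e • r = 0) (hr : r ≠ 0) : p ∣ addOrderOf r := by
  obtain ⟨j, -, hj⟩ := (Nat.dvd_prime_pow hp.out).1 (addOrderOf_dvd_of_nsmul_eq_zero he)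
  rw [hj]
  refine dvd_pow_self p fun h0 => hr ?_
  rw [h0, pow_zero] at hj
  exact AddMonoid.addOrderOf_eq_one_iff.1 hj

theorem card_step (he : ∀ d : D, p ^ e • d = 0) {H K : AddSubgroup D} (hle : H ≤ K) {w : D} (hw : w ∈ K)
    (hw' : w ∉ H) : p * Nat.card H ≤ Nat.card K := by
  let b : K ⧸ H.addSubgroupOf K := (⟨w, hw⟩ : K)
  have hb : b ≠ 0 := fun h => hw' ((QuotientAddGroup.eq_zero_iff (N := H.addSubgroupOf K) ⟨w, hw⟩).1 h)
  have h1 : p ^ e • b = 0 := by
    have : p ^ e • (⟨w, hw⟩ : K) = 0 := Subtype.ext (he w)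
    rw [← QuotientAddGroup.mk_nsmul, this, QuotientAddGroup.mk_zero]
  have h2 := (dvd_addOrderOf h1 hb).trans (addOrderOf_dvd_natCard b)
  rw [AddSubgroup.card_eq_card_quotient_mul_card_addSubgroup (H.addSubgroupOf K),
    Nat.card_congr (AddSubgroup.addSubgroupOfEquivOfLe hle).toEquiv]
  exact Nat.mul_le_mul_right _ (Nat.le_of_dvd Nat.card_pos h2)

theorem small_gen (he : ∀ d : D, p ^ e • d = 0) {R : AddSubgroup D} (hR : Nat.card R ≤ p) {r : D} (hr : r ∈ R)
    (h0 : r ≠ 0) : AddSubgroup.zmultiples r = R ∧ p • r = 0 := by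
  have h1 := Nat.le_of_dvd (addOrderOf_pos r) (dvd_addOrderOf (he r) h0)
  have hle : AddSubgroup.zmultiples r ≤ R := AddSubgroup.zmultiples_le.2 hr
  have h2 := AddSubgroup.card_le_of_le hle
  rw [Nat.card_zmultiples] at h2
  refine ⟨AddSubgroup.eq_of_le_of_card_ge hle (by rw [Nat.card_zmultiples]; omega), ?_⟩
  rw [show p = addOrderOf r by omega]; exact addOrderOf_nsmul_eq_zero r

variable [DistribMulAction G D]

theorem quad (he : ∀ d : D, p ^ e • d = 0) {a : G} (ha : a ^ p = 1) (hR : Nat.card (dl D a).range ≤ p) (d : D) :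
    a • dl D a d = dl D a d := by
  set r := dl D a d with hrd
  by_cases h0 : r = 0
  · rw [h0, smul_zero]
  obtain ⟨h1, h2⟩ := small_gen he hR ⟨d, rfl⟩ h0
  have h3 : a • r ∈ (dl D a).range := ⟨a • d, by rw [hrd, dl_apply, dl_apply, smul_sub]⟩
  rw [← h1] at h3
  obtain ⟨n, hn⟩ := AddSubgroup.mem_zmultiples_iff.1 h3
  have h4 : ∀ k : ℕ, a ^ k • r = n ^ k • r := by
    intro k
    induction k with
    | zero => simp
    | succ k ih => rw [pow_succ', mul_smul, ih, smul_comm, ← hn, smul_smul, pow_succ]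
  have h5 := h4 p
  rw [ha, one_smul] at h5
  obtain ⟨c, hc⟩ := Int.prime_dvd_pow_self_sub hp.out n
  have h6 : (n ^ p - n) • r = 0 := by
    rw [hc, mul_comm, mul_smul, natCast_zsmul]
    change c • p • r = 0
    rw [h2, smul_zero]
  rw [sub_smul, ← h5, sub_eq_zero] at h6
  rw [← hn]; exact h6.symm

theorem pow_quad {a : G} {w : D} (h : a • dl D a w = dl D a w) (i : ℕ) : a ^ i • w = w + i • dl D a w := by
  induction i with
  | zero => simp
  | succ i ih =>
    rw [pow_succ', mul_smul, ih, smul_add, smul_comm, h, succ_nsmul]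
    have : a • w = w + dl D a w := by rw [dl_apply]; abel
    rw [this]; abel

end mo

theorem mo : MO.{u, v} := by
  intro p hp G _ _ D _ _ _ _ e he P hP hQ
  obtain ⟨A, ⟨hAP, hA⟩, hmin⟩ := (wellFounded_lt (α := Subgroup G)).has_min {A | A ≤ P ∧ BO D A} hQ
  have hD : Nat.card D ≤ Nat.card A * Nat.card (fx D A) := by rw [← card_bot_fx (G := G)]; exact hA.2.2 ⊥ bot_le
  have hsm : ∀ B, B < A → B ≠ ⊥ → Nat.card B * Nat.card (fx D B) < Nat.card D := by
    intro B hB hB0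
    by_contra hn
    obtain ⟨B', ⟨h1, h2⟩, hmax⟩ := Set.exists_max_image {B' : Subgroup G | B' ≤ B ∧ B' ≠ ⊥}
      (fun B' => Nat.card B' * Nat.card (fx D B')) (Set.toFinite _) ⟨B, le_rfl, hB0⟩
    refine hmin B' ⟨(h1.trans hB.le).trans hAP, h2, fun a ha b hb => hA.2.1 a (hB.le (h1 ha)) b (hB.le (h1 hb)),
      fun B'' hB'' => ?_⟩ (lt_of_le_of_lt h1 hB)
    by_cases h0 : B'' = ⊥
    · rw [h0, card_bot_fx]
      exact (not_lt.1 hn).trans (hmax B ⟨le_rfl, hB0⟩)
    · exact hmax B'' ⟨hB''.trans h1, h0⟩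
  have hAp : IsPGroup p A := hP.to_le hAP
  have hpick : ∀ J₁ : Subgroup G, J₁.relIndex A = p → ∃ a ∈ A, a ∉ J₁ := fun J₁ hi =>
    SetLike.not_le_iff_exists.1 fun h => hp.out.one_lt.ne' (hi.symm.trans (relIndex_eq_one.2 h))
  by_cases hc : Nat.card A = p
  swap
  · refine Or.inl ⟨A, hAP, hAp, ⟨A, le_rfl, hA⟩, fun J₁ hJ hi => ?_⟩
    obtain ⟨a, ha, ha'⟩ := hpick J₁ hi
    refine ⟨a, ha, ha', fun w hw hpw => ?_⟩
    have hJ0 : J₁ ≠ ⊥ := by
      rintro rfl
      exact hc (by rw [← hi, relIndex_bot_left])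
    have h1 := hsm J₁ (lt_of_le_of_ne hJ fun e => ha' (e ▸ ha)) hJ0
    have hwA : w ∈ fx D A := by
      by_contra hn
      have h2 := card_step he (fx_anti hJ) hw hn
      have h3 := card_mul_relIndex hJ
      rw [hi] at h3
      rw [← h3, mul_assoc] at hD
      exact absurd (lt_of_lt_of_le h1 (hD.trans (Nat.mul_le_mul_left _ h2))) (lt_irrefl _)
    rw [Finset.sum_congr rfl fun i _ => hwA _ (pow_mem ha i), Finset.sum_const, Finset.card_range, hpw]
  have hgen : ∀ a ∈ A, a ≠ 1 → a ^ p = 1 ∧ Nat.card (dl D a).range ≤ p := by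
    intro a ha h1
    have h2 : zpowers a = A := by
      refine eq_of_le_of_card_ge (zpowers_le.2 ha) ?_
      have := card_dvd_of_le (zpowers_le.2 ha)
      rw [hc] at this ⊢
      rcases (Nat.dvd_prime hp.out).1 this with h | h
      · exact absurd (zpowers_eq_bot.1 (card_eq_one.1 h)) h1
      · exact h.ge
    constructor
    · rw [← hc, ← h2, Nat.card_zpowers, pow_orderOf_eq_one]
    · rw [hc, ← card_dl a, h2, mul_comm p] at hD
      exact Nat.le_of_mul_le_mul_left hD Nat.card_pos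
  by_cases h2 : p = 2
  · refine Or.inr ⟨h2, ?_⟩
    obtain ⟨a, ha, h1⟩ := (A.bot_or_exists_ne_one).resolve_left hA.1
    obtain ⟨-, hR⟩ := hgen a ha h1
    have : ∃ d : D, a • d ≠ d := by
      by_contra hn
      push Not at hn
      exact h1 (eq_of_smul_eq_smul (α := D) fun d => by rw [hn, one_smul])
    obtain ⟨d, hd⟩ := this
    have h0 : dl D a d ≠ 0 := fun h => hd (by rwa [dl_apply, sub_eq_zero] at h)
    obtain ⟨h3, h4⟩ := small_gen he hR ⟨d, rfl⟩ h0
    refine ⟨a, hAP ha, dl D a d, h0, ⟨d, hd⟩, fun x => ?_⟩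
    have h5 : dl D a x ∈ AddSubgroup.zmultiples (dl D a d) := by rw [h3]; exact ⟨x, rfl⟩
    obtain ⟨n, hn⟩ := AddSubgroup.mem_zmultiples_iff.1 h5
    have h6 : (2 : ℤ) • dl D a d = 0 := by rw [h2] at h4; exact_mod_cast h4
    have h7 : a • x = x + dl D a x := by rw [dl_apply]; abel
    rw [h7, ← hn]
    rcases Int.even_or_odd' n with ⟨k, rfl | rfl⟩
    · left; rw [mul_comm, mul_smul, h6, smul_zero, add_zero]
    · right; rw [add_smul, mul_comm, mul_smul, h6, smul_zero, zero_add, one_smul]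
  · refine Or.inl ⟨A, hAP, hAp, ⟨A, le_rfl, hA⟩, fun J₁ _ hi => ?_⟩
    obtain ⟨a, ha, ha'⟩ := hpick J₁ hi
    refine ⟨a, ha, ha', fun w _ hpw => ?_⟩
    obtain ⟨h3, hR⟩ := hgen a ha fun h => ha' (h ▸ one_mem _)
    rw [Finset.sum_congr rfl fun i _ => pow_quad (quad he h3 hR w) i, Finset.sum_add_distrib, Finset.sum_const,
      Finset.card_range, hpw, zero_add, ← Finset.sum_smul]
    have h4 : p ∣ ∑ i ∈ Finset.range p, i := by
      refine Nat.Coprime.dvd_of_dvd_mul_right ((Nat.coprime_primes hp.out Nat.prime_two).2 h2) ?_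
      rw [Finset.sum_range_id_mul_two]; exact dvd_mul_right _ _
    obtain ⟨c, hc⟩ := h4
    rw [hc, mul_comm, mul_smul, ← map_nsmul, hpw, map_zero, smul_zero]

end H23.CL
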