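import Cfsg.Agent.H23.CL4
set_option autoImplicit false
set_option linter.unusedSectionVars false
/-! S5242, chunk EX: failure of the norm argument gives a solitary transvection. -/
namespace H23.CL
open Subgroup H19 H18.CL MulAction

universe u v

section ex
variable {G : Type*} [Group G] [Finite G] {D : Type*} [AddCommGroup D] [Finite D] [DistribMulAction G D]
  [FaithfulSMul G D] {N T : Subgroup G}

variable (D) in
/-- transvections in `T` -/
def TrS (T : Subgroup G) : Set G := {c | c ∈ T ∧ ∃ v : D, Tv c v}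

theorem TrS_cj (g : G) (T : Subgroup G) : TrS D (cj g T) = (fun x => g * x * g⁻¹) '' TrS D T := by
  ext x
  constructor
  · rintro ⟨h1, v, hv⟩
    refine ⟨g⁻¹ * x * g, ⟨mem_cj.1 h1, g⁻¹ • v, ?_⟩, by group⟩
    simpa using tv_conj hv g⁻¹
  · rintro ⟨y, ⟨h1, v, hv⟩, rfl⟩
    exact ⟨conj_mem_cj.2 h1, _, tv_conj hv g⟩

theorem conj_inj (g : G) : Function.Injective fun x : G => g * x * g⁻¹ := fun x y h => by simpa using h

theorem ncard_TrS_cj (g : G) (T : Subgroup G) : (TrS D (cj g T)).ncard = (TrS D T).ncard := by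
  rw [TrS_cj, Set.ncard_image_of_injective _ (conj_inj g)]

theorem ET_le (T : Subgroup G) : ET D T ≤ T := (closure_le _).2 fun _ h => h.1

theorem ET_cj (g : G) (T : Subgroup G) : cj g (ET D T) = ET D (cj g T) := by
  change cj g (closure (TrS D T)) = closure (TrS D (cj g T))
  rw [cj_closure, TrS_cj]

theorem tv_sym (hS : Syl 2 T N) (hng : ∀ J ≤ T, ¬ Good D 2 J) {a b : G} {va vb : D} (haN : a ∈ N) (hbN : b ∈ N)
    (ha : Tv a va) (hb : Tv b vb) (f : b • va = va) : a • vb = vb := by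
  by_contra m
  have hle : closure {b, a * b * a * b} ≤ N := by
    rw [closure_le]
    rintro _ (rfl | rfl)
    exacts [hbN, mul_mem (mul_mem (mul_mem haN hbN) haN) hbN]
  obtain ⟨n, -, hn⟩ := hS.scj_le hle (PiN.of_isPGroup Nat.prime_two (tv_good ha hb m f).1)
  have m' : (n * a * n⁻¹) • n • vb ≠ n • vb := by
    rw [mul_smul, inv_smul_smul, mul_smul]; exact fun e => m (smul_left_cancel n e)
  have f' : (n * b * n⁻¹) • n • va = n • va := by rw [mul_smul, inv_smul_smul, mul_smul, f]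
  refine hng _ ?_ (tv_good (tv_conj ha n) (tv_conj hb n) m' f')
  rw [closure_le]
  rintro _ (rfl | rfl)
  · exact hn (conj_mem_cj.2 (subset_closure (by simp)))
  · have e : n * a * n⁻¹ * (n * b * n⁻¹) * (n * a * n⁻¹) * (n * b * n⁻¹) = n * (a * b * a * b) * n⁻¹ := by group
    rw [e]
    exact hn (conj_mem_cj.2 (subset_closure (by simp)))

theorem tv_cm (hS : Syl 2 T N) (hng : ∀ J ≤ T, ¬ Good D 2 J) {P : Subgroup G} (hP : PG 2 P) (hPN : P ≤ N) {a b : G}
    {va vb : D} (haP : a ∈ P) (hbP : b ∈ P) (ha : Tv a va) (hb : Tv b vb) : a • vb = vb ∧ b • va = va := by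
  rcases tv_pgroup hP.isPGroup haP hbP ha hb with h | h
  · exact ⟨h, tv_sym hS hng (hPN hbP) (hPN haP) hb ha h⟩
  · exact ⟨tv_sym hS hng (hPN haP) (hPN hbP) ha hb h, h⟩

theorem quadr (hS : Syl 2 T N) (hng : ∀ J ≤ T, ¬ Good D 2 J) {a : G} (ha : a ∈ ET D T) (w : D) :
    a • w - w ∈ fx D (ET D T) := by
  induction ha using closure_induction generalizing w with
  | mem c hc =>
    obtain ⟨hcT, v, hv⟩ := hc
    rcases hv.2.2 w with h | h
    · rw [h, sub_self]; exact zero_mem _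
    · rw [h, add_sub_cancel_left]
      intro g hg
      refine (closure_le (stabilizer G v)).2 ?_ hg
      rintro c' ⟨hc', v', hv'⟩
      exact (tv_cm hS hng hS.pi hS.le hc' hcT hv' hv).1
  | one => rw [one_smul, sub_self]; exact zero_mem _
  | mul x y _ _ hx hy =>
    have : (x * y) • w - w = (x • (y • w) - y • w) + (y • w - w) := by rw [mul_smul]; abel
    rw [this]; exact add_mem (hx _) (hy _)
  | inv x _ hx =>
    have : x⁻¹ • w - w = -(x • (x⁻¹ • w) - x⁻¹ • w) := by rw [smul_inv_smul]; abel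
    rw [this]; exact neg_mem (hx _)

/-- a transvection of `N` centralizing all transvections of `T` lies in `T` -/
theorem tv_max (hS : Syl 2 T N) {b : G} {v : D} (hbN : b ∈ N) (hb : Tv b v) (hc : ∀ c ∈ TrS D T, c * b = b * c) :
    b ∈ T := by
  by_contra hn
  have h1 : ET D T ≤ C[b] := (closure_le _).2 fun c h => mem_cent1.2 (hc c h)
  have h2 : PG 2 (zpowers b) := PiN.of_card Nat.prime_two (by
    rw [Nat.card_zpowers]; exact orderOf_eq_prime (by rw [sq, tv_sq hb]) (tv_ne_one hb))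
  have h3 : PG 2 (ET D T ⊔ zpowers b) :=
    (hS.pi.of_le (ET_le T)).sup' h2 (h1.trans (cent1_le_norm_zpowers b))
  obtain ⟨n, -, hle⟩ := hS.sle_cj (sup_le ((ET_le T).trans hS.le) (zpowers_le.2 hbN)) h3
  have h4 : insert b (TrS D T) ⊆ TrS D (cj n T) := by
    rintro c (rfl | hc')
    · exact ⟨hle (mem_sup_right (mem_zpowers _)), v, hb⟩
    · exact ⟨hle (mem_sup_left (subset_closure hc')), hc'.2⟩
  have h5 := Set.ncard_le_ncard h4 (Set.toFinite _)
  rw [ncard_TrS_cj, Set.ncard_insert_of_notMem (fun h => hn h.1) (Set.toFinite _)] at h5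
  omega

end ex

theorem ex : EX.{u, v} := by
  intro G _ _ D _ _ _ _ e he N T M hTM hMN hT hi hng hn hfx
  have : Fact (Nat.Prime 2) := ⟨Nat.prime_two⟩
  have hS : Syl 2 T N := syl_mk (hTM.trans hMN) (pG_iff.2 hT) hi
  obtain ⟨v, hv, h2v, hvN⟩ : ∃ v ∈ fx D M, 2 • v = 0 ∧ v ∉ fx D N := by
    by_contra hc
    push Not at hc
    exact hfx (n1 he hMN (fun h => hi (h.trans (relIndex_dvd_of_le_left N hTM))) hc)
  set E := ET D T with hE
  have hET : E ≤ T := ET_le T
  have hEp : IsPGroup 2 E := hT.to_le hET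
  have hw : ∀ g ∈ N, cj g E ≤ T → cj g E = E := by
    intro g _ hg
    refine eq_of_le_of_card_ge ?_ (card_cj g E).ge
    rw [hE, ET_cj]
    refine closure_mono fun c hc => ⟨hg ?_, hc.2⟩
    rw [hE, ET_cj]; exact subset_closure hc
  obtain ⟨x, hx, hne, hu⟩ : ∃ x ∈ Ob N ((1 : G) : G ⧸ M), x ≠ (1 : G) ∧ OS (FF hv) E x ≠ 0 := by
    by_contra hc
    push Not at hc
    have h1 := OS_split (K := E) (hET.trans hS.le) (fun k hk => by
      rw [smul_one_mk, QuotientGroup.eq, mul_one]; exact inv_mem (hTM (hET hk))) hc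
    have h2 := OS_fx (FF_smul hv) N ((1 : G) : G ⧸ M)
    rw [h1, FF_mk, one_smul] at h2
    exact hvN h2
  obtain ⟨g, hg, rfl⟩ := mem_Ob.1 hx
  rw [smul_one_mk] at hne hu
  have two : ∀ (a : G) (y : D), ∑ i ∈ Finset.range 2, a ^ i • y = y + a • y := fun a y => by
    rw [Finset.sum_range_succ, Finset.sum_range_one, pow_zero, pow_one, one_smul]
  have pick : ∀ J K : Subgroup G, J.relIndex K = 2 → ∃ a ∈ K, a ∉ J := fun J K hi =>
    SetLike.not_le_iff_exists.1 fun h => by rw [relIndex_eq_one.2 h] at hi; exact absurd hi (by norm_num)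
  have hlt := wc_lt hTM hMN hT hi hET hw hn hg hne
  set E0 := E ⊓ stabilizer G (g : G ⧸ M) with hE0
  set u := OS (FF hv) E (g : G ⧸ M) with hudef
  have hidx : E0.relIndex E = 2 := by
    obtain ⟨J₁, h1, h2, h3⟩ := exists_idx hEp hlt
    rcases h1.eq_or_lt with h4 | h4
    · rw [h4]; exact h3
    exfalso
    obtain ⟨J₂, h5, h6, h7⟩ := exists_idx (hEp.to_le h2) h4
    obtain ⟨a, ha, ha'⟩ := pick _ _ h3
    obtain ⟨a', hb, hb'⟩ := pick _ _ h7
    have e1 := OS_tower (FF_smul hv) hEp h2 h3 ha ha' h1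
    have e2 := OS_tower (FF_smul hv) (hEp.to_le h2) h6 h7 hb hb' ((inf_le_inf_right _ h2).trans h5)
    have t2 := OS_tor (FF_tor hv h2v) J₂ (g : G ⧸ M)
    have t1 := OS_tor (FF_tor hv h2v) J₁ (g : G ⧸ M)
    rw [two] at e1 e2
    have h8 : OS (FF hv) J₁ (g : G ⧸ M) ∈ fx D E := by
      have : OS (FF hv) J₁ (g : G ⧸ M) = a' • OS (FF hv) J₂ (g : G ⧸ M) - OS (FF hv) J₂ (g : G ⧸ M) := by
        rw [e2]; rw [two_nsmul] at t2; linear_combination (norm := abel) t2
      rw [this]; exact quadr hS hng (h2 hb) _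
    rw [h8 a ha, ← two_nsmul, t1] at e1
    exact hu e1
  have hw2 : g • v + g • v = 0 := by rw [← smul_add, ← two_nsmul, h2v, smul_zero]
  have hout : ∀ a ∈ E, a ∉ E0 → a • g • v = g • v + u := by
    intro a ha ha'
    have e1 := OS_tower (FF_smul hv) hEp hlt.le hidx ha ha' le_rfl
    rw [two, OS_fix (K := E0) (fun k hk => (mem_inf.1 hk).2), FF_mk] at e1
    rw [hudef, e1, ← add_assoc, hw2, zero_add]
  have hcen : ∀ c (vc : D), c ∈ T → Tv c vc → c ∉ E0 → Tv c u := by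
    intro c vc hc hvc hc0
    have h1 := hout c (subset_closure ⟨hc, vc, hvc⟩) hc0
    have h2 : c • g • v ≠ g • v := fun h => hu (by rw [h] at h1; linear_combination (norm := abel) -h1)
    have : u = vc := add_left_cancel (h1.symm.trans (tv_mv hvc h2))
    rwa [this]
  have hM' : cj g M ≤ N := cj_le_of_mem hg hMN
  have hS' : Syl 2 (cj g T) (cj g M) := (hS.of_le hTM hMN).J g
  obtain ⟨y, hy, hle⟩ := hS'.sle_cj (inf_le_right.trans (stab_mk g).le) (hS.pi.of_le (hlt.le.trans hET))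
  have hT'M : cj y (cj g T) ≤ cj g M := cj_le_of_mem hy hS'.le
  obtain ⟨b', hb'1, hb'2⟩ : ∃ b' ∈ TrS D (cj y (cj g T)), b' ∉ TrS D T := by
    by_contra hc
    push Not at hc
    have h1 := Set.eq_of_subset_of_ncard_le hc (by rw [ncard_TrS_cj, ncard_TrS_cj]) (Set.toFinite _)
    refine hlt.not_ge (le_inf le_rfl ((closure_le _).2 fun c hc' => ?_))
    have : c ∈ TrS D (cj y (cj g T)) := h1 ▸ hc'
    rw [stab_mk]; exact hT'M this.1
  obtain ⟨hb'T, v', hv'⟩ := hb'1
  have hb'N : b' ∈ N := hM' (hT'M hb'T)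
  have hcm0 : ∀ c (vc : D), c ∈ E0 → Tv c vc → c • v' = v' ∧ b' • vc = vc := fun c vc hc hvc =>
    tv_cm hS hng (hS'.pi.J y) (hT'M.trans hM') (hle hc) hb'T hvc hv'
  obtain ⟨b, ⟨hbT, vb, hvb⟩, hb⟩ : ∃ b ∈ TrS D T, b * b' ≠ b' * b := by
    by_contra hc
    push Not at hc
    exact hb'2 ⟨tv_max hS hb'N hv' hc, v', hv'⟩
  have hb0 : b ∉ E0 := fun h => hb ((tv_comm hvb hv').2 (hcm0 b vb h hvb))
  have hbu := hcen b vb hbT hvb hb0
  have hmv : b' • u ≠ u := fun h =>
    hb ((tv_comm hbu hv').2 ⟨tv_sym hS hng (hS.le hbT) hb'N hbu hv' h, h⟩)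
  have hbE : b ∈ E := subset_closure ⟨hbT, vb, hvb⟩
  refine ⟨b, ⟨hbT, u, b', v', hbu, hb'N, hv', hmv, fun c hc vc hvc hcb => ?_⟩, g⁻¹, inv_mem hg, fun h => hb0 (mem_inf.2 ⟨hbE, ?_⟩)⟩
  · by_cases hc0 : c ∈ E0
    · exact (tv_comm hvc hv').2 (hcm0 c vc hc0 hvc)
    exfalso
    have hcu := hcen c vc hc hvc hc0
    have hcE : c ∈ E := subset_closure ⟨hc, vc, hvc⟩
    have h1 := tv_mul hbu hcu hcb.symm
    refine hmv (hcm0 _ u ?_ h1).2
    by_contra h2
    have h3 := hout _ (mul_mem hbE hcE) h2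
    rw [mul_smul, hout c hcE hc0, smul_add, hout b hbE hb0, tv_fix hbu] at h3
    exact hu (by linear_combination (norm := abel) h3)
  · rw [stab_mk, mem_cj]
    simpa using h

end H23.CL
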