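import Cfsg.Agent.H23.CjAll1
import Cfsg.Agent.H10.Cyc2
import Cfsg.Agent.H27.SmallGroups
import Cfsg.Agent.H11.Small

/-!
# Groups in which `p`-subgroups of equal order are conjugate: elementary abelian Sylow
`2`-subgroups
-/

open Subgroup Cfsg MatrixGroups
open scoped Pointwise

namespace H23

universe u

variable {G : Type u} [Group G] [Finite G] {p : ℕ}

theorem factorization_of_eq (hp : p.Prime) {n m k : ℕ} (h : n = p ^ m * k) (hk : ¬ p ∣ k) :
    n.factorization p = m := by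
  rw [h, Nat.factorization_mul (pow_ne_zero _ hp.ne_zero) (by rintro rfl; simp at hk),
    Finsupp.add_apply, hp.factorization_pow, Finsupp.single_eq_same,
    Nat.factorization_eq_zero_of_not_dvd hk, add_zero]

theorem pow_mod_eight {f : ℕ} (h : p ^ f % 8 = 3 ∨ p ^ f % 8 = 5) :
    (p % 8 = 3 ∨ p % 8 = 5) ∧ Odd f := by
  have h0 : f ≠ 0 := by rintro rfl; simp at h
  have h1 : p % 2 = 1 := Nat.odd_iff.1 ((Nat.odd_pow_iff h0).1 (Nat.odd_iff.2 (by omega)))
  have h2 : ∀ k, p ^ (2 * k) % 8 = 1 := fun k => by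
    have : p ^ 2 % 8 = 1 := by
      rw [Nat.pow_mod]
      rcases (by omega : p % 8 = 1 ∨ p % 8 = 3 ∨ p % 8 = 5 ∨ p % 8 = 7) with e | e | e | e <;> rw [e]
    rw [pow_mul, Nat.pow_mod, this, one_pow, Nat.one_mod]
  obtain ⟨k, rfl | rfl⟩ := Nat.even_or_odd' f
  · rw [h2] at h; omega
  · rw [pow_succ, Nat.mul_mod, h2, one_mul, Nat.mod_mod] at h
    exact ⟨h, k, rfl⟩

/-- `L₂(p)` or `L₂(p³)` with `p ≡ ±3 (mod 8)`, not `L₂(3)`. -/
def L2Good (G : Type*) [Group G] : Prop :=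
  ∃ (p : ℕ) (_ : Fact p.Prime) (f : ℕ), (p % 8 = 3 ∨ p % 8 = 5) ∧ (f = 1 ∨ f = 3) ∧ 3 < p ^ f ∧
    Nonempty (G ≃* PSL(2, GaloisField p f))

theorem l2Good_of (hD : ∀ p : ℕ, p.Prime → Cj p G) {L : Subgroup G} [L.Normal]
    (hC : centralizer (L : Set G) = ⊥) (hc : (Nat.card L).Coprime L.index)
    (h : H17.GS.IsL2pm L) : L2Good G ∧ (Nat.card G).factorization 2 = 2 := by
  obtain ⟨F, _, _, h8, h5, ⟨e⟩⟩ := h
  obtain ⟨p, _, ⟨f, hf⟩, hp, hq⟩ := FiniteField.card' F
  haveI := Fact.mk hp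
  change _ = p ^ f at hq
  obtain ⟨σ⟩ := psl_gf hf.ne' hq
  let e' := e.trans (H11.pslCongr (Equiv.refl _) σ)
  obtain ⟨h1, h2, -⟩ := index_dvd_of_psl hf.ne' hC e'
  have hpa := H20.JT.pa_psl p (F := F) (Nat.odd_iff.2 (by omega))
    (φ := L.subtype.comp e.symm.toMonoidHom) (L.subtype_injective.comp e.symm.injective)
  rw [MonoidHom.range_comp, MonoidHom.range_eq_top.2 e.symm.surjective, ← MonoidHom.range_eq_map,
    L.range_subtype, hq] at hpa
  rw [hq] at h8 h5
  obtain ⟨h3, h4⟩ := pow_mod_eight h8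
  have hp2 : p ≠ 2 := by omega
  rw [show Nat.gcd 2 (p ^ f - 1) = 2 from Nat.gcd_eq_left (by omega)] at h1 h2
  have h6 : ∃ k, Nat.card L = 2 ^ 2 * k ∧ ¬ 2 ∣ k ∧ 3 ∣ k := by
    generalize p ^ f = q at h1 h8
    have h7 : 3 ∣ q * (q ^ 2 - 1) := by
      rcases q with _ | q
      · simp
      rw [show (q + 1) ^ 2 - 1 = q * (q + 2) from Nat.sub_eq_of_eq_add (by ring)]
      rcases (by omega : 3 ∣ q ∨ 3 ∣ q + 1 ∨ 3 ∣ q + 2) with e | e | e
      · exact (e.mul_right _).mul_left _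
      · exact e.mul_right _
      · exact (e.mul_left _).mul_left _
    have h9 : ∃ k, q * (q ^ 2 - 1) = 8 * k ∧ Odd k := by
      rcases h8 with e | e
      · obtain ⟨k, rfl⟩ : ∃ k, q = 8 * k + 3 := ⟨q / 8, by omega⟩
        refine ⟨(8 * k + 3) * ((4 * k + 1) * (2 * k + 1)), ?_, by simp [parity_simps]⟩
        rw [show (8 * k + 3) ^ 2 - 1 = 8 * ((4 * k + 1) * (2 * k + 1)) from
          Nat.sub_eq_of_eq_add (by ring)]; ring
      · obtain ⟨k, rfl⟩ : ∃ k, q = 8 * k + 5 := ⟨q / 8, by omega⟩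
        refine ⟨(8 * k + 5) * ((4 * k + 3) * (2 * k + 1)), ?_, by simp [parity_simps]⟩
        rw [show (8 * k + 5) ^ 2 - 1 = 8 * ((4 * k + 3) * (2 * k + 1)) from
          Nat.sub_eq_of_eq_add (by ring)]; ring
    obtain ⟨k, e1, e2⟩ := h9
    exact ⟨k, by omega, by have := Nat.odd_iff.1 e2; omega, by omega⟩
  obtain ⟨k, e1, e2, e3⟩ := h6
  have hi2 : ¬ 2 ∣ L.index := fun e => Nat.prime_two.not_dvd_one
    (hc ▸ Nat.dvd_gcd (e1 ▸ ⟨2 * k, by ring⟩) e)
  have hf3 : f = 1 ∨ f = 3 := by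
    rcases (by have := Nat.odd_iff.1 h4; omega : f = 1 ∨ 3 ≤ f) with e | e
    · exact .inl e
    have hpL : p ∣ Nat.card L := (Nat.coprime_primes hp Nat.prime_two).2 hp2 |>.dvd_of_dvd_mul_left
      (h1 ▸ (dvd_pow_self p hf.ne').mul_right _)
    obtain ⟨c, hc1⟩ := exists_prime_orderOf_dvd_card' p hpL
    obtain ⟨U, B, hU, -⟩ := hpa.uni c c.2 (fun e => by
      rw [← orderOf_coe, e, orderOf_one] at hc1; exact hp.one_lt.ne hc1)
      (by rw [← hc1, ← orderOf_coe, pow_orderOf_eq_one])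
    have h7 : (Nat.card G).factorization p = f := by
      have h9 := factorization_of_eq hp (n := 2 * Nat.card G) (m := f)
        (k := ((p ^ f) ^ 2 - 1) * L.index) (by rw [← card_mul_index L, ← mul_assoc, h1, mul_assoc])
        fun e => by
          rcases (Nat.Prime.dvd_mul hp).1 e with e | e
          · exact hp.not_dvd_one ((Nat.dvd_sub_iff_right (Nat.one_le_pow _ _ (by positivity))
              ((dvd_pow_self p hf.ne').pow two_ne_zero)).1 e)
          · exact hp.not_dvd_one (hc ▸ Nat.dvd_gcd hpL e)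
      rwa [Nat.factorization_mul two_ne_zero Nat.card_pos.ne', Finsupp.add_apply,
        Nat.factorization_eq_zero_of_not_dvd (mt (Nat.prime_dvd_prime_iff_eq hp Nat.prime_two).1
          hp2), zero_add] at h9
    refine .inr (((hD p hp).sylow_cases (Sylow.ofCard U (h7.symm ▸ hU.card))
      ⟨⟨⟨fun a b => Subtype.ext (hU.comm a a.2 b b.2)⟩⟩, hU.exp⟩ hU.card e
      (isSolvable_of_not_four_dvd fun h9 => ?_)).resolve_right fun e => hp2 e.2.1)
    change 4 ∣ Nat.card (normalizer (U : Set G)) at h9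
    obtain ⟨⟨x, hx⟩, hx1⟩ := ne_bot_iff_exists_ne_one.1 (show U ≠ ⊥ from fun e => by
      have := hU.card; rw [e, card_bot] at this; omega)
    have h10 : L ⊓ normalizer (U : Set G) ≤ B := fun g hg =>
      hU.ti x hx (fun e => hx1 (Subtype.ext e)) g hg.1 ((mem_normalizer_iff.1 hg.2 x).1 hx)
    rw [← H1.relIndex_mul_card_inf L] at h9
    have h11 := ((Nat.Coprime.pow_left 2 (Nat.prime_two.coprime_iff_not_dvd.2 fun e => hi2 (e.trans
      (relIndex_dvd_index_of_normal L _)))).dvd_of_dvd_mul_left h9).trans (card_dvd_of_le h10)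
    have h12 := (Nat.Coprime.pow_left 3 (Nat.coprime_two_left.2 (Nat.odd_iff.2
      (show p ^ f % 2 = 1 by omega)))).dvd_of_dvd_mul_left (hU.cardB ▸ mul_dvd_mul_left 2 h11)
    omega
  have hi : L.index = 1 := Nat.eq_one_of_dvd_coprimes (hc.coprime_dvd_left (m := 6)
    (Nat.Coprime.mul_dvd_of_dvd_of_dvd (m := 2) (n := 3) (by decide) (e1 ▸ ⟨2 * k, by ring⟩)
      (e1 ▸ e3.mul_left _))) (h2.trans (by rcases hf3 with rfl | rfl <;> decide)) dvd_rfl
  obtain rfl := index_eq_one.1 hi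
  exact ⟨⟨p, ‹_›, f, h3, hf3, by omega, ⟨topEquiv.symm.trans e'⟩⟩,
    factorization_of_eq Nat.prime_two (card_top.symm.trans e1) e2⟩

theorem isKleinFour_of {S : Subgroup G} (hS : IsElementaryAbelian 2 S) (h4 : Nat.card S = 4) :
    IsKleinFour S := by
  haveI : Nontrivial S := Finite.one_lt_card_iff_nontrivial.1 (by omega)
  exact ⟨h4, (Monoid.exponent_eq_prime_iff Nat.prime_two).2
    fun g hg => orderOf_eq_prime (Subtype.ext (hS.2 g g.2)) hg⟩

theorem cj_core (hD : ∀ p : ℕ, p.Prime → Cj p G) (hO : oddCore G = ⊥) (S : Sylow 2 G)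
    (hS : IsElementaryAbelian 2 (S : Subgroup G)) (hc : ¬ IsCyclic (S : Subgroup G)) :
    (Nat.card (S : Subgroup G) = 4 ∧ (Nonempty (G ≃* alternatingGroup (Fin 4)) ∨
      Nonempty (G ≃* alternatingGroup (Fin 5)) ∨ L2Good G)) ∨
    (8 ≤ Nat.card (S : Subgroup G) ∧ (Nonempty (G ≃* affineGroup (GaloisField 2 3)) ∨
      Nonempty (G ≃* semiaffineGroup (GaloisField 2 3)) ∨
      Nonempty (G ≃* semiaffineGroup (GaloisField 2 5)) ∨
      Nonempty (G ≃* PSL(2, GaloisField 2 3)) ∨ Nonempty (G ≃* MulAut PSL(2, GaloisField 2 5)) ∨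
      ∃ L : Subgroup G, L.Normal ∧ H17.GS.Sim L ∧ H17.GS.JRt L ∧ centralizer (L : Set G) = ⊥ ∧
        (Nat.card L).Coprime L.index)) := by
  obtain ⟨n, hn⟩ := S.isPGroup'.exists_card_eq
  have hn2 : 2 ≤ n := by
    by_contra h
    exact hc (isCyclic_of_card_dvd_prime (p := 2) (hn.dvd.trans
      (by simpa using pow_dvd_pow 2 (show n ≤ 1 by omega))))
  have h8 : 3 ≤ n → 8 ≤ Nat.card (S : Subgroup G) := fun h =>
    hn ▸ Nat.pow_le_pow_right (n := 2) two_pos h
  have h2 := hD 2 Nat.prime_two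
  by_cases hs : Group.IsSolvable G
  · have h1 := H1.centralizer_pCore_le_of_isPSolvable (H1.isPSolvable_of_isSolvable (p := 2) hs) hO
    have h3 : pCore 2 G ≤ S := H1.pCore_le_sylow S
    have h4 : (S : Subgroup G) = pCore 2 G := le_antisymm
      (((H9.IsElementaryAbelian.le_centralizer hS).trans (centralizer_le h3)).trans h1) h3
    haveI : (S : Subgroup G).Normal := h4 ▸ inferInstance
    rcases hn2.eq_or_lt with rfl | hn3
    · have hz : ∀ g : G, g ≠ 1 → ¬ (zpowers g).Normal := fun g hg hN => by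
        by_cases e : 2 ∣ Nat.card (zpowers g)
        · obtain ⟨t, ht⟩ := exists_prime_orderOf_dvd_card' 2 e
          refine hc (isCyclic_of_le (H' := zpowers g) fun y hy => ?_)
          rcases eq_or_ne y 1 with rfl | h5
          · exact one_mem _
          obtain ⟨x, rfl⟩ := h2.conj_inv (s := t) (by rw [orderOf_coe, ht])
            (orderOf_eq_prime (hS.2 y hy) h5)
          exact hN.conj_mem _ t.2 x
        · exact hg (zpowers_eq_bot.1 (le_bot_iff.1 (hO ▸ H1.le_pPrimeCore_of_not_dvd hN e)))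
      refine .inl ⟨hn, .inl (H27.A4_of_card ?_ hz)⟩
      haveI := hS.1
      have h5 := H10.relIndex_kleinFour_dvd (isKleinFour_of hS hn)
      rw [normalizer_eq_top, relIndex_top_right, le_antisymm (h4 ▸ h1 : centralizer _ ≤ S.1)
        (le_centralizer _)] at h5
      have h6 := S.not_dvd_index
      have h7 : (S : Subgroup G).index ≠ 1 := fun e => by
        obtain ⟨⟨g, hg⟩, hg1⟩ := ne_bot_iff_exists_ne_one.1 (show (S : Subgroup G) ≠ ⊥ from
          fun e => by rw [e, card_bot] at hn; omega)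
        refine hz g (fun e => hg1 (Subtype.ext e)) ⟨fun x hx y => ?_⟩
        rwa [H9.IsElementaryAbelian.comm hS (index_eq_one.1 e ▸ mem_top y) (zpowers_le.2 hg hx),
          mul_inv_cancel_right]
      have h9 := Nat.le_of_dvd (by decide) h5
      rw [← card_mul_index (S : Subgroup G), hn]
      interval_cases (S : Subgroup G).index <;> omega
    · obtain ⟨f, hf, -, h5⟩ := h2.affine hO S hS hn3 hn
      have h6 : ∀ {H}, f.range = H → Nonempty (G ≃* H) := fun e =>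
        ⟨(MonoidHom.ofInjective hf).trans (MulEquiv.subgroupCongr e)⟩
      rcases h5 with ⟨rfl, h5⟩ | ⟨rfl, -, h5⟩
      · exact .inr ⟨h8 hn3, (h5 rfl).elim (fun e => .inr (.inl (h6 e))) fun e => .inl (h6 e)⟩
      · exact .inr ⟨h8 hn3, .inr (.inr (.inl (h6 h5)))⟩
  have hab := H17.GS.abS_of_sylow S hS.1
  obtain ⟨L, _, hL, hC⟩ := h2.exists_sim (hab ⊤) hO hs
  have hco := coprime_index_of_cj hD hS hL
  have hnG : (Nat.card G).factorization 2 = n :=
    Nat.pow_right_injective le_rfl (S.card_eq_multiplicity.symm.trans hn)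
  rcases H17.GS.ab_cases hL (hab L) with ⟨F, _, _, ⟨m, hm, hF⟩, ⟨e⟩⟩ | h | h
  · obtain ⟨σ⟩ := psl_gf (by omega) hF
    let e' := e.trans (H11.pslCongr (Equiv.refl _) σ)
    obtain ⟨h1, h3, h4⟩ := index_dvd_of_psl (by omega) hC e'
    have h5 : Odd ((2 ^ m) ^ 2 - 1) := Nat.Even.sub_odd (Nat.one_le_pow _ _ (by positivity))
      (by simp [Nat.even_pow]; omega) odd_one
    rw [show Nat.gcd 2 (2 ^ m - 1) = 1 from Nat.coprime_two_left.2 (Nat.Even.sub_odd
      Nat.one_le_two_pow (by simp [Nat.even_pow]; omega) odd_one)] at h1 h3 h4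
    rw [one_mul] at h1
    rw [mul_one] at h3 h4
    obtain rfl : n = m := hnG.symm.trans (factorization_of_eq Nat.prime_two
      (by rw [← card_mul_index L, h1, mul_assoc]) fun e => by
        rcases (Nat.Prime.dvd_mul Nat.prime_two).1 e with e | e
        · exact h5.not_two_dvd_nat e
        · exact Nat.prime_two.not_dvd_one (hco ▸ Nat.dvd_gcd
            (h1 ▸ (dvd_pow_self 2 (by omega)).mul_right _) e))
    have h6 : n ∣ Nat.card L → L = ⊤ := fun e =>
      index_eq_one.1 (Nat.eq_one_of_dvd_coprimes hco (h3.trans e) dvd_rfl)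
    rcases hn2.eq_or_lt with rfl | hn3
    · obtain rfl := h6 (h1 ▸ by decide)
      obtain ⟨e1⟩ := H11.nonempty_psl2_four_equiv hF
      exact .inl ⟨hn, .inr (.inl ⟨topEquiv.symm.trans (e.trans e1)⟩)⟩
    rcases h2.sylow_cases S hS hn hn3 (isSolvable_normalizer_two S) with rfl | ⟨rfl, -, h7⟩
    · obtain rfl := h6 (h1 ▸ by decide)
      exact .inr ⟨h8 hn3, .inr (.inr (.inr (.inl ⟨topEquiv.symm.trans e'⟩)))⟩
    · rw [← card_mul_index L, h1] at h7
      exact .inr ⟨h8 hn3, .inr (.inr (.inr (.inr (.inl (h4 (Nat.dvd_antisymm h3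
        (Nat.Coprime.dvd_of_dvd_mul_left (by decide) h7)))))))⟩
  · obtain ⟨h1, h3⟩ := l2Good_of hD hC hco h
    exact .inl ⟨by rw [hn, ← hnG, h3]; rfl, .inr (.inr h1)⟩
  · obtain ⟨T, h1, h3⟩ := h.syl
    refine .inr ⟨?_, .inr (.inr (.inr (.inr (.inr ⟨L, ‹_›, hL, h, hC, hco⟩))))⟩
    exact Nat.le_of_dvd Nat.card_pos (h1.card.symm.dvd.trans ((H19.syl_sylow_top S).card_dvd le_top h3.pi))

end H23
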