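import Cfsg.Agent.H23.CjJR

/-!
# Groups in which abelian subgroups of equal order are conjugate: the Janko-Ree case
-/

open Subgroup Cfsg MatrixGroups
open H19 hiding eq_bot_mono
open H17.GS H20.JT
open scoped Pointwise

namespace H23

universe u

/-- Abelian subgroups of equal order are conjugate. -/
def AbCj (G : Type*) [Group G] : Prop :=
  ∀ A B : Subgroup G, IsMulCommutative A → IsMulCommutative B → Nat.card A = Nat.card B →
    ∃ g : G, B = MulAut.conj g • A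

variable {G : Type u} [Group G] [Finite G] {p q r f : ℕ} {t s u x y : G}
  {S K L T U B E : Subgroup G}

theorem AbCj.cj (h : AbCj G) (hp : p.Prime) (hS : Syl p S ⊤) (hab : Ab S) : Cj p G := by
  have key : ∀ {H : Subgroup G}, IsPGroup p H → Ab H := fun hH =>
    let ⟨g, _, hg⟩ := hS.sle_cj le_top (PiN.of_isPGroup hp hH)
    comm_mono ((comm_cj (g := g)).2 hab) hg
  exact fun H K hH hK => h H K (key hH) (key hK)

omit [Finite G] in
theorem AbCj.cent1 (h : AbCj G) (e : orderOf x = orderOf y) : ∃ g, C[y] = H19.cj g C[x] := by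
  obtain ⟨g, hg⟩ := h (zpowers x) (zpowers y) inferInstance inferInstance (by
    rw [Nat.card_zpowers, Nat.card_zpowers, e])
  exact ⟨g, by rw [← cent_zpowers, ← cent_zpowers, cj_cent, hg]; rfl⟩

theorem AbCj.pow_eq_one (h : AbCj G) (hp : p.Prime) (hE : Abelem p E) (hc : p ^ 2 ≤ #E)
    (hx : PiE {p} x) : x ^ p = 1 := by
  haveI := Fact.mk hp
  obtain ⟨k, hk⟩ := hx.exists_pow (orderOf_pos x).ne'
  by_cases k2 : k ≤ 1
  · exact orderOf_dvd_iff_pow_eq_one.1 (hk ▸ by simpa using pow_dvd_pow p k2)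
  have ho : orderOf (x ^ p ^ (k - 2)) = p ^ 2 := by
    rw [H4.orderOf_pow_prime_pow hk (by omega)]; congr 1; omega
  obtain ⟨W, hW, hW2⟩ := (PiN.of_isPGroup hp (H := E) fun x =>
    ⟨1, Subtype.ext (by simpa using hE.2 x x.2)⟩).exists_card_pow hp hc
  obtain ⟨g, hg⟩ := h W (zpowers (x ^ p ^ (k - 2))) (comm_mono hE.1 hW) inferInstance
    (by rw [Nat.card_zpowers, ho, hW2])
  obtain ⟨y, hy, e⟩ := mem_cj'.1 (hg.le (mem_zpowers _))
  have := orderOf_dvd_of_pow_eq_one (hE.2 y (hW hy))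
  rw [← orderOf_conj' g, e, ho] at this
  exact absurd (Nat.le_of_dvd hp.pos this) (lt_self_pow₀ hp.one_lt one_lt_two).not_ge

namespace JD

theorem gen (h : JD t S K L) : C[t] ≤ K ⊔ C(S) := fun g hg => by
  have hV : El 2 2 (S ⊓ K) K :=
    ⟨Nat.prime_two, inf_le_right, abelem_mono h.el.ab inf_le_left, h.four⟩
  have hVs := (h.syl.of_le (ab_cent1 h.el.ab h.mem) le_top).inf_normal h.nl
  obtain ⟨v, hv, -, -, v1, -⟩ := exists_two_ne hV
  obtain ⟨j, hj, n, hn, rfl⟩ :=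
    (mem_sup_of_norm (inf_le_left.trans h.nl.norm)).1 ((hVs.frattini h.nl).ge hg)
  obtain ⟨m, hm, e⟩ := h.sim.four_trans hV hVs (conj_mem_of_norm hn.2 hv) hv (conj_ne_one v1 n) v1
  have k : m * n ∈ C(S) := by
    rw [← h.sup_eq, cent_sup, cent_zpowers]
    exact ⟨cent_of_fix h.syl (cents_of_comm h.el.ab.1 le_rfl inf_le_left) hV (mem_top _)
      (mul_mem hm.2 hn.2) hv v1 (by rw [← conj_conj', e]), mul_mem (h.nl.le hm.1) hn.1⟩
  exact mul_mem (mem_sup_left hj)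
    ((Subgroup.mul_mem_cancel_left _ (mem_sup_left hm.1)).1 (mem_sup_right k))

theorem not_eight (h : JD t S K L) (hpa : PA K p q) (hq : Odd q) (hy : y ∈ K) (yy : y * y ≠ 1) :
    ¬ 8 ∣ #C[y] := fun h8 => by
  have y1 : y ≠ 1 := fun e => yy (by rw [e, one_mul])
  by_cases hp : y ^ p = 1
  · obtain ⟨U, B, hU, hu⟩ := hpa.uni y hy y1 hp
    have := (h.syl_cent hU (og_iff.2 (hU.card ▸ hq)) hu y1).dvd (n := 8)
      (PiN.prime_pow Nat.prime_two 3) h8
    rw [card_zp h.tt (ne_one_of_ord2 h.t2)] at this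
    omega
  obtain ⟨g, s, hT, hg, -⟩ := hpa.tor y hy hp
  obtain ⟨T, k, ht⟩ := (pg_zpowers h.tt).exists_syl (zpowers_le' (H := C[y])
    (mem_cent1_symm.1 (h.nl.le hy)))
  have k1 := (k.dvd (n := 8) (PiN.prime_pow Nat.prime_two 3) h8).trans
    (h.card_dvd k.pi (ht (mem_zpowers t)))
  refine not_cyc_of_four (h.abelem (k.pi.infl K)) (by have := card_pos (T ⊓ K); omega)
    (isCyclic_of_le (H' := zpowers g) fun a ha => ?_)
  have k2 := mem_cent1.1 (k.le ha.1)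
  refine (hT.ti y hg y1 a ha.2 (by rwa [k2, mul_inv_cancel_right])).resolve_right fun k3 => yy ?_
  have k4 := mul_comm_of_comm (comm_zpowers g) k3 hg
  rw [mul_assoc, k2, ← mul_assoc, ← mul_assoc, mul_left_inj] at k4
  obtain ⟨n, rfl⟩ := hg
  have k5 : s * g ^ n * s⁻¹ = (g ^ n)⁻¹ := by rw [← conj_zpow, hT.inv, inv_zpow]
  rw [k4, mul_inv_cancel_right] at k5
  exact mul_eq_one_iff_eq_inv.2 k5

theorem not_dvd (hB : AbCj G) (h : JD t S K L) (hpa : PA K p q) (hq : Odd q) (hr : r.Prime)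
    (r2 : r ≠ 2) (hd : r ∣ #K) : ¬ r ∣ K.relIndex C[t] := fun k => by
  have hC := cent_le_cent1 h.mem
  rw [le_antisymm h.gen (sup_le h.nl.le hC), relIndex_sup_of_norm (hC.trans h.nl.norm)] at k
  obtain ⟨x, hx, xr⟩ := exists_orderOf_eq_prime hr (k.trans (relIndex_dvd_card _ _))
  obtain ⟨y, hy, yr⟩ := exists_orderOf_eq_prime hr hd
  obtain ⟨g, hg⟩ := hB.cent1 (xr.trans yr.symm)
  refine h.not_eight hpa hq hy (fun e => r2 ((Nat.prime_dvd_prime_iff_eq hr Nat.prime_two).1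
    (yr ▸ orderOf_dvd_of_pow_eq_one (by rwa [sq])))) ?_
  rw [hg, card_cj]
  exact h.el.card.symm.dvd.trans (H19.card_dvd (le_cent1_iff.2 hx))

theorem sylow' (hB : AbCj G) (h : JD t S K L) (hU : Un K U B p (p ^ f)) (hp : p.Prime)
    (h8 : p ^ f % 8 = 3 ∨ p ^ f % 8 = 5) (hf : 3 ≤ f) (hi : ¬ p ∣ K.relIndex C[t]) :
    f = 3 ∧ Syl p U ⊤ := by
  haveI := Fact.mk hp
  have tt := h.tt
  have p2 : p ≠ 2 := by
    rintro rfl
    have := pow_dvd_pow 2 hf
    omega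
  have hUp : PG p U := PiN.of_card_pow hp hU.card
  have hUE : Abelem p U := ⟨⟨⟨fun a b => Subtype.ext (hU.comm a a.2 b b.2)⟩⟩, hU.exp⟩
  have hO : OG U := hUp.sing_ne p2
  have hpf : p ^ 2 < p ^ f := Nat.pow_lt_pow_right hp.one_lt (by omega)
  have hp2 : p < p ^ 2 := lt_self_pow₀ hp.one_lt one_lt_two
  have U1 : U ≠ ⊥ := fun e => by
    have := hU.card; rw [e, card_bot] at this; have := hp.one_lt; omega
  obtain ⟨u, hu, u1⟩ := exists_ne_one U1
  have uo := orderOf_eq_prime (hU.exp u hu) u1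
  have hUt : U ≤ C[t] := hU.UB.trans (hU.BL.trans h.nl.le)
  have hexp : ∀ {x : G}, PiE {p} x → x ^ p = 1 := hB.pow_eq_one hp hUE (hU.card ▸ hpf.le)
  have k1 := h.syl_cent hU hO hu u1
  have n4 : ∀ X ≤ C[u], ¬ 4 ∣ #X := fun X hX e => by
    have := k1.dvd (n := 4) (PiN.prime_pow Nat.prime_two 2) (e.trans (H19.card_dvd hX))
    rw [card_zp tt (ne_one_of_ord2 h.t2)] at this
    omega
  have k5 := (hyp_of_card bot_le (by rw [card_zp tt (ne_one_of_ord2 h.t2), card_bot])).npc k1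
    inferInstance (by rw [cent_bot]; exact le_top)
  obtain ⟨P, hP, hPt, hUP⟩ := inv_syl_ge (norms_Oc _ (norms_of_le k1.le))
    ((O_og _).cop (pg_zpowers tt)) (sol_pg (pg_zpowers tt))
    (k5.le_Oc (fun x hx => mem_cent1.2 (hU.comm x hx u hu)) hO)
    (norms_of_cents (cents_symm (zp_cent hUt))) hUp
  have hPu : P ≤ C[u] := hP.le.trans (Oc_le _ _)
  have hP' : Syl p P ⊤ := by
    obtain ⟨Q, h1, h2⟩ := hUp.exists_syl le_top
    obtain ⟨z, hz, z1⟩ := exists_ne_one (h1.pi.center_ne_bot (ne_bot_mono h2 U1))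
    obtain ⟨g, hg⟩ := hB.cent1 ((orderOf_eq_prime (hexp (h1.pi.elt hz.1)) z1).trans uo.symm)
    exact (k5.sub_syl p2 hP).of_idx le_top (PiN.of_not_dvd ((h1.Jtop g).not_dvd_relIndex hp
      (hg ▸ cj_mono g (le_cent1_iff.2 hz.2))))
  have hPO : OG P := hP.pi.sing_ne p2
  have hPc : P ≤ C[t] := fun x hx => by_contra fun hn => by
    obtain ⟨w, hw⟩ : ∃ w, w = x⁻¹ * (t * x * t⁻¹) := ⟨_, rfl⟩
    have wP : w ∈ P := hw ▸ mul_mem (inv_mem hx) (conj_mem_of_norm (hPt (mem_zpowers t)) hx)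
    have w1 : w ≠ 1 := fun e => hn (mem_cent1.2 (by
      rw [inv_mul_eq_one.1 (hw.symm.trans e), mul_assoc, inv_mul_cancel, mul_one,
        ← inv_mul_eq_one.1 (hw.symm.trans e)]))
    have wi : t * w * t⁻¹ = w⁻¹ := by
      rw [hw, mul_inv_rev, inv_inv, show t * (x⁻¹ * (t * x * t⁻¹)) * t⁻¹ =
        (t * x * t⁻¹)⁻¹ * (t * t * x * (t * t)⁻¹) by group, tt, one_mul, inv_one, mul_one]
    have wt : t ∉ C[w] := fun e => w1 (hPO.eq_one wP (by
      rw [mem_cent1.1 e, mul_inv_cancel_right] at wi; exact mul_eq_one_iff_eq_inv.2 wi))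
    obtain ⟨W, hW, hW2⟩ := hUp.exists_card_pow hp (k := 2) (hU.card ▸ hpf.le)
    obtain ⟨g, hg⟩ := hB W (zpowers u ⊔ zpowers w) (comm_mono hUE.1 hW) (comm_sup inferInstance
      inferInstance (cents_symm (zp_cent (zpowers_le' (hPu wP))))) (by
      rw [hW2, H4.card_sup_zpowers_prime hp (cent1_le_norm_zpowers u (hPu wP))
        (fun e => wt (mem_cent1_symm.1 (zpowers_le' (hUt hu) e)))
        (by rw [hexp (hP.pi.elt wP)]; exact one_mem _), Nat.card_zpowers, uo, sq])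
    have h1 : g * t * g⁻¹ ∈ C(zpowers u ⊔ zpowers w) := by
      rw [hg, ← cj_eq_smul, ← cj_cent, conj_mem_cj]
      exact le_cent1_iff.1 (hW.trans hUt)
    refine n4 (C(zpowers u ⊔ zpowers w) ⊔ zpowers t) (sup_le (cent_le_cent1 (mem_sup_left
      (mem_zpowers u))) k1.le) ?_
    rw [card_sup_zp tt (fun e => wt (cent_le_cent1 (mem_sup_right (mem_zpowers w)) e))
      (norm_le_norm_cent _ (mem_norm_iff_cj.2 (by
        rw [cj_sup, cj_zpowers, cj_zpowers, wi, zpowers_inv, mem_cent1.1 (k1.le (mem_zpowers t)),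
          mul_inv_cancel_right])))]
    exact mul_dvd_mul_right (a := 2) (h.t2 ▸ orderOf_conj' g t ▸ orderOf_dvd_card' h1) 2
  have hPK := le_of_pi_of_relIndex (hPc.trans h.nl.norm) h.nl.le hPc hP.pi (PiN.of_not_dvd hi)
  obtain rfl : U = P :=
    le_antisymm hUP fun x hx => hU.cent u hu u1 x (hPK hx) (mem_cent1.1 (hPu hx))
  have tP : t ∈ C(U) := le_cent1_iff.1 hPc
  have n8 : ¬ 8 ∣ #N(U) := fun e => by
    obtain ⟨T, hT, ht⟩ := (pg_zpowers tt).exists_syl (zpowers_le' (cent_le_norm _ tP))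
    have h1 := (hT.dvd (n := 8) (PiN.prime_pow Nat.prime_two 3) e).trans
      (h.card_dvd hT.pi (ht (mem_zpowers t)))
    have h2 : T ⊓ K ≤ B := fun x hx => hU.ti u hu u1 x hx.2 (conj_mem_of_norm (hT.le hx.1) hu)
    have h3 := (Nat.Coprime.pow_left 3 (Nat.coprime_two_left.2 (Nat.odd_iff.2
      (show p ^ f % 2 = 1 by omega)))).dvd_of_dvd_mul_left (hU.cardB ▸ mul_comm _ 2 ▸
        h1.trans (mul_dvd_mul_right (H19.card_dvd h2) 2))
    omega
  have hs : Sol N(U) := sol_of_quo (norm_le_norm_cent U) (isSolvable_of_not_four_dvd (n4 _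
    (inf_le_left.trans (cent_le_cent1 hu)))) (isSolvable_of_not_four_dvd fun e => n8 (by
      rw [card_quo (norm_le_norm_cent U)] at e
      rw [← card_mul_relIndex (cent_le_norm U)]
      exact mul_dvd_mul (h.t2 ▸ orderOf_dvd_card' tP) e))
  have hc := hB.cj hp hP' hUE.1
  obtain ⟨P, rfl⟩ := hP'.exists_sylow_top
  exact ⟨(hc.sylow_cases P hUE hU.card hf hs).resolve_right fun e => p2 e.2.1, hP'⟩

theorem prod_equiv' (h : JD t S K L) (e : K ⊔ zpowers t = L ⊓ C[t]) :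
    Nonempty (C[(⟨t, h.el.le h.mem⟩ : L)] ≃* Multiplicative (ZMod 2) × K) := by
  let ε : Multiplicative (ZMod 2) ≃* zpowers t := mulEquivOfPrimeCardEq (p := 2) (by simp)
    (card_zp h.tt (ne_one_of_ord2 h.t2))
  have c : ∀ a b, Commute (((zpowers t).subtype.comp ε.toMonoidHom) a) (K.subtype b) :=
    fun a b => (mem_cent.1 (zp_cent h.nl.le b.2) _ (ε a).2 :)
  refine ⟨((MulEquiv.subgroupCongr (K := (L ⊓ C[t]).subgroupOf L) ?_).trans (subgroupOfEquivOfLe
    inf_le_left)).trans ((MulEquiv.subgroupCongr ?_).trans (MonoidHom.ofInjective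
    (f := MonoidHom.noncommCoprod _ _ c)
    ((injective_iff_map_eq_one _).2 fun ⟨a, b⟩ k => ?_)).symm)⟩
  · ext x
    rw [mem_subgroupOf, mem_inf, mem_cent1, mem_cent1, Subtype.ext_iff]
    exact ⟨fun k => ⟨x.2, k⟩, fun k => k.2⟩
  · rw [MonoidHom.noncommCoprod_range, range_subtype, MonoidHom.range_comp,
      MonoidHom.range_eq_top.2 ε.surjective, ← MonoidHom.range_eq_map, range_subtype, sup_comm, e]
  · replace k : (ε a).1 * b = 1 := k
    rcases (mem_zp h.tt).1 (ε a).2 with e | e <;> rw [e] at k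
    · exact Prod.ext (ε.injective (Subtype.ext (by simpa using e))) (by simpa using k)
    · exact (h.out (eq_inv_of_mul_eq_one_left k ▸ inv_mem b.2)).elim

end JD

theorem AbCj.isoJ1 (hB : AbCj G) [L.Normal] (hL : Sim L) (hJ : JRt L) (hi : ¬ 2 ∣ L.index) :
    Spor.IsoJ1 L := by
  obtain ⟨t, S, K, h⟩ := exists_jd hJ hi
  have tt := h.tt
  have tL := h.el.le h.mem
  obtain ⟨F, _, _, h8, h5, ⟨e⟩⟩ := h.l2
  obtain ⟨p, _, ⟨f, hf⟩, hp, hq⟩ := FiniteField.card' F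
  haveI := Fact.mk hp
  change _ = p ^ f at hq
  obtain ⟨σ⟩ := psl_gf hf.ne' hq
  obtain ⟨h1, h2⟩ := card_aut_psl_gf hf.ne' (e.trans (H11.pslCongr (Equiv.refl _) σ))
  have hpa := pa_psl p (F := F) (Nat.odd_iff.2 (by omega))
    (φ := K.subtype.comp e.symm.toMonoidHom) (K.subtype_injective.comp e.symm.injective)
  rw [MonoidHom.range_comp, MonoidHom.range_eq_top.2 e.symm.surjective, ← MonoidHom.range_eq_map,
    K.range_subtype, hq] at hpa
  have h8' := hq ▸ h8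
  have ho : Odd (p ^ f) := Nat.odd_iff.2 (by omega)
  rw [show Nat.gcd 2 (p ^ f - 1) = 2 from Nat.gcd_eq_left (by omega)] at h1 h2
  have p2 : p ≠ 2 := by
    rintro rfl
    have := dvd_pow_self 2 hf.ne'
    omega
  have hqK : p ^ f ∣ #K :=
    (Nat.coprime_two_right.2 ho).dvd_of_dvd_mul_left (h1 ▸ dvd_mul_right _ _)
  have hpK := (dvd_pow_self p hf.ne').trans hqK
  have h3K : 3 ∣ #K := by
    refine (by decide : Nat.Coprime 3 2).dvd_of_dvd_mul_left (h1 ▸ ?_)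
    obtain ⟨q, e⟩ : ∃ q, p ^ f = q + 1 := ⟨p ^ f - 1, by omega⟩
    rw [e, show (q + 1) ^ 2 - 1 = q * (q + 2) from Nat.sub_eq_of_eq_add (by ring)]
    rcases (by omega : 3 ∣ q ∨ 3 ∣ q + 1 ∨ 3 ∣ q + 2) with e | e | e
    · exact (e.mul_right _).mul_left _
    · exact e.mul_right _
    · exact (e.mul_left _).mul_left _
  have hf3 : f = 1 ∨ f = 3 ∧ ¬ p ^ 4 ∣ Nat.card G := by
    have := Nat.odd_iff.1 (pow_mod_eight h8').2
    rcases (by omega : f = 1 ∨ 3 ≤ f) with k | k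
    · exact .inl k
    obtain ⟨c, hc, hc1⟩ := exists_orderOf_eq_prime hp hpK
    obtain ⟨U, B, hU, -⟩ := hpa.uni c hc (fun e => by
      rw [e, orderOf_one] at hc1; exact hp.one_lt.ne hc1) (hc1 ▸ pow_orderOf_eq_one c)
    obtain ⟨rfl, k'⟩ := h.sylow' hB hU hp h8' k (h.not_dvd hB hpa ho hp p2 hpK)
    refine .inr ⟨rfl, fun e => ?_⟩
    have := k'.dvd (PiN.prime_pow hp 4) (card_top (G := G) ▸ e)
    rw [hU.card, Nat.pow_dvd_pow_iff_le_right hp.one_lt] at this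
    omega
  have hKt : K ⊔ zpowers t ≤ L ⊓ C[t] :=
    sup_le (le_inf h.le h.nl.le) (zpowers_le' ⟨tL, mem_cent1_self t⟩)
  have hM : K ⊔ zpowers t = L ⊓ C[t] := by
    have k1 := card_mul_relIndex hKt
    have k2 := card_inf_mul_relIndex C(K) (L ⊓ C[t])
    have k3 := H18.relIndex_cent_dvd (inf_le_right.trans h.nl.norm : L ⊓ C[t] ≤ _)
    rw [inf_comm, h.cent, card_zp tt (ne_one_of_ord2 h.t2), ← k1,
      card_sup_zp tt h.out (h.nl.norm (mem_cent1_self t))] at k2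
    have k4 : (K ⊔ zpowers t).relIndex (L ⊓ C[t]) ∣ f * 2 :=
      Nat.dvd_of_mul_dvd_mul_left (card_pos K) (h2 ▸ (show _ = _ by linarith : C(K).relIndex
        (L ⊓ C[t]) = #K * (K ⊔ zpowers t).relIndex (L ⊓ C[t])) ▸ k3)
    have k5 := (h.syl.of_le (le_inf h.el.le (ab_cent1 h.el.ab h.mem)) le_top).not_dvd_relIndex
      Nat.prime_two (h.sup_eq.ge.trans (sup_le_sup_right inf_le_right _))
    have k6 := mt (fun k => (Dvd.dvd.trans k (relIndex_dvd_left (le_sup_left (b := zpowers t)) _)).trans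
      (relIndex_dvd_right (le_inf h.le h.nl.le) inf_le_right))
      (h.not_dvd hB hpa ho Nat.prime_three (by decide) h3K)
    have k7 := k4.trans (show f * 2 ∣ 6 by rcases hf3 with rfl | ⟨rfl, -⟩ <;> decide)
    have k8 := Nat.le_of_dvd (by decide) k7
    refine le_antisymm hKt (relIndex_eq_one.1 ?_)
    generalize (K ⊔ zpowers t).relIndex (L ⊓ C[t]) = m at k5 k6 k7 k8
    interval_cases m <;> omega
  haveI := hL.simple
  obtain ⟨e'⟩ := h.prod_equiv' hM
  have t2 : orderOf (⟨t, tL⟩ : L) = 2 := (orderOf_mk t tL).trans h.t2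
  rcases jtw (AbS.of_syl (h.syl.of_le h.el.le le_top) h.el.ab.1).top (by omega) t2
    (e'.trans ((MulEquiv.refl _).prodCongr e)) with ⟨p', a, r, X⟩ | ⟨-, k⟩
  · obtain ⟨m, hm, e1, e2⟩ := X.order t2
    rw [hq] at e1 e2
    obtain rfl : 3 = p := (Nat.prime_dvd_prime_iff_eq Nat.prime_three hp).1
      (Nat.prime_three.dvd_of_dvd_pow (e1 ▸ dvd_pow_self 3 (by omega)))
    have := Nat.pow_right_injective (by decide) e1
    obtain ⟨rfl, k⟩ := hf3.resolve_left (by omega)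
    exact (k (Dvd.dvd.trans (e2 ▸ by decide) (card_subgroup_dvd_card L))).elim
  · exact k

end H23
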