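import Cfsg.Agent.H23.CjB
import Cfsg.Agent.S3908
import Cfsg.Agent.H10.Four
import Cfsg.Agent.H0.PF13c

/-!
# Solvable groups in which abelian subgroups of equal order are conjugate
-/

open Subgroup Cfsg
open H19 hiding eq_bot_mono
open scoped Pointwise commutatorElement

namespace H23

universe u

variable {G : Type u} [Group G] [Finite G] {p r : ℕ} {a b x y : G} {A B H N P Q U X : Subgroup G}

omit [Finite G] in
theorem AbCj.mem (h : AbCj G) [N.Normal] (hx : x ∈ N) (e : orderOf x = orderOf y) : y ∈ N := by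
  obtain ⟨g, hg⟩ := h (zpowers x) (zpowers y) inferInstance inferInstance (by
    rw [Nat.card_zpowers, Nat.card_zpowers, e])
  obtain ⟨z, hz, rfl⟩ := mem_cj'.1 (hg.le (mem_zpowers y))
  exact ‹N.Normal›.conj_mem _ (zpowers_le.2 hx hz) g

theorem AbCj.cyc (h : AbCj G) (hA : Ab A) (hd : #A ∣ orderOf x) : Cyc A := by
  obtain ⟨m, hm⟩ := hd
  have h0 := (orderOf_pos x).ne'
  obtain ⟨g, hg⟩ := h (zpowers (x ^ m)) A inferInstance hA (by
    rw [Nat.card_zpowers, orderOf_pow_of_dvd (by rintro rfl; omega) ⟨#A, by rw [hm, mul_comm]⟩, hm,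
      Nat.mul_div_cancel _ (Nat.pos_of_ne_zero (by rintro rfl; omega))])
  exact hg ▸ (cyclic_cj (g := g)).2 inferInstance

omit [Finite G] in
theorem eq_bot_of_der [Group.IsSolvable G] (h : ∀ D : Subgroup G, D.Normal → ⁅P, P⁆ ≤ D → P ≤ D) :
    P = ⊥ := by
  obtain ⟨n, hn⟩ := Group.IsSolvable.solvable (G := G)
  refine le_bot_iff.1 (hn ▸ ?_)
  clear hn
  induction n with
  | zero => exact le_top
  | succ n ih => exact h _ inferInstance (commutator_mono ih ih)

theorem AbCj.cj_of_solvable [Group.IsSolvable G] (h : AbCj G) (hp : p.Prime) : Cj p G := by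
  haveI := Fact.mk hp
  obtain ⟨P⟩ : Nonempty (Sylow p G) := inferInstance
  have hP := syl_sylow_top P
  have key : (∀ x ∈ (P : Subgroup G), x ^ p = 1) → Cj p G := fun he => h.cj hp hP (by_contra
    fun hn => hn (eq_bot_of_der (P := (P : Subgroup G)) (fun D _ hD x hx => by
      obtain ⟨y, hy, y1⟩ := exists_ne_one (mt comm_iff_der.2 hn)
      rcases eq_or_ne x 1 with rfl | x1
      · exact one_mem _
      exact h.mem (hD hy) ((orderOf_eq_prime (he y (der_le _ hy)) y1).trans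
        (orderOf_eq_prime (he x hx) x1).symm)) ▸ comm_bot))
  by_cases p2 : p = 2
  swap
  · exact ((Cfsg.Agent.S3908.result h).2 p p2 P).elim (fun k => h.cj hp hP (comm_of_cyclic k)) key
  subst p2
  rcases (Cfsg.Agent.S3908.result h).1 P with k | k | ⟨k, ⟨e⟩⟩
  · exact h.cj hp hP (comm_of_cyclic k)
  · exact key k.2
  have hc : #(P : Subgroup G) = 4 * 2 ^ k := by
    rw [Nat.card_congr e.toEquiv, Nat.card_eq_fintype_card, QuaternionGroup.card]
  rcases (le_or_gt k 1).imp_right Nat.exists_eq_add_of_le' with k1 | ⟨j, rfl⟩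
  · intro A B hA hB hAB
    have h8 : #(P : Subgroup G) ∣ 2 ^ 3 := hc ▸ by interval_cases k <;> decide
    have hA' := PiN.of_isPGroup hp hA
    have hB' := PiN.of_isPGroup hp hB
    obtain ⟨i, hi, hi'⟩ := (Nat.dvd_prime_pow hp).1 ((hP.card_dvd le_top hA').trans h8)
    rcases hi.eq_or_lt with rfl | hi
    · obtain ⟨g, -, hg⟩ := (hP.of_card_dvd le_top hA' (hi' ▸ h8)).sconj
        (hP.of_card_dvd le_top hB' (hAB ▸ hi' ▸ h8))
      exact ⟨g, hg.symm⟩
    · have := pow_dvd_pow 2 (Nat.le_of_lt_succ hi)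
      exact h A B (ab_of_card_sq hp (hi' ▸ this)) (ab_of_card_sq hp (hAB ▸ hi' ▸ this)) hAB
  let f := (P : Subgroup G).subtype.comp e.symm.toMonoidHom
  have hf : ∀ y, orderOf (f y) = orderOf y :=
    orderOf_injective f ((P : Subgroup G).subtype_injective.comp e.symm.injective)
  have := eq_bot_of_der (P := (P : Subgroup G)) fun D _ hD x hx => by
    have h1 : f (.a 1 ^ 2 ^ (j + 1)) ∈ D := by
      rw [pow_succ' 2 j, pow_mul, show (QuaternionGroup.a 1 : QuaternionGroup (2 ^ (j + 2))) ^ 2 =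
        ⁅(.xa 0 : QuaternionGroup (2 ^ (j + 2))), (.xa 1 : QuaternionGroup (2 ^ (j + 2)))⁆ from ?_, map_pow, map_commutatorElement]
      · exact pow_mem (hD (commutator_mem_commutator (e.symm _).2 (e.symm _).2)) _
      · rw [commutatorElement_def, mul_assoc, ← mul_inv_rev, eq_mul_inv_iff_mul_eq, sq]
        simp only [QuaternionGroup.a_mul_a, QuaternionGroup.xa_mul_xa]
        congr 1; ring
    have h2 : ∀ i, f (.xa i) ∈ D := fun i => h.mem h1 (by
      rw [hf, hf, QuaternionGroup.orderOf_xa, orderOf_pow_of_dvd (by positivity)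
        (by rw [QuaternionGroup.orderOf_a_one, ← pow_succ']; exact pow_dvd_pow 2 (by omega)),
        QuaternionGroup.orderOf_a_one, show 2 * 2 ^ (j + 2) = 4 * 2 ^ (j + 1) by ring,
        Nat.mul_div_cancel _ (by positivity)])
    obtain ⟨y, rfl⟩ : ∃ y, f y = x := ⟨e ⟨x, hx⟩, by simp [f]⟩
    rcases y with i | i
    · rw [show QuaternionGroup.a i = .xa 0 * .xa (i - (2 ^ (j + 2) : ℕ)) by simp, map_mul]
      exact mul_mem (h2 _) (h2 _)
    · exact h2 i
  rw [this, card_bot] at hc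
  omega

/-- Noncyclic elementary abelian Sylow subgroups are normal. -/
theorem normal_of_cj (G : Type u) [Group G] [Finite G] : Group.IsSolvable G →
    (∀ r : ℕ, r.Prime → Cj r G) → p.Prime → ∀ P : Subgroup G, Syl p P ⊤ → Abelem p P →
    p ^ 2 ≤ #P → P.Normal := by
  refine H1.induction_card (P := fun G _ _ => Group.IsSolvable G →
    (∀ r : ℕ, r.Prime → Cj r G) → p.Prime → ∀ P : Subgroup G, Syl p P ⊤ → Abelem p P →
    p ^ 2 ≤ #P → P.Normal) (fun G _ _ ih hs hD hp P hP hE h2 => ?_) G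
  have hp2 : p < p ^ 2 := lt_self_pow₀ hp.one_lt one_lt_two
  have P1 : P ≠ ⊥ := ne_bot_iff_one_lt_card.2 (by have := hp.one_lt; omega)
  have hm : ∀ D : Subgroup G, D.Normal → ∀ x ∈ D, orderOf x = p → P ≤ D := fun D hN x hx e y hy => by
    rcases eq_or_ne y 1 with rfl | y1
    · exact one_mem _
    obtain ⟨g, hg⟩ := (hD p hp).zpowers_conj e (orderOf_of_pow hp (hE.2 y hy) y1)
    exact zpowers_le.2 (hN.conj_mem x hx g) hg
  obtain ⟨N, r, hr, -, _, N1, hN, hmin⟩ := H1.exists_minimal_normal_elementary_le (⊤ : Subgroup G)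
    (ne_bot_mono le_top P1) inferInstance
  have hNr := abelem_pg hr hN
  by_cases e : r = p
  · subst e
    obtain ⟨x, hx, x1⟩ := exists_ne_one N1
    rwa [← hP.max (hm N ‹_› x hx (orderOf_of_pow hp (hN.2 x hx) x1)) le_top hNr]
  have hc : (#N).Coprime #P := (hNr.sing_ne e).coprime' hP.pi
  let π := QuotientGroup.mk' N
  have hπ : Function.Surjective π := QuotientGroup.mk'_surjective N
  have hPN : (N ⊔ P).Normal := by
    have := ih _ (H1.card_quotient_lt N1) inferInstance (fun r hr => haveI := Fact.mk hr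
      (hD r hr).of_surjective hπ) hp (P.map π) (by simpa [map_top_of_surjective π hπ] using hP.map π)
      (H1.isElementaryAbelian_map hE π) (by
        rwa [H1.card_map_of_inf_ker_eq_bot (by rw [QuotientGroup.ker_mk', inf_eq_bot_of_cop hc])])
    rw [sup_comm, ← H1.comap_map_mk']
    exact this.comap π
  have hn : ∀ X : Subgroup G, X ≤ N(N) := fun X => le_normalizer_of_normal
  have hF := (hP.of_le le_sup_right le_top).frattini (normalIn_top (H := N ⊔ P))
  rw [top_inf_eq, sup_assoc, sup_eq_right.2 (le_normalizer (H := P))] at hF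
  by_cases hC : P ≤ C(N)
  · exact normalizer_eq_top_iff.1 (by rwa [sup_eq_right.2 (norms_of_cents (cents_symm hC))] at hF)
  exfalso
  have h3 : ∀ u ∈ N, ∀ v ∈ N, u ≠ 1 → v ≠ 1 → #(P ⊓ C[u]) = #(P ⊓ C[v]) := fun u hu v hv u1 v1 => by
    obtain ⟨g, hg⟩ := (hD r hr).zpowers_conj (orderOf_of_pow hr (hN.2 u hu) u1)
      (orderOf_of_pow hr (hN.2 v hv) v1)
    obtain ⟨n, hn', m, hm', rfl⟩ := (mem_sup_of_norm (hn _)).1 (hF.ge (mem_top g))
    have k := conj_mem_of_norm (hn ⊤ (mem_top m)) hu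
    rw [← H17.GS.conj_conj', mul_comm_of_comm hN.1 hn' k, mul_inv_cancel_right] at hg
    rw [← card_cj m, cj_inf, cj_of_mem_norm hm', cj_cent1, ← cent_zpowers, ← cent_zpowers v,
      eq_zpowers_of_prime (X := zpowers _) (by
        rwa [Nat.card_zpowers, orderOf_conj', orderOf_of_pow hr (hN.2 u hu) u1]) hg v1]
  obtain ⟨x, hx, x1, k⟩ : ∃ x ∈ P, x ≠ 1 ∧ N ⊓ C[x] ≠ ⊥ := by
    by_contra! k
    refine N1 (le_bot_iff.1 (le_of_cent1_le hE.1 (fun hcy => ?_) (hn _) hc fun x a b => (k x a b).le))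
    have := Nat.le_of_dvd hp.pos (Monoid.exponent_dvd_of_forall_pow_eq_one (G := P)
      fun x => Subtype.ext (hE.2 x x.2))
    rw [IsCyclic.exponent_eq_card] at this
    omega
  obtain ⟨v, hv, v1⟩ := exists_ne_one k
  obtain ⟨w, hw, w1⟩ := exists_ne_one (H := ⁅N, zpowers x⁆) fun e => hC (hm _ inferInstance x
    (cents_symm (commg_eq_bot.1 e) (mem_zpowers x)) (orderOf_of_pow hp (hE.2 x hx) x1))
  have hwN := commg_le_left (hn _) hw
  have h4 := ab_commg_inf_cent hN.1 (hn (zpowers x))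
    (hc.coprime_dvd_right (card_dvd (zpowers_le.2 hx)))
  rw [cent_zpowers] at h4
  have h5 : ∀ y ∈ ⁅N, zpowers x⁆, y ∈ C[x] → y = 1 := fun y a b => mem_bot.1 (h4.le ⟨a, b⟩)
  have h6 : v * w ∉ C[x] := fun e => w1 (h5 w hw ((Subgroup.mul_mem_cancel_left _ hv.2).1 e))
  have h7 : P ⊓ C[v * w] ≤ P ⊓ C[v] := fun y hy => ⟨hy.1, by
    have hyx : y ∈ C[x] := mem_cent1.2 (mul_comm_of_comm hE.1 hy.1 hx)
    have k1 := conj_mem_of_norm (norms_comm (hn _) (cent1_le_norm_zpowers x) hyx) hw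
    have k2 : v⁻¹ * (y * v * y⁻¹) = w * (y * w * y⁻¹)⁻¹ := by
      rw [inv_mul_eq_iff_eq_mul, ← mul_assoc, eq_mul_inv_iff_mul_eq, conj_mul, mem_cent1.1 hy.2,
        mul_inv_cancel_right]
    have k3 := h5 _ (k2 ▸ mul_mem hw (inv_mem k1))
      (mul_mem (inv_mem hv.2) (mul_mem (mul_mem hyx hv.2) (inv_mem hyx)))
    exact mem_cent1.2 (mul_inv_eq_iff_eq_mul.1 (inv_mul_eq_one.1 k3).symm)⟩
  exact h6 (mem_cent1_symm.1 ((eq_of_le_of_card_eq h7 (h3 _ (mul_mem hv.1 hwN) _ hv.1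
    (fun e => h6 (e ▸ one_mem _)) v1)).ge ⟨hx, mem_cent1_symm.1 hv.2⟩).2)

end H23
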