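import Cfsg.Agent.H23.CjB2

/-!
# Solvable groups in which abelian subgroups of equal order are conjugate, II
-/

open Subgroup Cfsg
open H19 hiding eq_bot_mono
open scoped Pointwise commutatorElement

namespace H23

universe u

theorem affine_of_pow_four {F : Type*} [Field F] (h3 : Nat.card (F ≃+* F) = 3) {σ : Equiv.Perm F}
    (hσ : σ ∈ semiaffineGroup F) (h : σ ^ 4 = 1) : σ ∈ affineGroup F := by
  obtain ⟨a, b, φ, e⟩ := hσ
  have h1 : ∀ x, φ (φ (φ x)) = x := fun x => by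
    have := pow_card_eq_one' (G := RingAut F) (x := φ)
    rw [show Nat.card (RingAut F) = 3 from h3] at this
    exact DFunLike.congr_fun this x
  rw [← inv_mem_iff, ← eq_inv_of_mul_eq_one_left ((pow_succ σ 3).symm.trans h)]
  refine ⟨Units.mk0 (a * φ a * φ (φ a)) (by simp), a * φ a * φ (φ b) + a * φ b + b, fun x => ?_⟩
  change σ (σ (σ x)) = _
  simp only [e, map_add, map_mul, h1, Units.val_mk0]
  ring

theorem q8_semiaffine {F : Type*} [Field F] (h3 : Nat.card (F ≃+* F) = 3) (h2 : (2 : F) ≠ 0)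
    {σ τ : Equiv.Perm F} (hσ : σ ∈ semiaffineGroup F) (hτ : τ ∈ semiaffineGroup F) (h : σ ^ 4 = 1)
    (h1 : τ ^ 2 = σ ^ 2) (h4 : τ * σ * τ⁻¹ = σ⁻¹) : σ = 1 ∨ τ = 1 ∨ σ * τ = 1 := by
  have h5 : σ * τ * σ = τ := by rw [mul_assoc, mul_inv_eq_iff_eq_mul.1 h4, mul_inv_cancel_left]
  have h6 : τ ^ 4 = 1 := by rw [show 4 = 2 * 2 from rfl, pow_mul, h1, ← pow_mul, h]
  have h7 : (σ * τ) ^ 4 = 1 := by
    rw [show 4 = 2 * 2 from rfl, pow_mul, sq (σ * τ), ← mul_assoc, h5, ← sq, ← pow_mul, h6]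
  obtain ⟨a, b, e⟩ := affine_of_pow_four h3 hσ h
  obtain ⟨c, d, e'⟩ := affine_of_pow_four h3 hτ h6
  have key : ∀ (ρ : Equiv.Perm F) (b : F), (∀ x, ρ x = x + b) → ρ ^ 4 = 1 → ρ = 1 := by
    intro ρ b k1 k2
    have k3 : ρ (ρ (ρ (ρ 0))) = 0 := DFunLike.congr_fun k2 0
    simp only [k1] at k3
    obtain rfl : b = 0 := (mul_eq_zero.1 (show 2 * 2 * b = 0 by linear_combination k3)).resolve_left
      (mul_ne_zero h2 h2)
    exact Equiv.ext fun x => by simpa using k1 x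
  have k1 : ∀ x, σ (τ (σ x)) = τ x := DFunLike.congr_fun h5
  have k2 : ∀ x, τ (τ x) = σ (σ x) := DFunLike.congr_fun h1
  simp only [e, e'] at k1 k2
  have k3 : (a : F) * a = 1 := mul_left_cancel₀ c.ne_zero (by linear_combination k1 1 - k1 0)
  have k4 : (c : F) * c = 1 := by linear_combination k2 1 - k2 0 + k3
  rcases mul_self_eq_one_iff.1 k3 with k3 | k3
  · exact .inl (key σ b (by simpa [k3] using e) h)
  rcases mul_self_eq_one_iff.1 k4 with k4 | k4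
  · exact .inr (.inl (key τ d (by simpa [k4] using e') h6))
  · refine .inr (.inr (key _ (b - d) (fun x => ?_) h7))
    rw [Equiv.Perm.mul_apply, e, e', k3, k4]; ring

variable {G : Type u} [Group G] [Finite G] {p : ℕ} {a b c u : G} {A B H P Q U : Subgroup G}

theorem q8_gens (e : Q ≃* QuaternionGroup 2) : ∃ a ∈ Q, ∃ b ∈ Q, a ^ 2 ≠ 1 ∧ b ^ 2 = a ^ 2 ∧
    (a * b) ^ 2 = a ^ 2 ∧ b * a * b⁻¹ = a⁻¹ := by
  obtain ⟨a, ha, a2⟩ := H10.q8_exists e
  obtain ⟨b, hb, k⟩ := H10.q8_exists_notMem e ha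
  obtain ⟨h1, h2⟩ := H10.q8_of_notMem e ha hb a2 k
  exact ⟨a, ha, b, hb, a2, h1, by
    rw [sq, mul_assoc, ← mul_assoc b, mul_inv_eq_iff_eq_mul.1 h2, mul_assoc, mul_inv_cancel_left,
      ← sq, h1], h2⟩

theorem q8_cents_three [Fact p.Prime] (p2 : p ≠ 2) [Group.IsSolvable G] (h : Cj p G)
    (e : Q ≃* QuaternionGroup 2) (P : Sylow p G) [(P : Subgroup G).Normal]
    (hE : IsElementaryAbelian p (P : Subgroup G)) {n : ℕ} (hn : 3 ≤ n)
    (hc : #(P : Subgroup G) = p ^ n) : ∃ c ∈ Q, c ^ 2 ≠ 1 ∧ c ∈ C((P : Subgroup G)) := by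
  obtain ⟨a, ha, b, hb, a2, b2, ab2, k⟩ := q8_gens e
  obtain ⟨-, ⟨f, hf⟩, -⟩ := (Cfsg.Agent.S4025.result h P n hn hE hc _ rfl
    inferInstance).resolve_right fun e => p2 e.2.1
  let ψ := ((semiaffineGroup _).subtype.comp (f.comp (QuotientGroup.mk' _))).comp
    ((MonoidHom.id G).codRestrict N((P : Subgroup G)) fun x => le_normalizer_of_normal (mem_top x))
  have h1 : ∀ x, ψ x = 1 → x ∈ C((P : Subgroup G)) := fun x hx =>
    Oc_cents' (normalIn_norm _) (syl_sylow_top P).pi ((pPrimeCore_map_eq Fact.out _).le (mem_map_of_mem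
      _ ((QuotientGroup.eq_one_iff _).1 (hf ((Subtype.ext hx).trans f.map_one.symm)))))
  rcases q8_semiaffine (card_ringAut_gf (p := p) (n := 3) (by decide)) (fun e => p2
    ((Nat.prime_dvd_prime_iff_eq Fact.out Nat.prime_two).1 ((CharP.cast_eq_zero_iff _ p 2).1 e)))
    (σ := ψ a) (τ := ψ b) (f _).2 (f _).2 (by rw [← map_pow, H10.q8_pow_four e ha, map_one])
    (by rw [← map_pow, ← map_pow, b2]) (by rw [← map_inv, ← map_inv, ← map_mul, ← map_mul, k])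
    with k | k | k
  · exact ⟨a, ha, a2, h1 a k⟩
  · exact ⟨b, hb, b2 ▸ a2, h1 b k⟩
  · exact ⟨a * b, mul_mem ha hb, ab2 ▸ a2, h1 _ ((map_mul ψ a b).trans k)⟩

theorem conj_sign (hu : (orderOf u).Prime) (hc : c ∈ N(zpowers u)) (h : c ^ 2 ∈ C[u]) :
    ∃ ε : ℤ, (ε = 1 ∨ ε = -1) ∧ c * u * c⁻¹ = u ^ ε := by
  have h1 := conj_mem_of_norm hc (mem_zpowers u)
  by_cases e : c * u * c⁻¹ * u = 1
  · exact ⟨-1, .inr rfl, by rw [zpow_neg_one, eq_inv_of_mul_eq_one_left e]⟩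
  refine ⟨1, .inl rfl, ?_⟩
  rw [zpow_one, mul_inv_eq_iff_eq_mul, ← mem_cent1, ← cent_zpowers, ← eq_zpowers_of_prime
    (by rwa [Nat.card_zpowers]) (mul_mem h1 (mem_zpowers u)) e, cent_zpowers, mem_cent1,
    ← mul_inv_eq_iff_eq_mul, ← conj_mul, H17.GS.conj_conj', ← sq, mem_cent1.1 h,
    mul_inv_cancel_right, mul_comm_of_comm (comm_zpowers u) h1 (mem_zpowers u)]

theorem q8_cents_two (h : AbCj G) (p2 : p ≠ 2) (e : Q ≃* QuaternionGroup 2) [P.Normal]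
    (hP : El p 2 P ⊤) (hU : El p 1 U P) (hQ : Q ≤ N(U)) : ∃ c ∈ Q, c ^ 2 ≠ 1 ∧ c ∈ C(P) := by
  have hp := hP.prime
  obtain ⟨a, ha, b, hb, a2, b2, ab2, k⟩ := q8_gens e
  obtain ⟨W, hW, hQW⟩ := H18.Maschke_abelem hp hP.ab ((PiN.of_isPGroup Nat.prime_two
    (H10.q8_isPGroup e)).sing_ne p2.symm) hU.le le_normalizer_of_normal hQ
  have hW1 : El p 1 W P := el1_mk hp hW.right_le (Nat.eq_of_mul_eq_mul_left hp.pos (by
    rw [← sq, ← hP.card, ← hW.card, hU.card1]))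
  obtain ⟨u, u1, hu, rfl⟩ := hU.exists_gen
  obtain ⟨w, -, hw, rfl⟩ := hW1.exists_gen
  have sg : ∀ {x : G}, orderOf x = p → Q ≤ N(zpowers x) → ∀ c ∈ Q, c ^ 2 = a ^ 2 →
      ∃ ε : ℤ, (ε = 1 ∨ ε = -1) ∧ c * x * c⁻¹ = x ^ ε := fun hx hn c hc c2 => by
    refine conj_sign (hx ▸ hp) (hn hc) ?_
    have := H0.der_norm_cents inferInstance (commutator_mem_commutator (hn hb) (hn ha))
    rwa [commutatorElement_def, k, ← mul_inv_rev, inv_mem_iff, ← sq, cent_zpowers, ← c2] at this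
  have o4 : ∀ c ∈ Q, c ^ 2 = a ^ 2 → orderOf c = 4 := fun c hc c2 =>
    H10.q8_orderOf e hc (c2 ▸ a2)
  obtain ⟨α, hα, e1⟩ := sg hu hQ a ha rfl
  obtain ⟨β, hβ, e2⟩ := sg hu hQ b hb b2
  obtain ⟨γ, hγ, e3⟩ := sg hw hQW a ha rfl
  obtain ⟨δ, hδ, e4⟩ := sg hw hQW b hb b2
  have e5 : a * b * u * (a * b)⁻¹ = u ^ (α * β) := by
    rw [← H17.GS.conj_conj', e2, ← conj_zpow, e1, zpow_mul]
  have e6 : a * b * w * (a * b)⁻¹ = w ^ (γ * δ) := by
    rw [← H17.GS.conj_conj', e4, ← conj_zpow, e3, zpow_mul]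
  have key : ∀ (c : G) (ε : ℤ), c * u * c⁻¹ = u ^ ε → c * w * c⁻¹ = w ^ ε → ∀ y ∈ P,
      c * y * c⁻¹ = y ^ ε := fun c ε k1 k2 y hy => by
    obtain ⟨_, ⟨i, rfl⟩, _, ⟨j, rfl⟩, rfl⟩ := hW.cp.mem hy
    rw [← conj_mul, ← conj_zpow, ← conj_zpow, k1, k2, ← zpow_mul, ← zpow_mul, mul_comm ε,
      mul_comm ε, zpow_mul, zpow_mul, Commute.mul_zpow (mul_comm_of_comm hP.comm
        (hW.left_le ⟨i, rfl⟩) (hW.right_le ⟨j, rfl⟩))]
  have k1 : ∀ c ∈ Q, c ^ 2 = a ^ 2 → c * u * c⁻¹ = u ^ (1 : ℤ) → c * w * c⁻¹ = w ^ (1 : ℤ) →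
      ∃ c ∈ Q, c ^ 2 ≠ 1 ∧ c ∈ C(P) := fun c hc c2 k1 k2 => ⟨c, hc, c2 ▸ a2, mem_cent.2 fun y hy =>
    (mul_inv_eq_iff_eq_mul.1 ((key c 1 k1 k2 y hy).trans (zpow_one y))).symm⟩
  obtain ⟨d, hd, d1⟩ : ∃ d, orderOf d = 4 ∧ d * u * d⁻¹ = u ^ (1 : ℤ) := by
    rcases hα with rfl | rfl
    · exact ⟨a, o4 a ha rfl, e1⟩
    rcases hβ with rfl | rfl
    · exact ⟨b, o4 b hb b2, e2⟩
    · exact ⟨a * b, o4 _ (mul_mem ha hb) ab2, e5⟩
  have k2 : ∀ c ∈ Q, c ^ 2 = a ^ 2 → c * u * c⁻¹ = u ^ (-1 : ℤ) → c * w * c⁻¹ ≠ w ^ (-1 : ℤ) :=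
    fun c hc c2 k1 k2 => by
      obtain ⟨g, hg⟩ := h.cent1 (hd.trans (o4 c hc c2).symm)
      have k3 := key c _ k1 k2 _ (‹P.Normal›.conj_mem u (hU.le (mem_zpowers u)) g)
      rw [← mem_cent1.1 (hg ▸ conj_mem_cj.2 (mem_cent1.2 (mul_inv_eq_iff_eq_mul.1
        (d1.trans (zpow_one u))).symm) : g * u * g⁻¹ ∈ C[c]), mul_inv_cancel_right, zpow_neg_one,
        eq_inv_iff_mul_eq_one, ← sq, ← orderOf_dvd_iff_pow_eq_one, orderOf_conj', hu] at k3
      exact p2 ((Nat.prime_dvd_prime_iff_eq hp Nat.prime_two).1 k3)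
  rcases hα with rfl | rfl <;> rcases hγ with rfl | rfl
  · exact k1 a ha rfl e1 e3
  · rcases hβ with rfl | rfl <;> rcases hδ with rfl | rfl
    · exact k1 b hb b2 e2 e4
    · exact k1 _ (mul_mem ha hb) ab2 e5 e6
    · exact (k2 _ (mul_mem ha hb) ab2 e5 e6).elim
    · exact (k2 b hb b2 e2 e4).elim
  · rcases hβ with rfl | rfl <;> rcases hδ with rfl | rfl
    · exact k1 b hb b2 e2 e4
    · exact (k2 _ (mul_mem ha hb) ab2 e5 e6).elim
    · exact k1 _ (mul_mem ha hb) ab2 e5 e6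
    · exact (k2 b hb b2 e2 e4).elim
  · exact (k2 a ha rfl e1 e3).elim

theorem AbCj.q8_cents [Group.IsSolvable G] (h : AbCj G) (hp : p.Prime) (p2 : p ≠ 2)
    (e : Q ≃* QuaternionGroup 2) [P.Normal] (hP : Syl p P ⊤) (hE : Abelem p P) (h1 : U < P)
    (U1 : U ≠ ⊥) (hQ : Q ≤ N(U)) : Q ≤ C(P) := by
  haveI := Fact.mk hp
  obtain ⟨c, hc, c2, k⟩ : ∃ c ∈ Q, c ^ 2 ≠ 1 ∧ c ∈ C(P) := by
    obtain ⟨n, hn⟩ := abelem_el hp hE le_top
    rcases lt_trichotomy n 2 with k | rfl | k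
    · have k1 := hP.pi.card_mul_le h1
      have k2 := Nat.pow_le_pow_right hp.pos (Nat.le_of_lt_succ k)
      have := ne_bot_iff_one_lt_card.1 U1
      rw [← hn.card, pow_one] at k2
      nlinarith [hp.pos]
    · exact q8_cents_two h p2 e hn (hn.el1_of_lt h1 U1) hQ
    · obtain ⟨P, rfl⟩ := hP.exists_sylow_top
      exact q8_cents_three p2 (h.cj_of_solvable hp) e P hE k hn.card
  intro x hx
  by_cases x2 : x ^ 2 = 1
  · rcases H10.q8_invol e hc hx c2 x2 with rfl | rfl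
    · exact one_mem _
    · exact pow_mem k 2
  · exact h.mem k ((H10.q8_orderOf e hc c2).trans (H10.q8_orderOf e hx x2).symm)

omit [Finite G] in
theorem cj_of_amb (h : ∀ A B, A ≤ H → B ≤ H → IsPGroup p A → IsPGroup p B → #A = #B →
    ∃ g ∈ H, cj g A = B) : Cj p H := fun A B hA hB e => by
  obtain ⟨g, hg, k⟩ := h _ _ (map_subtype_le A) (map_subtype_le B) (hA.map _) (hB.map _) (by
    rwa [card_map_of_injective H.subtype_injective, card_map_of_injective H.subtype_injective])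
  exact ⟨⟨g, hg⟩, map_injective H.subtype_injective (by rw [map_conj_smul', ← k]; rfl)⟩

theorem AllCj.amb (h : AllCj H) (hA : A ≤ H) (hB : B ≤ H) (e : #A = #B) : ∃ g ∈ H, cj g A = B := by
  obtain ⟨g, hg⟩ := h (A.subgroupOf H) (B.subgroupOf H) (by
    rwa [card_subgroupOf' hA, card_subgroupOf' hB])
  have := congrArg (map H.subtype) hg
  rw [map_conj_smul', map_subgroupOf_eq_of_le hA, map_subgroupOf_eq_of_le hB] at this
  exact ⟨g, g.2, this.symm⟩

theorem allCj_of_abCj [Group.IsSolvable G] (h : AbCj G) : AllCj G := by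
  have hD := fun p hp => h.cj_of_solvable (p := p) hp
  let π : Set ℕ := {p | ∃ P : Subgroup G, P.Normal ∧ Syl p P ⊤ ∧ Abelem p P}
  have hπ : ∀ p, p.Prime → p ∉ π → Cy p G ∨ p = 2 ∧ ∃ P : Subgroup G, Syl 2 P ⊤ ∧
      Nonempty (P ≃* QuaternionGroup 2) := fun p hp hn => by
    haveI := Fact.mk hp
    by_cases hc : ∀ P : Sylow p G, IsCyclic P
    · exact .inl (cy_of_sylow hc)
    obtain ⟨P, hP⟩ := not_forall.1 hc
    have hS := syl_sylow_top P
    have k : ¬ Abelem p (P : Subgroup G) := fun k => hn ⟨P, normal_of_cj G ‹_› hD hp _ hS k (by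
      obtain ⟨n, hn⟩ := hS.pi.exists_card
      rw [hn]
      exact Nat.pow_le_pow_right hp.pos (by_contra fun e => hP (isCyclic_of_card_dvd_prime (p := p)
        (hn.dvd.trans (by simpa using pow_dvd_pow p (show n ≤ 1 by omega)))))), hS, k⟩
    obtain rfl : p = 2 := by_contra fun e => (sylow_odd hD e P).elim hP k
    exact .inr ⟨rfl, P, hS, ((Cfsg.Agent.S4020.result hD P).resolve_left hP).resolve_left k⟩
  have hs : ∀ X : Subgroup G, Sol X := fun X => inferInstance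
  obtain ⟨F, hF⟩ : ∃ F, F = Oc π (⊤ : Subgroup G) := ⟨_, rfl⟩
  have hFπ : PiG π F := hF ▸ Oc_pi _ _
  have hn : ∀ X : Subgroup G, X ≤ N(F) := fun X => hF ▸ le_top.trans (Oc_norm _ _)
  have hFP : ∀ p ∈ π, ∃ P : Subgroup G, P.Normal ∧ Syl p P ⊤ ∧ Abelem p P ∧ P ≤ F :=
    fun p hp => let ⟨P, a, b, c⟩ := hp; ⟨P, a, b, c, hF ▸ le_Oc normalIn_top (b.pi.sing hp)⟩
  have hH : Hall π F ⊤ := hall_of_syl le_top hFπ fun p _ hp _ =>
    let ⟨P, _, b, _, d⟩ := hFP p hp; ⟨P, b, d⟩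
  have hab : Ab F := comm_iff_le_cent.2 (le_of_exists_syl fun p hp hd => by
    obtain ⟨P, _, b, c, d⟩ := hFP p (hFπ.mem hp hd)
    refine ⟨P, b.of_le d le_top, cents_symm (le_of_exists_syl fun q hq hd => ?_)⟩
    obtain ⟨Q, _, b', -, d'⟩ := hFP q (hFπ.mem hq hd)
    refine ⟨Q, b'.of_le d' le_top, ?_⟩
    by_cases e : q = p
    · subst e
      exact (b.eq_of_normal le_normalizer_of_normal b').le.trans (comm_iff_le_cent.1 c.1)
    · exact b'.pi.cents_of_norms (b.pi.sing_ne (Ne.symm e)) le_normalizer_of_normal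
        le_normalizer_of_normal)
  have hI : ∀ X : Subgroup G, Hall π (F ⊓ X) X := fun X => hH.inf_of_norm' le_top (hn X)
  have main : ∀ U ≤ F, ∀ H, Hall πᶜ H N(U) → AllCj H := fun U hU H hHU => by
    have hFU : Hall π F N(U) := hH.of_le (norms_of_comm hab le_rfl hU) le_top
    have cy : ∀ p, p.Prime → p ∈ π ∨ Cy p G → Cy p H := fun p hp k => haveI := Fact.mk hp
      k.elim (fun k => cy_of_not_dvd (hHU.pi.not_dvd hp k)) fun k => k.subgroup H
    have cy' : ∀ p, p.Prime → p ≠ 2 → Cy p H := fun p hp p2 => cy p hp (or_iff_not_imp_left.2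
      fun k => (hπ p hp k).resolve_right fun e => p2 e.1)
    refine allCj_of_cy 2 H (hs H) (fun p hp => ?_) cy'
    haveI := Fact.mk hp
    by_cases k : p ∈ π ∨ Cy p G
    · exact (cy p hp k).cj
    obtain ⟨rfl, P, hP, ⟨e⟩⟩ := (hπ p hp fun e => k (.inl e)).resolve_left fun e => k (.inr e)
    have k2 : 2 ∉ π := fun e => k (.inl e)
    obtain ⟨T, hT⟩ := exists_syl 2 H
    obtain ⟨g, -, hg⟩ := hP.sle_cj le_top hT.pi
    replace e := H10.q8_cj e g
    have c4 : ∀ A ≤ T, A ≠ cj g P → #A ∣ 2 ^ 2 := fun A hA ne => by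
      obtain ⟨i, hi, k⟩ := (Nat.dvd_prime_pow hp (m := 3)).1
        ((card_dvd (hA.trans hg)).trans (H10.q8_card e).dvd)
      exact k ▸ pow_dvd_pow 2 (Nat.le_of_lt_succ (lt_of_le_of_ne hi fun e' => ne
        (eq_of_le_of_card_eq (hA.trans hg) (by rw [k, e']; exact (H10.q8_card e).symm))))
    by_cases eT : T = cj g P
    swap
    · obtain ⟨c, hc, c2⟩ := H10.q8_exists e
      have := h.cyc (ab_of_card_sq hp (c4 T le_rfl eT)) ((c4 T le_rfl eT).trans (H10.q8_orderOf e hc c2).symm.dvd)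
      refine Cy.cj fun A hA => ?_
      obtain ⟨y, -, hy⟩ := hT.sle_cj (map_subtype_le A) (PiN.of_isPGroup hp (hA.map _))
      haveI := (cyclic_cj (g := y)).2 this
      haveI := isCyclic_of_le hy
      exact isCyclic_of_surjective _ (equivMapOfInjective A _ H.subtype_injective).symm.surjective
    subst eT
    suffices key : ∀ A B, A ≤ cj g P → B ≤ cj g P → #A = #B → ∃ y ∈ H, cj y A = B by
      refine cj_of_amb fun A B hA hB pA pB hAB => ?_
      obtain ⟨y, hy, k1⟩ := hT.scj_le hA (PiN.of_isPGroup hp pA)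
      obtain ⟨z, hz, k2⟩ := hT.scj_le hB (PiN.of_isPGroup hp pB)
      obtain ⟨w, hw, k3⟩ := key _ _ k1 k2 (by rwa [card_cj, card_cj])
      exact ⟨z⁻¹ * w * y, mul_mem (mul_mem (inv_mem hz) hw) hy, by
        rw [cj_mul, cj_mul, k3, cj_inv_cj]⟩
    intro A B hA hB hAB
    by_cases eA : A = cj g P
    · exact ⟨1, one_mem _, by rw [cj_one, eq_of_le_of_card_eq hB (eA ▸ hAB.symm), eA]⟩
    obtain ⟨V, hV⟩ : ∃ V, V = U ⊓ C(cj g P) := ⟨_, rfl⟩
    have hVπ : PiG π V := hFπ.of_le (hV ▸ inf_le_left.trans hU)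
    have k3 : ∀ A ≤ cj g P, #A ∣ 2 ^ 2 → Ab (V ⊔ A) ∧ #(V ⊔ A) = #V * #A ∧ Hall π V (V ⊔ A) ∧
        Hall πᶜ A (V ⊔ A) := fun A hA c => by
      have k4 : V ≤ C(A) := hV ▸ inf_le_right.trans (cent_mono hA)
      have k5 : PiG πᶜ A := (hT.pi.of_le hA).sing k2
      have k6 := sdprod_sup (norms_of_cents (cents_symm k4)) (hVπ.inf_eq_bot k5)
      exact ⟨comm_sup (comm_mono hab (hV ▸ inf_le_left.trans hU)) (ab_of_card_sq hp c) k4,
        k6.card.symm, k6.hall_of_pi hVπ k5, k6.hall_right (k6.hall_of_pi hVπ k5)⟩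
    obtain ⟨a1, a2, a3, a4⟩ := k3 A hA (c4 A hA eA)
    obtain ⟨b1, b2, b3, b4⟩ := k3 B hB (hAB ▸ c4 A hA eA)
    obtain ⟨y, hy⟩ := h _ _ a1 b1 (by rw [a2, b2, hAB])
    replace hy : cj y (V ⊔ A) = V ⊔ B := hy.symm
    have k4 := b3.eq_of_normal (norms_of_comm b1 le_rfl le_sup_left) (hy ▸ a3.J y)
    have k5 := b4.eq_of_normal (norms_of_comm b1 le_rfl le_sup_right) (hy ▸ a4.J y)
    have k6 : y ∈ N(U) := mem_norm_of_cj_le (le_of_exists_syl fun q hq hd => by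
      rw [card_cj] at hd
      have hqπ := hFπ.mem hq (hd.trans (card_dvd hU))
      obtain ⟨R, _, r1, r2, -⟩ := hFP q hqπ
      have r3 := r1.inf_of_norm' (K := U) le_top le_normalizer_of_normal
      refine ⟨_, r3.J y, ?_⟩
      rcases (inf_le_left : R ⊓ U ≤ R).eq_or_lt with r4 | r4
      · rw [r4, cj_of_mem_norm (le_normalizer_of_normal (mem_top y))]
        exact inf_eq_left.1 r4
      · exact (cj_mono y (hV ▸ le_inf inf_le_right (inf_le_left.trans (cents_symm (h.q8_cents hq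
          (fun e => k2 (e ▸ hqπ)) e r1 r2 r4 (r3.sne_bot hq hd) (norms_inf le_normalizer_of_normal
          (hT.le.trans hHU.le))))))).trans (k4.le.trans (hV ▸ inf_le_left)))
    obtain ⟨f, hf, z, hz, rfl⟩ := (mem_sup_of_norm (hn H)).1 ((hFU.sup_compl hHU).ge k6)
    refine ⟨z, hz, eq_of_le_of_card_eq (fun x hx => ?_) (by rw [card_cj, hAB])⟩
    have k7 : f * x * f⁻¹ ∈ B := k5 ▸ cj_mul f z A ▸ conj_mem_cj.2 hx
    have k8 : f * x * f⁻¹ * x⁻¹ ∈ F ⊓ H := mem_inf.2 ⟨by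
      rw [mul_assoc, mul_assoc, ← mul_assoc x]
      exact mul_mem hf (conj_mem_of_norm (hn ⊤ (mem_top x)) (inv_mem hf)), mul_mem (hT.le (hB k7))
        (inv_mem (cj_le_of_mem hz (hA.trans hT.le) hx))⟩
    rwa [mul_inv_eq_one.1 (mem_bot.1 ((hFπ.inf_eq_bot hHU.pi).le k8))] at k7
  intro X Y hXY
  have hc : ∀ {X Y : Subgroup G} {ρ X' Y'}, #X = #Y → Hall ρ X' X → Hall ρ Y' Y → #X' = #Y' :=
    fun e a b => Nat.dvd_antisymm (b.dvd a.pi (e ▸ card_dvd a.le)) (a.dvd b.pi (e ▸ card_dvd b.le))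
  obtain ⟨g, hg⟩ := h (F ⊓ X) (F ⊓ Y) (comm_mono hab inf_le_left) (comm_mono hab inf_le_left)
    (hc hXY (hI X) (hI Y))
  replace hg : F ⊓ cj g X = F ⊓ Y := by
    rw [hg, ← cj_eq_smul, cj_inf, cj_of_mem_norm (hn ⊤ (mem_top g))]
  obtain ⟨H, hHU⟩ := exists_hall πᶜ (hs N(F ⊓ Y))
  obtain ⟨X', hX'⟩ := exists_hall πᶜ (hs (cj g X))
  obtain ⟨Y', hY'⟩ := exists_hall πᶜ (hs Y)
  obtain ⟨a, ha, k1⟩ := hHU.cj_le (hs _) (hX'.le.trans (hg ▸ norms_inf (hn _) le_normalizer)) hX'.pi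
  obtain ⟨b, hb, k2⟩ := hHU.cj_le (hs _) (hY'.le.trans (norms_inf (hn _) le_normalizer)) hY'.pi
  obtain ⟨c, hc', k3⟩ := (main _ inf_le_left H hHU).amb k1 k2 (by
    rw [card_cj, card_cj, hc ((card_cj g X).trans hXY) hX' hY'])
  refine ⟨b⁻¹ * c * a * g, ?_⟩
  rw [← cj_eq_smul, cj_mul, ← (hI (cj g X)).sup_compl hX', hg, cj_sup, cj_of_mem_norm
    (mul_mem (mul_mem (inv_mem hb) (hHU.le hc')) ha), cj_mul, cj_mul, k3, cj_inv_cj,
    (hI Y).sup_compl hY']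

theorem AbCj.of_ker {G' : Type*} [Group G'] (h : AbCj G) {f : G →* G'} (hf : Function.Surjective f)
    (hp : p.Prime) (p2 : p ≠ 2) (hE : Abelem p f.ker) (h1 : f.ker ≠ ⊥) : AbCj G' := by
  haveI := Fact.mk hp
  have hN := abelem_pg hp hE
  have key : ∀ A : Subgroup G', Ab A → ∃ X : Subgroup G, Ab X ∧ X.map f = A ∧
      #X = #A * if p ∣ #A then #f.ker else 1 := fun A hA => by
    have k1 : ⁅A.comap f, A.comap f⁆ ≤ f.ker := by
      rw [← Subgroup.map_eq_bot_iff, map_commutator, map_comap_eq_self_of_surjective hf]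
      exact comm_iff_der.1 hA
    have k2 : f.ker ≤ A.comap f := comap_mono bot_le
    have k3 := H1.card_comap_of_surjective hf A
    have hs : Sol (A.comap f) := sol_of_quo le_normalizer_of_normal (sol_of_ab (comm_mono hE.1
      inf_le_left)) (sol_of_ab (comm_iff_der.2 (by
        rw [← quo_comm le_normalizer_of_normal le_normalizer_of_normal, quo_eq_bot k1])))
    obtain ⟨X, hX⟩ := exists_hall {p}ᶜ hs
    have k4 : f.ker ⊓ X = ⊥ := hN.inf_eq_bot hX.pi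
    have hab : Ab X := comm_iff_der.2 (le_bot_iff.1 (k4 ▸ le_inf ((der_mono hX.le).trans k1)
      (der_le X)))
    split_ifs with hd
    · refine ⟨_, ?_, map_comap_eq_self_of_surjective hf A, k3⟩
      obtain ⟨R, hR, k5⟩ := hN.exists_syl k2
      obtain ⟨P, hP, k6⟩ := hR.pi.exists_syl le_top
      obtain ⟨P, rfl⟩ := hP.exists_sylow_top
      have k7 : ¬ R ≤ f.ker := fun e => (le_antisymm e k5 ▸ hR).not_dvd hp (by
        rwa [Nat.eq_of_mul_eq_mul_left (card_pos _) ((card_mul_relIndex k2).trans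
          (k3.trans (mul_comm _ _)))])
      haveI := ((Cfsg.Agent.S3908.result h).2 p p2 P).resolve_right fun e => k7 fun x hx => by
        rcases eq_or_ne x 1 with rfl | x1
        · exact one_mem _
        obtain ⟨y, hy, y1⟩ := exists_ne_one h1
        exact h.mem hy ((orderOf_of_pow hp (hE.2 y hy) y1).trans
          (orderOf_of_pow hp (e x (k6 hx)) x1).symm)
      have hc : Cyc R := isCyclic_of_le k6
      have k8 := hX.le.trans (norms_of_der_le (k1.trans k5) hR.le)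
      have k9 := hR.pi.coprime hX.pi
      rw [← hR.sup_compl hX]
      exact comm_sup (comm_of_cyclic hc) hab (cents_symm (H18.coprime_odd_faithful_Ohm1 hR.pi k8 k9
        (H17.GS.og_iff.1 (hR.pi.sing_ne p2)) (cents_symm ((H4.Ohm1_le_of_cyc hR.pi hc inf_le_left
        fun e => k7 ((commg_eq_of_cent_eq_bot k8 k9 (.inl (sol_of_ab hab)) e).ge.trans
        ((commutator_mono hR.le hX.le).trans k1))).trans inf_le_right))))
    · have k5 : Syl p f.ker (A.comap f) := syl_mk k2 hN (by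
        rwa [Nat.eq_of_mul_eq_mul_left (card_pos _) ((card_mul_relIndex k2).trans
          (k3.trans (mul_comm _ _)))])
      have k6 : X.map f = A := by
        rw [← map_comap_eq_self_of_surjective hf A, ← k5.sup_compl hX, Subgroup.map_sup,
          (Subgroup.map_eq_bot_iff _).2 le_rfl, bot_sup_eq]
      exact ⟨X, hab, k6, by rw [← k6, H1.card_map_of_inf_ker_eq_bot k4, mul_one]⟩
  intro A B hA hB e
  obtain ⟨X, a1, rfl, a2⟩ := key A hA
  obtain ⟨Y, b1, rfl, b2⟩ := key B hB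
  obtain ⟨g, hg⟩ := h X Y a1 b1 (by rw [a2, b2, e])
  exact ⟨f g, by rw [hg, map_conj_smul']⟩

theorem abCj_of_odd_ker {G' : Type*} [Group G'] (G : Type u) [Group G] [Finite G] : AbCj G →
    ∀ f : G →* G', Function.Surjective f → Odd #f.ker → AbCj G' := by
  refine H1.induction_card (P := fun G _ _ => AbCj G → ∀ f : G →* G', Function.Surjective f →
    Odd #f.ker → AbCj G') (fun G _ _ ih h f hf ho => ?_) G
  by_cases e : f.ker = ⊥
  · intro A B hA hB hc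
    let φ := MulEquiv.ofBijective f ⟨f.ker_eq_bot_iff.1 e, hf⟩
    obtain ⟨g, hg⟩ := h (A.map φ.symm.toMonoidHom) (B.map φ.symm.toMonoidHom) inferInstance
      inferInstance (by
        rwa [card_map_of_injective φ.symm.injective, card_map_of_injective φ.symm.injective])
    refine ⟨φ g, map_injective (f := φ.symm.toMonoidHom) φ.symm.injective ?_⟩
    rw [hg, map_conj_smul']
    exact congrArg (fun x => MulAut.conj x • _) (φ.symm_apply_apply g).symm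
  obtain ⟨N, p, hp, hle, _, N1, hN, -⟩ :=
    H1.exists_minimal_normal_elementary_le f.ker e (H20.odd_solvable _ ho)
  refine ih _ (H1.card_quotient_lt N1) (h.of_ker (QuotientGroup.mk'_surjective N) hp (fun e => ?_)
    (by rwa [QuotientGroup.ker_mk']) (by rwa [QuotientGroup.ker_mk'])) (QuotientGroup.lift N f hle)
    (QuotientGroup.lift_surjective_of_surjective N f hf hle) ?_
  · exact ho.not_two_dvd_nat (e ▸ ((abelem_pg hp hN).dvd_of_ne_bot N1).trans (card_dvd hle))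
  · rw [QuotientGroup.ker_lift]
    exact ho.of_dvd_nat (card_dvd_of_surjective _ (MonoidHom.subgroupMap_surjective _ _))

end H23
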