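import Cfsg.Agent.H23.CjAll2
import Cfsg.Agent.H20.JT19

/-!
# Groups in which `p`-subgroups of equal order are conjugate: the Janko-Ree case
-/

open Subgroup Cfsg MatrixGroups
open H19 hiding eq_bot_mono
open H17.GS H20.JT

namespace H23

universe u

variable {G : Type u} [Group G] [Finite G] {p q f : ℕ} {t s u : G} {S K L T U B : Subgroup G}

/-- an involution `t` of a normal subgroup `L` of Janko-Ree type, and the component `K` of
`C(t)` -/
structure JD (t : G) (S K L : Subgroup G) : Prop where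
  el : El 2 3 S L
  syl : Syl 2 S ⊤
  mem : t ∈ S
  t2 : orderOf t = 2
  nl : K ⊴ C[t]
  le : K ≤ L
  sim : Sim K
  l2 : IsL2pm K
  out : t ∉ K
  four : #(S ⊓ K) = 4
  cent : L ⊓ C[t] ⊓ C(K) = zpowers t

theorem exists_jd [L.Normal] (h : JRt L) (hi : ¬ 2 ∣ L.index) : ∃ t S K, JD t S K L := by
  obtain ⟨S, hE, hS⟩ := h.syl
  have h8 : #S = 8 := hE.card
  obtain ⟨t, ht, t2⟩ := exists_inv_pg hS.pi fun e => by rw [e, card_bot] at h8; omega
  have tt := mul_self_of_ord2 t2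
  have t1 := ne_one_of_ord2 t2
  have hS' : Syl 2 S (L ⊓ C[t]) := hS.inf (ab_cent1 hE.ab ht)
  have hab := AbS.of_syl hS' hE.ab.1
  have h0 := h.core t (hS.le ht) t2
  obtain ⟨K, hK⟩ := hab.exists_comp h0 (h.nsol t (hS.le ht) t2)
  have key : ∀ J, Comp J (L ⊓ C[t]) → Sim J ∧ t ∉ J ∧ #(S ⊓ J) = 4 := fun J hJ => by
    have s := hJ.sim h0 hab
    have tJ : t ∉ J := fun e => t1 (mem_bot.1 (s.center ▸
      (⟨e, cents_symm (zp_cent (hJ.le.trans inf_le_right)) (mem_zpowers t)⟩ : t ∈ J ⊓ C(J))))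
    have k1 := s.four_le_syl (hJ.syl hS') (abelem_mono hE.ab inf_le_left)
    have k2 := pg_lt_card hS.pi (lt_of_le_of_ne (inf_le_left : S ⊓ J ≤ S)
      fun e => tJ (e.ge ht).2)
    exact ⟨s, tJ, by omega⟩
  obtain ⟨sK, tK, c4⟩ := key K hK
  have dj : ∀ {J}, J ≤ C(K) → S ⊓ J ⊓ (S ⊓ K) = ⊥ := fun hJ => le_bot_iff.1 (sK.center ▸ le_inf
    (inf_le_right.trans inf_le_right) (inf_le_left.trans (inf_le_right.trans hJ)))
  have nl : K ⊴ C[t] := ⟨hK.le.trans inf_le_right, fun g hg => mem_norm_iff_cj.2 (by_contra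
    fun ne => by
      have hJ := hK.conj (norms_inf (normalIn_top.norms le_top) le_normalizer hg)
      have k := card_le_inf hE.ab.1 (inf_le_left : S ⊓ cj g K ≤ S) (inf_le_left : S ⊓ K ≤ S)
      rw [dj (hJ.cents hK ne), card_bot, (key _ hJ).2.2, c4] at k
      omega)⟩
  refine ⟨t, S, K, hE, hS.of_idx le_top (by rw [relIndex_top_right]; exact PiN.of_not_dvd hi), ht,
    t2, nl, hK.le.trans inf_le_left, sK, l2pm_of_four sK
    ⟨Nat.prime_two, inf_le_right, abelem_mono hE.ab inf_le_left, c4⟩ (hK.syl hS'), tK, c4, ?_⟩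
  have hN := inf_cent_normal (inf_le_right.trans nl.norm : L ⊓ C[t] ≤ _)
  have k1 := hS'.inf_normal hN
  have k2 : zpowers t ≤ S ⊓ (L ⊓ C[t] ⊓ C(K)) := zpowers_le' ⟨ht, hS'.le ht,
    cents_symm (zp_cent nl.le) (mem_zpowers t)⟩
  have k3 := card_le_inf hE.ab.1 (inf_le_left : S ⊓ (L ⊓ C[t] ⊓ C(K)) ≤ S)
    (inf_le_left : S ⊓ K ≤ S)
  rw [dj inf_le_right, card_bot, c4] at k3
  rw [← eq_of_le_of_card_ge k2 (by rw [card_zp tt t1]; omega)] at k1
  have k5 := (hyp_of_card bot_le (by rw [card_zp tt t1, card_bot])).npc k1 inferInstance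
    (by rw [cent_bot]; exact le_top)
  rw [le_bot_iff.1 (h0 ▸ Oc_le_Oc hN :)] at k5
  rw [← k1.sup_compl k5, sup_bot_eq]

namespace JD

theorem tt (h : JD t S K L) : t * t = 1 := mul_self_of_ord2 h.t2

theorem abelem (h : JD t S K L) (hT : PG 2 T) : Abelem 2 T :=
  let ⟨g, _, hg⟩ := h.syl.sle_cj le_top hT
  abelem_mono (h.el.J g).ab hg

theorem sup_eq (h : JD t S K L) : S ⊓ K ⊔ zpowers t = S :=
  (hyp_of_card inf_le_left (by rw [h.four, h.el.card]; rfl)).sup_zp h.mem fun e => h.out e.2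

theorem inv (h : JD t S K L) (hs : s ∈ C[t]) (ss : s * s = 1) : s ∈ K ∨ s * t ∈ K := by
  obtain ⟨g, hg, k⟩ := exists_conj_mem (h.syl.of_le (ab_cent1 h.el.ab h.mem) le_top) hs ss
  rw [← h.sup_eq, mem_sup_of_norm (norms_of_comm h.el.ab.1 (zpowers_le' h.mem) inf_le_left)] at k
  obtain ⟨a, ha, b, hb, e⟩ := k
  have k := conj_mem_of_norm' (h.nl.norm hg) ha.2
  obtain rfl : s = g⁻¹ * (a * b) * g := by rw [← e]; group
  rcases (mem_zp h.tt).1 hb with rfl | rfl
  · exact .inl (by rwa [mul_one])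
  · refine .inr ?_
    rwa [mul_assoc, mem_cent1.1 hg, ← mul_assoc, mul_assoc g⁻¹, mul_assoc a, h.tt, mul_one]

theorem card_dvd (h : JD t S K L) (hT : PG 2 T) (ht : t ∈ T) : #T ∣ #(T ⊓ K) * 2 := by
  have hE := h.abelem hT
  rw [← card_sup_zp (D := T ⊓ K) h.tt (fun e => h.out e.2)
    (norms_of_comm hE.1 le_rfl inf_le_left ht)]
  refine H19.card_dvd fun s hs => ?_
  rcases h.inv (ab_cent1 hE ht hs) (sq_one hE hs) with k | k
  · exact mem_sup_left ⟨hs, k⟩
  · exact (Subgroup.mul_mem_cancel_right _ (mem_sup_right (mem_zpowers t))).1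
      (mem_sup_left ⟨mul_mem hs ht, k⟩)

theorem syl_cent (h : JD t S K L) (hU : Un K U B p q) (hO : OG U) (hu : u ∈ U) (u1 : u ≠ 1) :
    Syl 2 (zpowers t) C[u] := by
  obtain ⟨T, hT, ht⟩ := (pg_zpowers h.tt).exists_syl (zpowers_le' (H := C[u])
    (mem_cent1_symm.1 (h.nl.le (hU.BL (hU.UB hu)))))
  have k := h.card_dvd hT.pi (ht (mem_zpowers t))
  rw [show T ⊓ K = ⊥ from eq_bot_iff.2 fun x hx => hO.eq_one' hT.pi
    (hU.cent u hu u1 x hx.2 (mem_cent1.1 (hT.le hx.1))) hx.1, card_bot, one_mul] at k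
  rwa [eq_of_le_of_card_ge ht (by
    rw [card_zp h.tt (ne_one_of_ord2 h.t2)]; exact Nat.le_of_dvd two_pos k)]

/-- If the defining field is not prime, the unipotent group is a Sylow subgroup of `G` of order
`p³`. -/
theorem sylow (hD : ∀ p : ℕ, p.Prime → Cj p G) (h : JD t S K L) (hU : Un K U B p (p ^ f))
    (hp : p.Prime) (h8 : p ^ f % 8 = 3 ∨ p ^ f % 8 = 5) (hf : 3 ≤ f) : f = 3 ∧ Syl p U ⊤ := by
  haveI := Fact.mk hp
  have tt := h.tt
  have p2 : p ≠ 2 := by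
    rintro rfl
    have := pow_dvd_pow 2 hf
    omega
  have hUp : PG p U := PiN.of_card_pow hp hU.card
  have hO : OG U := hUp.sing_ne p2
  have hpf : p ^ 2 < p ^ f := Nat.pow_lt_pow_right hp.one_lt (by omega)
  have hp2 : p < p ^ 2 := lt_self_pow₀ hp.one_lt one_lt_two
  obtain ⟨u, hu, u1⟩ := exists_ne_one (H := U) fun e => by
    have := hU.card; rw [e, card_bot] at this; have := hp.one_lt; omega
  have hUt : U ≤ C[t] := hU.UB.trans (hU.BL.trans h.nl.le)
  have hab : ∀ P, Syl p P ⊤ → U ≤ P → Abelem p P := fun P hP hUP => by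
    obtain ⟨P, rfl⟩ := hP.exists_sylow_top
    refine (sylow_odd hD p2 P).resolve_left fun hc => ?_
    haveI := isCyclic_of_le hUP
    have := Nat.le_of_dvd hp.pos (Monoid.exponent_dvd_of_forall_pow_eq_one (G := U)
      fun x => Subtype.ext (hU.exp x x.2))
    rw [IsCyclic.exponent_eq_card, hU.card] at this
    omega
  have k1 := h.syl_cent hU hO hu u1
  have n4 : ∀ X ≤ C[u], ¬ 4 ∣ #X := fun X hX e => by
    have := k1.dvd (n := 4) (PiN.prime_pow Nat.prime_two 2) (e.trans (H19.card_dvd hX))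
    rw [card_zp tt (ne_one_of_ord2 h.t2)] at this
    omega
  have k5 := (hyp_of_card bot_le (by rw [card_zp tt (ne_one_of_ord2 h.t2), card_bot])).npc k1
    inferInstance (by rw [cent_bot]; exact le_top)
  obtain ⟨P, hP, hPt, hUP⟩ := inv_syl_ge (norms_Oc _ (norms_of_le k1.le))
    ((O_og _).cop (pg_zpowers tt)) (sol_pg (pg_zpowers tt))
    (k5.le_Oc (fun x hx => mem_cent1.2 (hU.comm x hx u hu)) hO)
    (norms_of_cents (cents_symm (zp_cent hUt))) hUp
  have hP' : Syl p P ⊤ := by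
    obtain ⟨Q, h1, h2⟩ := hP.pi.exists_syl le_top
    rwa [hP.max h2 (k5.le_Oc (cents_of_comm (hab Q h1 (hUP.trans h2)).1 le_rfl le_rfl |>.trans
      (cent_le_cent1 (h2 (hUP hu)))) (h1.pi.sing_ne p2)) h1.pi] at h1
  have hE := hab P hP' hUP
  have hPO : OG P := hP.pi.sing_ne p2
  have hPc : P ≤ C[t] := fun x hx => by_contra fun hn => by
    have hx' := conj_mem_of_norm (hPt (mem_zpowers t)) hx
    obtain ⟨w, hw⟩ : ∃ w, w = x⁻¹ * (t * x * t⁻¹) := ⟨_, rfl⟩
    have wP : w ∈ P := hw ▸ mul_mem (inv_mem hx) hx'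
    have w1 : w ≠ 1 := fun e => hn (mem_cent1.2 (by
      rw [inv_mul_eq_one.1 (hw.symm.trans e), mul_assoc, inv_mul_cancel, mul_one,
        ← inv_mul_eq_one.1 (hw.symm.trans e)]))
    have wi : t * w * t⁻¹ = w⁻¹ := by
      rw [hw, mul_inv_rev, inv_inv, ← mul_comm_of_comm hE.1 hx (inv_mem hx'),
        mul_comm_of_comm hE.1 hx (inv_mem hx'), show t * (x⁻¹ * (t * x * t⁻¹)) * t⁻¹ =
        (t * x * t⁻¹)⁻¹ * (t * t * x * (t * t)⁻¹) by group, tt, one_mul, inv_one, mul_one]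
    have wt : t ∉ C[w] := fun e => w1 (hPO.eq_one wP (by
      rw [mem_cent1.1 e, mul_inv_cancel_right] at wi; exact mul_eq_one_iff_eq_inv.2 wi))
    obtain ⟨W, hW, hW2⟩ := hUp.exists_card_pow hp (k := 2) (hU.card ▸ hpf.le)
    have hX : zpowers u ⊔ zpowers w ≤ P := sup_le (zpowers_le' (hUP hu)) (zpowers_le' wP)
    obtain ⟨g, hg⟩ := hD p hp W _ (hUp.of_le hW).isPGroup (hP.pi.of_le hX).isPGroup (by
      rw [hW2, H4.card_sup_zpowers_prime hp (norms_of_comm hE.1 le_rfl (zpowers_le' (hUP hu)) wP)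
        (fun e => wt (mem_cent1_symm.1 (zpowers_le' (hUt hu) e))) (by rw [hE.2 w wP]; exact one_mem _),
        Nat.card_zpowers, orderOf_eq_prime (hU.exp u hu) u1, sq])
    have h1 : g * t * g⁻¹ ∈ C(zpowers u ⊔ zpowers w) := by
      rw [hg, ← cj_eq_smul, ← cj_cent, conj_mem_cj]
      exact le_cent1_iff.1 (hW.trans hUt)
    refine n4 (C(zpowers u ⊔ zpowers w) ⊔ zpowers t) (sup_le (cent_le_cent1 (mem_sup_left
      (mem_zpowers u))) k1.le) ?_
    rw [card_sup_zp tt (fun e => wt (cent_le_cent1 (mem_sup_right (mem_zpowers w)) e))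
      (norm_le_norm_cent _ (mem_norm_iff_cj.2 (by
        rw [cj_sup, cj_zpowers, cj_zpowers, wi, zpowers_inv, mem_cent1.1 (k1.le (mem_zpowers t)),
          mul_inv_cancel_right])))]
    exact mul_dvd_mul_right (a := 2) (h.t2 ▸ orderOf_conj' g t ▸ orderOf_dvd_card' h1) 2
  have tP : t ∈ C(P) := le_cent1_iff.1 hPc
  have n8 : ¬ 8 ∣ #N(P) := fun e => by
    obtain ⟨T, hT, ht⟩ := (pg_zpowers tt).exists_syl (zpowers_le' (cent_le_norm _ tP))
    have h1 := (hT.dvd (n := 8) (PiN.prime_pow Nat.prime_two 3) e).trans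
      (h.card_dvd hT.pi (ht (mem_zpowers t)))
    have h2 : T ⊓ K ≤ B := fun x hx => hU.ti u hu u1 x hx.2 (hU.cent u hu u1 _
      (mul_mem (mul_mem hx.2 (hU.BL (hU.UB hu))) (inv_mem hx.2))
      (mul_comm_of_comm hE.1 (conj_mem_of_norm (hT.le hx.1) (hUP hu)) (hUP hu)))
    have h3 := (Nat.Coprime.pow_left 3 (Nat.coprime_two_left.2 (Nat.odd_iff.2
      (show p ^ f % 2 = 1 by omega)))).dvd_of_dvd_mul_left (hU.cardB ▸ mul_comm _ 2 ▸
        h1.trans (mul_dvd_mul_right (H19.card_dvd h2) 2))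
    omega
  have hs : Sol N(P) := sol_of_quo (norm_le_norm_cent P) (isSolvable_of_not_four_dvd (n4 _
    (inf_le_left.trans (cent_le_cent1 (hUP hu))))) (isSolvable_of_not_four_dvd fun e => n8 (by
      rw [card_quo (norm_le_norm_cent P)] at e
      rw [← card_mul_relIndex (cent_le_norm P)]
      exact mul_dvd_mul (h.t2 ▸ orderOf_dvd_card' tP) e))
  obtain ⟨n, hn⟩ := hP.pi.exists_card
  have h1 : f ≤ n := (Nat.pow_le_pow_iff_right hp.one_lt).1 (hn ▸ hU.card ▸ card_le hUP)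
  obtain ⟨P, rfl⟩ := hP'.exists_sylow_top
  obtain rfl := ((hD p hp).sylow_cases P hE hn (hf.trans h1) hs).resolve_right fun e => p2 e.2.1
  obtain rfl := le_antisymm h1 hf
  exact ⟨rfl, eq_of_le_of_card_eq hUP (hU.card.trans hn.symm) ▸ hP'⟩

theorem prod_equiv (h : JD t S K L) (e : K ⊔ zpowers t = C[t]) :
    Nonempty (C[t] ≃* Multiplicative (ZMod 2) × K) := by
  let ε : Multiplicative (ZMod 2) ≃* zpowers t := mulEquivOfPrimeCardEq (p := 2) (by simp)
    (card_zp h.tt (ne_one_of_ord2 h.t2))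
  have c : ∀ a b, Commute (((zpowers t).subtype.comp ε.toMonoidHom) a) (K.subtype b) :=
    fun a b => (mem_cent.1 (zp_cent h.nl.le b.2) _ (ε a).2 :)
  refine ⟨(MulEquiv.subgroupCongr ?_).trans (MonoidHom.ofInjective
    (f := MonoidHom.noncommCoprod _ _ c) ((injective_iff_map_eq_one _).2 fun ⟨a, b⟩ k => ?_)).symm⟩
  · rw [MonoidHom.noncommCoprod_range, range_subtype, MonoidHom.range_comp,
      MonoidHom.range_eq_top.2 ε.surjective, ← MonoidHom.range_eq_map, range_subtype, sup_comm, e]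
  · replace k : (ε a).1 * b = 1 := k
    rcases (mem_zp h.tt).1 (ε a).2 with e | e <;> rw [e] at k
    · exact Prod.ext (ε.injective (Subtype.ext (by simpa using e))) (by simpa using k)
    · exact (h.out (eq_inv_of_mul_eq_one_left k ▸ inv_mem b.2)).elim

end JD

theorem nine_dvd {p n : ℕ} (h3 : 3 ∣ n) (h : 2 * n + 1 = p ^ 3 ∨ 2 * n = p ^ 3 + 1) : 9 ∣ n := by
  have h1 := Nat.pow_mod p 3 9
  have h2 : p % 9 < 9 := Nat.mod_lt _ (by decide)
  generalize p % 9 = r at h1 h2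
  interval_cases r <;> omega

theorem isJ1_of_jrt (hD : ∀ p : ℕ, p.Prime → Cj p G) [L.Normal] (hL : Sim L) (hJ : JRt L)
    (hC : C(L) = ⊥) (hc : (#L).Coprime L.index) : IsJ1 G := by
  have hLS : 8 ∣ #L := let ⟨_, h1, _⟩ := hJ.syl; h1.card.symm.dvd.trans (card_dvd h1.le)
  have hi : ∀ {r}, r.Prime → r ∣ #L → ¬ r ∣ L.index := fun hr a b =>
    hr.not_dvd_one (hc ▸ Nat.dvd_gcd a b)
  obtain ⟨t, S, K, h⟩ := exists_jd hJ (hi Nat.prime_two (Dvd.dvd.trans (by decide) hLS))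
  have tt := h.tt
  have tL := h.el.le h.mem
  obtain ⟨F, _, _, h8, h5, ⟨e⟩⟩ := h.l2
  obtain ⟨p, _, ⟨f, hf⟩, hp, hq⟩ := FiniteField.card' F
  haveI := Fact.mk hp
  change _ = p ^ f at hq
  obtain ⟨σ⟩ := psl_gf hf.ne' hq
  obtain ⟨h1, h2⟩ := card_aut_psl_gf hf.ne' (e.trans (H11.pslCongr (Equiv.refl _) σ))
  have hpa := pa_psl p (F := F) (Nat.odd_iff.2 (by omega))
    (φ := K.subtype.comp e.symm.toMonoidHom) (K.subtype_injective.comp e.symm.injective)
  rw [MonoidHom.range_comp, MonoidHom.range_eq_top.2 e.symm.surjective, ← MonoidHom.range_eq_map,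
    K.range_subtype, hq] at hpa
  have h8' := hq ▸ h8
  rw [show Nat.gcd 2 (p ^ f - 1) = 2 from Nat.gcd_eq_left (by omega)] at h1 h2
  have p2 : p ≠ 2 := by
    rintro rfl
    have := dvd_pow_self 2 hf.ne'
    omega
  have hqK : p ^ f ∣ #K := (Nat.coprime_two_right.2 (Nat.odd_iff.2 (by omega))).dvd_of_dvd_mul_left
    (h1 ▸ dvd_mul_right _ _)
  have h3K : 3 ∣ #K := by
    refine (by decide : Nat.Coprime 3 2).dvd_of_dvd_mul_left (h1 ▸ ?_)
    obtain ⟨q, e⟩ : ∃ q, p ^ f = q + 1 := ⟨p ^ f - 1, by omega⟩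
    rw [e, show (q + 1) ^ 2 - 1 = q * (q + 2) from Nat.sub_eq_of_eq_add (by ring)]
    rcases (by omega : 3 ∣ q ∨ 3 ∣ q + 1 ∨ 3 ∣ q + 2) with e | e | e
    · exact (e.mul_right _).mul_left _
    · exact e.mul_right _
    · exact (e.mul_left _).mul_left _
  have hf3 : f = 1 ∨ f = 3 ∧ ¬ p ^ 4 ∣ Nat.card G := by
    have := Nat.odd_iff.1 (pow_mod_eight h8').2
    rcases (by omega : f = 1 ∨ 3 ≤ f) with k | k
    · exact .inl k
    obtain ⟨c, hc, hc1⟩ := exists_orderOf_eq_prime hp ((dvd_pow_self p hf.ne').trans hqK)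
    obtain ⟨U, B, hU, -⟩ := hpa.uni c hc (fun e => by
      rw [e, orderOf_one] at hc1; exact hp.one_lt.ne hc1) (hc1 ▸ pow_orderOf_eq_one c)
    obtain ⟨rfl, k'⟩ := h.sylow hD hU hp h8' k
    refine .inr ⟨rfl, fun e => ?_⟩
    have := k'.dvd (PiN.prime_pow hp 4) (card_top (G := G) ▸ e)
    rw [hU.card, Nat.pow_dvd_pow_iff_le_right hp.one_lt] at this
    omega
  have hKt : K ⊔ zpowers t ≤ L ⊓ C[t] :=
    sup_le (le_inf h.le h.nl.le) (zpowers_le' ⟨tL, mem_cent1_self t⟩)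
  have hKc := card_sup_zp tt h.out (h.nl.norm (mem_cent1_self t))
  have hM : K ⊔ zpowers t = L ⊓ C[t] := by
    have k1 := card_mul_relIndex hKt
    have k2 := card_inf_mul_relIndex C(K) (L ⊓ C[t])
    have k3 := H18.relIndex_cent_dvd (inf_le_right.trans h.nl.norm : L ⊓ C[t] ≤ _)
    rw [inf_comm, h.cent, card_zp tt (ne_one_of_ord2 h.t2), ← k1, hKc] at k2
    have k4 : (K ⊔ zpowers t).relIndex (L ⊓ C[t]) ∣ f * 2 :=
      Nat.dvd_of_mul_dvd_mul_left (card_pos K) (h2 ▸ (show _ = _ by linarith : C(K).relIndex (L ⊓ C[t]) =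
        #K * (K ⊔ zpowers t).relIndex (L ⊓ C[t])) ▸ k3)
    have k5 := (h.syl.of_le (le_inf h.el.le (ab_cent1 h.el.ab h.mem)) le_top).not_dvd_relIndex
      Nat.prime_two (h.sup_eq.ge.trans (sup_le_sup_right inf_le_right _))
    have k6 : ¬ 3 ∣ (K ⊔ zpowers t).relIndex (L ⊓ C[t]) := fun k => by
      rcases hf3 with rfl | ⟨rfl, k7⟩
      · exact absurd (Nat.le_of_dvd two_pos (k.trans k4)) (by decide)
      by_cases p3 : p = 3
      · subst p3
        exact k7 ((mul_dvd_mul (hqK.mul_right 2) k).trans ((hKc ▸ k1).dvd.trans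
          (card_subgroup_dvd_card _)))
      haveI := Fact.mk Nat.prime_three
      haveI := (h.nl.of_le (le_inf h.le h.nl.le) inf_le_right).subgroupOf
      obtain ⟨R⟩ : Nonempty (Sylow 3 ↥(L ⊓ C[t])) := inferInstance
      obtain ⟨Q, hQ⟩ := (R.isPGroup'.map (L ⊓ C[t]).subtype).exists_le_sylow
      rcases sylow_odd hD (by decide) Q with k8 | k8
      · refine not_dvd_index_of_cyclic R ?_ (L := K.subgroupOf (L ⊓ C[t])) ?_ ?_
          (k.trans (relIndex_dvd_left le_sup_left _))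
        · haveI := isCyclic_of_le hQ
          exact isCyclic_of_surjective _ (equivMapOfInjective _ _ (L ⊓ C[t]).subtype_injective).symm.surjective
        · haveI := h.sim.simple
          exact ⟨(subgroupOfEquivOfLe (le_inf h.le h.nl.le)).isSimpleGroup, fun a => h.sim.nab
            ⟨⟨fun x y => Subtype.ext (congrArg (fun z => z.1.1) (a.1.1 ⟨⟨x, h.le x.2, h.nl.le x.2⟩, x.2⟩
              ⟨⟨y, h.le y.2, h.nl.le y.2⟩, y.2⟩))⟩⟩⟩
        · rwa [card_subgroupOf' (le_inf h.le h.nl.le)]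
      obtain ⟨c, hc, hc1⟩ := exists_orderOf_eq_prime Nat.prime_three h3K
      obtain ⟨g, s, -, k9, k10⟩ := hpa.tor c hc fun e => p3 ((Nat.prime_dvd_prime_iff_eq
        Nat.prime_three hp).1 (hc1 ▸ orderOf_dvd_of_pow_eq_one e)).symm
      obtain ⟨m, hm⟩ := nine_dvd (hc1 ▸ orderOf_dvd_of_mem_zpowers k9) k10
      have k11 : orderOf (g ^ m) = 3 ^ 2 := by
        have := (orderOf_pos g).ne'
        rw [orderOf_pow_of_dvd (by rintro rfl; omega) ⟨9, by omega⟩, hm,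
          Nat.mul_div_cancel _ (by omega)]
        rfl
      obtain ⟨x, hx⟩ := H24.exists_conj_mem_sylow ((orderOf_conj' 1 _).trans k11) Q
      have := orderOf_dvd_of_pow_eq_one (k8.2 _ hx)
      rw [← inv_inv x, inv_inv x⁻¹, orderOf_conj', orderOf_conj', k11] at this
      omega
    have k7 := k4.trans (show f * 2 ∣ 6 by rcases hf3 with rfl | ⟨rfl, -⟩ <;> decide)
    have k8 := Nat.le_of_dvd (by decide) k7
    refine le_antisymm hKt (relIndex_eq_one.1 ?_)
    generalize (K ⊔ zpowers t).relIndex (L ⊓ C[t]) = m at k5 k6 k7 k8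
    interval_cases m <;> omega
  obtain rfl : L = ⊤ := index_eq_one.1 (by_contra fun k => by
    obtain ⟨r, hr, k1⟩ := Nat.exists_prime_and_dvd k
    have rL : ¬ r ∣ #L := fun a => hi hr a k1
    have k2 : L ⊔ C[t] = ⊤ := eq_top_iff.2 fun g _ => by
      obtain ⟨l, hl, e⟩ := hJ.conj _ (‹L.Normal›.conj_mem t tL g) t tL
        ((orderOf_conj' g t).trans h.t2) h.t2
      rw [conj_conj'] at e
      exact (Subgroup.mul_mem_cancel_left _ (mem_sup_left hl)).1
        (mem_sup_right (mem_cent1.2 (mul_inv_eq_iff_eq_mul.1 e)))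
    rw [← relIndex_top_right, ← k2, relIndex_sup_of_norm (normalIn_top.norms le_top)] at k1
    obtain ⟨x, hx, xr⟩ := exists_orderOf_eq_prime hr (k1.trans (relIndex_dvd_card _ _))
    have xK : x ∈ C(K) := by
      refine zpowers_le.1 (relIndex_eq_one.1 (Nat.eq_one_of_dvd_coprimes (a := r)
        (hr.coprime_iff_not_dvd.2 fun a => rL ?_) (xr ▸ Nat.card_zpowers x ▸ relIndex_dvd_card _ _)
        (h2 ▸ H18.relIndex_cent_dvd (zpowers_le' (h.nl.norm hx)))))
      refine ((Nat.Prime.dvd_mul hr).1 a).elim (·.trans (card_dvd h.le)) fun a => a.trans ?_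
      have := h3K.trans (card_dvd h.le)
      rcases hf3 with rfl | ⟨rfl, -⟩ <;> omega
    have k3 : L ⊓ C[t] ≤ C[x] :=
      hM ▸ sup_le (le_cent1_iff.2 xK) (zpowers_le' (mem_cent1_symm.1 hx))
    rcases hJ.max t tL h.t2 (L ⊓ C[x]) (le_inf inf_le_left k3) inf_le_left with k4 | k4
    · obtain ⟨s, hs, s2⟩ := exists_inv_pg (h.syl.pi.infl K) fun e => by
        have := h.four; rw [e, card_bot] at this; omega
      obtain ⟨g, hg, rfl⟩ := hJ.conj t tL s (h.le hs.2) h.t2 s2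
      have k5 : g⁻¹ * x * g * x⁻¹ ∈ L ⊓ C[t] := by
        refine mem_inf.2 ⟨?_, mul_mem (mem_cj.1 (cj_cent1 g t ▸ mem_cent1_symm.1
          (k3 ⟨h.le hs.2, h.nl.le hs.2⟩))) (inv_mem hx)⟩
        rw [mul_assoc, mul_assoc, ← mul_assoc x]
        exact mul_mem (inv_mem hg) (‹L.Normal›.conj_mem g hg x)
      have k6 := (show Commute _ x from mem_cent1.1 (k3 k5)).mul_pow r
      rw [inv_mul_cancel_right, ← xr, pow_orderOf_eq_one, mul_one, xr] at k6
      have k7 := orderOf_eq_one_iff.1 (Nat.eq_one_of_dvd_coprimes (hr.coprime_iff_not_dvd.2 rL)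
        (orderOf_dvd_of_pow_eq_one (k6.symm.trans (by
          rw [← xr, ← orderOf_conj' g⁻¹ x, inv_inv, pow_orderOf_eq_one]))) (orderOf_dvd_card' k5.1))
      have k8 : g ∈ L ⊓ C[t] := k4 ▸ ⟨hg, mem_cent1.2 (by
        rw [mul_inv_eq_one, mul_assoc, inv_mul_eq_iff_eq_mul] at k7; exact k7.symm)⟩
      exact h.out (by simpa only [mem_cent1.1 k8.2, mul_inv_cancel_right] using (mem_inf.1 hs).2)
    · rw [mem_bot.1 (hC.le (le_cent1_iff.1 (inf_eq_left.1 k4))), orderOf_one] at xr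
      exact hr.one_lt.ne xr)
  haveI := hL.simple
  haveI : IsSimpleGroup G := topEquiv.symm.isSimpleGroup
  obtain ⟨e'⟩ := h.prod_equiv (hM.trans (top_inf_eq _))
  rcases jtw (AbS.of_syl h.syl h.el.ab.1) (by omega) h.t2
    (e'.trans ((MulEquiv.refl _).prodCongr e)) with ⟨p', a, r, X⟩ | ⟨-, k⟩
  · obtain ⟨m, hm, e1, e2⟩ := X.order h.t2
    rw [hq] at e1 e2
    obtain rfl : 3 = p := (Nat.prime_dvd_prime_iff_eq Nat.prime_three hp).1
      (Nat.prime_three.dvd_of_dvd_pow (e1 ▸ dvd_pow_self 3 (by omega)))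
    have := Nat.pow_right_injective (by decide) e1
    obtain ⟨rfl, k⟩ := hf3.resolve_left (by omega)
    exact (k (e2 ▸ by decide)).elim
  · exact H20.J1.isJ1_of_iso k

end H23
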