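import Cfsg.Agent.S3889
import Cfsg.Agent.H23.Syl
import Cfsg.Agent.H23.Cyc
import Cfsg.Agent.H1.Subnormal

/-! Nilpotent minimal covers. -/

set_option autoImplicit false

namespace H23
open Subgroup Cfsg
open scoped Pointwise IsMulCommutative

variable {G : Type*} [Group G]

/-- A nilpotent minimal cover. -/
def NMC (𝓐 : Finset (Subgroup G)) : Prop :=
  ((∀ A ∈ 𝓐, A ≠ ⊤) ∧ (∀ g : G, ∃ A ∈ 𝓐, g ∈ A)) ∧
    (∀ 𝓑 : Finset (Subgroup G), (∀ A ∈ 𝓑, A ≠ ⊤) ∧ (∀ g : G, ∃ A ∈ 𝓑, g ∈ A) → 𝓐.card ≤ 𝓑.card) ∧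
    (∀ A ∈ 𝓐, Group.IsNilpotent ↥A)

theorem NMC.eq_of_le {𝓐 : Finset (Subgroup G)} (h : NMC 𝓐) {A B M : Subgroup G} (hA : A ∈ 𝓐)
    (hB : B ∈ 𝓐) (hM : M ≠ ⊤) (h1 : A ≤ M) (h2 : B ≤ M) : A = B := by
  classical
  by_contra hne
  have := h.2.1 (insert M ((𝓐.erase A).erase B)) ⟨?_, ?_⟩
  · have h3 := Finset.card_insert_le M ((𝓐.erase A).erase B)
    rw [Finset.card_erase_of_mem (Finset.mem_erase.2 ⟨Ne.symm hne, hB⟩),
      Finset.card_erase_of_mem hA] at h3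
    have h4 : 1 < 𝓐.card := Finset.one_lt_card.2 ⟨A, hA, B, hB, hne⟩
    omega
  · intro C hC
    rcases Finset.mem_insert.1 hC with rfl | hC
    · exact hM
    · exact h.1.1 C (Finset.mem_of_mem_erase (Finset.mem_of_mem_erase hC))
  · intro g
    obtain ⟨C, hC, hg⟩ := h.1.2 g
    by_cases e1 : C = A
    · exact ⟨M, Finset.mem_insert_self _ _, h1 (e1 ▸ hg)⟩
    by_cases e2 : C = B
    · exact ⟨M, Finset.mem_insert_self _ _, h2 (e2 ▸ hg)⟩
    exact ⟨C, Finset.mem_insert_of_mem (Finset.mem_erase.2 ⟨e2, Finset.mem_erase.2 ⟨e1, hC⟩⟩), hg⟩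

/-- With abelian Sylow `p`-subgroups, a `p`-element of a nilpotent subgroup is central in it. -/
theorem le_centralizer_of_nilpotent [Finite G] {p : ℕ} [Fact p.Prime] (P : Sylow p G)
    (hab : IsMulCommutative (P : Subgroup G)) {A : Subgroup G} (hA : Group.IsNilpotent A) {x : G}
    (hx : x ∈ A) (hxp : IsPGroup p (zpowers x)) : A ≤ centralizer {x} := by
  have hxO : zpowers x ≤ (pCore p A).map A.subtype :=
    H1.le_pCoreOf_of_subnormal (zpowers_le.2 hx)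
      (H1.SubnIn.of_isNilpotent (zpowers_le.2 hx) hA).isSubnormal hxp
  rw [← H1.pCoreOf_sup_pPrimeCoreOf hA p, ← H1.centralizer_zpowers]
  refine sup_le ?_ (H1.le_centralizer_of_commutator_eq_bot
    (H1.commutator_eq_bot_of_isNilpotent_of_coprime hA (map_subtype_le _) (zpowers_le.2 hx)
      (H1.coprime_card_of_isPGroup hxp (H1.pPrimeCoreOf_coprime A)).symm))
  obtain ⟨Q, hQ⟩ := (H1.pCoreOf_isPGroup (p := p) A).exists_le_sylow
  haveI : IsMulCommutative (Q : Subgroup G) :=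
    ⟨⟨fun a b => (Q.equiv P).injective (by rw [map_mul, map_mul, mul_comm])⟩⟩
  exact hQ.trans ((le_centralizer _).trans (H1.centralizer_anti (hxO.trans hQ)))

theorem NMC.eq_of_mem [Finite G] (hZ : center G = ⊥) {𝓐 : Finset (Subgroup G)} (h : NMC 𝓐)
    {p : ℕ} [Fact p.Prime] (P : Sylow p G) (hab : IsMulCommutative (P : Subgroup G))
    {A B : Subgroup G} (hA : A ∈ 𝓐) (hB : B ∈ 𝓐) {x : G} (hx1 : x ≠ 1)
    (hxp : IsPGroup p (zpowers x)) (h1 : x ∈ A) (h2 : x ∈ B) : A = B :=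
  h.eq_of_le hA hB (fun e => hx1 (mem_bot.1 (hZ ▸ H24.cent_eq_top_iff.1 e)))
    (le_centralizer_of_nilpotent P hab (h.2.2 A hA) h1 hxp)
    (le_centralizer_of_nilpotent P hab (h.2.2 B hB) h2 hxp)

theorem NMC.exists_sylow_le [Finite G] (hZ : center G = ⊥) {𝓐 : Finset (Subgroup G)} (h : NMC 𝓐)
    {p : ℕ} [Fact p.Prime] (P : Sylow p G) (hab : IsMulCommutative (P : Subgroup G))
    (hne : ¬ (IsElementaryAbelian p (P : Subgroup G) ∧ p < Nat.card (P : Subgroup G))) :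
    ∃ A ∈ 𝓐, (P : Subgroup G) ≤ A := by
  by_contra! hn
  apply hne
  have h1 := Cfsg.Agent.S3889.result (G := (P : Subgroup G))
    {B | ∃ A ∈ 𝓐, B = A.subgroupOf P} ?_ ?_ ?_
  · have h2 : Monoid.exponent (P : Subgroup G) = p :=
      H1.isPGroup_iff_forall_prime.1 P.isPGroup' _ h1 Group.exponent_dvd_nat_card
    refine ⟨⟨hab, fun a ha => ?_⟩, ?_⟩
    · have := congrArg Subtype.val (Monoid.pow_exponent_eq_one (⟨a, ha⟩ : (P : Subgroup G)))
      rw [h2] at this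
      exact this
    · by_contra! hle
      obtain ⟨k, hk⟩ := IsPGroup.iff_card.1 P.isPGroup'
      have hk1 : k ≤ 1 := by
        rw [← Nat.pow_le_pow_iff_right (Fact.out : p.Prime).one_lt, ← hk, pow_one]; exact hle
      obtain ⟨a, ha⟩ := exists_zpowers_eq (C := (P : Subgroup G))
        (isCyclic_of_card_dvd_prime (p := p) (hk ▸ (pow_dvd_pow p hk1).trans (by simp)))
      obtain ⟨A, hA, haA⟩ := h.1.2 a
      exact hn A hA (ha ▸ zpowers_le.2 haA)
  · rintro _ ⟨A, hA, rfl⟩ e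
    exact hn A hA (subgroupOf_eq_top.1 e)
  · intro g
    obtain ⟨A, hA, hg⟩ := h.1.2 g
    exact ⟨_, ⟨A, hA, rfl⟩, hg⟩
  · rintro _ ⟨A, hA, rfl⟩ _ ⟨B, hB, rfl⟩ hne
    rw [eq_bot_iff]
    intro x hx
    by_contra hx1
    exact hne (by rw [h.eq_of_mem hZ P hab hA hB (fun e => hx1 (Subtype.ext e))
      (P.isPGroup'.to_le (zpowers_le.2 x.2)) hx.1 hx.2])

theorem NMC.main [Finite G] (hZ : center G = ⊥) {𝓐 : Finset (Subgroup G)} (h : NMC 𝓐)
    {p : ℕ} [Fact p.Prime] (P : Sylow p G) (hab : IsMulCommutative (P : Subgroup G))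
    (hne : ¬ (IsElementaryAbelian p (P : Subgroup G) ∧ p < Nat.card (P : Subgroup G)))
    (hnn : ¬ (P : Subgroup G).Normal) :
    (∃ A ∈ 𝓐, (P : Subgroup G) ≤ A ∧ centralizer ((P : Subgroup G) : Set G) = A) ∧
    (∀ M : Subgroup G, M ≠ ⊤ → centralizer ((P : Subgroup G) : Set G) ≤ M →
      M ≤ normalizer ((P : Subgroup G) : Set G)) ∧
    ∀ Q : Sylow p G, ∀ x : G, x ≠ 1 → x ∈ (P : Subgroup G) → x ∈ (Q : Subgroup G) → P = Q := by
  have hQ : ∀ Q : Sylow p G, ∃ A ∈ 𝓐, (Q : Subgroup G) ≤ A ∧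
      A ≤ centralizer ((Q : Subgroup G) : Set G) := by
    intro Q
    have hab' : IsMulCommutative (Q : Subgroup G) :=
      ⟨⟨fun a b => (Q.equiv P).injective (by rw [map_mul, map_mul, mul_comm])⟩⟩
    suffices hs : ¬ (IsElementaryAbelian p (Q : Subgroup G) ∧ p < Nat.card (Q : Subgroup G)) by
      obtain ⟨A, hA, hle⟩ := h.exists_sylow_le hZ Q hab' hs
      exact ⟨A, hA, hle, fun a ha x hx => (mem_centralizer_singleton_iff.1
        (le_centralizer_of_nilpotent P hab (h.2.2 A hA) (hle hx)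
          (Q.isPGroup'.to_le (zpowers_le.2 hx)) ha)).symm⟩
    refine fun hh => hne ⟨⟨hab, fun a ha => ?_⟩, ?_⟩
    · have h1 : (P.equiv Q ⟨a, ha⟩) ^ p = 1 := Subtype.ext (hh.1.2 _ (P.equiv Q ⟨a, ha⟩).2)
      rw [← map_pow, map_eq_one_iff _ (P.equiv Q).injective] at h1
      exact congrArg Subtype.val h1
    · exact hh.2.trans_eq (Nat.card_congr (P.equiv Q).toEquiv).symm
  obtain ⟨A, hA, hPA, hAC⟩ := hQ P
  have hsame : ∀ Q : Sylow p G, (Q : Subgroup G) ≤ A → P = Q := fun Q hQA =>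
    Sylow.ext (P.is_maximal' Q.isPGroup' (H1.le_sylow_of_le_normalizer' Q P.isPGroup'
      ((le_centralizer_iff.1 (hQA.trans hAC)).trans (centralizer_le_normalizer _)))).symm
  obtain ⟨x, hxP, hx1⟩ : ∃ x ∈ (P : Subgroup G), x ≠ 1 := by
    by_contra! h0
    exact hnn ((eq_bot_iff_forall _).2 h0 ▸ inferInstance)
  have hxp : IsPGroup p (zpowers x) := P.isPGroup'.to_le (zpowers_le.2 hxP)
  have hCA : centralizer ((P : Subgroup G) : Set G) = A := by
    refine le_antisymm (fun c hc => ?_) hAC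
    obtain ⟨u, hu, v, hv, rfl, hu2, hv2⟩ := exists_pPart p Fact.out c
    have hu' := zpowers_le.2 hc hu
    have hv' := zpowers_le.2 hc hv
    refine mul_mem (hPA (H1.le_sylow_of_le_normalizer' P (isPGroup_zpowers hu2)
      (zpowers_le.2 (centralizer_le_normalizer _ hu')) (mem_zpowers u))) ?_
    obtain ⟨B, hB, hxv⟩ := h.1.2 (x * v)
    obtain ⟨k, hk⟩ := exists_orderOf_eq_of_mem P.isPGroup' hxP
    have hcop : (orderOf x).Coprime (orderOf v) := hk ▸ hv2.symm.pow_left k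
    have := h.eq_of_mem hZ P hab hA hB hx1 hxp (hPA hxP)
      (zpowers_le.2 hxv (H24.mem_zpowers_mul_left (hv' x hxP) hcop))
    exact this ▸ zpowers_le.2 hxv (H24.mem_zpowers_mul_right (hv' x hxP) hcop)
  refine ⟨⟨A, hA, hPA, hCA⟩, fun M hM hCM m hm => ?_, fun Q y hy1 hyP hyQ => ?_⟩
  · obtain ⟨B, hB, hQB, hBC⟩ := hQ (m • P)
    have hBM : B ≤ M := by
      rw [sylow_coe_smul, ← H1.conj_smul_centralizer] at hBC
      exact hBC.trans (H1.conj_smul_le_of_le_of_mem hCM (le_normalizer hm))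
    have := h.eq_of_le hA hB hM (hAC.trans hCM) hBM
    exact smul_eq_iff.1 (hsame _ (this ▸ hQB)).symm
  · obtain ⟨B, hB, hQB, -⟩ := hQ Q
    have := h.eq_of_mem hZ P hab hA hB hy1 (P.isPGroup'.to_le (zpowers_le.2 hyP)) (hPA hyP) (hQB hyQ)
    exact hsame Q (this ▸ hQB)

theorem isCoatom_normalizer_of {P : Subgroup G} (hnn : ¬ P.Normal)
    (h : ∀ M : Subgroup G, M ≠ ⊤ → centralizer (P : Set G) ≤ M → M ≤ normalizer (P : Set G)) :
    IsCoatom (normalizer (P : Set G)) := by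
  refine ⟨fun e => hnn (H1.normal_of_top_le_normalizer e.ge), fun M hM => ?_⟩
  by_contra hne
  exact hM.not_ge (h M hne ((centralizer_le_normalizer _).trans hM.le))

end H23
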