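import Cfsg.Agent.H23.Cover
import Cfsg.Agent.H23.Elem

/-! Nilpotent minimal covers of permutation groups. -/

set_option autoImplicit false

namespace H23
open Subgroup Cfsg MulAction
open scoped Pointwise

variable {G : Type*} [Group G] {Ω : Type*} [MulAction G Ω]

/-- A nilpotent group containing an element with a unique fixed point fixes that point. -/
theorem le_stabilizer_of_nilpotent {A : Subgroup G} (hA : Group.IsNilpotent A) {u : G} (hu : u ∈ A)
    {ω : Ω} (h : ∀ x, u • x = x ↔ x = ω) : A ≤ stabilizer G ω := by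
  by_contra hc
  have hlt : A ⊓ stabilizer G ω < A := lt_of_le_of_ne inf_le_left fun e => hc (e ▸ inf_le_right)
  obtain ⟨g, hg, hg'⟩ := SetLike.exists_of_lt (H1.lt_normalizer_inf_of_isNilpotent hA hlt)
  have h1 : g⁻¹ * u * g ∈ A ⊓ stabilizer G ω :=
    H1.conj_mem_of_mem_normalizer' hg.1 ⟨hu, (h ω).2 rfl⟩
  refine hg' ⟨hg.2, (h _).1 ?_⟩
  have h2 : (g⁻¹ * u * g) • ω = ω := h1.2
  rwa [mul_smul, mul_smul, inv_smul_eq_iff] at h2

theorem smul_eq_of_odd [Finite G] {v : G} (hv : Odd (orderOf v)) {x : Ω} (h : (v * v) • x = x) :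
    v • x = x := by
  obtain ⟨k, hk⟩ := hv
  have h1 : (v * v) ^ (k + 1) ∈ stabilizer G x := pow_mem h _
  rwa [← sq, ← pow_mul, show 2 * (k + 1) = orderOf v + 1 by omega, pow_succ, pow_orderOf_eq_one,
    one_mul] at h1

theorem pair_cases {y g : G} {a b : Ω} (hab : a ≠ b) (h : ∀ x, y • x = x ↔ x = a ∨ x = b)
    (h1 : y • g • a = g • a) (h2 : y • g • b = g • b) :
    (g • a = a ∧ g • b = b) ∨ (g • a = b ∧ g • b = a) := by
  have hne : g • a ≠ g • b := fun e => hab (smul_left_cancel g e)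
  rcases (h _).1 h1 with e1 | e1 <;> rcases (h _).1 h2 with e2 | e2
  · exact absurd (e1.trans e2.symm) hne
  · exact Or.inl ⟨e1, e2⟩
  · exact Or.inr ⟨e1, e2⟩
  · exact absurd (e1.trans e2.symm) hne

theorem pair_cases_of_comm {y g : G} {a b : Ω} (hab : a ≠ b) (h : ∀ x, y • x = x ↔ x = a ∨ x = b)
    (hc : g * y = y * g) : (g • a = a ∧ g • b = b) ∨ (g • a = b ∧ g • b = a) :=
  pair_cases hab h (by rw [← mul_smul, ← hc, mul_smul, (h a).2 (Or.inl rfl)])
    (by rw [← mul_smul, ← hc, mul_smul, (h b).2 (Or.inr rfl)])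

theorem sq_smul_of_pair {g : G} {a b : Ω} (h : (g • a = a ∧ g • b = b) ∨ (g • a = b ∧ g • b = a)) :
    (g * g) • a = a := by
  rcases h with h | h <;> rw [mul_smul, h.1] <;> first | exact h.1 | exact h.2

/-- A nilpotent group containing an element of odd order with two fixed points that no element of
its centraliser swaps fixes these points. -/
theorem le_stabilizer_of_nilpotent_pair [Finite G] {A : Subgroup G} (hA : Group.IsNilpotent A)
    {y : G} (hy : y ∈ A) (ho : Odd (orderOf y)) {a b : Ω} (hab : a ≠ b)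
    (h : ∀ x, y • x = x ↔ x = a ∨ x = b) (hc : ∀ g : G, g * y = y * g → g • a = a) :
    A ≤ stabilizer G a := by
  by_contra hn
  have hlt : A ⊓ (stabilizer G a ⊓ stabilizer G b) < A :=
    lt_of_le_of_ne inf_le_left fun e => hn (e ▸ inf_le_right.trans inf_le_left)
  obtain ⟨g, hg, hg'⟩ := SetLike.exists_of_lt (H1.lt_normalizer_inf_of_isNilpotent hA hlt)
  have h1 : g⁻¹ * y * g ∈ A ⊓ (stabilizer G a ⊓ stabilizer G b) :=
    H1.conj_mem_of_mem_normalizer' hg.1 ⟨hy, (h a).2 (Or.inl rfl), (h b).2 (Or.inr rfl)⟩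
  have h2 : (g⁻¹ * y * g) • a = a := h1.2.1
  have h3 : (g⁻¹ * y * g) • b = b := h1.2.2
  rw [mul_smul, mul_smul, inv_smul_eq_iff] at h2 h3
  have h4 := pair_cases hab h h2 h3
  obtain ⟨u, hu, v, hv, e, ⟨k, hk⟩, hv2⟩ := exists_pPart 2 Nat.prime_two g
  have huA : u ∈ A := zpowers_le_of_mem hg.2 hu
  have h5 : u • a = a := hc u (congrArg Subtype.val (H1.commute_of_isNilpotent_of_coprime hA
    (x := ⟨u, huA⟩) (y := ⟨y, hy⟩) (by
      rw [← orderOf_coe, ← orderOf_coe]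
      exact hk ▸ (Nat.coprime_two_left.2 ho).pow_left k)))
  have h6 : v • a = a := by
    refine smul_eq_of_odd (Nat.coprime_two_right.1 hv2) ?_
    obtain ⟨j, rfl⟩ := mem_zpowers_iff.1 hv
    have : (g * g) ^ j ∈ stabilizer G a := zpow_mem (sq_smul_of_pair h4) j
    rwa [(Commute.refl g).mul_zpow] at this
  have h7 : g • a = a := by rw [← e, mul_smul, h6, h5]
  rcases h4 with h4 | h4
  · exact hg' ⟨hg.2, h4.1, h4.2⟩
  · exact hab (h7.symm.trans h4.1)

theorem NMC.false_of_replace [Finite Ω] {𝓐 : Finset (Subgroup G)} (h : NMC 𝓐) (u : Ω → G)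
    (hu : ∀ ω x, u ω • x = x ↔ x = ω) (hne : ∀ ω : Ω, stabilizer G ω ≠ ⊤) (T : Subgroup G → Prop)
    (hT : ∀ g : G, (∃ x : Ω, g • x = x) ∨ ∃ A ∈ 𝓐, T A ∧ g ∈ A)
    (hT' : ∀ A, T A → ∀ ω : Ω, ¬ A ≤ stabilizer G ω) {A' : Subgroup G} (hA' : A' ∈ 𝓐) (h1 : ¬ T A')
    (h2 : ∀ ω, u ω ∉ A') : False := by
  classical
  haveI := Fintype.ofFinite Ω
  choose a ha hua using fun ω => h.1.2 (u ω)
  have hle : ∀ ω, a ω ≤ stabilizer G ω := fun ω =>
    le_stabilizer_of_nilpotent (h.2.2 _ (ha ω)) (hua ω) (hu ω)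
  have hinj : Function.Injective a := fun ω ω' e => (hu ω' ω).1 (hle ω (e ▸ hua ω'))
  have h3 := h.2.1 (Finset.univ.image (fun ω : Ω => stabilizer G ω) ∪ 𝓐.filter T) ⟨?_, ?_⟩
  · have h4 := Finset.card_union_le (Finset.univ.image (fun ω : Ω => stabilizer G ω)) (𝓐.filter T)
    have h5 := Finset.card_image_le (s := Finset.univ) (f := fun ω : Ω => stabilizer G ω)
    have h6 : insert A' (Finset.univ.image a ∪ 𝓐.filter T) ⊆ 𝓐 := by
      intro B hB
      simp only [Finset.mem_insert, Finset.mem_union, Finset.mem_image, Finset.mem_filter] at hB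
      rcases hB with rfl | ⟨ω, -, rfl⟩ | hB
      exacts [hA', ha ω, hB.1]
    have h7 := Finset.card_le_card h6
    rw [Finset.card_insert_of_notMem, Finset.card_union_of_disjoint,
      Finset.card_image_of_injective _ hinj] at h7
    · omega
    · rw [Finset.disjoint_left]
      intro B hB hB'
      obtain ⟨ω, -, rfl⟩ := Finset.mem_image.1 hB
      exact hT' _ (Finset.mem_filter.1 hB').2 ω (hle ω)
    · simp only [Finset.mem_union, Finset.mem_image, Finset.mem_filter]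
      rintro (⟨ω, -, rfl⟩ | hB)
      exacts [h2 ω (hua ω), h1 hB.2]
  · intro B hB
    rcases Finset.mem_union.1 hB with hB | hB
    · obtain ⟨ω, -, rfl⟩ := Finset.mem_image.1 hB
      exact hne ω
    · exact h.1.1 B (Finset.mem_filter.1 hB).1
  · intro g
    rcases hT g with ⟨x, hx⟩ | ⟨A, hA, hA1, hA2⟩
    · exact ⟨_, Finset.mem_union_left _ (Finset.mem_image_of_mem _ (Finset.mem_univ x)), hx⟩
    · exact ⟨A, Finset.mem_union_right _ (Finset.mem_filter.2 ⟨hA, hA1⟩), hA2⟩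

theorem comm_of_mem_nilpotent [Finite G] {A : Subgroup G} (hA : Group.IsNilpotent A) {x y : G}
    (hx : x ∈ A) (hy : y ∈ A) (h : (orderOf x).Coprime (orderOf y)) : x * y = y * x :=
  congrArg Subtype.val (H1.commute_of_isNilpotent_of_coprime hA (x := ⟨x, hx⟩) (y := ⟨y, hy⟩)
    (by rwa [← orderOf_coe, ← orderOf_coe]))

theorem NMC.eq_of_unique_fixed {𝓐 : Finset (Subgroup G)} (h : NMC 𝓐) {ω : Ω}
    (hne : stabilizer G ω ≠ ⊤) {u : G} (hu : ∀ x, u • x = x ↔ x = ω) :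
    ∃ A : Subgroup G, Group.IsNilpotent A ∧ ∀ v : G, (∀ x, v • x = x ↔ x = ω) → v ∈ A := by
  obtain ⟨A, hA, huA⟩ := h.1.2 u
  refine ⟨A, h.2.2 A hA, fun v hv => ?_⟩
  obtain ⟨B, hB, hvB⟩ := h.1.2 v
  exact h.eq_of_le hA hB hne (le_stabilizer_of_nilpotent (h.2.2 A hA) huA hu)
    (le_stabilizer_of_nilpotent (h.2.2 B hB) hvB hv) ▸ hvB

end H23
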