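import Cfsg.Agent.H23.Crit33a
import Cfsg.Agent.H23.PrimeGr
import Cfsg.Agent.H23.FrobOrd
import Cfsg.Agent.H23.Elem
import Cfsg.Agent.H24.FCStr
import Cfsg.Agent.H24.ItoQF

/-! Solvable groups with the spectrum of `L₃(3)`. -/

set_option autoImplicit false

namespace H23.C33
open Subgroup Cfsg
open scoped IsMulCommutative

theorem norm_one {Q V : Type*} [Group Q] [Finite Q] [CommGroup V] (ρ : Q →* MulAut V)
    (F : Subgroup Q) [F.Normal] (hF : ∀ v, (∀ x ∈ F, ρ x v = v) → v = 1) (c : Q) (m : ℕ)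
    (hc : ∀ i, 0 < i → i < m + 1 → ∀ x ∈ F, x * c ^ i = c ^ i * x → x = 1) (v : V)
    (h : ∀ x, ∏ i ∈ Finset.range (m + 1), ρ (c ^ i) (ρ x v) = 1) : v ^ Nat.card F = 1 := by
  classical
  letI := Fintype.ofFinite F
  have h1 : ∏ x : F, ρ (x : Q)⁻¹ (∏ i ∈ Finset.range (m + 1), ρ (c ^ i) (ρ x v)) = 1 := by
    simp only [h, map_one, Finset.prod_const_one]
  simp only [map_prod] at h1
  rw [Finset.prod_comm, Finset.prod_range_succ', Finset.prod_eq_one, one_mul] at h1
  · simpa [← MulAut.mul_apply, ← map_mul] using h1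
  intro i hi
  have hi := hc (i + 1) i.succ_pos (by simpa using hi)
  generalize c ^ (i + 1) = g at hi
  let e : F → F := fun x => x⁻¹ * ⟨g * x * g⁻¹, Normal.conj_mem inferInstance _ x.2 g⟩
  have he : Function.Bijective e := Finite.injective_iff_bijective.1 fun x y hxy => by
    have h2 : (x : Q)⁻¹ * (g * x * g⁻¹) = (y : Q)⁻¹ * (g * y * g⁻¹) := congrArg Subtype.val hxy
    have := hi _ (mul_mem y.2 (inv_mem x.2)) (by
      calc (y : Q) * (x : Q)⁻¹ * g = y * ((x : Q)⁻¹ * (g * x * g⁻¹)) * g * (x : Q)⁻¹ := by group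
        _ = _ := by rw [h2]; group)
    exact Subtype.ext (mul_inv_eq_one.1 this).symm
  have h3 : ∀ x : F, ρ (x : Q)⁻¹ (ρ g (ρ x v)) = ρ (e x) (ρ g v) := fun x => by
    simp only [← MulAut.mul_apply, ← map_mul, e, coe_mul, coe_inv]
    congr 2; group
  simp only [h3]
  rw [he.prod_comp fun x : F => ρ x (ρ g v)]
  refine hF _ fun y hy => ?_
  rw [map_prod, ← Equiv.prod_comp (Equiv.mulLeft (⟨y, hy⟩ : F)) fun x : F => ρ x (ρ g v)]
  simp [← MulAut.mul_apply, ← map_mul, mul_assoc]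

/-- the spectrum of `L₃(3)` -/
def Sp (G : Type*) [Group G] : Prop := Set.range (orderOf : G → ℕ) = ({1, 2, 3, 4, 6, 8, 13} : Set ℕ)

variable {G : Type*} [Group G]

theorem Sp.mem (h : Sp G) (g : G) : orderOf g ∈ ({1, 2, 3, 4, 6, 8, 13} : Finset ℕ) := by
  simpa using h.le ⟨g, rfl⟩

theorem Sp.ex (h : Sp G) {n : ℕ} (hn : n ∈ ({1, 2, 3, 4, 6, 8, 13} : Finset ℕ)) :
    ∃ g : G, orderOf g = n := h.ge (by simpa using hn)

theorem Sp.dvd (h : Sp G) (g : G) {n : ℕ} (hn : n ∣ orderOf g) :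
    n ∈ ({1, 2, 3, 4, 6, 8, 13} : Finset ℕ) := by
  have : ∀ k ∈ ({1, 2, 3, 4, 6, 8, 13} : Finset ℕ), k ≠ 0 ∧
    ∀ n ∈ k.divisors, n ∈ ({1, 2, 3, 4, 6, 8, 13} : Finset ℕ) := by decide +kernel
  exact (this _ (h.mem g)).2 n (Nat.mem_divisors.2 ⟨hn, (this _ (h.mem g)).1⟩)

theorem Sp.mul (h : Sp G) {x y : G} (c : x * y = y * x) {a b : ℕ} (ha : orderOf x = a)
    (hb : orderOf y = b) (hab : a.Coprime b) : a * b ∈ ({1, 2, 3, 4, 6, 8, 13} : Finset ℕ) := by
  subst ha hb
  exact Commute.orderOf_mul_eq_mul_orderOf_of_coprime c hab ▸ h.mem _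

theorem pin {a : ℕ} (h : ¬ 13 ∣ a) : PiNum {13}ᶜ a := (piNum_compl_singleton_iff (by norm_num)).2 h

theorem p13 : PiNum {13} 13 := PiNum.prime (by norm_num) rfl

theorem Sp.disc (h : Sp G) : Disc {13} G := fun g => by
  have := h.mem g
  generalize orderOf g = k at *
  fin_cases this
  all_goals first | exact .inl p13 | exact .inr (pin (by norm_num))

theorem pw_ord {g : G} {n k d : ℕ} (h : orderOf g = n) (hk : k * d = n) (h0 : 0 < n) :
    orderOf (g ^ k) = d := by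
  subst hk
  rw [orderOf_pow' _ (by rintro rfl; simp at h0), h, Nat.gcd_mul_right_left,
    Nat.mul_div_cancel_left _ (Nat.pos_of_mul_pos_right h0)]

variable [Finite G]

theorem ex_cen {N : Subgroup G} (h : Group.IsNilpotent N) {p : ℕ} (hp : p.Prime) (hd : p ∣ Nat.card N) :
    ∃ v ∈ N ⊓ centralizer (N : Set G), v ≠ 1 ∧ ∃ k, v ^ p ^ k = 1 := by
  haveI := Fact.mk hp
  obtain ⟨P⟩ : Nonempty (Sylow p N) := inferInstance
  haveI : (P : Subgroup N).Normal := Sylow.normal_of_normalizerCondition Group.normalizerCondition_of_isNilpotent P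
  obtain ⟨⟨v, hv, hc⟩, v1⟩ := ne_bot_iff_exists_ne_one.1
    (H1.inf_center_ne_bot_of_isNilpotent h P (P.ne_bot_of_dvd_card hd))
  obtain ⟨k, hk⟩ := P.isPGroup' ⟨v, hv⟩
  exact ⟨v, ⟨v.2, mem_centralizer_iff.2 fun x hx => congrArg Subtype.val (mem_center_iff.1 hc ⟨x, hx⟩)⟩,
    fun e => v1 (Subtype.ext (Subtype.ext e)), k, congrArg (fun x : P => ((x : N) : G)) hk⟩

theorem caseB (h : Sp G) (hs : Group.IsSolvable G) : piCore {13}ᶜ G = ⊥ := by
  classical
  by_contra h0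
  have D := h.disc.compl
  have st := D.struct hs h0
  set N := piCore ({13}ᶜ : Set ℕ) G
  have hN : PiNum {13}ᶜ (Nat.card N) := H1.piCore_isPi
  obtain ⟨y, hy⟩ := h.ex (n := 8) (by simp)
  obtain ⟨g, hg⟩ := h.ex (n := 3) (by simp)
  obtain ⟨f0, hf0⟩ := h.ex (n := 13) (by simp)
  have fp : ∀ f : G, orderOf f = 13 → ∀ v ∈ N, f * v = v * f → v = 1 := fun f hf v hv c =>
    (h.disc.eq_one (hf ▸ p13) (piNum_card_subgroup_iff.1 hN v hv) c).resolve_left
      (by rintro rfl; simp at hf)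
  have nil : Group.IsNilpotent N := H3.isNilpotent_of_fpf (A := zpowers f0) le_normalizer_of_normal
    (by rw [Ne, zpowers_eq_bot]; rintro rfl; simp at hf0)
    (D.fpf hN (by rw [compl_compl, Nat.card_zpowers, hf0]; exact p13))
  rcases st with st | ⟨F, _, hFc, -, F0, -, hF, -, hC⟩
  · have := H1.commute_of_isNilpotent_of_coprime nil
      (x := ⟨y, mem_of_piNum_index st (hy ▸ pin (by norm_num))⟩)
      (y := ⟨g, mem_of_piNum_index st (hg ▸ pin (by norm_num))⟩) (by
        rw [← orderOf_coe, ← orderOf_coe, hy, hg]; norm_num)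
    simpa using h.mul (congrArg Subtype.val this) hy hg (by norm_num)
  rw [compl_compl] at hF
  have sp : ∀ q : G ⧸ N, orderOf q ∈ ({1, 2, 3, 4, 6, 8, 13} : Finset ℕ) := fun q => by
    obtain ⟨q, rfl⟩ := QuotientGroup.mk_surjective q
    exact h.dvd q (orderOf_map_dvd (QuotientGroup.mk' N) q)
  have o13 : ∀ x ∈ F, x ≠ 1 → orderOf x = 13 := fun x hx x1 => by
    have := sp x
    have h1 := piNum_card_subgroup_iff.1 hF x hx
    have h2 := mt orderOf_eq_one_iff.1 x1
    generalize orderOf x = k at *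
    fin_cases this
    all_goals first | rfl | exact absurd (h1.eq_one (pin (by norm_num))) h2
  obtain ⟨f, hf⟩ : ∃ f, zpowers f = F := (Subgroup.isCyclic_iff_exists_zpowers_eq_top F).1 hFc
  have fF : f ∈ F := hf ▸ mem_zpowers f
  have f13 := o13 f fF fun e => F0 (by rw [← hf, e, zpowers_one_eq_bot])
  have cF : Nat.card F = 13 := by rw [← hf, Nat.card_zpowers, f13]
  have cen : ∀ c ∉ F, ∀ x ∈ F, x * c = c * x → x = 1 := fun c hc x hx e => by_contra fun x1 => hc (hC (by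
    have : zpowers x = F := eq_of_le_of_card_ge (zpowers_le.2 hx) (by rw [Nat.card_zpowers, o13 x hx x1, cF])
    rw [← this, zpowers_eq_closure, centralizer_closure]
    exact mem_centralizer_singleton_iff.2 e.symm))
  have nF : ∀ x ∈ F, ∀ n, ¬ 13 ∣ n → x ^ n = 1 → x = 1 := fun x hx n hn e => by_contra fun x1 =>
    hn (o13 x hx x1 ▸ orderOf_dvd_of_pow_eq_one e)
  have up : ∀ (c : G) (n : ℕ), n ∣ orderOf c → (n = 6 ∨ n = 13) → orderOf c = n := fun c n hn e => by
    have := h.mem c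
    generalize orderOf c = k at *
    rcases e with rfl | rfl <;> fin_cases this <;> first | rfl | exact absurd hn (by decide)
  let Z := N ⊓ centralizer (N : Set G)
  haveI : IsMulCommutative Z := ⟨⟨fun a b => Subtype.ext (mem_centralizer_iff.1 b.2.2 _ a.2.1)⟩⟩
  let ρ : G ⧸ N →* MulAut Z := QuotientGroup.lift N MulAut.conjNormal fun n hn =>
    MulEquiv.ext fun v => Subtype.ext (mul_inv_eq_iff_eq_mul.2 (mem_centralizer_iff.1 v.2.2 n hn))
  have hρ : ∀ (c : G) (v : Z), (ρ c v : G) = c * v * c⁻¹ := fun _ _ => rfl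
  have key : ∀ (c : G ⧸ N) (m : ℕ), (∀ i, 0 < i → i < m + 1 → c ^ i ∉ F) → ∀ v : Z, v ≠ 1 →
      ∃ x, ∏ i ∈ Finset.range (m + 1), ρ (c ^ i) (ρ x v) ≠ 1 := fun c m hc v v1 => by
    by_contra hn
    push Not at hn
    have := norm_one ρ F (fun v hv => ?_) c m (fun i a b => cen _ (hc i a b)) v hn
    · rw [cF] at this
      exact v1 (orderOf_eq_one_iff.1 ((p13.of_dvd (orderOf_dvd_of_pow_eq_one this)).eq_one
        (orderOf_coe v ▸ piNum_card_subgroup_iff.1 hN v v.2.1)))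
    obtain ⟨f', rfl⟩ := QuotientGroup.mk_surjective f
    exact Subtype.ext (fp f' (up _ _ (f13 ▸ orderOf_map_dvd (QuotientGroup.mk' N) f') (.inr rfl)) v v.2.1
      (mul_inv_eq_iff_eq_mul.1 (congrArg Subtype.val (hv _ fF))))
  have y8 : (y : G ⧸ N) ^ 8 = 1 := by rw [← QuotientGroup.mk_pow, ← hy, pow_orderOf_eq_one]; rfl
  have h3 : ¬ 3 ∣ Nat.card N := fun d => by
    obtain ⟨v, hv, v1, k, hk⟩ := ex_cen nil Nat.prime_three d
    obtain ⟨m, hm⟩ := Nat.exists_eq_succ_of_ne_zero (orderOf_pos (y : G ⧸ N)).ne'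
    obtain ⟨x, hx⟩ := key y m (fun i a b e => pow_ne_one_of_lt_orderOf a.ne' (hm ▸ b)
      (nF _ e 8 (by norm_num) (by rw [← pow_mul, mul_comm, pow_mul, y8, one_pow]))) ⟨v, hv⟩
      fun e => v1 (congrArg Subtype.val e)
    set u := ∏ i ∈ Finset.range (m + 1), ρ ((y : G ⧸ N) ^ i) (ρ x ⟨v, hv⟩) with hu
    have u3 : u ^ 3 ^ k = 1 := by
      rw [hu, ← Finset.prod_pow]
      refine Finset.prod_eq_one fun i _ => ?_
      rw [← map_pow, ← map_pow, show (⟨v, hv⟩ : Z) ^ 3 ^ k = 1 from Subtype.ext hk, map_one, map_one]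
    have uy : ρ y u = u := by
      have e1 := Finset.prod_range_succ' (fun i => ρ ((y : G ⧸ N) ^ i) (ρ x ⟨v, hv⟩)) (m + 1)
      rw [Finset.prod_range_succ, ← hu, show m + 1 = orderOf (y : G ⧸ N) from hm.symm, pow_orderOf_eq_one,
        pow_zero, mul_left_inj, hm] at e1
      refine Eq.trans ?_ e1.symm
      rw [hu, map_prod]
      simp only [← MulAut.mul_apply, ← map_mul, pow_succ', mul_assoc]
    have := h.mul (mul_inv_eq_iff_eq_mul.1 (congrArg Subtype.val uy)) hy (orderOf_coe u)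
      ((Nat.Coprime.pow_right k (by norm_num)).coprime_dvd_right (orderOf_dvd_of_pow_eq_one u3))
    have h1 := mt orderOf_eq_one_iff.1 hx
    simp only [Finset.mem_insert, Finset.mem_singleton] at this
    omega
  have N2 : IsPGroup 2 N := fun v => by
    have := h.mem v
    have h1 : ¬ 3 ∣ orderOf (v : G) := fun d => h3 (d.trans (orderOf_coe v ▸ orderOf_dvd_natCard v))
    have h2 := (piNum_compl_singleton_iff (by norm_num)).1 (piNum_card_subgroup_iff.1 hN v v.2)
    refine ⟨3, orderOf_dvd_iff_pow_eq_one.1 ?_⟩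
    rw [← orderOf_coe]
    generalize orderOf (v : G) = k at *
    fin_cases this <;> first | decide | exact absurd (by decide) h1 | exact absurd (by decide) h2
  haveI := Fact.mk Nat.prime_two
  haveI := Fact.mk Nat.prime_three
  have g3 : orderOf (g : G ⧸ N) = 3 := orderOf_eq_prime
    (by rw [← QuotientGroup.mk_pow, ← hg, pow_orderOf_eq_one]; rfl) fun e =>
      h3 (hg ▸ orderOf_dvd_natCard N ((QuotientGroup.eq_one_iff g).1 e))
  have oq : ∀ (q : G ⧸ N) (r : ℕ) [Fact r.Prime], orderOf q = r → ¬ 13 ∣ r →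
      orderOf (q : (G ⧸ N) ⧸ F) = r := fun q r hr e d => orderOf_eq_prime
    (by rw [← QuotientGroup.mk_pow, ← e, pow_orderOf_eq_one]; rfl) fun e' => hr.out.one_lt.ne' (by
      rw [← e, nF q ((QuotientGroup.eq_one_iff q).1 e') r d (e ▸ pow_orderOf_eq_one q), orderOf_one])
  have h2 : ¬ 2 ∣ N.index := fun d => by
    obtain ⟨t, ht⟩ := exists_prime_orderOf_dvd_card' (G := G ⧸ N) 2 d
    obtain ⟨c, hc⟩ := QuotientGroup.mk_surjective (t * (g : G ⧸ N))
    have c6 : orderOf ((c : G ⧸ N) : (G ⧸ N) ⧸ F) = 6 := by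
      have e : Commute (t : (G ⧸ N) ⧸ F) (g : G ⧸ N) := commutatorElement_eq_one_iff_commute.1
        ((QuotientGroup.eq_one_iff _).2 ((H2.commutator_le_centralizer_of_isCyclic F).trans hC
          (commutator_mem_commutator (mem_top t) (mem_top _))))
      have a1 := oq t 2 ht (by norm_num)
      have a2 := oq _ 3 g3 (by norm_num)
      rw [hc, QuotientGroup.mk_mul, e.orderOf_mul_eq_mul_orderOf_of_coprime (by rw [a1, a2]; norm_num), a1, a2]
    have c1 : ∀ w ∈ N, (w * c) ^ 6 = 1 := fun w hw => by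
      rw [← up (w * c) 6 ?_ (.inl rfl), pow_orderOf_eq_one]
      refine (c6.symm.trans ?_).dvd.trans (orderOf_map_dvd
        ((QuotientGroup.mk' F).comp (QuotientGroup.mk' N)) (w * c))
      simp [(QuotientGroup.eq_one_iff w).2 hw]
    obtain ⟨v, hv, v1, -⟩ := ex_cen nil Nat.prime_two (N2.card_eq_or_dvd.resolve_left (mt card_eq_one.1 h0))
    obtain ⟨x, hx⟩ := key c 5 (fun i a b e => pow_ne_one_of_lt_orderOf a.ne' (by rw [c6]; exact b)
      ((QuotientGroup.eq_one_iff _).2 e)) ⟨v, hv⟩ fun e => v1 (congrArg Subtype.val e)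
    generalize ρ x ⟨v, hv⟩ = w at hx
    refine hx (Subtype.ext ?_)
    have e1 := c1 1 (one_mem _)
    rw [one_mul] at e1
    simp only [Finset.prod_range_succ, Finset.prod_range_zero, coe_mul, ← QuotientGroup.mk_pow, hρ, coe_one]
    refine Eq.trans ?_ (show (w * c) ^ 6 * (c ^ 6)⁻¹ = 1 by rw [c1 w w.2.1, e1, inv_one, mul_one])
    simp only [pow_succ, pow_zero, one_mul, inv_one, mul_one]
    group
  obtain ⟨k, hk⟩ := IsPGroup.iff_card.1 N2
  have cop : (2 : ℕ).Coprime N.index := (Nat.Prime.coprime_iff_not_dvd Nat.prime_two).2 h2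
  obtain ⟨X, hX⟩ := exists_right_complement'_of_coprime (N := N) (hk ▸ cop.pow_left k)
  have yN : y ∈ N := mem_of_coprime_index (by rw [hy]; exact cop.pow_left 3)
  obtain ⟨c, c3, hc⟩ : ∃ c : G ⧸ N, orderOf c = 3 ∧ f * c = c * f ^ 3 := by
    have gF : (g : G ⧸ N) ∉ F := fun e => by
      have := o13 _ e (by rintro e; rw [e, orderOf_one] at g3; omega); omega
    generalize (g : G ⧸ N) = c at g3 gF
    obtain ⟨j, hj, e⟩ : ∃ j < 13, f ^ j = c⁻¹ * f * c := by
      have : c⁻¹ * f * c ∈ zpowers f := hf ▸ Normal.conj_mem' inferInstance f fF c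
      obtain ⟨j, hj, e⟩ := Finset.mem_image.1 (mem_zpowers_iff_mem_range_orderOf.1 this)
      exact ⟨j, f13 ▸ Finset.mem_range.1 hj, e⟩
    have e2 : ∀ i, (c ^ i)⁻¹ * f * c ^ i = f ^ j ^ i := fun i => by
      induction i with
      | zero => simp
      | succ i ih =>
        have := conj_pow (i := j ^ i) (a := c⁻¹) (b := f)
        rw [inv_inv] at this
        rw [pow_succ' j, pow_mul, e, this, ← ih]; group
    have e3 := e2 3
    rw [← g3, pow_orderOf_eq_one, g3, inv_one, one_mul, mul_one, ← pow_one f, ← pow_mul, one_mul,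
      pow_eq_pow_iff_modEq, f13] at e3
    have j1 : j ≠ 1 := fun e' => by
      have := cen c gF f fF (by
        rw [e', pow_one] at e
        exact (show f * c = c * (c⁻¹ * f * c) by group).trans (by rw [← e]))
      rw [this, orderOf_one] at f13; omega
    obtain rfl | rfl : j = 3 ∨ j = 9 := by
      revert e3 j1; interval_cases j <;> decide
    · exact ⟨c, g3, by rw [e]; group⟩
    · refine ⟨c ^ 2, by rw [Nat.Coprime.orderOf_pow (by rw [g3]; norm_num), g3], ?_⟩
      rw [pow_eq_pow_iff_modEq.2 (show 3 ≡ 9 ^ 2 [MOD orderOf f] by rw [f13]; decide), ← e2]; group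
  let φ : G ⧸ N →* G := X.subtype.comp hX.symm.QuotientMulEquiv.toMonoidHom
  have φo : ∀ q, orderOf (φ q) = orderOf q :=
    orderOf_injective φ (X.subtype_injective.comp (MulEquiv.injective _))
  let ψ : G ⧸ N →* MulAut N := MulAut.conjNormal.comp φ
  have := pow_four N2 (ψ f) (ψ c) (by rw [← map_pow, orderOf_dvd_iff_pow_eq_one.1 f13.dvd, map_one])
    (by rw [← map_pow, orderOf_dvd_iff_pow_eq_one.1 c3.dvd, map_one]) (by rw [← map_pow, ← map_mul, ← map_mul, hc])
    (fun x e => Subtype.ext (fp _ ((φo f).trans f13) x x.2 (mul_inv_eq_iff_eq_mul.1 (congrArg Subtype.val e))))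
    (fun x e => ?_) ⟨y, yN⟩
  · exact absurd (hy ▸ orderOf_dvd_of_pow_eq_one (congrArg Subtype.val this)) (by norm_num)
  have := h.mul (mul_inv_eq_iff_eq_mul.1 (congrArg Subtype.val e)) ((φo c).trans c3) (orderOf_coe x)
    (((Nat.Prime.coprime_iff_not_dvd Nat.prime_three).2 h3).coprime_dvd_right (orderOf_dvd_natCard x))
  rw [← orderOf_dvd_iff_pow_eq_one]
  simp only [Finset.mem_insert, Finset.mem_singleton] at this
  obtain e | e : orderOf x = 1 ∨ orderOf x = 2 := by omega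
  all_goals simp [e]

omit [Finite G] in
theorem sq_comm {a g : G} (ha : a ^ 24 = 1) (h : g * a * g⁻¹ ∈ zpowers a) : g ^ 2 * a = a * g ^ 2 := by
  classical
  have h0 : IsOfFinOrder a := isOfFinOrder_iff_pow_eq_one.2 ⟨24, by norm_num, ha⟩
  obtain ⟨j, hj, e⟩ := Finset.mem_image.1 (h0.mem_zpowers_iff_mem_range_orderOf.1 h)
  have h1 : (orderOf a).Coprime j := by
    have := orderOf_pow' a (n := j)
    rcases eq_or_ne j 0 with rfl | j0
    · have : a = 1 := by simpa using e.symm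
      simp [this]
    rw [e, H23.orderOf_conj] at this
    exact (Nat.div_eq_self.1 (this j0).symm).resolve_left h0.orderOf_pos.ne'
  have k : ∀ n ∈ Nat.divisors 24, ∀ j ∈ Finset.range n, n.Coprime j → j * j ≡ 1 [MOD n] := by decide +kernel
  have h2 := pow_eq_pow_iff_modEq.2 (k _ (Nat.mem_divisors.2 ⟨orderOf_dvd_of_pow_eq_one ha, by norm_num⟩) j hj h1)
  rw [pow_mul, e, conj_pow, e, pow_one] at h2
  calc g ^ 2 * a = g * (g * a * g⁻¹) * g⁻¹ * g ^ 2 := by rw [sq]; group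
    _ = _ := by rw [h2]

theorem compl_str {H : Type*} [Group H] [Finite H] (fc : H24.IsFC H) (hs : Group.IsSolvable H)
    (sp : ∀ g : H, orderOf g ∈ ({1, 2, 3, 4, 6, 8} : Finset ℕ)) {y g : H} (hy : orderOf y = 8)
    (hg : orderOf g = 3) : (∀ x, orderOf x = 3 → y * x * y⁻¹ ∉ zpowers x) ∧ ∃ (Z : Subgroup H) (_ : Z.Normal),
      Nat.card Z = 2 ∧ (∀ Z' : Subgroup H, Nat.card Z' = 2 → Z' = Z) ∧ Nonempty (H ⧸ Z ≃* Equiv.Perm (Fin 4)) := by
  haveI := Fact.mk Nat.prime_two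
  have mul : ∀ {x z : H} {a b : ℕ}, x * z = z * x → orderOf x = a → orderOf z = b → a.Coprime b →
      a * b ∈ ({1, 2, 3, 4, 6, 8} : Finset ℕ) := fun {x z a b} c ha hb hab => by
    subst ha hb
    exact Commute.orderOf_mul_eq_mul_orderOf_of_coprime c hab ▸ sp _
  have p24 : ∀ a : H, a ^ 24 = 1 := fun a => orderOf_dvd_iff_pow_eq_one.1 (by
    have := sp a
    generalize orderOf a = k at *
    fin_cases this <;> decide)
  have nox : ∀ x, orderOf x = 3 → y * x * y⁻¹ ∉ zpowers x := fun x hx e => by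
    simpa using mul (sq_comm (p24 x) e) (pw_ord (k := 2) (d := 4) hy rfl (by norm_num)) hx (by norm_num)
  refine ⟨nox, ?_⟩
  have hO : pPrimeCore 2 H = ⊥ := by
    have c := H1.pPrimeCore_coprime (p := 2) (G := H)
    have o3 : ∀ x ∈ pPrimeCore 2 H, x ≠ 1 → orderOf x = 3 := fun x hx x1 => by
      have := sp x
      have h1 := c.coprime_dvd_left (orderOf_dvd_natCard _ hx)
      have h2 := mt orderOf_eq_one_iff.1 x1
      generalize orderOf x = k at *
      fin_cases this <;> first | rfl | exact absurd rfl h2 | exact absurd h1 (by decide)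
    haveI := Fact.mk Nat.prime_three
    obtain ⟨a, ha⟩ := (Subgroup.isCyclic_iff_exists_zpowers_eq_top _).1 ((fc.ac.mono le_top).cyc_odd (p := 3)
      (P := pPrimeCore 2 H) (by norm_num) fun x => ⟨1, by
        rcases eq_or_ne x 1 with rfl | e
        · simp
        · exact orderOf_dvd_iff_pow_eq_one.1 ((orderOf_coe x).symm.trans
            (o3 x x.2 fun e' => e (Subtype.ext e'))).dvd⟩)
    have aO : a ∈ pPrimeCore 2 H := ha ▸ mem_zpowers a
    by_contra e
    exact nox a (o3 a aO fun e' => e (by rw [← ha, e', zpowers_one_eq_bot]))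
      (ha ▸ Normal.conj_mem inferInstance a aO y)
  have n3 : ∀ N : Subgroup H, IsPGroup 2 N → g ^ 2 ∉ N := fun N hN e => by
    obtain ⟨k, hk⟩ := hN ⟨_, e⟩
    have := orderOf_dvd_of_pow_eq_one (congrArg Subtype.val hk : (g ^ 2) ^ 2 ^ k = 1)
    rw [Nat.Coprime.orderOf_pow (by rw [hg]; norm_num), hg] at this
    exact absurd (Nat.prime_three.dvd_of_dvd_pow this) (by norm_num)
  obtain ⟨P⟩ : Nonempty (Sylow 2 H) := inferInstance
  obtain ⟨N, _, hc, hN, hq⟩ := H24.solv_core hO P (fc.ac.mono le_top) fun c => by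
    obtain ⟨M, _, hM⟩ := H10.exists_normal_complement_of_cyclic P c
    have : M = ⊥ := H1.pPrimeCore_eq_bot_iff.1 hO M inferInstance (hM.index_eq_card ▸
      ((Nat.Prime.coprime_iff_not_dvd Nat.prime_two).2 P.not_dvd_index).symm)
    exact n3 P P.isPGroup' (isComplement'_bot_left.1 (this ▸ hM) ▸ mem_top _)
  obtain ⟨a, rfl⟩ := (Subgroup.isCyclic_iff_exists_zpowers_eq_top _).1 hc
  have a2 : orderOf a ∣ 2 := by
    obtain ⟨k, hk⟩ := IsPGroup.iff_card.1 hN
    rw [Nat.card_zpowers] at hk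
    have := mul (sq_comm (p24 a) (Normal.conj_mem ‹_› a (mem_zpowers a) g))
      ((Nat.Coprime.orderOf_pow (by rw [hg]; norm_num)).trans hg) rfl (hk ▸ Nat.Coprime.pow_right k (by norm_num))
    simp only [Finset.mem_insert, Finset.mem_singleton] at this
    obtain e | e : orderOf a = 1 ∨ orderOf a = 2 := by omega
    all_goals simp [e]
  have y8 : y ^ 8 = 1 := hy ▸ pow_orderOf_eq_one y
  have y4 := pw_ord (k := 4) (d := 2) hy rfl (by norm_num)
  rcases hq with hq | hq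
  · exact absurd (hq.sq g) (n3 _ hN)
  rcases H24.quoA_iff.1 hq with ⟨f, -, e⟩ | ⟨f, hf, e⟩
  · have k : ∀ σ : alternatingGroup (Fin 4), σ ^ 8 = 1 → σ ^ 2 = 1 := by decide +kernel
    have : y ^ 2 ∈ zpowers a := e ▸ (map_pow f y 2).trans (k _ (by rw [← map_pow, y8, map_one]))
    have := (orderOf_dvd_of_mem_zpowers this).trans a2
    rw [pw_ord (k := 2) (d := 4) hy rfl (by norm_num)] at this
    exact absurd this (by norm_num)
  have k : ∀ σ : Equiv.Perm (Fin 4), σ ^ 8 = 1 → σ ^ 4 = 1 := by decide +kernel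
  have : y ^ 4 ∈ zpowers a := e ▸ (map_pow f y 4).trans (k _ (by rw [← map_pow, y8, map_one]))
  have a2' : orderOf a = 2 := Nat.dvd_antisymm a2 (y4 ▸ orderOf_dvd_of_mem_zpowers this)
  refine ⟨zpowers a, ‹_›, by rw [Nat.card_zpowers, a2'], fun Z hZ => ?_,
    ⟨(QuotientGroup.quotientMulEquivOfEq e.symm).trans (QuotientGroup.quotientKerEquivOfSurjective f hf)⟩⟩
  obtain ⟨t, ht, t2⟩ := exists_mem_orderOf_eq (H := Z) Nat.prime_two hZ.symm.dvd
  have s : ∀ t : H, orderOf t = 2 → t * t = 1 := fun t e => by rw [← sq, ← e, pow_orderOf_eq_one]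
  obtain rfl := (fc.invol (s a a2') (s t t2) (by rintro rfl; simp at t2)).resolve_left (by rintro rfl; simp at a2')
  exact (eq_of_le_of_card_ge (zpowers_le.2 ht) (by rw [Nat.card_zpowers, a2', hZ])).symm

theorem caseA (h : Sp G) (hs : Group.IsSolvable G) (cr : ∀ M : Subgroup G, Sp M → M = ⊤) :
    ∃ (K H : Subgroup G), K.Normal ∧ IsMulCommutative K ∧ (∀ x ∈ K, x ^ 13 = 1) ∧ Nat.card K = 13 ^ 4 ∧
      K ⊓ H = ⊥ ∧ K ⊔ H = ⊤ ∧ (∀ h ∈ H, h ≠ 1 → ∀ x ∈ K, h * x * h⁻¹ = x → x = 1) ∧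
      ∃ (Z : Subgroup ↥H) (_ : Z.Normal), Nat.card Z = 2 ∧ (∀ Z' : Subgroup ↥H, Nat.card Z' = 2 → Z' = Z) ∧
        Nonempty (↥H ⧸ Z ≃* Equiv.Perm (Fin 4)) := by
  classical
  obtain ⟨t, ht⟩ := h.ex (n := 2) (by simp)
  have t1 : t ≠ 1 := by rintro rfl; simp at ht
  haveI : Nontrivial G := nontrivial_of_ne _ _ t1
  have h0 := (exists_piCore_ne_bot hs {13}).resolve_right (not_not.2 (caseB h hs))
  have st := h.disc.struct hs h0
  set K := piCore ({13} : Set ℕ) G
  have hK : PiNum {13} (Nat.card K) := H1.piCore_isPi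
  have oq : ∀ g : G, ¬ 13 ∣ orderOf g → orderOf (g : G ⧸ K) = orderOf g := fun g hg =>
    Nat.dvd_antisymm (orderOf_map_dvd (QuotientGroup.mk' K) g)
      ((hK.coprime (pin hg)).symm.dvd_of_dvd_mul_right (orderOf_dvd_mul_quot K g))
  rcases st with st | ⟨F, _, -, odd, -, -, -, hF, -⟩
  swap
  · have e := (oq t (by rw [ht]; norm_num)).trans ht
    exact absurd (e ▸ orderOf_dvd_natCard F (mem_of_piNum_index (π := {13}ᶜ) (by rwa [compl_compl])
      (e ▸ pin (by norm_num)))) odd.not_two_dvd_nat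
  obtain ⟨H, hc, fp, fr, -⟩ := h.disc.frob K hK st h0 fun e =>
    t1 (orderOf_eq_one_iff.1 ((piNum_card_subgroup_iff.1 hK t (e ▸ mem_top t)).eq_one (ht ▸ pin (by norm_num))))
  have exH : ∀ n ∈ ({1, 2, 3, 4, 6, 8, 13} : Finset ℕ), ¬ 13 ∣ n → ∃ x : H, orderOf x = n := fun n hn d => by
    obtain ⟨g, rfl⟩ := h.ex hn
    exact ⟨hc.symm.QuotientMulEquiv g, by rw [MulEquiv.orderOf_eq, oq g d]⟩
  obtain ⟨y, hy⟩ := exH 8 (by simp) (by norm_num)
  obtain ⟨c, c6⟩ := exH 6 (by simp) (by norm_num)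
  have x3 := pw_ord (k := 2) (d := 3) c6 rfl (by norm_num)
  have z2 := pw_ord (k := 3) (d := 2) c6 rfl (by norm_num)
  obtain ⟨nox, Z, _, hZ, hu, ⟨e⟩⟩ := compl_str (isFC_of_frobenius fr) inferInstance (fun g => by
    have := h.mem g
    have h1 := (piNum_compl_singleton_iff (by norm_num)).1 (st.of_dvd (hc.symm.index_eq_card ▸ orderOf_dvd_natCard g))
    rw [orderOf_coe] at this
    generalize orderOf g = k at *
    fin_cases this <;> first | decide | exact absurd dvd_rfl h1) hy x3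
  have cH : Nat.card H = 48 := by
    rw [← Z.card_mul_index, hZ, index, Nat.card_congr e.toEquiv, H27.card_S4]
  have inv : ∀ k ∈ K, (c ^ 3 : H) * k * (c ^ 3 : H)⁻¹ = k⁻¹ := fun k hk =>
    H3.conj_eq_inv_of_fpf (le_normalizer_of_normal (mem_top _)) (by
      rw [← coe_mul, ← pow_add, orderOf_dvd_iff_pow_eq_one.1 c6.dvd]; exact one_mem _)
      (fp _ (c ^ 3).2 fun e => by rw [OneMemClass.coe_eq_one.1 e, orderOf_one] at z2; omega) hk
  haveI := H3.isMulCommutative_of_conj_eq_inv inv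
  have o13 : ∀ x ∈ K, x ≠ 1 → orderOf x = 13 := fun x hx x1 => by
    have := h.mem x
    have h1 := piNum_card_subgroup_iff.1 hK x hx
    have h2 := mt orderOf_eq_one_iff.1 x1
    generalize orderOf x = k at *
    fin_cases this
    all_goals first | rfl | exact absurd (h1.eq_one (pin (by norm_num))) h2
  have p13 : ∀ x ∈ K, x ^ 13 = 1 := fun x hx => by
    rcases eq_or_ne x 1 with rfl | e
    · simp
    · rw [← o13 x hx e, pow_orderOf_eq_one]
  refine ⟨K, H, inferInstance, inferInstance, p13, ?_, hc.disjoint.eq_bot, hc.sup_eq_top,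
    fun a ha a1 x hx e => H3.eq_one_of_fpf (fp a ha a1) hx (mul_inv_eq_iff_eq_mul.1 e), Z, ‹_›, hZ, hu, ⟨e⟩⟩
  let ρ : H →* MulAut K := MulAut.conjNormal.comp H.subtype
  have T : ∀ x : H, orderOf x = 3 → ∀ k : K, ρ x (ρ x k) = (k * ρ x k)⁻¹ := fun x hx k => by
    refine eq_inv_of_mul_eq_one_right (Subtype.ext (H3.eq_one_of_fpf (fp x x.2 fun e => by
      rw [OneMemClass.coe_eq_one.1 e, orderOf_one] at hx; omega) (Subtype.prop _) (mul_inv_eq_iff_eq_mul.1
      (congrArg Subtype.val (show ρ x _ = _ from ?_)))))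
    have : ρ x (ρ x (ρ x k)) = k := by
      rw [← MulAut.mul_apply, ← MulAut.mul_apply, ← map_mul, ← map_mul, ← sq, ← pow_succ,
        orderOf_dvd_iff_pow_eq_one.1 hx.dvd, map_one, MulAut.one_apply]
    rw [map_mul, map_mul, this, mul_comm, mul_assoc]
  obtain ⟨v, v1, hv⟩ : ∃ v : K, v ≠ 1 ∧ ρ (c ^ 2) v ∈ zpowers v := by
    obtain ⟨k, k1⟩ := ne_bot_iff_exists_ne_one.1 h0
    by_cases e : ρ (c ^ 2) k * k ^ 10 = 1
    · exact ⟨k, k1, eq_inv_of_mul_eq_one_left e ▸ inv_mem (npow_mem_zpowers k 10)⟩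
    refine ⟨_, e, 9, Eq.trans (zpow_natCast _ 9) (Eq.symm ?_)⟩
    have : k ^ 13 = 1 := Subtype.ext (p13 k k.2)
    rw [map_mul, T _ x3, map_pow (ρ (c ^ 2)), mul_pow, ← pow_mul, show k ^ (10 * 9) = k⁻¹ from
      eq_inv_of_mul_eq_one_left (by rw [← pow_succ, show 10 * 9 + 1 = 13 * 7 from rfl, pow_mul, this, one_pow]),
      mul_inv, pow_succ' (ρ (c ^ 2) k) 9, mul_assoc, inv_mul_cancel_left, mul_comm]
  have hC : ∀ s ∈ zpowers c, ρ s v ∈ zpowers v := fun s hs => by
    have m : ∀ s t : H, ρ s v ∈ zpowers v → ρ t v ∈ zpowers v → ρ (s * t) v ∈ zpowers v := by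
      rintro s t hs ⟨j, hj⟩
      rw [map_mul, MulAut.mul_apply, ← hj, map_zpow]
      exact zpow_mem hs j
    have : ρ c v ∈ zpowers v := (show c ^ 3 * (c ^ 2 * c ^ 2) = c by
      rw [← pow_add, ← pow_add, pow_succ, orderOf_dvd_iff_pow_eq_one.1 c6.dvd, one_mul]) ▸
      m _ _ ((show ρ (c ^ 3) v = v⁻¹ from Subtype.ext (inv v v.2)) ▸ inv_mem (mem_zpowers v)) (m _ _ hv hv)
    obtain ⟨i, rfl⟩ := (mem_powers_iff_mem_zpowers.2 hs : s ∈ Submonoid.powers c)
    clear hs
    induction i with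
    | zero => simp
    | succ i ih => simpa only [pow_succ] using m _ _ ih this
  let φ : H ⧸ zpowers c → K := fun q => ρ q.out v
  have hφ : ∀ g : H, ρ g v ∈ zpowers (φ g) := fun g => by
    obtain ⟨s, hs⟩ := QuotientGroup.mk_out_eq_mul (zpowers c) g
    obtain ⟨j, hj⟩ := hC _ (inv_mem s.2)
    refine ⟨j, ?_⟩
    simp only [φ] at hj ⊢
    rw [← map_zpow, hj, hs, ← MulAut.mul_apply, ← map_mul, mul_inv_cancel_right]
  let q0 : H ⧸ zpowers c := (y⁻¹ : H)
  let W : Subgroup K := closure (φ '' {q0}ᶜ)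
  have hW : ∀ g : H, ρ g v ∈ W := fun g => by
    have a1 : ∀ g : H, (g : H ⧸ zpowers c) ≠ q0 → ρ g v ∈ W := fun g hg =>
      zpowers_le.2 (Subgroup.subset_closure (Set.mem_image_of_mem φ hg)) (hφ g)
    by_cases hg : (g : H ⧸ zpowers c) = q0
    swap
    · exact a1 g hg
    have a2 : ∀ x : H, orderOf x = 3 → x ∈ zpowers c → ρ (x * g) v ∈ W := fun x hx xc => a1 _ fun e => by
      have b : ∀ w ∈ zpowers c, orderOf w = 3 → w ∈ zpowers (c ^ 2) := fun w hw w3 =>
        H19.cyc_le_of_dvd (inferInstance : IsCyclic (zpowers c)) (zpowers_le.2 hw)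
          (zpowers_le.2 (npow_mem_zpowers c 2)) (by simp [x3, w3]) (mem_zpowers w)
      have e1 : zpowers x = zpowers (c ^ 2) := eq_of_le_of_card_ge (zpowers_le.2 (b x xc hx)) (by simp [x3, hx])
      refine nox x hx (e1 ▸ b _ ?_ ((H23.orderOf_conj _ _).trans hx))
      have e2 : x • q0 = q0 := (congrArg (x • ·) hg).symm.trans e
      simpa [mul_assoc] using inv_mem (QuotientGroup.eq.1 e2)
    have := T _ x3 (ρ g v)
    rw [eq_inv_iff_mul_eq_one, mul_comm, mul_assoc, ← eq_inv_iff_mul_eq_one] at this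
    rw [this]
    simp only [← MulAut.mul_apply, ← map_mul]
    refine inv_mem (mul_mem (a2 _ x3 (npow_mem_zpowers c 2)) ?_)
    rw [← mul_assoc, ← sq]
    exact a2 _ ((Nat.Coprime.orderOf_pow (by rw [x3]; norm_num)).trans x3) (pow_mem (npow_mem_zpowers c 2) 2)
  have hM : normalClosure {(v : G)} ≤ K := normalClosure_le_normal (by simp)
  have hT := cr (normalClosure {(v : G)} ⊔ H) (Set.Subset.antisymm (by
      rintro _ ⟨g, rfl⟩; rw [← orderOf_coe]; exact h.le ⟨_, rfl⟩) fun n hn => by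
    by_cases d : 13 ∣ n
    · obtain rfl : n = 13 := by simp only [Set.mem_insert_iff, Set.mem_singleton_iff] at hn; omega
      exact ⟨⟨v, mem_sup_left (subset_normalClosure rfl)⟩,
        (orderOf_coe _).symm.trans (o13 v v.2 fun e => v1 (Subtype.ext e))⟩
    · obtain ⟨x, rfl⟩ := exH n (by simpa using hn) d
      exact ⟨⟨x, mem_sup_right x.2⟩, (orderOf_coe _).symm.trans (orderOf_coe x)⟩)
  have Wt : W = ⊤ := eq_top_iff.2 fun k _ => by
    obtain ⟨w, hw, x, hx, e⟩ := H6.exists_mul_of_sup_eq_top hT k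
    have : x ∈ K ⊓ H := ⟨(mul_mem_cancel_left (hM hw)).1 (e ▸ k.2), hx⟩
    rw [hc.disjoint.eq_bot, mem_bot] at this
    rw [this, mul_one] at e
    have : normalClosure {(v : G)} ≤ W.map K.subtype := (closure_le _).2 fun a ha => by
      obtain ⟨_, rfl, ha⟩ := Group.mem_conjugatesOfSet_iff.1 ha
      obtain ⟨g, rfl⟩ := isConj_iff.1 ha
      obtain ⟨k, hk, x, hx, rfl⟩ := H6.exists_mul_of_sup_eq_top hc.sup_eq_top g
      refine ⟨_, hW ⟨x, hx⟩, ?_⟩
      have := congrArg Subtype.val (mul_comm (⟨k, hk⟩ : K) (ρ ⟨x, hx⟩ v))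
      calc _ = k * (ρ ⟨x, hx⟩ v : G) * k⁻¹ := (mul_inv_eq_iff_eq_mul.2 this).symm
        _ = _ := by simp [ρ, mul_assoc]
    obtain ⟨w', hw', e'⟩ := this hw
    exact (Subtype.ext (e.trans e'.symm) : k = w') ▸ hw'
  have r7 : Group.rank K ≤ 7 := by
    have h8 : Nat.card (H ⧸ zpowers c) = 8 := by
      have := (zpowers c).card_mul_index
      rw [Nat.card_zpowers, c6, cH, index] at this
      omega
    rw [← Group.rank_congr topEquiv, ← Subgroup.rank_congr Wt]
    refine (rank_closure_finite_le_nat_card _).trans ((Nat.card_image_le (Set.toFinite _)).trans ?_)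
    rw [Nat.card_coe_set_eq, Set.ncard_compl, h8, Set.ncard_singleton]
  obtain ⟨d, hd⟩ := (piNum_singleton_iff (by norm_num) Nat.card_pos.ne').1 hK
  have d7 := (Nat.pow_dvd_pow_iff_le_right (by norm_num)).1 (hd ▸ card_dvd_exponent_pow_rank' K
    fun g => Subtype.ext (p13 g g.2))
  have d48 := H24.card_dvd_index_sub_one fr
  rw [cH, hc.index_eq_card, hd] at d48
  have d0 : d ≠ 0 := fun e => h0 (card_eq_one.1 (by rw [hd, e, pow_zero]))
  have := d7.trans r7
  rw [hd]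
  interval_cases d <;> first | rfl | exact absurd rfl d0 | exact absurd d48 (by norm_num)

end H23.C33
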