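import Cfsg.Agent.H23.Cyc
import Cfsg.Agent.H4.RankTwo
import Mathlib.GroupTheory.SpecificGroups.Dihedral

set_option autoImplicit false

namespace H23
open Subgroup DihedralGroup

variable {n : ℕ}

/-- The dihedral subgroup attached to a divisor `d` of `n`. -/
def dihSub {d : ℕ} (h : d ∣ n) : Subgroup (DihedralGroup n) where
  carrier := {g | ∃ i : ZMod n, ZMod.castHom h (ZMod d) i = 0 ∧ (g = r i ∨ g = sr i)}
  one_mem' := ⟨0, map_zero _, Or.inl rfl⟩
  mul_mem' := by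
    rintro _ _ ⟨i, hi, rfl | rfl⟩ ⟨j, hj, rfl | rfl⟩
    · exact ⟨i + j, by rw [map_add, hi, hj, add_zero], Or.inl rfl⟩
    · exact ⟨j - i, by rw [map_sub, hi, hj, sub_zero], Or.inr rfl⟩
    · exact ⟨i + j, by rw [map_add, hi, hj, add_zero], Or.inr rfl⟩
    · exact ⟨j - i, by rw [map_sub, hi, hj, sub_zero], Or.inl rfl⟩
  inv_mem' := by
    rintro _ ⟨i, hi, rfl | rfl⟩
    · exact ⟨-i, by rw [map_neg, hi, neg_zero], Or.inl rfl⟩
    · exact ⟨i, hi, Or.inr rfl⟩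

theorem r_mem_dihSub {d : ℕ} (h : d ∣ n) {k : ℕ} : r (k : ZMod n) ∈ dihSub h ↔ d ∣ k := by
  rw [← ZMod.natCast_eq_zero_iff, ← map_natCast (ZMod.castHom h (ZMod d))]
  constructor
  · rintro ⟨i, hi, e | e⟩
    · rw [r.inj e, hi]
    · cases e
  · exact fun hk => ⟨_, hk, Or.inl rfl⟩

theorem dihSub_not_comm {d : ℕ} (h : d ∣ n) (h2 : ¬ n ∣ 2 * d) : ¬ IsMulCommutative (dihSub h) := by
  intro hc
  have := H4.isMulCommutative_iff.1 hc (r d) ((r_mem_dihSub h).2 dvd_rfl) (sr 0)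
    ⟨0, map_zero _, Or.inr rfl⟩
  rw [r_mul_sr, sr_mul_r, sr.injEq] at this
  apply h2
  rw [← ZMod.natCast_eq_zero_iff]
  push_cast
  linear_combination -this

theorem exists_sr_mem {H : Subgroup (DihedralGroup n)} (h : ¬ IsCyclic H) : ∃ j, sr j ∈ H := by
  by_contra! h0
  refine h (isCyclic_of_le (H' := zpowers (r 1)) ?_)
  rintro (i | i) hi
  · obtain ⟨k, rfl⟩ := ZMod.intCast_surjective i
    exact ⟨k, r_one_zpow k⟩
  · exact absurd hi (h0 i)

theorem eq_zero_of_odd (hn : Odd n) {k : ZMod n} (h : 2 * k = 0) : k = 0 := by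
  have : IsUnit ((2 : ℕ) : ZMod n) := (ZMod.isUnit_iff_coprime 2 n).2 (Nat.coprime_two_left.2 hn)
  exact this.mul_right_eq_zero.1 (by exact_mod_cast h)

end H23
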