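import Cfsg.Agent.H23.FF5
import Cfsg.Agent.H23.FF6
import Cfsg.Agent.H28.FF1
import Cfsg.Agent.H5.FF5
import Cfsg.Agent.H15.IC.J2
import Cfsg.Agent.H16.J3S
import Cfsg.Agent.S1620
import Cfsg.Agent.S2066

/-! S1870: the chunk `J₂`. -/

set_option autoImplicit false
set_option maxRecDepth 100000

namespace H23.FF
open Cfsg Subgroup H18 H17.GS H5.FF Cfsg.Agent
open H19 hiding eq_bot_mono rk

theorem e5 {G : Type} [Group G] [Finite G] {x y w : G} (x5 : x ^ 5 = 1) (c : x * y = y * x) (h1 : w * x = y * w)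
    (h2 : w * y = x ^ 4 * y ^ 4 * w) (w3 : w ^ 3 = 1) (n : ∀ i < 5, y ≠ x ^ i) :
    LB x 8 ∧ ∀ b, b * b = 1 → x * b * x = b → y * b * y = b → LB b 6 := by
  classical
  have := Fact.mk Nat.prime_five
  have h1' := mul_inv_eq_iff_eq_mul.2 h1
  have y5 : y ^ 5 = 1 := by rw [← h1', conj_pow, x5, mul_one, mul_inv_cancel]
  have oy := orderOf_eq_prime y5 (by simpa using n 0 (by norm_num))
  have x1 : x ≠ 1 := by rintro rfl; exact n 0 (by norm_num) (by simpa using h1'.symm)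
  have ox := orderOf_eq_prime x5 x1
  have c' : Commute x y := c
  let φ := MonoidHom.noncommCoprod (zpowersHom G x) (zpowersHom G y) fun i j => c'.zpow_zpow _ _
  have r : φ.range = zpowers x ⊔ zpowers y := MonoidHom.noncommCoprod_range ..
  have mx : x ∈ φ.range := r ▸ mem_sup_left (mem_zpowers x)
  have my : y ∈ φ.range := r ▸ mem_sup_right (mem_zpowers y)
  have ab : Ab φ.range := inferInstance
  have cE : #φ.range = 5 ^ 2 := by
    rw [r, card_sup_of_disjoint (norms_of_comm ab (r ▸ le_sup_right) (r ▸ le_sup_left)), Nat.card_zpowers, Nat.card_zpowers, ox, oy, sq]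
    rw [inf_comm]
    refine inf_eq_bot_of_prime (by rw [Nat.card_zpowers, oy]; norm_num) fun l => ?_
    obtain ⟨i, hi, e⟩ := Finset.mem_image.1 (mem_zpowers_iff_mem_range_orderOf.1 (l (mem_zpowers y)))
    exact n i (ox ▸ Finset.mem_range.1 hi) e.symm
  have cj : ∀ (b : G) (i j : ℤ), b * (x ^ i * y ^ j) * b⁻¹ = (b * x * b⁻¹) ^ i * (b * y * b⁻¹) ^ j := fun b i j => by
    rw [conj_zpow, conj_zpow, conj_mul]
  obtain ⟨l1, l2⟩ := H28.FF.eh3 kit (X := ⊥) (y := x) od5 (E := φ.range) ⟨ab, by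
      rintro _ ⟨⟨i, j⟩, rfl⟩
      show (x ^ i.toAdd * y ^ j.toAdd) ^ 5 = 1
      rw [(c'.zpow_zpow _ _).mul_pow, ← zpow_natCast, ← zpow_natCast, zpow_comm x, zpow_comm y, zpow_natCast, zpow_natCast, x5, y5]
      simp⟩ cE (w := w) (mem_normalizer_fintype (by
      rintro _ ⟨⟨i, j⟩, rfl⟩
      exact (cj w _ _).symm ▸ mul_mem (zpow_mem (h1' ▸ my) _) (zpow_mem (mul_inv_eq_iff_eq_mul.2 h2 ▸
        mul_mem (pow_mem mx 4) (pow_mem my 4)) _))) w3 mx
    (fun e => n 1 (by norm_num) (by rw [pow_one]; exact mul_right_cancel (h1.symm.trans e))) (by norm_num)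
  refine ⟨l2 mx x1, fun b bb i1 i2 => LS.inv kit l1 bb (cE ▸ by decide) ?_ (by norm_num)⟩
  rintro _ ⟨⟨i, j⟩, rfl⟩
  exact (cj b _ _).trans (by rw [H28.FF.inv_of i1, H28.FF.inv_of i2, inv_zpow, inv_zpow, ← mul_inv_rev, ← (c'.zpow_zpow _ _).eq]; rfl)

open H16 H0.TR H28.FF H15.IC.J2 in
theorem nfJ2 : Sp Spor.IsoJ2 := fun G _ _ e => by
  refine kit.r.congr ?_ e
  obtain ⟨_, g, M, -⟩ := H15.IC.J2.md H15.J2L.equiv.symm
  have := M.fin
  have := S1620.result.1
  obtain ⟨_, h, C, -⟩ := H15.XTJ2I.sub M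
  obtain ⟨Q, _, -, cQ, rQ, -, ⟨f⟩⟩ := J3S.shape C
  let W : List (List ℕ) := [[4, 2, 0, 3, 4, 2, 4, 2], [2, 3, 2, 1, 2, 0, 3, 4, 2, 0], [2, 3],
    [2, 1, 2, 1, 2, 1, 3, 2, 0, 2, 1, 2, 1, 4, 2, 1, 1], [3, 4, 2, 1, 2, 1, 2, 1, 3, 2, 1], [2], [1, 1, 2, 0, 2, 0, 4, 2, 1],
    [4, 2, 1, 1, 3, 2, 4], [2, 4, 0, 0, 2, 1, 3, 2, 0, 2, 4, 2, 0, 3, 2, 3]]
  have A : Act (wds g W) _ _ _ 9 := M.wact (by decide +kernel)
  have x5 : wds g W 0 ^ 5 = 1 := M.pw A (by decide +kernel)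
  obtain ⟨l1, l2⟩ := e5 (y := wds g W 1) (w := wds g W 2) x5
    (by simpa only [evA_cons, evA_nil, one_mul] using M.eq_of A (U := [1, 0]) (V := [0, 1]) (by decide +kernel))
    (by simpa only [evA_cons, evA_nil, one_mul] using M.eq_of A (U := [0, 2]) (V := [2, 1]) (by decide +kernel))
    (by simpa only [evA_cons, evA_nil, one_mul, pow_succ, pow_zero, mul_assoc] using
      M.eq_of A (U := [1, 2]) (V := [2, 1, 1, 1, 1, 0, 0, 0, 0]) (by decide +kernel)) (M.pw A (by decide +kernel))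
    fun i hi => by
      simpa only [evA_cons, evA_nil, one_mul, evA_rep] using M.nrel A (U := [1]) (V := List.replicate i 0) 0 (by
        revert i; decide +kernel)
  have la : LB (wds g W 5) 4 := lb_iv kit l1 x5 (M.pw A (by decide +kernel))
    (by simpa only [evA_cons, evA_nil, one_mul] using M.eq_of A (U := [0, 5, 0]) (V := [5]) (by decide +kernel)) (by decide)
  have lb := l2 (wds g W 3) ((sq _).symm.trans (M.pw A (by decide +kernel)))
    (by simpa only [evA_cons, evA_nil, one_mul] using M.eq_of A (U := [0, 3, 0]) (V := [3]) (by decide +kernel))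
    (by simpa only [evA_cons, evA_nil, one_mul] using M.eq_of A (U := [1, 3, 1]) (V := [3]) (by decide +kernel))
  have ca : IsConj (wds g W 5) (wds g W 7) := isConj_iff.2 ⟨wds g W 6, mul_inv_eq_iff_eq_mul.2
    (by simpa only [evA_cons, evA_nil, one_mul] using M.eq_of A (U := [5, 6]) (V := [6, 7]) (by decide +kernel))⟩
  have cb : IsConj (wds g W 3) (wds g W 8) := isConj_iff.2 ⟨wds g W 4, mul_inv_eq_iff_eq_mul.2
    (by simpa only [evA_cons, evA_nil, one_mul] using M.eq_of A (U := [3, 4]) (V := [4, 8]) (by decide +kernel))⟩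
  have no : NO (wds g H15.XTJ2I.x_W 0) := md_no kit M [2] [2, 1, 1] [0, 2, 3, 2, 1, 2] [3, 0, 2, 0, 2, 3, 2, 0, 2, 0, 3, 2] 3 3 (by decide +kernel)
  have rQ' : RK (Q.map (Subgroup.subtype _)) 2 := rk_eqv (Q.equivMapOfInjective _ Subtype.val_injective).symm fun E e => rQ E ⟨e.1, e.2⟩
  have rs : ∀ A ≤ Q.map (Subgroup.subtype _), Abelem 2 A → #A ≤ 2 ^ 2 := fun A l e => by
    rw [← Nat.card_congr (subgroupOfEquivOfLe l).toEquiv]; exact rQ' _ (ab_comap e Subtype.val_injective)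
  have r4 : RK Spor.J2 4 := kit.r.rks (a := 7) (s := 5) _ (by rw [M.card]; norm_num) ((card_map_of_injective Subtype.val_injective).trans cQ) rQ'
  let φ := f.toMonoidHom.comp (QuotientGroup.mk' Q)
  have kφ : φ.ker = Q := by ext x; simp [φ]
  have := alternatingGroup.isSimpleGroup_five
  have nr : NR (wds g H15.XTJ2I.x_W 0) 2 := .of_le (fun M => no.ker kit M (Subgroup.subtype _) Subtype.val_injective (range_subtype _) φ
    (f.surjective.comp (QuotientGroup.mk'_surjective _)) (by rw [kφ]; exact .of_card (n := 5) cQ)) (by rw [kφ]; exact rs)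
  have cl : ∀ b : Spor.J2, orderOf b = 2 → IsConj (wds g W 5) b ∨ IsConj (wds g W 3) b := fun b hb => by
    obtain rfl | ⟨r, hr, k⟩ := cov M (e := 1) (y := b) (orderOf_dvd_iff_pow_eq_one.1 hb.dvd) (hb ▸ pow_orderOf_eq_one b)
    · simp at hb
    · interval_cases r
      exacts [.inl (ca.trans k.symm), .inr (cb.trans k.symm)]
  exact kit.r.nf (ν := 1) (qf_of kit fun b hb => (cl b hb).elim (fun k => ⟨2, 4, nr.conj kit k, kit.r.lbc k la, by norm_num⟩)
      fun k => ⟨4, 6, .of_le (Q := ⊤) (fun _ => le_top) fun A _ => r4 A, kit.r.lbc k lb, by norm_num⟩) (rk_out kit (n := 1) S2066.result)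
    fun b hb M => (cl b hb).elim (fun k => le_trans (by norm_num) (kit.r.lbc k la M)) fun k => le_trans (by norm_num) (kit.r.lbc k lb M)

end H23.FF
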