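/-
Fusion systems on a Sylow 3-subgroup of `G₂(q)`: the essential subgroups.
-/
import Cfsg.Agent.H2.G0
import Cfsg.Agent.H8.PU5

set_option autoImplicit false
set_option linter.unusedSectionVars false
set_option linter.unusedSimpArgs false
set_option linter.unusedVariables false

namespace H23.G3
open Subgroup H25 H8.PU H25.GC H25.GC.Gc H2.G
universe u v
variable {K : Type v} [Field K] [Finite K] [CharP K 3] {Γ : Type u} [Group Γ] [Finite Γ]
  {S P A B D X Y W : Subgroup Γ} {ev : Gc K →* Γ} {v w g : Γ}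
attribute [local instance] Nat.fact_prime_three

/-- a surjection between coset spaces of the same size is injective -/
theorem idx_inj (f : Γ → Γ) (h0 : ∀ b ∈ B, f b ∈ D) (h1 : ∀ d ∈ D, ∃ b ∈ B, (f b)⁻¹ * d ∈ Y)
    (h2 : ∀ b ∈ B, ∀ b' ∈ B, b⁻¹ * b' ∈ X → (f b)⁻¹ * f b' ∈ Y) (e : Y.relIndex D = X.relIndex B) :
    ∀ b ∈ B, ∀ b' ∈ B, (f b)⁻¹ * f b' ∈ Y → b⁻¹ * b' ∈ X := fun b hb b' hb' k => by
  let F : B ⧸ X.subgroupOf B → D ⧸ Y.subgroupOf D := Quotient.map' (fun b : B => (⟨f b, h0 b b.2⟩ : D)) fun a a' c =>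
    QuotientGroup.leftRel_apply.2 (h2 a a.2 a' a'.2 (mem_subgroupOf.1 (QuotientGroup.leftRel_apply.1 c)))
  have s : Function.Surjective F := fun d => by
    induction d using QuotientGroup.induction_on with
    | H d => obtain ⟨b, hb, c⟩ := h1 d d.2; exact ⟨(⟨b, hb⟩ : B), QuotientGroup.eq.2 c⟩
  have i := ((Nat.bijective_iff_surjective_and_card F).2 ⟨s, e.symm⟩).1
  exact mem_subgroupOf.1 (QuotientGroup.eq.1 (i (a₁ := (⟨b, hb⟩ : B)) (a₂ := (⟨b', hb'⟩ : B)) (QuotientGroup.eq.2 k)))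

theorem cm_step (hP : IsPGroup 3 P) (hv : v ∈ P) (hB : B ≤ nz P) :
    ∀ u ∈ B, ∀ w ∈ B, u⁻¹ * w ∈ P → (v * u * v⁻¹ * u⁻¹)⁻¹ * (v * w * v⁻¹ * w⁻¹) ∈ fr P := fun u hu w _ k => by
  simpa [mul_assoc] using conj_mem_of_mem_nz (nz_le_nz_fr P (hB hu)) (cm_fr hP hv k)

/-- the failure of factorization with the commutator map of `v` -/
theorem ff_of (e : Es 3 S P A) (gn : Gen S P A) (hv : v ∈ P) (h1 : B ≤ S) (h2 : ¬ B ≤ P) (h3 : CC B B P)
    (h4 : ∀ b ∈ B, b ^ 3 ∈ P) (h5 : CC B P D) (h6 : D ≤ P) (on : On v B D (fr P)) :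
    (∀ t ∈ S, t ∈ nz P → ∃ b ∈ B, b⁻¹ * t ∈ P) ∧ ∀ b ∈ B, v * b * v⁻¹ * b⁻¹ ∈ fr P → b ∈ P := by
  have n : B ≤ nz P := h5.nz' le_rfl h6
  have f := dff S P A B D e gn h1 n h2 h3 h4 h5 h6 (idx_le _ on (cm_step e.pP hv n))
  refine ⟨f.nm, fun b hb k => ?_⟩
  simpa using idx_inj _ (fun b hb => h5.symm v hv b hb) on (cm_step e.pP hv n) f.eq 1 (one_mem _) b hb (by simpa using k)

namespace Co
variable (h : Co S ev)
include h
theorem c1C : CC ((Q1 K).map ev) ((C1 K).map ev) ⊥ := by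
  have := h3 (K := K)
  intro x hx y hy
  gb h hx c hc
  gb h hy c' hc'
  gs h [mC1] at hc hc'
  gs h [hc, hc']
  cg
theorem cSZ : CC S ((Zc K).map ev) ⊥ := by
  have := h3 (K := K)
  intro x hx y hy
  gb h hx c hc
  gb h hy c' hc'
  gs h [mZc] at hc'
  gs h [hc']
  cg
theorem cS4 : CC S ((Z4 K).map ev) ((Zc K).map ev) := by
  have := h3 (K := K)
  intro x hx y hy
  gb h hx c hc
  gb h hy c' hc'
  gs h [] at hc'
  gs h [hc', mZc]
  cg
theorem cS3 : CC S ((Z3 K).map ev) ((Z1 K).map ev) := by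
  have := h3 (K := K)
  gk h
theorem c44 : CC ((Z4 K).map ev) ((Z4 K).map ev) ⊥ := by
  have := h3 (K := K)
  gk h
theorem cLL (m : K) : CC ((Ln m).map ev) ((Ln m).map ev) ⊥ := by
  have := h3 (K := K)
  intro x hx y hy
  gb h hx c hc
  gb h hy c' hc'
  gs h [mLn] at hc hc'
  gs h [hc, hc']
  cg
theorem l1C : (Z1 K).map ev ≤ (C1 K).map ev := by
  intro x hx; gb h hx c hc; gs h [] at hc; gs h [mC1, hc]
theorem l1Z : (Z1 K).map ev ≤ (Zc K).map ev := by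
  intro x hx; gb h hx c hc; gs h [] at hc; gs h [mZc, hc]
theorem lZ4 : (Zc K).map ev ≤ (Z4 K).map ev := by
  intro x hx; gb h hx c hc; gs h [mZc] at hc; gs h [hc]
theorem lC4 : (C1 K).map ev ≤ (Z4 K).map ev := by
  intro x hx; gb h hx c hc; gs h [mC1] at hc; gs h [hc]
theorem cube (c : Gc K) : ev c ^ 3 = 1 ↔ c.a = 0 ∨ c.u = 0 := by
  have := h3 (K := K)
  rw [pow_three]
  gs h []
  refine ⟨fun k => ?_, fun k => ?_⟩
  · have : c.a ^ 2 * c.u = 0 := by grind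
    simpa using this
  · rcases k with k | k <;> simp only [k] <;> cg
end Co

theorem e3a : E3A K Γ := fun S P A ev h e g hP => by
  have t3 := h3 (K := K)
  have c1 : (C1 K).map ev ≤ P := e.cP (h.le _) hP (Co.c1C h)
  have z1 := (Co.l1C h).trans c1
  refine (em ((Q1 K).map ev ≤ P)).imp (le_antisymm hP) fun n => ?_
  have ff : ∀ c : Gc K, ev c ∈ P → c.u ≠ 0 ∨ c.v ≠ 0 → _ := fun c hc k =>
    ff_of e g hc (h.le _) n (h.c11.mono le_rfl le_rfl z1) (fun b hb => z1 (h.pw1 hb)) (h.c11.mono le_rfl hP le_rfl) z1 (by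
      rintro _ ⟨d, hd, rfl⟩
      have a0 := h.mm.1 (hP hc)
      have : ∃ x : Gc K, x.a = 0 ∧ c * x * c⁻¹ * x⁻¹ = d := by
        gs h [] at hd a0
        rcases k with k | k
        · exact ⟨xv (d.z / c.u), rfl, by gs h [hd, a0]; field_simp; cg⟩
        · exact ⟨xu (-d.z / c.v), rfl, by gs h [hd, a0]; field_simp; cg⟩
      obtain ⟨x, h1, h2⟩ := this
      exact ⟨ev x, h.mm.2 h1, by rw [h.mul, h.inv, h.mul, h.inv, h.mul, h2, inv_mul_cancel]; exact one_mem _⟩)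
  have ml : ∀ c : Gc K, ev c ∈ P → ∀ l : K, ev ⟨0, l * c.u, 0, 0, l * c.v, 0⟩ ∈ P := fun c hc l => by
    by_cases k : c.u ≠ 0 ∨ c.v ≠ 0
    · have a0 := h.mm.1 (hP hc)
      refine (ff c hc k).2 _ (h.mm.2 rfl) ?_
      rw [show ev c * ev ⟨0, l * c.u, 0, 0, l * c.v, 0⟩ * (ev c)⁻¹ * (ev ⟨0, l * c.u, 0, 0, l * c.v, 0⟩)⁻¹ = 1 by
        gs h [] at a0; gs h [a0]; cg]
      exact one_mem _
    · push Not at k
      exact c1 (by gs h [mC1, k])
  by_cases z4 : P ≤ (Z4 K).map ev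
  · have k := e.cP (h.le _) z4 (Co.c44 h)
    obtain ⟨b, hb, k1⟩ := (ff (xv 1) (k (by gs h [])) (.inr one_ne_zero)).1 _ (h.mS (xa 1))
      ((h.cSS.mono le_rfl (h.le _) le_rfl).nz' z4 k (h.mS _))
    gb h hb d hd
    have := hP k1
    gs h [] at this hd
    simp [hd] at this
  obtain ⟨x, hx, k⟩ := SetLike.not_le_iff_exists.1 z4
  obtain ⟨c, a0, rfl⟩ := hP hx
  gs h [] at a0
  gs h [a0] at k
  by_cases l : P ≤ (Ln (c.v / c.u)).map ev
  · exact ⟨_, le_antisymm l (e.cP (h.le _) l (Co.cLL h _))⟩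
  obtain ⟨y, hy, k'⟩ := SetLike.not_le_iff_exists.1 l
  obtain ⟨d, a1, rfl⟩ := hP hy
  gs h [] at a1
  gs h [a1, mLn] at k'
  have dt : c.u * d.v - d.u * c.v ≠ 0 := fun z => k' (by field_simp; grind)
  refine absurd (fun w hw => ?_) n
  gb h hw b hb
  gs h [] at hb
  refine (mul_mem_cancel_left (inv_mem (mul_mem (ml c hx ((b.u * d.v - d.u * b.v) / (c.u * d.v - d.u * c.v)))
    (ml d hy ((c.u * b.v - b.u * c.v) / (c.u * d.v - d.u * c.v)))))).1 (c1 ?_)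
  gs h [mC1, hb]
  field_simp
  cg

end H23.G3
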