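/-
Fusion systems on a Sylow 3-subgroup of `G₂(q)`: essential subgroups lie in `Q₁` or `Q₂`.
-/
import Cfsg.Agent.H23.G3a

set_option autoImplicit false
set_option linter.unusedSectionVars false
set_option linter.unusedSimpArgs false
set_option linter.unusedVariables false

namespace H23.G3
open Subgroup H25 H8.PU H25.GC H25.GC.Gc H2.G
universe u v
variable {K : Type v} [Field K] [Finite K] [CharP K 3] {Γ : Type u} [Group Γ] [Finite Γ]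
  {S P A B D X Y W : Subgroup Γ} {ev : Gc K →* Γ} {v w g : Γ}
attribute [local instance] Nat.fact_prime_three

theorem nz_cube (h : ∀ w, w ∈ W ↔ w ∈ P ∧ w ^ 3 = 1 ∧ ∀ w' ∈ P, w' ^ 3 = 1 → (w * w') ^ 3 = 1) (hg : g ∈ nz P) :
    g ∈ nz W := mem_nz_of_conj_mem fun w hw => by
  obtain ⟨h1, h2, h3⟩ := (h w).1 hw
  refine (h _).2 ⟨conj_mem_of_mem_nz hg h1, by rw [conj_pow, h2]; simp, fun w' k k' => ?_⟩
  have := h3 _ (conj_mem_of_mem_nz' hg k) (by simpa [k'] using conj_pow (i := 3) (a := g⁻¹) (b := w'))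
  rw [show g * w * g⁻¹ * w' = g * (w * (g⁻¹ * w' * g)) * g⁻¹ by group, conj_pow, this]; simp

theorem ex_x (h : Co S ev) (hP : P ≤ S) (n1 : ¬ P ≤ (Q1 K).map ev) (n2 : ¬ P ≤ (Q2 K).map ev) :
    ∃ c : Gc K, ev c ∈ P ∧ c.a ≠ 0 ∧ c.u ≠ 0 := by
  obtain ⟨x, hx, k⟩ := SetLike.not_le_iff_exists.1 n1
  obtain ⟨y, hy, k'⟩ := SetLike.not_le_iff_exists.1 n2
  obtain ⟨c, -, rfl⟩ := h.ex (hP hx)
  obtain ⟨d, -, rfl⟩ := h.ex (hP hy)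
  gs h [] at k k'
  by_cases u0 : c.u = 0
  · by_cases a0 : d.a = 0
    · exact ⟨c * d, h.mul c d ▸ mul_mem hx hy, by simpa [a0] using k, by simpa [u0] using k'⟩
    · exact ⟨d, hy, a0, k'⟩
  · exact ⟨c, hx, k, u0⟩

/-- `X_r = [x, X_s]` -/
theorem xr_fr (h : Co S ev) (e : Es 3 S P A) {c : Gc K} (hc : ev c ∈ P) (a0 : c.a ≠ 0) (k : ∀ s, ev (xs s) ∈ P) (r : K) :
    ev (xr r) ∈ fr P := by
  have t3 := h3 (K := K)
  rw [show ev (xr r) = ev c * ev (xs (r / c.a)) * (ev c)⁻¹ * (ev (xs (r / c.a)))⁻¹ by gs h []; field_simp; cg]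
  exact cm_fr e.pP hc (k _)
theorem cm_xv (h : Co S ev) (c : Gc K) (v : K) : ev c * ev (xv v) * (ev c)⁻¹ * (ev (xv v))⁻¹ = ev (xz (c.u * v)) := by
  have t3 := h3 (K := K)
  gs h []; cg

theorem case1 (h : Co S ev) (e : Es 3 S P A) {c : Gc K} (hc : ev c ∈ P) (a0 : c.a ≠ 0) (u0 : c.u ≠ 0)
    (n : A ≤ nz (P ⊓ (Z4 K).map ev)) : False := by
  have z : (Zc K).map ev ≤ P := e.cP (h.le _) e.le (Co.cSZ h)
  have y : (Z4 K).map ev ≤ P := fun y hy => e.ch [P ⊓ (Z4 K).map ev] ⟨⟨inf_le_left, n⟩, trivial⟩ (h.le _ hy)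
    ((Co.cS4 h).symm.nz' e.le z hy)
    ⟨(Co.cS4 h).symm.cm hy e.le (le_inf z (Co.lZ4 h)), (Co.c44 h).cm hy inf_le_right bot_le⟩
  have zf : (Zc K).map ev ≤ fr P := by
    intro w hw
    gb h hw d hd
    have k1 := xr_fr h e hc a0 (fun s => y (by gs h [])) d.r
    have k2 := cm_xv h c (d.z / c.u) ▸ cm_fr e.pP hc (y (show ev (xv (d.z / c.u)) ∈ _ by gs h []))
    rw [show ev d = ev (xr d.r) * ev (xz (c.u * (d.z / c.u))) by gs h [mZc] at hd; gs h [hd]; field_simp]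
    exact mul_mem k1 k2
  exact e.nS fun t ht => e.ch [P ⊓ (Z4 K).map ev] ⟨⟨inf_le_left, n⟩, trivial⟩ ht (h.cSS.nz' e.le y ht)
    ⟨h.cSS.cm ht e.le (le_inf y le_rfl), (Co.cS4 h).cm ht inf_le_right zf⟩

theorem case2 (h : Co S ev) (e : Es 3 S P A) (gn : Gen S P A) (n1 : ¬ P ≤ (Q1 K).map ev) (n2 : ¬ P ≤ (Q2 K).map ev)
    (h1 : ¬ P ⊓ (Q1 K).map ev ≤ (Z4 K).map ev) (h2 : P ⊓ (Q2 K).map ev ≤ (Z4 K).map ev) : False := by
  have t3 := h3 (K := K)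
  obtain ⟨c, hc, a0, u0⟩ := ex_x h e.le n1 n2
  obtain ⟨w, ⟨hw, d, a1, rfl⟩, u1⟩ := SetLike.not_le_iff_exists.1 h1
  gs h [] at a1
  gs h [a1] at u1
  have q2 : ∀ b : Gc K, ev b ∈ P → b.u = 0 → b.a = 0 := fun b hb k => (h.mm.1 (h2 ⟨hb, h.mm.2 k⟩)).1
  have n : A ≤ nz (P ⊓ (Q1 K).map ev) := fun g hg => nz_cube (fun w => ⟨fun ⟨k1, b, k2, k3⟩ => k3 ▸ ⟨k3 ▸ k1,
    (Co.cube h b).2 (.inl k2), fun w' k4 k5 => by
      obtain ⟨b', -, rfl⟩ := h.ex (e.le k4)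
      rw [h.mul, Co.cube h]
      exact .inl (by simp [mQ1.1 k2, ((Co.cube h b').1 k5).elim id (q2 b' k4)])⟩, fun ⟨k1, k2, _⟩ => by
      obtain ⟨b, -, rfl⟩ := h.ex (e.le k1)
      exact ⟨k1, h.mm.2 (((Co.cube h b).1 k2).elim id (q2 b k1))⟩⟩) (e.An hg)
  have z : (Zc K).map ev ≤ P := e.cP (h.le _) e.le (Co.cSZ h)
  have z1 := (Co.l1Z h).trans z
  have c1 : (C1 K).map ev ≤ P := fun y hy => e.ch [P ⊓ (Q1 K).map ev] ⟨⟨inf_le_left, n⟩, trivial⟩ (h.le _ hy)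
    ((Co.cS4 h).symm.nz' e.le z (Co.lC4 h hy))
    ⟨(Co.cS4 h).symm.cm (Co.lC4 h hy) e.le (le_inf z ((Co.lZ4 h).trans h.l41)), (Co.c1C h).symm.cm hy inf_le_right bot_le⟩
  have up : ∀ b : Gc K, b.a = 0 → b.u = 0 → ev (xv b.v) ∈ P → ev b ∈ P := fun b k1 k2 k3 =>
    (mul_mem_cancel_left (inv_mem k3)).1 (c1 (by gs h [mC1, k1, k2]; ring))
  have z3 : (Z3 K).map ev ≤ P := by_contra fun m => by
    obtain ⟨nm, inj⟩ := ff_of e gn hw (h.le _) m (h.c33.mono le_rfl le_rfl bot_le) (fun b hb => h.pw3 (p := 3) hb ▸ one_mem P)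
      ((Co.cS3 h).symm.mono le_rfl e.le le_rfl) z1 (by
        rintro _ ⟨b, hb, rfl⟩
        refine ⟨ev (xv (b.z / d.u)), by gs h [], ?_⟩
        rw [cm_xv h, show ev b = ev (xz (d.u * (b.z / d.u))) by gs h [] at hb; gs h [hb]; field_simp, inv_mul_cancel]
        exact one_mem _)
    have k1 : ev (xv (c.a ^ 3 * d.u)) ∈ P :=
      (mul_mem_cancel_left (cm_self hc _ hw)).1 (c1 (by gs h [mC1, a1]; cg))
    have k2 : ∀ b : Gc K, ev b ∈ P → ev (xv (c.a ^ 3 * b.u)) ∈ P := fun b hb => inj _ (by gs h []) (by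
      rw [cm_xv h, show d.u * (c.a ^ 3 * b.u) = b.u * (c.a ^ 3 * d.u) by ring, ← cm_xv h]
      exact cm_fr e.pP hb k1)
    obtain ⟨b, hb, k3⟩ := nm _ (h.mS (xa c.a)) (mem_nz_of_conj_mem fun y hy => by
      obtain ⟨b, -, rfl⟩ := h.ex (e.le hy)
      refine (mul_mem_cancel_right (inv_mem hy)).1 ((mul_mem_cancel_left (k2 b hy)).1 (c1 ?_))
      gs h [mC1]; cg)
    gb h hb b' hb'
    rw [h.inv, h.mul] at k3
    have := q2 _ k3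
    gs h [] at hb'
    gs h [hb'] at this
    exact a0 (this trivial)
  have y : (Z4 K).map ev ≤ P := by
    rintro _ ⟨b, hb, rfl⟩
    exact up b hb.1 hb.2 (z3 (by gs h []))
  have nC : A ≤ nz ((C1 K).map ev) := fun g hg => nz_of_cz (P := P ⊓ (Q1 K).map ev) (X := P ⊓ (Q1 K).map ev)
    (fun w => ⟨fun k => ⟨⟨c1 k, h.l41 (Co.lC4 h k)⟩, cz_anti inf_le_right ((Co.c1C h).symm.cz k)⟩, fun ⟨⟨_, b, k1, k2⟩, k3⟩ => by
      subst k2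
      have k4 := mem_cz'.1 k3 (ev (xv 1)) ⟨y (by gs h []), h.mm.2 rfl⟩
      have k5 := mem_cz'.1 k3 (ev d) ⟨hw, h.mm.2 a1⟩
      gs h [] at k1
      gs h [k1, a1] at k4 k5
      gs h [mC1, k1]
      grind⟩) (n hg) (n hg)
  have q1 : (Q1 K).map ev ≤ P := fun t ht => e.ch [P ⊓ (Q1 K).map ev, (C1 K).map ev] ⟨⟨inf_le_left, n⟩, ⟨c1, nC⟩, trivial⟩
    (h.le _ ht) (h.cSS.nz' e.le y (h.le _ ht)) ⟨h.cSS.cm (h.le _ ht) e.le (le_inf y h.l41),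
      h.c11.cm ht inf_le_right (Co.l1C h), (Co.c1C h).cm ht le_rfl bot_le⟩
  have := q2 _ (h.mul c (xu (-c.u)) ▸ mul_mem hc (q1 (by gs h []))) (by simp)
  exact a0 (by simpa using this)

theorem e3c : E3C K Γ := fun S P A ev h e gn => by_contra fun n => by
  obtain ⟨n1, n2⟩ := not_or.1 n
  obtain ⟨c, hc, a0, u0⟩ := ex_x h e.le n1 n2
  have k : ∀ w ∈ P ⊓ (Z4 K).map ev, w ∈ P ∧ w ^ 3 = 1 ∧ ∀ w' ∈ P, w' ^ 3 = 1 → (w * w') ^ 3 = 1 := by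
    rintro _ ⟨k1, b, k2, rfl⟩
    refine ⟨k1, (Co.cube h b).2 (.inl k2.1), fun w' k4 k5 => ?_⟩
    obtain ⟨b', -, rfl⟩ := h.ex (e.le k4)
    rw [h.mul, Co.cube h]
    simpa [k2.1, k2.2] using (Co.cube h b').1 k5
  by_cases h1 : P ⊓ (Q1 K).map ev ≤ (Z4 K).map ev <;> by_cases h2 : P ⊓ (Q2 K).map ev ≤ (Z4 K).map ev
  · refine case1 h e hc a0 u0 fun g hg => nz_cube (fun w => ⟨k w, fun ⟨k1, k2, _⟩ => ?_⟩) (e.An hg)
    obtain ⟨b, -, rfl⟩ := h.ex (e.le k1)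
    exact ⟨k1, ((Co.cube h b).1 k2).elim (fun z => h1 ⟨k1, h.mm.2 z⟩) fun z => h2 ⟨k1, h.mm.2 z⟩⟩
  · exact case2 (co_gr h) e gn (by rwa [gr_Q1]) (by rwa [gr_Q2]) (by rwa [gr_Q1, gr_Z4]) (by rwa [gr_Q2, gr_Z4])
  · exact case2 h e gn n1 n2 h1 h2
  · refine case1 h e hc a0 u0 fun g hg => nz_cube (fun w => ⟨k w, fun ⟨k1, k2, k3⟩ => ?_⟩) (e.An hg)
    obtain ⟨b, -, rfl⟩ := h.ex (e.le k1)
    obtain ⟨_, ⟨hd, d, d1, rfl⟩, d2⟩ := SetLike.not_le_iff_exists.1 h1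
    obtain ⟨_, ⟨hf, f, f1, rfl⟩, f2⟩ := SetLike.not_le_iff_exists.1 h2
    have k4 := k3 _ hd ((Co.cube h d).2 (.inl d1))
    have k5 := k3 _ hf ((Co.cube h f).2 (.inr f1))
    rw [h.mul, Co.cube h] at k4 k5
    have k6 := (Co.cube h b).1 k2
    gs h [] at d1 f1
    gs h [d1, f1] at d2 f2 k4 k5
    refine ⟨k1, h.mm.2 ?_⟩
    gs h []
    grind

end H23.G3
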