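/-
Fusion systems on a Sylow 3-subgroup of `G₂(q)`: only `Q₁` and `Q₂` are essential.
-/
import Cfsg.Agent.H2.G30
import Cfsg.Agent.H23.G3c
import Cfsg.Agent.H14.G3A
import Cfsg.Agent.H12.GE0
import Cfsg.Agent.H3.G3L

set_option autoImplicit false
set_option linter.unusedSectionVars false
set_option linter.unusedSimpArgs false
set_option linter.unusedVariables false

namespace H23.G3
open Cfsg Subgroup H25 H25.FS H25.GC H25.GC.Gc H2.G
open H8.PU hiding Co Wt Wy Md Ck G2 S2 N2 E2 TR MD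
universe u v
variable {K : Type v} [Field K] [Finite K] [CharP K 3] {Γ : Type u} [Group Γ] [Finite Γ]
  {S P : Subgroup Γ} {ev : Gc K →* Γ} {F : FS Γ}

theorem hx_cjs (a : Γ) (F : FS Γ) (P : Subgroup Γ) : F.Hx P ≤ cj a⁻¹ ((cjs a F).Hx (cj a P)) :=
  (closure_le _).2 fun b ⟨hb, R, h, h1, h2, h3⟩ => mem_cj.2 (by
    simpa using mem_Hx (F := cjs a F) (a := a * b * a⁻¹) (cj_nz a P ▸ conj_mem_cj a hb) (cj_lt_cj.2 h1) (h2.cjs a) (h3.conj a))
theorem ess_cjs (h : F.Ess P) (a : Γ) : (cjs a F).Ess (cj a P) :=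
  ⟨h.1.cjs a, h.2.1.cjs a, fun e => h.2.2.1 (cj_inj.1 e), fun e => h.not_le fun x hx => by
    have := hx_cjs a⁻¹ (cjs a F) (cj a P) (e.ge (cjs_A a F P ▸ conj_mem_cj a hx))
    simpa [mem_cj, cjs_inv_cjs, mul_assoc] using this⟩

theorem ca3 : CA3 K Γ := fun S ev F h n es => by
  have one : ∀ {P P' : Subgroup Γ}, (∀ X, F.Ess X → X = P ∨ X = P') → F.Ess P → ¬ F.Ess P' → F.Constr 3 := fun {P P'} es q q' => by
    have k : ∀ X, F.Ess X → X = P := fun X c => (es X c).resolve_right fun c' => q' (c' ▸ c)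
    refine n.cn (n.es q).cen (n.es q).le (fun g hg => mem_nz.2 (k _ ?_)) fun X c => k X c ▸ ⟨le_rfl, F.A_le_nz _⟩
    have := ess_cjs q g
    rwa [cjs_eq_of_mem_A (n.eS.symm ▸ hg)] at this
  by_cases q : F.Ess ((Q1 K).map ev) <;> by_cases q' : F.Ess ((Q2 K).map ev)
  · exact .inr ⟨q, q'⟩
  · exact .inl (one es q q')
  · exact .inl (one (fun X c => (es X c).symm) q' q)
  · exact .inl (n.cn inf_le_left le_rfl (F.A_le_nz S) fun X c => (es X c).elim (fun e => absurd (e ▸ c) q) fun e => absurd (e ▸ c) q')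

theorem nLn (h : Co S ev) (μ : K) : S ⊓ nz ((Ln μ).map ev) = (Q1 K).map ev := by
  have := h3 (K := K)
  refine le_antisymm ?_ (le_inf (h.le _) (le_nz_iff.2 ?_))
  · rintro x ⟨hx, k⟩
    obtain ⟨c, -, rfl⟩ := h.ex hx
    have := conj_mem_of_mem_nz k (show ev (xu 1 * xv μ) ∈ _ by gs h [mLn])
    gs h [mLn] at this ⊢
    have k : c.a ^ 3 = 0 := by grind
    exact pow_eq_zero_iff (by norm_num) |>.1 k
  · rintro _ ⟨c, hc, rfl⟩ _ ⟨d, hd, rfl⟩
    gs h [mLn] at hc hd ⊢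
    simp [hc, hd]

theorem kn1 (tr : TR3 K Γ) {L C0 : Subgroup Γ} {M1 M2 g0 : Γ} (m : Md3 S ev L C0 M1 M2 g0) (n : Nf 3 S (C0 ⊔ zpowers g0) F)
    (q : F.Ess P) (hP : P ≤ (Q1 K).map ev) : P = (Q1 K).map ev := by
  have h := m.toCo
  have t3 := h3 (K := K)
  obtain ⟨H, hH, e, gn⟩ := H29.TD.gen' (n.es q)
  refine (e3a S P H ev h e gn hP).elim id fun ⟨μ, hμ⟩ => False.elim ?_
  subst hμ
  have eN : F.N ((Ln μ).map ev) = (Q1 K).map ev := nLn (n.eS.symm ▸ h) μ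
  by_cases c : NQ S ev F
  · have lh := (tr S L C0 ev M1 M2 g0 F m n).lh c
    obtain ⟨-, w, hw, w1, -⟩ := H3.G3.l3b _ lh (H3.G3.l3a _ lh)
    obtain ⟨τ, hτ⟩ : ∃ τ : K, τ ^ 3 = -μ :=
      (Finite.injective_iff_surjective (f := fun x : K => x ^ 3)).1 (fun _ _ => cube_inj) _
    obtain ⟨g, hg, a⟩ := mul_mem hw (lh.syl.1 (mTZ.2 ⟨τ, rfl⟩))
    have k : ∀ c c' : Gc K, pv c' = (w * tZ τ) (pv c) → c'.u = c.v - μ * c.u := fun c c' k => by
      have := congrArg Prod.fst k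
      rw [H24.SP.mul_ap, (w1 _).1, tZ_ap] at this
      simp only [pv] at this
      grind
    have e4 : cj g ((Ln μ).map ev) = (Z4 K).map ev := by
      refine le_antisymm ?_ ?_
      · rintro _ ⟨_, ⟨c, hc, rfl⟩, rfl⟩
        obtain ⟨c', a0, e1, e2⟩ := a c hc.1
        exact ⟨c', ⟨a0, by rw [k c c' e2, hc.2, sub_self]⟩, e1.symm⟩
      · rintro _ ⟨d, hd, rfl⟩
        obtain ⟨c, hc, e0⟩ := conj_mem_of_mem_nz' (AcZ.nz a) (h.l41 (h.mm.2 hd))
        obtain ⟨c', a0, e1, e2⟩ := a c hc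
        obtain rfl : c' = d := h.inj (by rw [← e1, e0]; group)
        exact e1 ▸ conj_mem_cj g (h.mm.2 ⟨hc, sub_eq_zero.1 ((k c c' e2).symm.trans hd.2)⟩)
    have := q.fn.2 g ((T_of_mem_A (n.eS.ge.trans' (h.le _)) hg).mono hP)
    rw [e4, eN, show F.N ((Z4 K).map ev) = S from n.eS ▸ inf_eq_left.2 (n.eS ▸ h.nZ4)] at this
    have := (eq_of_le_of_card_ge (h.le (Q1 K)) this).ge (h.mS (xa 1))
    gs h [one_ne_zero] at this
  · obtain ⟨i, hi, i1, i2⟩ := H14.G3.kl (H12.GE.fi (by norm_num)) H14.G3.au3 S H ev μ h e gn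
    obtain ⟨j, hj, a⟩ := (n.sat.rec_fn q.fn).ext (T_of_mem_A q.le (hH hi)) (cj_eq_of_mem_A (hH hi)) le_rfl
      (n.eS.symm ▸ (cj_mono i (n.eS ▸ inf_nz_le_ai _ _)).trans (mem_nz.1 i1).le)
    have hj := hj.mono le_sup_right
    have j1 := hj.cj_N_le inf_le_right
    rw [a.cj_eq, cj_eq_of_mem_A (hH hi)] at j1
    have j2 := hj.mem_A (mem_nz_of_le j1)
    rw [eN] at j2
    obtain ⟨k, hk, b⟩ := ext_of n.sat n.eS (h.le _) h.nQ1 j2 (not_not.1 c j2)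
    exact i2 k (F.A_le_nz S hk) (a.symm.trans (b.symm.mono hP))

theorem kn (tr : TR3 K Γ) : KN K Γ := fun S L C0 ev M1 M2 g0 F m n P q => by
  obtain ⟨H, -, e, gn⟩ := H29.TD.gen' (n.es q)
  refine (e3c S P H ev m.toCo e gn).imp (kn1 tr m n q) fun c => ?_
  rw [← m.g1, ← kn1 tr m (m.sym n) (ess_cjs q g0⁻¹) (by rw [← m.g1] at c; simpa using cj_mono g0⁻¹ c)]
  simp

end H23.G3
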