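/-
Fusion systems on a Sylow 2-subgroup of `G₂(q)`: the essential subgroups.
-/
import Cfsg.Agent.H25.GC1
import Cfsg.Agent.H23.G3a
import Cfsg.Agent.H29.TD5

set_option autoImplicit false
set_option linter.unusedSectionVars false
set_option linter.unusedSimpArgs false
set_option linter.unusedVariables false

namespace H23.GC
open Subgroup H25 H25.GC H25.GC.Gc H2.G
open H8.PU hiding Co Wt Wy Md Ac2 G2 S2 N2 E2 TR MD SY Bo LH AV
universe u v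
variable {K : Type v} [Field K] [Finite K] {Γ : Type u} [Group Γ] [Finite Γ] {p : ℕ} [Fact p.Prime]
  {S P A B D X Y W : Subgroup Γ} {ev : Gc K →* Γ} {v w g : Γ}

theorem cm_step (hP : IsPGroup p P) (hv : v ∈ P) (hB : B ≤ nz P) :
    ∀ u ∈ B, ∀ w ∈ B, u⁻¹ * w ∈ P → (v * u * v⁻¹ * u⁻¹)⁻¹ * (v * w * v⁻¹ * w⁻¹) ∈ fr P := fun u hu w _ k => by
  simpa [mul_assoc] using conj_mem_of_mem_nz (nz_le_nz_fr P (hB hu)) (cm_fr hP hv k)
theorem nz_pow {n : ℕ} (h : ∀ w, w ∈ Y ↔ w ∈ X ∧ w ^ n = 1) (hg : g ∈ nz X) : g ∈ nz Y := mem_nz_of_conj_mem fun w hw =>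
  (h _).2 ⟨conj_mem_of_mem_nz hg ((h w).1 hw).1, by rw [conj_pow, ((h w).1 hw).2]; simp⟩
/-- an upper bound for an index by a coordinate -/
theorem idx (h : Co S ev) (hX : X ≤ S) (f : Gc K → K)
    (k : ∀ c c', ev c ∈ X → ev c' ∈ X → f c = f c' → (ev c)⁻¹ * ev c' ∈ Y) : Y.relIndex X ≤ Nat.card K := by
  classical
  refine idx_le' (fun i => if e : ∃ c, ev c ∈ X ∧ f c = i then ev e.choose else 1) fun b hb => ?_
  obtain ⟨c, -, rfl⟩ := h.ex (hX hb)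
  have e : ∃ c', ev c' ∈ X ∧ f c' = f c := ⟨c, hb, rfl⟩
  exact ⟨f c, by rw [dif_pos e]; exact k _ _ e.choose_spec.1 hb e.choose_spec.2⟩
theorem ex_x (h : Co S ev) (hP : P ≤ S) (n1 : ¬ P ≤ (Q1 K).map ev) (n2 : ¬ P ≤ (Q2 K).map ev) :
    ∃ c : Gc K, ev c ∈ P ∧ c.a ≠ 0 ∧ c.u ≠ 0 := by
  obtain ⟨x, hx, k⟩ := SetLike.not_le_iff_exists.1 n1
  obtain ⟨y, hy, k'⟩ := SetLike.not_le_iff_exists.1 n2
  obtain ⟨c, -, rfl⟩ := h.ex (hP hx)
  obtain ⟨d, -, rfl⟩ := h.ex (hP hy)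
  gs h [] at k k'
  by_cases u0 : c.u = 0
  · by_cases a0 : d.a = 0
    · exact ⟨c * d, h.mul c d ▸ mul_mem hx hy, by simpa [a0] using k, by simpa [u0] using k'⟩
    · exact ⟨d, hy, a0, k'⟩
  · exact ⟨c, hx, k, u0⟩
theorem cm_xv (h : Co S ev) (c : Gc K) (v : K) : ev c * ev (xv v) * (ev c)⁻¹ * (ev (xv v))⁻¹ = ev (xz (c.u * v)) := by
  gs h []; cg
theorem up (hY : Y ≤ X) {Y' : Subgroup (Gc K)} (k : ∀ c ∈ Y', ∃ w ∈ X, w⁻¹ * ev c ∈ Y) : Y'.map ev ≤ X := by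
  rintro _ ⟨c, hc, rfl⟩
  obtain ⟨w, hw, e⟩ := k c hc
  exact (mul_mem_cancel_left (inv_mem hw)).1 (hY e)
theorem fr1 (h : Co S ev) (hP : IsPGroup p P) (h2 : (Z2 K).map ev ≤ P) {c : Gc K} (hc : ev c ∈ P) (u0 : c.u ≠ 0) :
    (Z1 K).map ev ≤ fr P := up bot_le fun d hd => ⟨_, cm_fr hP hc (h2 (show ev (xv (d.z / c.u)) ∈ _ by gs h [])), by
  rw [cm_xv h, mem_bot, inv_mul_eq_one]; gs h [] at hd; gs h [hd]; field_simp⟩

section two
variable [CharP K 2]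
attribute [local instance] Nat.fact_prime_two
theorem h2 : (2 : K) = 0 := by exact_mod_cast CharP.cast_eq_zero K 2
theorem cS4 (h : Co S ev) : CC S ((Z4 K).map ev) ((Z2 K).map ev) := by
  have := h2 (K := K)
  gk h
theorem c22 (h : Co S ev) : CC ((Q2 K).map ev) ((Q2 K).map ev) ((Z2 K).map ev) := by
  have := h2 (K := K)
  gk h
theorem pw22 (h : Co S ev) (hw : w ∈ (Q2 K).map ev) : w ^ 2 ∈ (Z2 K).map ev := by
  have := h2 (K := K)
  gb h hw c hc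
  rw [pow_two]
  gs h [] at hc
  gs h [hc]
  cg
theorem zo1 (h : Co S ev) (e : Es 2 S P A) : (Z1 K).map ev ≤ zo 2 P := fun _ hw =>
  ⟨e.cP (h.le _) e.le h.cS1 hw, cz_anti e.le (h.cS1.symm.cz hw), h.pw3 (h.l23 (h.l12 hw))⟩

theorem ea (h : Co S ev) (e : Es 2 S P A) (gn : Gen S P A) : (Z2 K).map ev ≤ P := by
  have t2 := h2 (K := K)
  by_contra n
  have z := zo1 h e
  have zP := z.trans zo_le
  have n2 : (Z2 K).map ev ≤ nz P := h.cS2.symm.nz' e.le zP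
  have ch : ∀ l, Al P A l → ¬ ∀ x ∈ (Z2 K).map ev, Ch x (fr P) P l := fun l k k' => n fun x hx =>
    e.ch l k (h.le _ hx) (n2 hx) (k' x hx)
  obtain ⟨w, hw, k⟩ := SetLike.not_le_iff_exists.1 fun c : zo 2 P ≤ (Q2 K).map ev => ch [zo 2 P] ⟨e.zo_n, trivial⟩ fun x hx =>
    ⟨h.cS2.symm.cm hx e.le z, h.c2Z.symm.cm hx c bot_le⟩
  obtain ⟨w, -, rfl⟩ := h.ex (e.le hw.1)
  rw [h.mm, mQ2] at k
  have cw : ∀ c, ev c ∈ P → c * w = w * c := fun c hc => h.inj (by rw [map_mul, map_mul, mem_cz'.1 hw.2.1 _ hc])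
  obtain ⟨b, b1, b2⟩ := SetLike.not_le_iff_exists.1 n
  have nm := (H29.TD.ff1 S P A ((Z2 K).map ev) (zo 2 P) ⊥ (zo 2 P ⊓ (Q2 K).map ev) [] [] e gn (h.le _) n2
    (h.cS2.mono (h.le _) le_rfl zP) (fun b hb => h.pw3 (p := 2) (h.l23 hb) ▸ one_mem _) bot_le inf_le_left zo_le e.zo_n.2
    (fun g _ => nz_bot g) (fun x hx y hy => by simp [mem_cz'.1 hy.2.1 x hx]) (fun x hx => hx.2.2)
    (h.c2Z.symm.mono le_rfl inf_le_right le_rfl) ((idx h (zo_le.trans e.le) Gc.u fun c c' k k' e =>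
      mem_inf.2 ⟨mul_mem (inv_mem k) k', by gs h [e]⟩).trans
      (le_idx (fun v : K => ev (xv v)) (fun s => by gs h []) fun s s' k' => by
        rw [h.inv, h.mul] at k'
        have := cw _ k'
        gs h [] at this
        exact mul_left_cancel₀ k (by grind))) trivial trivial
    ⟨b, b1, b2, h.cS2.symm.cm b1 e.le z, fun y hy => by simp [mem_bot.1 hy]⟩).nm
  have a0 : w.a = 0 := by
    have := hw.2.2
    rw [pow_two] at this
    gs h [] at this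
    grind
  have P1 : P ≤ (Q1 K).map ev := fun x hx => by
    obtain ⟨c, -, rfl⟩ := h.ex (e.le hx)
    have := cw c hx
    gs h [a0] at this ⊢
    grind
  have nm' : ∀ c : Gc K, c.a = 0 → ∃ d, ev d ∈ P ∧ d.a = 0 ∧ d.u = c.u ∧ d.s = c.s ∧ d.r = c.r := fun c hc => by
    obtain ⟨b, hb, k⟩ := nm _ (h.mS c) (h.c11.nz' P1 zP (h.mm.2 hc))
    gb h hb d hd
    refine ⟨d⁻¹ * c, by rwa [h.inv, h.mul] at k, ?_⟩
    gs h [] at hd
    gs h [hd, hc]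
  obtain ⟨d, d0, d1, d2, d3, -⟩ := nm' (xs 1) rfl
  refine ch [] trivial fun x hx => h.cS2.symm.cm hx e.le (up bot_le fun z hz => ?_)
  obtain ⟨d', d0', k'⟩ := nm' (xr z.z) rfl
  refine ⟨_, cm_fr e.pP d0 d0', ?_⟩
  rw [mem_bot, inv_mul_eq_one, cm_eq]
  gs h [] at hz d1 d2 d3 k'
  gs h [hz, d1, d2, d3, k']
  cg

theorem ed (h : Co S ev) (e : Es 2 S P A) (gn : Gen S P A) (z2 : (Z2 K).map ev ≤ P) (h1 : P ≤ (Q1 K).map ev) :
    P = (Q1 K).map ev := by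
  have t2 := h2 (K := K)
  have z := h.l12.trans z2
  refine le_antisymm h1 (by_contra fun n => ?_)
  have k : ¬ (Z1 K).map ev ≤ fr P := fun c => n fun x hx =>
    e.ch [] trivial (h.le _ hx) (h.c11.nz' h1 z hx) (h.c11.cm hx h1 c)
  have z4 : P ≤ (Z4 K).map ev := fun w hw => by
    have := h1 hw
    gb h this c hc
    exact h.mm.2 ⟨hc, by_contra fun u0 => k (fr1 h e.pP z2 hw u0)⟩
  have n4 : ¬ (Z4 K).map ev ≤ P := fun c => k (up bot_le fun d hd => ⟨_, cm_fr e.pP (c (show ev (xs 1) ∈ _ by gs h []))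
    (c (show ev (xr d.z) ∈ _ by gs h [])), by
      rw [mem_bot, inv_mul_eq_one, cm_eq]; gs h [] at hd; gs h [hd]; cg⟩)
  obtain ⟨x, hx, k1⟩ := SetLike.not_le_iff_exists.1 fun c : P ≤ (Z2 K).map ev =>
    n4 (h.l42.trans (e.cP (h.le _) c h.c2Z.symm))
  obtain ⟨c, hc, rfl⟩ := z4 hx
  have n' : (Z4 K).map ev ≤ nz P := h.c11.nz' h1 z |>.trans' h.l41
  obtain ⟨b, hb, k2⟩ := (dff S P A ((Z4 K).map ev) _ e gn (h.le _) n' n4 (h.c11.mono h.l41 h.l41 z)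
    (fun b hb => z (h.pw1 (h.l41 hb))) (h.c11.mono h.l41 h1 le_rfl) z (idx_le _ (by
      rintro _ ⟨d, hd, rfl⟩
      have : ∃ x : Gc K, x ∈ Z4 K ∧ c * x * c⁻¹ * x⁻¹ = d := by
        gs h [] at hd hc
        gs h [hc] at k1
        by_cases s0 : c.s = 0
        · have r0 : c.r ≠ 0 := fun r0 => k1 ⟨s0, r0⟩
          exact ⟨xs (d.z / c.r), ⟨rfl, rfl⟩, by gs h [hd, hc, s0]; field_simp; cg⟩
        · exact ⟨xr (d.z / c.s), ⟨rfl, rfl⟩, by gs h [hd, hc]; field_simp; cg⟩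
      obtain ⟨x, h1, h2⟩ := this
      exact ⟨ev x, h.mm.2 h1, by rw [h.mul, h.inv, h.mul, h.inv, h.mul, h2, inv_mul_cancel]; exact one_mem _⟩)
      (cm_step e.pP hx n'))).nm _ (h.mS (xa 1)) ((cS4 h).nz' z4 z2 (h.mS _))
  gb h hb d hd
  have := z4 k2
  gs h [] at this hd
  simp [hd] at this

theorem ee (h : Co S ev) (e : Es 2 S P A) (gn : Gen S P A) (z2 : (Z2 K).map ev ≤ P) (h1 : P ≤ (Q2 K).map ev)
    (n1 : ¬ P ≤ (Q1 K).map ev) : P = (Q2 K).map ev := by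
  have t2 := h2 (K := K)
  have zW : (Z2 K).map ev ≤ zo 2 P := fun _ hw => ⟨z2 hw, cz_anti h1 (h.c2Z.symm.cz hw), h.pw3 (h.l23 hw)⟩
  have nQ : (Q2 K).map ev ≤ nz P := (c22 h).nz' h1 z2
  refine le_antisymm h1 (by_contra fun n => ?_)
  obtain ⟨w, hw, k⟩ := SetLike.not_le_iff_exists.1 fun c : zo 2 P ≤ (Z2 K).map ev => n fun x hx =>
    e.ch [zo 2 P] ⟨e.zo_n, trivial⟩ (h.le _ hx) (nQ hx) ⟨(c22 h).cm hx h1 zW, h.c2Z.cm hx c bot_le⟩
  obtain ⟨w, u0, rfl⟩ := h1 hw.1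
  have cw : ∀ c, ev c ∈ P → c * w = w * c := fun c hc => h.inj (by rw [map_mul, map_mul, mem_cz'.1 hw.2.1 _ hc])
  have w2 := hw.2.2
  rw [pow_two] at w2
  obtain ⟨x, hx, a1⟩ := SetLike.not_le_iff_exists.1 n1
  obtain ⟨x, u1, rfl⟩ := h1 hx
  have k1 := cw x hx
  gs h [] at u0 u1 a1
  gs h [u0, u1] at k k1 w2
  have a0 : w.a ≠ 0 := fun a0 => by
    gs h [a0] at k k1 w2
    have : w.r = x.a * w.s := by grind
    grind
  have r0 : w.r = w.a * w.s := by grind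
  have p4 : ∀ c : Gc K, ev c ∈ P → c.a = 0 → c ∈ Z2 K := fun c hc k => by
    have k1 := cw c hc
    have k2 := h1 hc
    gs h [] at k2
    gs h [k, k2, u0, r0] at k1 ⊢
    have : c.r = w.a * c.s := by grind
    have : c.s = 0 := by
      have : w.a * c.s ^ 2 = 0 := by grind
      simpa [a0] using this
    grind
  have i1 : ((Z2 K).map ev).relIndex (zo 2 P) ≤ Nat.card K := idx h (zo_le.trans e.le) Gc.a fun c c' k k' e => by
    rw [h.inv, h.mul, h.mm]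
    exact p4 _ (h.mul _ _ ▸ h.inv c ▸ mul_mem (inv_mem k.1) k'.1) (by simp [e])
  have i2 : Nat.card (K × K) ≤ P.relIndex ((Q2 K).map ev) :=
    le_idx (fun x : K × K => ev (el 0 0 x.1 x.2)) (fun s => by gs h []) fun s s' k' => by
      rw [h.inv, h.mul] at k'
      have := p4 _ k' (by simp)
      gs h [] at this
      exact Prod.ext (by grind) (by grind)
  have i3 : Nat.card K < Nat.card (K × K) := by
    rw [Nat.card_prod]; exact lt_mul_self Finite.one_lt_card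
  obtain ⟨b, b1, b2⟩ := SetLike.not_le_iff_exists.1 n
  have := (H29.TD.ff1 S P A ((Q2 K).map ev) (zo 2 P) ⊥ ((Z2 K).map ev) [] [] e gn (h.le _) nQ
    ((c22 h).mono le_rfl le_rfl z2) (fun b hb => z2 (pw22 h hb)) bot_le zW zo_le e.zo_n.2
    (fun g _ => nz_bot g) (fun x hx y hy => by simp [mem_cz'.1 hy.2.1 x hx]) (fun x hx => hx.2.2) h.c2Z
    (i1.trans (i3.le.trans i2)) trivial trivial ⟨b, b1, b2, (c22 h).cm b1 h1 zW, fun y hy => by simp [mem_bot.1 hy]⟩).eq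
  omega

theorem ef (h : Co S ev) (e : Es 2 S P A) (z2 : (Z2 K).map ev ≤ P) {c : Gc K} (hc : ev c ∈ P) (a0 : c.a ≠ 0) (u0 : c.u ≠ 0) :
    False := by
  have t2 := h2 (K := K)
  have sq : ∀ w : Gc K, ev w ^ 2 = 1 → ev w * ev c * (ev w)⁻¹ * (ev c)⁻¹ ∈ (Z1 K).map ev → w ∈ Z2 K := fun w k1 k2 => by
    rw [pow_two] at k1
    gs h [] at k1 k2
    have k3 : w.a * w.u = 0 := by grind
    have k4 : w.a = 0 ∧ w.u = 0 := by grind
    gs h [k4] at k1 k2 ⊢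
    have : w.r = c.a * w.s := by grind
    have : w.s = 0 := by
      have : c.a * w.s ^ 2 = 0 := by grind
      simpa [a0] using this
    grind
  have z1 : zo 2 P = (Z1 K).map ev := le_antisymm (fun w hw => by
    obtain ⟨w, -, rfl⟩ := h.ex (e.le hw.1)
    have k := mem_cz'.1 hw.2.1 _ hc
    have k' := sq w hw.2.2 (by rw [← k]; simp)
    gs h [] at k'
    gs h [k'] at k ⊢
    grind) (zo1 h e)
  have n2 : A ≤ nz ((Z2 K).map ev) := fun g hg => nz_pow (n := 2) (X := zm P (zo 2 P)) (fun w => ⟨fun k =>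
    ⟨mem_zm.2 ⟨z2 k, h.cS2.symm.cm k e.le z1.ge⟩, h.pw3 (h.l23 k)⟩, fun ⟨k1, k2⟩ => by
      obtain ⟨w, -, rfl⟩ := h.ex (e.le (zm_le k1))
      exact h.mm.2 (sq w k2 (z1.le ((mem_zm.1 k1).2 _ hc)))⟩) ((e.zm_n e.zo_n.2).2 hg)
  have c4Z : CC ((Z4 K).map ev) ((Z2 K).map ev) ⊥ := h.c2Z.mono h.l42 le_rfl le_rfl
  have z4 : (Z4 K).map ev ≤ P := fun x hx => e.ch [(Z2 K).map ev] ⟨⟨z2, n2⟩, trivial⟩ (h.le _ hx)
    ((cS4 h).symm.nz' e.le z2 hx) ⟨(cS4 h).symm.cm hx e.le le_rfl, c4Z.cm hx le_rfl bot_le⟩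
  have f2 : (Z2 K).map ev ≤ fr P := up (fr1 h e.pP z2 hc u0) fun d hd =>
    ⟨_, cm_fr e.pP hc (z4 (show ev (xr (d.v / c.a)) ∈ _ by gs h [])), by gs h [] at hd; gs h [hd]; field_simp; cg⟩
  have n4 : A ≤ nz ((Z4 K).map ev) := fun g hg => nz_of_cz (P := zm P ((Z2 K).map ev)) (X := (Z2 K).map ev)
    (fun w => ⟨fun k => ⟨mem_zm.2 ⟨z4 k, (cS4 h).symm.cm k e.le le_rfl⟩, c4Z.cz k⟩, fun ⟨k1, k2⟩ => by
      obtain ⟨w, -, rfl⟩ := h.ex (e.le (zm_le k1))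
      have k3 := (mem_zm.1 k1).2 _ hc
      have k4 := mem_cz'.1 k2 (ev (xv 1)) (by gs h [])
      gs h [] at k3 k4 ⊢
      grind⟩) ((e.zm_n n2).2 hg) (n2 hg)
  exact e.nS fun t ht => e.ch [(Z4 K).map ev] ⟨⟨z4, n4⟩, trivial⟩ ht (h.cSS.nz' e.le z4 ht)
    ⟨h.cSS.cm ht e.le le_rfl, (cS4 h).cm ht le_rfl f2⟩
end two

theorem e2 [CharP K p] : E2 K Γ p := fun p2 S P A ev h e => by
  subst p2
  obtain ⟨H, e, g⟩ := e.gen
  have z2 := ea h e g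
  by_cases h1 : P ≤ (Q1 K).map ev
  · exact .inl (ed h e g z2 h1)
  by_cases h2 : P ≤ (Q2 K).map ev
  · exact .inr (ee h e g z2 h2 h1)
  obtain ⟨c, hc, a0, u0⟩ := ex_x h e.le h1 h2
  exact (ef h e z2 hc a0 u0).elim

end H23.GC
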