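/-
Fusion systems on a Sylow `p`-subgroup of `G₂(q)`: automorphisms of `S`, and of `Q₂` for `p = 2`.
-/
import Cfsg.Agent.H23.GC1

set_option autoImplicit false
set_option linter.unusedSectionVars false
set_option linter.unusedSimpArgs false
set_option linter.unusedVariables false

namespace H23.GC
open Subgroup H25 H25.GC H25.GC.Gc H2.G
open H8.PU hiding Co Wt Wy Md Ac2 G2 S2 N2 E2 TR MD SY Bo LH AV
universe u v
variable {K : Type v} [Field K] [Finite K] {Γ : Type u} [Group Γ] [Finite Γ] {p : ℕ} [Fact p.Prime]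
  {S P A B D X Y W : Subgroup Γ} {ev : Gc K →* Γ} {v w g : Γ}

theorem au : AU K Γ := fun S ev h g hg g1 g2 g3 => by
  choose G _ e using fun c => h.ex (conj_mem_of_mem_nz hg (h.mS c))
  have mul : ∀ c d, G (c * d) = G c * G d := fun c d => h.inj (by rw [map_mul, e, e, e, map_mul, cj_mul'])
  have n : ∀ {X : Subgroup (Gc K)}, g ∈ nz (X.map ev) → ∀ {c}, G c ∈ X ↔ c ∈ X := fun k c =>
    ⟨fun a => h.mm.1 (by simpa [e, mul_assoc] using conj_mem_of_mem_nz' k (h.mm.2 a)),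
      fun a => h.mm.1 (e c ▸ conj_mem_of_mem_nz k (h.mm.2 a))⟩
  have q1 := @n _ g1
  have q2 := @n _ g2
  have z3 := @n _ g3
  have sp : ∀ c d, G d = G c * G (c⁻¹ * d) := fun c d => by rw [← mul, mul_inv_cancel_left]
  have cm : ∀ c d, G (c * d * c⁻¹ * d⁻¹) = G c * G d * (G c)⁻¹ * (G d)⁻¹ := fun c d => h.inj (by
    simp only [map_mul, map_inv, e, cj_cm])
  obtain ⟨A, hA⟩ : ∃ A : K → K, ∀ c, (G c).a = A c.a := ⟨fun a => (G (xa a)).a, fun c => by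
    rw [sp (xa c.a) c, mul_a, mQ1.1 (q1.2 (show (xa c.a)⁻¹ * c ∈ Q1 K by simp [mQ1])), add_zero]⟩
  obtain ⟨B, hB⟩ : ∃ B : K → K, ∀ c, (G c).u = B c.u := ⟨fun a => (G (xu a)).u, fun c => by
    rw [sp (xu c.u) c, mul_u, mQ2.1 (q2.2 (show (xu c.u)⁻¹ * c ∈ Q2 K by simp [mQ2])), add_zero]⟩
  have ha : ∀ x y, A (x + y) = A x + A y := fun x y => (hA (xa x * xa y)).symm.trans (by rw [mul, mul_a, hA, hA]; rfl)
  have a0 : ∀ x, A x = 0 → x = 0 := fun x k => q1.1 ((hA (xa x)).trans k)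
  have a1 : A 1 ≠ 0 := fun k => one_ne_zero (a0 1 k)
  have b1 : B 1 ≠ 0 := fun k => one_ne_zero (mQ2.1 (q2.1 ((hB (xu 1)).trans k)))
  have hC : ∀ a u, (G (xs (a * u))).s = A a * B u := fun a u => by
    have := mZ3.1 (z3.2 (show (xu u * xa a * (xu u)⁻¹ * (xa a)⁻¹)⁻¹ * xs (a * u) ∈ Z3 K by simp [mZ3]))
    rw [sp (xu u * xa a * (xu u)⁻¹ * (xa a)⁻¹), mul_s, this.1, this.2.2, cm, cm_s, hA, hB, mQ2.1 (q2.2 (show xa a ∈ Q2 K from rfl))]
    simp
  have hu : ∀ a u, A (a * u) * B 1 = A a * B u := fun a u => by rw [← hC, ← hC, mul_one]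
  have hb : ∀ u, B u = B 1 * (A u / A 1) := fun u => by
    have := hu 1 u
    rw [one_mul] at this
    field_simp
    linear_combination -this
  let f : K →+* K :=
    { toFun := fun x => A x / A 1
      map_one' := div_self a1
      map_zero' := by rw [show A 0 = 0 by simpa using ha 0 0, zero_div]
      map_add' := fun x y => by rw [ha, add_div]
      map_mul' := fun x y => by
        have := hu x y
        rw [hb y] at this
        field_simp at this ⊢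
        linear_combination this }
  refine ⟨A 1, B 1, .ofBijective f (Finite.injective_iff_bijective.1 f.injective), a1, b1, fun c c' k => ?_⟩
  obtain rfl : c' = G c := h.inj (k.symm.trans (e c).symm)
  exact ⟨(hA c).trans (by show _ = A 1 * (A c.a / A 1); field_simp), (hB c).trans (hb _)⟩

section two
variable [CharP K 2]
attribute [local instance] Nat.fact_prime_two

/-- the centralizers in `Q₂` of the involutions outside `Z₂` -/
def Fam (ev : Gc K →* Γ) (X : Subgroup Γ) : Prop :=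
  X = (Z3 K).map ev ∨ X = (Ys K).map ev ∨ ∃ l, X = cj (ev (xu l)) ((Ya K).map ev)
theorem mem_E (h : Co S ev) {c : Gc K} {Y : Subgroup Γ} (hY : Y ≤ (Q2 K).map ev)
    (k : ∀ d : Gc K, d.u = 0 → (c * d = d * c ↔ ev d ∈ Y)) : (Q2 K).map ev ⊓ cz (zpowers (ev c)) = Y := by
  have k' : ∀ d : Gc K, ev d ∈ cz (zpowers (ev c)) ↔ c * d = d * c := fun d => by
    rw [← zpowers_le, le_cz_comm, zpowers_le, mem_cz']
    exact ⟨fun k => h.inj (by simpa using (k _ (mem_zpowers _)).symm), fun k _ ⟨n, e⟩ =>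
      e ▸ ((show Commute (ev c) (ev d) by simpa [Commute, SemiconjBy] using congrArg ev k).zpow_right n).symm⟩
  refine le_antisymm ?_ fun w hw => ?_
  · rintro _ ⟨⟨d, hd, rfl⟩, k1⟩
    exact (k d hd).1 ((k' d).1 k1)
  · obtain ⟨d, hd, rfl⟩ := hY hw
    exact ⟨h.mm.2 hd, (k' d).2 ((k d hd).2 hw)⟩
theorem E3 (h : Co S ev) {c : Gc K} (hc : c ∈ Z3 K) (r0 : c.r ≠ 0) : (Q2 K).map ev ⊓ cz (zpowers (ev c)) = (Z3 K).map ev :=
  mem_E h (h.l34.trans h.l42) fun d hd => by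
    have := h2 (K := K)
    gs h [] at hc
    gs h [hc, hd]
    grind
theorem Es' (h : Co S ev) {c : Gc K} (hc : c ∈ Ys K) (r0 : c.s ≠ 0) : (Q2 K).map ev ⊓ cz (zpowers (ev c)) = (Ys K).map ev :=
  mem_E h (h.ls4.trans h.l42) fun d hd => by
    have := h2 (K := K)
    gs h [] at hc
    gs h [hc, hd]
    refine ⟨fun k => ?_, fun k => by grind⟩
    have : d.a = 0 := by
      have : c.s * d.a ^ 2 = 0 := by grind
      simpa [r0] using this
    grind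
theorem mY (h : Co S ev) {l : K} {d : Gc K} :
    ev d ∈ cj (ev (xu l)) ((Ya K).map ev) ↔ d.u = 0 ∧ d.s = l * d.a ∧ d.r = l * d.a ^ 2 := by
  have := h2 (K := K)
  rw [mem_cj]
  gs h []
  grind
theorem fam0 (h : Co S ev) {c : Gc K} (u0 : c.u = 0) (k : ev c ^ 2 = 1) (n : c ∉ Z2 K) :
    Fam ev ((Q2 K).map ev ⊓ cz (zpowers (ev c))) := by
  have := h2 (K := K)
  rw [pow_two] at k
  gs h [u0] at k n
  by_cases a0 : c.a = 0
  · by_cases s0 : c.s = 0
    · exact .inl (E3 h ⟨a0, u0, s0⟩ fun r0 => n ⟨a0, s0, r0⟩)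
    · exact .inr (.inl (Es' h ⟨a0, u0, by grind⟩ s0))
  have r0 : c.r = c.a * c.s := by grind
  obtain ⟨l, hl⟩ : ∃ l, c.s = l * c.a := ⟨c.s / c.a, by field_simp⟩
  refine .inr (.inr ⟨l, mem_E h (fun w hw => ?_) fun d hd => ?_⟩)
  · obtain ⟨d, -, rfl⟩ := h.ex (cj_le_of_mem (h.mS _) (h.le _) hw)
    exact h.mm.2 ((mY h).1 hw).1
  rw [mY h]
  gs h [u0, hd, r0, hl]
  refine ⟨fun k => ?_, fun k => by grind⟩
  have k1 : d.r = l * d.a ^ 2 + c.a * (d.s - l * d.a) := by grind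
  have : d.s - l * d.a = 0 := by
    have : c.a * (d.s - l * d.a) ^ 2 = 0 := by grind
    simpa [a0] using this
  grind
theorem z2 (h : Co S ev) (hg : g ∈ nz ((Q2 K).map ev)) : g ∈ nz ((Z2 K).map ev) :=
  nz_of_cz (fun w => ⟨fun k => ⟨h.l42 (h.l34 (h.l23 k)), h.c2Z.symm.cz k⟩, fun ⟨⟨c, hc, k⟩, k'⟩ => by
    subst k
    have := h2 (K := K)
    have k1 := mem_cz'.1 k' (ev (xr 1)) (by gs h [])
    have k2 := mem_cz'.1 k' (ev (xs 1)) (by gs h [])
    gs h [] at hc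
    gs h [hc] at k1 k2 ⊢
    grind⟩) hg hg
theorem fam1 (h : Co S ev) (hg : g ∈ nz ((Q2 K).map ev)) {c : Gc K} (u0 : c.u = 0) (k : ev c ^ 2 = 1) (n : c ∉ Z2 K) :
    Fam ev (cj g ((Q2 K).map ev ⊓ cz (zpowers (ev c)))) := by
  obtain ⟨d, hd, e⟩ := conj_mem_of_mem_nz hg (h.mm.2 u0 : ev c ∈ (Q2 K).map ev)
  rw [cj_inf, mem_nz.1 hg, cj_cz, cj_zpowers, ← e]
  exact fam0 h hd (by rw [e, conj_pow, k]; simp) fun z => not_cj (z2 h hg) (fun k => n (h.mm.1 k)) (e ▸ h.mm.2 z)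
theorem fam3 (h : Co S ev) (hg : g ∈ nz ((Q2 K).map ev)) : Fam ev (cj g ((Z3 K).map ev)) :=
  E3 h (c := xr 1) ⟨rfl, rfl, rfl⟩ one_ne_zero ▸ fam1 h hg rfl (h.pw3 (by gs h [])) (by simp [mZ2])
theorem fams (h : Co S ev) (hg : g ∈ nz ((Q2 K).map ev)) : Fam ev (cj g ((Ys K).map ev)) :=
  Es' h (c := xs 1) ⟨rfl, rfl, rfl⟩ one_ne_zero ▸ fam1 h hg rfl (by
    have := h2 (K := K)
    rw [pow_two]; gs h []; grind) (by simp [mZ2])

theorem no3s (h : Co S ev) (e : Es 2 S ((Q2 K).map ev) A) (hg : g ∈ A) : cj g ((Z3 K).map ev) ≠ (Ys K).map ev := fun k => by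
  have nT : ∀ X : Subgroup (Gc K), Z2 K ≤ X → X ≤ Z4 K → ai S ((Q2 K).map ev) ≤ nz (X.map ev) := fun X h1 h2 =>
    ai_le (inf_le_left.trans ((cS4 h).nz' (map_mono h2) (map_mono h1))) ((cz_anti ((map_mono h2).trans h.l42)).trans (cz_le_nz _))
  have n3 := nT (Z3 K) (fun c k => ⟨k.1, k.2.1, k.2.2.1⟩) fun c k => ⟨k.1, k.2.1⟩
  have ns := nT (Ys K) (fun c k => ⟨k.1, k.2.1, k.2.2.2⟩) fun c k => ⟨k.1, k.2.1⟩
  have ne : (Z3 K).map ev ≠ (Ys K).map ev := fun c => by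
    have := c.le (show ev (xr 1) ∈ _ by gs h [])
    gs h [] at this
    exact one_ne_zero this
  obtain ⟨x, hx, c⟩ := e.cjX (le_inf e.nA ns) inf_le_left hg
    (le_inf (cj_le_of_mem hg e.nA) ((cj_mono g n3).trans (by rw [cj_nz, k])))
  rw [cj_cj] at c
  have nA := mul_mem hx.1 hg
  have k1 : cj (x * g) ((Z3 K).map ev) = (Ys K).map ev := by rw [← cj_cj, k, mem_nz.1 hx.2]
  generalize x * g = n at c nA k1
  have nn : n ∈ nz (ai S ((Q2 K).map ev)) := mem_nz.2 (cj_eq_of_le c)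
  rcases fams h (e.An nA) with k2 | k2 | ⟨l, k2⟩
  · obtain ⟨j, m, ⟨i, rfl⟩, o⟩ := Nat.exists_eq_two_pow_mul_odd (orderOf_pos n).ne'
    have k3 : n ^ (2 * i + 1) ∈ ai S ((Q2 K).map ev) :=
      (e.syl.mono_right (le_inf e.nA (le_nz_self _)) inf_le_left).mem_of_pel inf_le_right (pow_mem (mem_inf.2 ⟨nA, nn⟩) _)
        ⟨j, by rw [← pow_mul, mul_comm, ← o, pow_orderOf_eq_one]; exact one_mem _⟩
    have k4 : n ^ 2 ∈ nz ((Z3 K).map ev) := mem_nz.2 (by rw [pow_two, ← cj_cj, k1, k2])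
    have := n3 k3
    rw [pow_succ, pow_mul, mul_mem_cancel_left (pow_mem k4 _)] at this
    exact ne ((mem_nz.1 this).symm.trans k1)
  · exact ne (cj_inj.1 (k1.trans k2.symm))
  · have k3 : ev (xu 1) ∈ nz (cj n ((Ys K).map ev)) := by
      rw [← cj_nz]
      exact cj_mono n ns ((mem_nz.1 nn).ge (mem_ai_of_mem (h.mS _) (h.cSS.nz' (h.le _) h.l42 (h.mS _))))
    have := conj_mem_of_mem_nz (k2 ▸ k3) ((mY h (d := el 1 0 l l)).2 (by simp))
    rw [h.mul, h.inv, h.mul, mY h] at this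
    simp at this
end two

theorem g3 [CharP K p] : G3 K Γ p := fun p2 S A ev h e => by
  subst p2
  have t2 := h2 (K := K)
  refine (em _).imp_right fun n => ?_
  obtain ⟨g, hg, k⟩ := SetLike.not_le_iff_exists.1 n
  have uA : ∀ l, ev (xu l) ∈ A := fun l => e.mA (h.mS _) (h.cSS.nz' (h.le _) h.l42 (h.mS _))
  obtain ⟨g, hg, k⟩ : ∃ g ∈ A, cj g ((Z3 K).map ev) = (Ya K).map ev := by
    rcases fam3 h (e.An hg) with k1 | k1 | ⟨l, k1⟩
    · exact absurd (mem_nz.2 k1) k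
    · exact absurd k1 (no3s h e hg)
    · exact ⟨_, mul_mem (inv_mem (uA l)) hg, by rw [← cj_cj, k1, cj_inv_cj]⟩
  have ns : A ≤ nz ((Ys K).map ev) := fun x hx => by
    rcases fams h (e.An hx) with k1 | k1 | ⟨l, k1⟩
    · exact absurd (cj_eq_iff.1 k1).symm (no3s h e (inv_mem hx))
    · exact mem_nz.2 k1
    · exact absurd (by rw [← cj_cj, ← cj_cj, k, ← k1, cj_inv_cj])
        (no3s h e (mul_mem (mul_mem (inv_mem hx) (uA l)) hg))
  refine ⟨fun x => ?_, ns⟩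
  have n2 := z2 h (e.An hg)
  choose C hC eC using fun s : K => conj_mem_of_mem_nz (ns hg) (show ev (xs s) ∈ (Ys K).map ev by gs h [])
  obtain ⟨_, ⟨d, hd, rfl⟩, ed⟩ := mem_cj'.1 (k.ge (show ev (xa 1) ∈ (Ya K).map ev by gs h []))
  obtain ⟨_, ⟨d', hd', rfl⟩, ed'⟩ := mem_cj'.1 (k.ge (show ev (xa x) ∈ (Ya K).map ev by gs h []))
  have r0 : d.r ≠ 0 := fun z => by
    have := ed ▸ conj_mem_of_mem_nz n2 (h.mm.2 (show d ∈ Z2 K from ⟨hd.1, hd.2.1, hd.2.2, z⟩))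
    gs h [] at this
    exact one_ne_zero this
  have c0 : (C 1).s ≠ 0 := fun z => by
    have := not_cj n2 (show ev (xs 1) ∉ _ by gs h []; exact one_ne_zero)
    exact this (eC 1 ▸ h.mm.2 ⟨(hC 1).1, (hC 1).2.1, z, (hC 1).2.2⟩)
  have k1 : ev (xs 1) * ev d' * (ev (xs 1))⁻¹ * (ev d')⁻¹ =
      ev (xs (d'.r / d.r)) * ev d * (ev (xs (d'.r / d.r)))⁻¹ * (ev d)⁻¹ := by
    gs h [] at hd hd'
    gs h [hd, hd']
    field_simp
    cg
  have k2 := congrArg (fun w => g * w * g⁻¹) k1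
  simp only [cj_cm, ed, ed', ← eC] at k2
  have h1 := hC 1
  have h1' := hC (d'.r / d.r)
  gs h [] at h1 h1'
  gs h [h1, h1'] at k2
  refine mul_left_cancel₀ (pow_ne_zero 2 c0) ?_
  grind

end H23.GC
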