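import Cfsg.Agent.H23.GD3
import Cfsg.Agent.H19.Amb6
import Cfsg.Agent.H3.Transfer
import Cfsg.Agent.H10.ZStar3
import Cfsg.Agent.S0016
import Cfsg.Agent.S4294

/-! Abelian subgroups, odd `p`-subgroups and centres of finite subgroups of `GL₂(D)`. -/

set_option autoImplicit false
set_option linter.unusedSectionVars false

namespace H23.GD
open Finset H19
open scoped MatrixGroups

section geom
variable {G R : Type*} [Group G] [Finite G] [Ring R] [Algebra ℚ R] (ρ : G →* R)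

/-- the idempotent attached to an element of order `p` -/
noncomputable def ge (p : ℕ) (x : G) : R := (p : ℚ)⁻¹ • ∑ k ∈ range p, ρ x ^ k

variable {ρ} {p : ℕ} {x : G}

theorem ge_idem (hp : p.Prime) (h : x ^ p = 1) : ge ρ p x * ge ρ p x = ge ρ p x :=
  geom_idem (by rw [← map_pow, h, map_one]) (Nat.cast_ne_zero.2 hp.ne_zero)

theorem mul_ge (h : x ^ p = 1) : ρ x * ge ρ p x = ge ρ p x := by
  rw [ge, mul_smul_comm, shift (by rw [← map_pow, h, map_one])]

theorem ge_ne_one (hρ : Function.Injective ρ) (h : x ^ p = 1) (h1 : x ≠ 1) : ge ρ p x ≠ 1 := fun k =>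
  h1 (hρ (by rw [← mul_one (ρ x), ← k, mul_ge h, k, map_one]))

theorem conj_ge (g : G) : ρ g * ge ρ p x = ge ρ p (g * x * g⁻¹) * ρ g := by
  rw [ge, ge, mul_smul_comm, smul_mul_assoc, mul_sum, sum_mul]
  congr 1
  refine sum_congr rfl fun k _ => ?_
  simp only [← map_pow, ← map_mul, conj_pow, inv_mul_cancel_right]

theorem comm_ge {a : R} (h : a * ρ x = ρ x * a) : a * ge ρ p x = ge ρ p x * a := by
  rw [ge, mul_smul_comm, smul_mul_assoc, mul_sum, sum_mul]
  exact congrArg _ (sum_congr rfl fun k _ => (Commute.pow_right h k).eq)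

theorem exists_ge_ne [Nontrivial R] (hp : p.Prime) {V : Subgroup G} (hV : ∀ a ∈ V, a ^ p = 1) (h0 : V ≠ ⊥)
    (hc : #V ≠ p) : ∃ x ∈ V, x ≠ 1 ∧ ge ρ p x ≠ 0 := by
  classical
  by_contra! n
  haveI := Fintype.ofFinite V
  have p0 : (p : ℚ) ≠ 0 := Nat.cast_ne_zero.2 hp.ne_zero
  have n' : ∀ x : V, x ≠ 1 → ∑ k ∈ range p, ρ x ^ k = 0 := fun x h => by
    simpa [ge, p0] using n x x.2 (fun e => h (Subtype.ext e))
  have a : ∑ x : V, ∑ k ∈ range p, ρ x ^ k = (p : ℚ) • 1 := by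
    rw [sum_eq_single 1 (fun x _ => n' x) (by simp)]; simp [Nat.cast_smul_eq_nsmul]
  have b : ∑ x : V, ρ x = 0 := by
    obtain ⟨x, hx, h1⟩ := exists_ne_one h0
    have := congrArg (av ρ V * ·) (n' ⟨x, hx⟩ (fun e => h1 (congrArg Subtype.val e)))
    simp only [mul_sum, ← map_pow, av_mul (pow_mem hx _), sum_const, card_range, mul_zero,
      ← Nat.cast_smul_eq_nsmul ℚ, smul_eq_zero, p0, false_or] at this
    rw [av_eq, smul_eq_zero, inv_eq_zero, Nat.cast_eq_zero] at this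
    exact this.resolve_left (card_ne_zero V)
  rw [sum_comm, sum_eq_single 0 (fun k hk k0 => ?_) (by simp [hp.ne_zero])] at a
  · simp only [pow_zero, sum_const, card_univ, ← Nat.cast_smul_eq_nsmul ℚ] at a
    exact hc (by rw [Nat.card_eq_fintype_card]; exact_mod_cast smul_left_injective ℚ one_ne_zero a)
  · obtain ⟨m, hm⟩ := (pg_of_pow hp hV).exists_card
    have c : (#V).Coprime k := hm ▸ (Nat.coprime_of_lt_prime k0 (mem_range.1 hk) hp).pow_left m
    rw [← b]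
    exact Fintype.sum_equiv (powCoprime c) _ _ fun x => by simp

end geom

variable {D : Type*} [DivisionRing D] [CharZero D]

section dv
variable {X : Type*} [Group X] [Finite X] {φ : X →* D} {p : ℕ}

theorem dv_el (hφ : Function.Injective φ) (hp : p.Prime) {V : Subgroup X} (hV : ∀ a ∈ V, a ^ p = 1)
    (h0 : V ≠ ⊥) : #V = p := by
  by_contra hc
  obtain ⟨x, hx, h1, h⟩ := exists_ge_ne (ρ := φ) hp hV h0 hc
  exact ge_ne_one hφ (hV x hx) h1 ((idem_cases (ge_idem hp (hV x hx))).resolve_left h)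

theorem dv_cyc (hφ : Function.Injective φ) {P : Subgroup X} (hP : PG p P) (ho : Odd #P) : Cyc P := by
  by_contra n
  obtain ⟨E, e, -⟩ := hP.exists_normal_el2 ho (.refl _) n
  have := dv_el hφ e.prime e.ab.2 e.ne_bot
  rw [e.card] at this
  exact (Nat.pow_lt_pow_right e.prime.one_lt one_lt_two).ne' (this.trans (pow_one p).symm)

/-- the image of a finite group in `Dˣ` -/
abbrev Im (φ : X →* D) := φ.toHomUnits.range
/-- the embedding of the image -/
def emb (φ : X →* D) : Im φ →* D := (Units.coeHom D).comp (Subgroup.subtype _)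
theorem emb_inj : Function.Injective (emb φ) := Units.val_injective.comp Subtype.val_injective
/-- the projection onto the image -/
abbrev onto (φ : X →* D) : X →* Im φ := φ.toHomUnits.rangeRestrict
@[simp] theorem emb_onto (x : X) : emb φ (onto φ x) = φ x := rfl
instance : Finite (Im φ) := Finite.of_surjective _ (φ.toHomUnits.rangeRestrict_surjective)

theorem PiN.mp {Y : Type*} [Group Y] {π : Set ℕ} {P : Subgroup X} (hP : PiG π P) (f : X →* Y) : PiG π (P.map f) :=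
  hP.dvd (Subgroup.card_map_dvd _ _)

theorem dv_comm {P : Subgroup X} (hP : PG p P) (ho : Odd #P) {a b : X} (ha : a ∈ P) (hb : b ∈ P) :
    φ a * φ b = φ b * φ a := by
  have := mul_comm_of_comm (comm_of_cyclic (dv_cyc (emb_inj (φ := φ)) (PiN.mp hP (onto φ))
    (ho.of_dvd_nat (Subgroup.card_map_dvd _ _)))) (Subgroup.mem_map_of_mem _ ha) (Subgroup.mem_map_of_mem _ hb)
  simpa using congrArg (emb φ) this

theorem perf_cyc {K P : Subgroup X} (hK : ⁅K, K⁆ = K) (hn : K ≤ N(P)) (hP : Cyc P) : K ≤ C(P) := by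
  letI := (hP.mulAutMulEquiv _).toMonoidHom.commGroupOfInjective (hP.mulAutMulEquiv _).injective
  have e : im P.normalizerMonoidHom K = ⊥ := sol_eq_bot_of_le_der inferInstance (by rw [← im_comm hn hn, hK])
  intro x hx
  have : (⟨x, hn hx⟩ : N(P)) ∈ P.normalizerMonoidHom.ker := Subgroup.mem_bot.1 (e.le (mem_im_of hx))
  rwa [Subgroup.normalizerMonoidHom_ker] at this

theorem dv_perf {K P : Subgroup X} (hK : ⁅K, K⁆ = K) (hn : K ≤ N(P)) (hP : PG p P) (ho : Odd #P) {a b : X}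
    (ha : a ∈ K) (hb : b ∈ P) : φ b * φ a = φ a * φ b := by
  have := perf_cyc (K := K.map (onto φ)) (by rw [← Subgroup.map_commutator, hK])
    ((Subgroup.map_mono hn).trans (Subgroup.le_normalizer_map _))
    (dv_cyc (emb_inj (φ := φ)) (PiN.mp hP (onto φ)) (ho.of_dvd_nat (Subgroup.card_map_dvd _ _)))
    (Subgroup.mem_map_of_mem _ ha) _ (Subgroup.mem_map_of_mem _ hb)
  simpa using congrArg (emb φ) this

theorem dv_two (hX : IsPGroup 2 X) {ζ : D} (h : ζ * ζ = -1) (hc : ∀ x, φ x * ζ = ζ * φ x) (a b : X) :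
    φ a * φ b = φ b * φ a := by
  have u : ∀ x : Im φ, x * x = 1 → x ≠ 1 → emb φ x = -1 := fun x h2 h1 =>
    (sq_one (by rw [← map_mul, h2, map_one])).resolve_left fun e => h1 (emb_inj (e.trans (map_one _).symm))
  suffices ∀ a b : Im φ, a * b = b * a by simpa using congrArg (emb φ) (this (onto φ a) (onto φ b))
  rcases Cfsg.Agent.S0016.result 2 (hX.of_surjective _ φ.toHomUnits.rangeRestrict_surjective) (fun H K h1 h2 => by
    obtain ⟨x, hx, o⟩ := exists_orderOf_eq_prime Nat.prime_two h1.symm.dvd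
    obtain ⟨y, hy, o'⟩ := exists_orderOf_eq_prime Nat.prime_two h2.symm.dvd
    rw [orderOf_eq_prime_iff, sq] at o o'
    rw [← eq_zpowers_of_prime (h1 ▸ Nat.prime_two) hx o.2, ← eq_zpowers_of_prime (h2 ▸ Nat.prime_two) hy o'.2,
      emb_inj ((u x o.1 o.2).trans (u y o'.1 o'.2).symm)]) with c | ⟨-, n, ⟨e⟩⟩
  · exact fun a b => (IsCyclic.commGroup (α := Im φ)).mul_comm a b
  have z : ∀ i, ∀ y, e.symm (.xa i) * y = y * e.symm (.xa i) := fun i y => by
    have o := QuaternionGroup.orderOf_xa (n := 2 ^ n) i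
    have h1 := u (e.symm (.xa i * .xa i)) (by rw [← map_mul, ← map_one e.symm, ← pow_orderOf_eq_one, o]; simp only [pow_succ, pow_zero, one_mul, mul_assoc])
      fun k => by
        have := orderOf_dvd_of_pow_eq_one ((sq _).trans ((MulEquiv.map_eq_one_iff _).1 k))
        rw [o] at this; omega
    obtain ⟨w, rfl⟩ := φ.toHomUnits.rangeRestrict_surjective y
    obtain ⟨v, hv⟩ := φ.toHomUnits.rangeRestrict_surjective (e.symm (.xa i))
    have h2 : φ v * φ v = ζ * ζ := by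
      rw [h, ← h1, ← emb_onto, ← map_mul, hv, ← map_mul]
    apply emb_inj
    rcases eq_of_sq h2 (hc v) with k | k <;> simp [← hv, k, hc]
  intro a b
  obtain ⟨a, rfl⟩ := e.symm.surjective a
  obtain ⟨b, rfl⟩ := e.symm.surjective b
  rcases a with i | i
  · rcases b with j | j
    · simp [← map_mul, add_comm]
    · exact (z j _).symm
  · exact z i _

theorem dv_sl (h : ¬ Group.IsSolvable (Im φ)) : Nonempty (Im φ ≃* SL(2, ZMod 5)) := Cfsg.Agent.S4294.result _ h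

end dv

variable {G : Type*} [Group G] [Finite G] {ρ : G →* M D} {p : ℕ}

/-- a diagonal entry as a homomorphism -/
def pr (ρ : G →* M D) (X : Subgroup G) (h : ∀ g ∈ X, ρ g = dg (ρ g 0 0) (ρ g 1 1)) (i : Fin 2) : X →* D where
  toFun g := ρ g i i
  map_one' := by simp
  map_mul' a b := by
    rw [Subgroup.coe_mul, map_mul, h a a.2, h b b.2]
    fin_cases i <;> simp

theorem PI.two {e : M D} (he : PI e) (ρ : G →* M D) : ∃ (ψ : M D ≃+* M D) (a b : St ρ e →* D),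
    ψ e = dg 1 0 ∧ ∀ g : St ρ e, ψ (ρ g) = dg (a g) (b g) := by
  obtain ⟨U, hU⟩ := he.conj
  have h : ∀ g ∈ St ρ e, ((cjM U).toMonoidHom.comp ρ) g = dg (cjM U (ρ g) 0 0) (cjM U (ρ g) 1 1) := fun g hg =>
    dg_of_comm (by rw [← hU]; exact (map_mul (cjM U) _ _).symm.trans ((congrArg _ hg).trans (map_mul (cjM U) _ _)))
  exact ⟨cjM U, pr _ _ h 0, pr _ _ h 1, hU, fun g => h g g.2⟩

theorem Red.two (hρ : Function.Injective ρ) {X : Subgroup G} (h : Red ρ X) : ∃ a b : X →* D,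
    (∀ g h, a g = a h → b g = b h → g = h) ∧ ∀ g : X, ρ g = -1 → a g = -1 ∧ b g = -1 := by
  obtain ⟨e, he, h⟩ := h
  obtain ⟨ψ, a, b, -, k⟩ := he.two ρ
  have l : X ≤ St ρ e := h
  refine ⟨a.comp (Subgroup.inclusion l), b.comp (Subgroup.inclusion l), fun g h h1 h2 =>
    Subtype.ext (hρ (ψ.injective ((k ⟨g, l g.2⟩).trans (Eq.trans ?_ (k ⟨h, l h.2⟩).symm)))), fun g hg => ?_⟩
  · exact congrArg₂ dg h1 h2
  · exact dg_eq_neg_one.1 ((k ⟨g, l g.2⟩).symm.trans (by rw [hg, map_neg, map_one]))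

theorem sw_of_conj {e f : M D} (he : PI e) {g : G} (h : ρ g * e = f * ρ g) (c : f * e = e * f) : Sw ρ e g := by
  have : f = cjM (ρ.toHomUnits g)⁻¹ e := by
    rw [cjM_apply, inv_inv, ← map_inv, MonoidHom.coe_toHomUnits, MonoidHom.coe_toHomUnits, h, mul_assoc, ← map_mul]; simp
  exact (he.comm (this ▸ he.map _) c).imp (fun k => by rw [h, k]) fun k => by rw [h, k]

theorem lin (hρ : Function.Injective ρ) (hp : p.Prime) {V : Subgroup G} (hV : ∀ a ∈ V, a ^ p = 1) (h0 : V ≠ ⊥)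
    (hc : #V ≠ p) : ∃ e, PI e ∧ ∃ x ∈ V, x ≠ 1 ∧ ρ x * e = e ∧ C[x] ≤ St ρ e ∧
      ∀ g, g * x * g⁻¹ ∈ C[x] → Sw ρ e g := by
  obtain ⟨x, hx, h1, h⟩ := exists_ge_ne (ρ := ρ) hp hV h0 hc
  have e : PI (ge ρ p x) := ⟨ge_idem hp (hV x hx), h, ge_ne_one hρ (hV x hx) h1⟩
  have c : ∀ g ∈ C[x], ρ g * ρ x = ρ x * ρ g := fun g hg => by rw [← map_mul, mem_cent1.1 hg, map_mul]
  exact ⟨_, e, x, hx, h1, mul_ge (hV x hx), fun g hg => comm_ge (c g hg), fun g hg =>
    sw_of_conj e (conj_ge g) (comm_ge (comm_ge (c _ hg).symm).symm)⟩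

theorem odd_ab (hρ : Function.Injective ρ) {P : Subgroup G} (hP : PG p P) (ho : Odd #P) : Ab P := by
  by_cases n : Cyc P
  · exact comm_of_cyclic n
  obtain ⟨E, e, hE⟩ := hP.exists_normal_el2 ho (.refl _) n
  obtain ⟨f, hf, x, hx, -, -, -, h⟩ := lin hρ e.prime e.ab.2 e.ne_bot (by
    rw [e.card]; exact (Nat.pow_lt_pow_right e.prime.one_lt one_lt_two).ne' ∘ (·.trans (pow_one p).symm))
  obtain ⟨a, b, i, -⟩ := Red.two hρ (X := P) ⟨f, hf, fun g hg => (h g (mem_cent1.2 (mul_comm_of_comm e.comm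
    (conj_mem_of_norm (hE hg) hx) hx))).odd (ho.of_dvd_nat (orderOf_dvd_card' hg))⟩
  have t : PG p (⊤ : Subgroup P) := by rwa [PG, PiG, Subgroup.card_top]
  have o : Odd #(⊤ : Subgroup P) := by rwa [Subgroup.card_top]
  exact ⟨⟨fun g h => i _ _ (by simpa using dv_comm t o trivial trivial) (by simpa using dv_comm t o trivial trivial)⟩⟩

theorem perf_odd (hρ : Function.Injective ρ) {K P : Subgroup G} (hK : ⁅K, K⁆ = K) (hn : K ≤ N(P)) (hP : PG p P)
    (ho : Odd #P) : K ≤ C(P) := by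
  by_cases n : Cyc P
  · exact perf_cyc hK hn n
  have ab := odd_ab hρ hP ho
  obtain ⟨E, e⟩ := hP.exists_el2 ho n
  obtain ⟨f, hf, x, hx, -, -, c, h⟩ := lin hρ e.prime e.ab.2 e.ne_bot (by
    rw [e.card]; exact (Nat.pow_lt_pow_right e.prime.one_lt one_lt_two).ne' ∘ (·.trans (pow_one p).symm))
  have l : K ⊔ P ≤ St ρ f := sup_le (le_St hK fun g hg => h g (mem_cent1.2 (mul_comm_of_comm ab
    (conj_mem_of_norm (hn hg) (e.le hx)) (e.le hx)))) fun g hg => c (mem_cent1.2 (mul_comm_of_comm ab hg (e.le hx)))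
  obtain ⟨a, b, i, -⟩ := Red.two hρ (X := K ⊔ P) ⟨f, hf, l⟩
  have k1 : ⁅K.subgroupOf (K ⊔ P), K.subgroupOf (K ⊔ P)⁆ = K.subgroupOf (K ⊔ P) :=
    Subgroup.map_injective (Subgroup.subtype_injective _) (by
      rw [Subgroup.map_commutator, Subgroup.map_subgroupOf_eq_of_le le_sup_left, hK])
  have k2 : K.subgroupOf (K ⊔ P) ≤ N(P.subgroupOf (K ⊔ P)) :=
    (Subgroup.comap_mono hn).trans (Subgroup.le_normalizer_comap _)
  have k3 := card_subgroupOf' (le_sup_right : P ≤ K ⊔ P)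
  intro g hg y hy
  have k := fun φ : ↥(K ⊔ P) →* D => dv_perf (φ := φ) k1 k2 (by rwa [PG, PiG, k3]) (k3 ▸ ho)
    (a := ⟨g, le_sup_left (b := P) hg⟩) (b := ⟨y, le_sup_right (a := K) hy⟩) hg hy
  simp only [← map_mul] at k
  exact congrArg Subtype.val (i _ _ (k a) (k b))

theorem odd_center (hρ : Function.Injective ρ) (hG : commutator G = ⊤) {x : G} (hx : x ∈ Subgroup.center G)
    (hp : p.Prime) (h2 : p ≠ 2) (o : PiE {p} x) : x = 1 := by
  obtain ⟨R, hR, l⟩ := (piG_zpowers.2 o).exists_syl le_top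
  have := H3.inf_commutator_inf_center_le (H := R) (by simpa using hR.coprime)
    ⟨⟨l (Subgroup.mem_zpowers x), hG ▸ trivial⟩, hx⟩
  rwa [comm_iff_der.1 (odd_ab hρ hR.pi (Nat.coprime_two_right.1 ((hR.pi.sing_ne h2).coprime_prime Nat.prime_two))),
    Subgroup.mem_bot] at this

theorem no_e9 (hρ : Function.Injective ρ) (hp : p.Prime) (h2 : p ≠ 2) {V : Subgroup G} (hV : ∀ a ∈ V, a ^ p = 1)
    (h0 : V ≠ ⊥) (hc : #V ≠ p) {w u : G} (hw : ∀ x ∈ V, w * x * w⁻¹ = x⁻¹) (w2 : w * w = 1 ∨ ρ (w * w) = -1)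
    (hu : u ∈ C(V)) (c : u * w = w * u) (u2 : ρ (u * u) = -1) : False := by
  obtain ⟨e, he, x, hx, h1, k, l, h⟩ := lin hρ hp hV h0 hc
  have xs : x ∈ St ρ e := l (mem_cent1_self x)
  have ws : w ∈ St ρ e := (h w (hw x hx ▸ inv_mem (mem_cent1_self x))).resolve_right fun s => h1 (hρ (by
    have a := congrArg (ρ x * ρ w * ·) k
    simp only [mul_assoc (ρ x), ← mul_assoc (ρ w), s] at a
    rw [← map_mul, show w * x = x⁻¹ * w by rw [← hw x hx]; simp, map_mul, mul_assoc, s, ← mul_assoc,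
      ← mul_assoc, ← map_mul, mul_inv_cancel, map_one, one_mul, ← mul_assoc] at a
    have := congrArg (· * ρ w⁻¹) a
    simp only [mul_assoc, ← map_mul, mul_inv_cancel, map_one, mul_one, mul_sub, k] at this
    rw [map_one]; exact (sub_left_injective this).symm))
  have us : u ∈ St ρ e := l (mem_cent1.2 (hu x hx).symm)
  obtain ⟨ψ, a, b, e1, e2⟩ := he.two ρ
  have n : ∀ g : St ρ e, ρ g = -1 → b g = -1 := fun g hg =>
    (dg_eq_neg_one.1 ((e2 g).symm.trans (by rw [hg, map_neg, map_one]))).2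
  have a1 : a ⟨x, xs⟩ = 1 := by simpa [e1, e2 ⟨x, xs⟩] using congrArg ψ k
  have cx : b ⟨w, ws⟩ * b ⟨x, xs⟩ = b ⟨x, xs⟩ * b ⟨w, ws⟩ := by
    have ux : b ⟨u, us⟩ * b ⟨x, xs⟩ = b ⟨x, xs⟩ * b ⟨u, us⟩ := by
      rw [← map_mul, ← map_mul]; exact congrArg b (Subtype.ext (hu x hx).symm)
    rcases w2 with w2 | w2
    · rcases sq_one (a := b ⟨w, ws⟩) (by rw [← map_mul, ← map_one b]; exact congrArg b (Subtype.ext w2))
        with q | q <;> simp [q]
    · rcases eq_of_sq (a := b ⟨w, ws⟩) (b := b ⟨u, us⟩) (by rw [← map_mul, ← map_mul, n _ w2, n _ u2])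
        (by rw [← map_mul, ← map_mul]; exact congrArg b (Subtype.ext c.symm)) with q | q <;> simp [q, ux]
  have q : (⟨x, xs⟩ * (⟨w, ws⟩ * ⟨x, xs⟩) * ⟨w, ws⟩⁻¹ : St ρ e) = 1 := Subtype.ext (by
    change x * (w * x) * w⁻¹ = 1
    rw [mul_assoc, hw x hx, mul_inv_cancel])
  have q := congrArg b q
  rw [map_mul, map_mul, map_mul, cx, ← mul_assoc, mul_assoc, ← map_mul b ⟨w, ws⟩, mul_inv_cancel, map_one,
    mul_one] at q
  have : x ^ 2 = 1 := hρ (ψ.injective (by rw [sq, map_mul, map_mul, e2 ⟨x, xs⟩]; simp [a1, q]))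
  exact h1 (pow_eq_one_iff_of_coprime ((Nat.coprime_primes hp Nat.prime_two).2 h2) |>.1 ⟨hV x hx, this⟩)

end H23.GD
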