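import Cfsg.Agent.H10.KI.D1

/-! S1918: the trichotomy `TRI`. -/

set_option autoImplicit false
set_option linter.unusedSectionVars false
set_option maxRecDepth 100000
set_option synthInstance.maxSize 100000
set_option synthInstance.maxHeartbeats 400000

namespace H23.KI
open Cfsg Subgroup H19 H17.GS H6.UT H10.KI
universe u

def tab : ℕ := nat_lit 0x1831400060c50002449400091250000000000000000004250c00109430000000000000000000000000000000008028c00a00a300228852000a21480000000000000000000000000000000015032000540c8008304a0020c128000000000000000000000000000000004082a009020a80248901401224050000000000000000085081402142050000000000000000000000000000000013100c004c4030000000000000000020880c08822030200000000000000088241202209048000000000000000044421201110848000000000000000022440a00891028000000000000000010220a08408828260c001418300050912001424480050000000000000000000000000000000000000000000000000000000000000074000c01d0003008a000c82280032000000000000000000000000000000a00c012280300485012012140480480000000000000000000000000000000a1400a02850028040a00a8102802a000000000000000000000000000000000000000000000000000000000000c0009113000244430010910c0042440c01109030044240200889808022260180244406009110060424401810910018442400611090006222400188890001e014000780500001e140000785000001f4000007dfffffffffffffff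

/-- the set of maximal elementary subgroups of `Q0` containing `x` -/
def S (x : T) : ℕ := Nat.land (Nat.shiftRight tab (Nat.mul 30 (Nat.lor (Nat.lor (Nat.land x.v 31)
  (Nat.land (Nat.shiftRight x.v 2) 32)) (Nat.land (Nat.shiftRight x.v 3) 64)))) 1073741823
abbrev In (i : ℕ) (x : T) : Prop := Nat.testBit (S x) i = true

def sw (i j v : ℕ) : ℕ := Nat.xor v (Nat.mul (Nat.land (Nat.xor (Nat.shiftRight v i) (Nat.shiftRight v j)) 1)
  (Nat.add (Nat.pow 2 i) (Nat.pow 2 j)))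
noncomputable def gen (k : ℕ) (x : T) : T :=
  bif Nat.beq k 0 then mk (sw 2 3 (sw 4 7 x.v)) else bif Nat.beq k 1 then mk (sw 1 2 (sw 7 9 x.v))
  else mk (Nat.pow 4 (Nat.succ k)) * x * (mk (Nat.pow 4 (Nat.succ k)))⁻¹
noncomputable def word (l : List ℕ) (x : T) : T := l.foldr gen x

theorem d1 : ∀ a ∈ Q0, a * a = 1 → ∀ b ∈ Q0, b * b = 1 → (a * b = b * a ↔ Nat.land (S a) (S b) ≠ 0) := by decide +kernel
theorem d2 : ∀ a ∈ Q0, ∀ b ∈ Q0, Nat.land (S a) (S b) ≠ 0 → ∀ c ∈ Q0, Nat.land (S a) (S c) ≠ 0 →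
    Nat.land (S b) (S c) ≠ 0 → Nat.land (Nat.land (S a) (S b)) (S c) ≠ 0 := by decide +kernel
theorem d3 : ∀ a ∈ Q0, (a * a = 1 ↔ S a ≠ 0) := by decide +kernel
theorem d4 : ∀ i < 30, ∀ y ∈ Q0, In i y ∨ ∃ x ∈ Q0, In i x ∧ x * y ≠ y * x := by decide +kernel
theorem d5 : ∀ i < 30, ∀ j < 30, (∀ y ∈ Q0, In i y → In j y → y = 1 ∨ y = z) → j = 0 ∨ j = 1 ∨
    ∃ l ∈ [[0], [1], [3, 0, 2, 0], [2], [0, 1, 3, 1, 0], [2, 1, 3, 0, 1], [3], [3, 0, 2, 1, 0]],
      (∀ y ∈ Q0, In i y → In i (word l y)) ∧ ∃ y ∈ Q0, In j y ∧ ¬ In j (word l y) := by decide +kernel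
theorem d6 : ∀ y ∈ Q0, (In 0 y ↔ y ∈ A0) ∧ (In 1 y ↔ y ∈ B0) := by decide +kernel
theorem d7 : ∀ p q r s : ZMod 2, ∀ y ∈ Q0, Matrix.vecMul ![1, p, q, r, s] (mat y.v) = ![1, p, q, r, s] → y ∈ B0 := by
  decide +kernel

theorem d8 : ∀ y ∈ Q0, (∀ x ∈ Q0, x * y = y * x) → y = 1 ∨ y = z := by decide +kernel

variable {G : Type*} [Group G] [Finite G] {φ : T →* G} {π : G → Mx} {g : G} {x y : T}
local notation "AA" => A0.map φ
local notation "BB" => B0.map φ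
local notation "QQ" => Q0.map φ

/-- the conjugate of a self-centralising subgroup of `Q0` is in the list -/
theorem plane (h : Bs φ π) (hg : g ∈ N(QQ)) {D : Subgroup T} (l : D ≤ Q0) (ab : ∀ x ∈ D, ∀ y ∈ D, x * y = y * x)
    {a b c : T} (m : a ∈ D ∧ b ∈ D ∧ c ∈ D) (sq : a * a = 1 ∧ b * b = 1 ∧ c * c = 1)
    (k : ∀ x ∈ Q0, a * x = x * a → b * x = x * b → c * x = x * c → x ∈ D) :
    ∃ i < 30, ∀ y ∈ Q0, In i y ↔ φ y ∈ cj g (D.map φ) := by
  have cm : ∀ {x x' y y'}, F φ g x x' → F φ g y y' → (x * y = y * x ↔ x' * y' = y' * x') := fun {x x' y y'} e e' => by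
    rw [← h.inj.eq_iff, ← h.inj.eq_iff (a := x' * y'), ← e.mul e', ← e'.mul e]; simp
  have s : ∀ {x x'}, F φ g x x' → x * x = 1 → x' * x' = 1 := fun e k =>
    h.inj (by rw [← e.mul e, k]; simp)
  obtain ⟨a', ha, ea⟩ := liftN hg (l m.1)
  obtain ⟨b', hb, eb⟩ := liftN hg (l m.2.1)
  obtain ⟨c', hc, ec⟩ := liftN hg (l m.2.2)
  obtain ⟨i, hi⟩ := Nat.exists_testBit_of_ne_zero (d2 _ ha _ hb
    ((d1 _ ha (s ea sq.1) _ hb (s eb sq.2.1)).1 ((cm ea eb).1 (ab _ m.1 _ m.2.1))) _ hc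
    ((d1 _ ha (s ea sq.1) _ hc (s ec sq.2.2)).1 ((cm ea ec).1 (ab _ m.1 _ m.2.2)))
    ((d1 _ hb (s eb sq.2.1) _ hc (s ec sq.2.2)).1 ((cm eb ec).1 (ab _ m.2.1 _ m.2.2))))
  simp only [Nat.land_eq, Nat.testBit_and, Bool.and_eq_true] at hi
  have i30 : i < 30 := by
    have := hi.2
    simp only [S, Nat.land_eq, Nat.testBit_and, Bool.and_eq_true] at this
    simpa using (Nat.testBit_two_pow_sub_one 30 i).symm.trans this.2
  have c2 : ∀ x ∈ Q0, In i x → ∀ y ∈ Q0, In i y → x * y = y * x := fun x hx e y hy e' =>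
    (d1 x hx ((d3 x hx).2 fun k => by simp [In, k] at e) y hy ((d3 y hy).2 fun k => by simp [In, k] at e')).2 fun k => by
      simpa [Nat.testBit_and, e, e'] using congrArg (Nat.testBit · i) k
  have f : ∀ y ∈ Q0, In i y → ∃ x ∈ D, F φ g x y := fun y hy e => by
    obtain ⟨x, hx, t⟩ := liftN (inv_mem hg) hy
    replace t : F φ g x y := inv_inv g ▸ t.inv
    exact ⟨x, k x hx ((cm ea t).2 (c2 _ ha hi.1.1 _ hy e)) ((cm eb t).2 (c2 _ hb hi.1.2 _ hy e))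
      ((cm ec t).2 (c2 _ hc hi.2 _ hy e)), t⟩
  refine ⟨i, i30, fun y hy => ⟨fun e => let ⟨x, hx, t⟩ := f y hy e; t ▸ conj_mem_cj.2 (mem_map_of_mem φ hx), fun e => ?_⟩⟩
  obtain ⟨_, ⟨x, hx, rfl⟩, t⟩ := mem_cj'.1 e
  refine (d4 i i30 y hy).resolve_right fun ⟨w, hw, e, n⟩ => ?_
  obtain ⟨v, hv, t'⟩ := f w hw e
  exact n ((cm t' t).1 (ab _ hv _ hx))

theorem par (h : Bs φ π) (ha : g ∈ N(AA)) (hq : g ∈ N(QQ)) : g ∈ N(BB) := by
  have k : ∀ x ∈ B0, ∀ w : Fin 5 → ZMod 2, w 0 = 1 → Matrix.vecMul w (mat x.v) = w → ∃ y ∈ B0, F φ g x y :=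
    fun x hx w w0 e => by
    obtain ⟨y, hy, t⟩ := liftN hq ((by decide +kernel : ∀ x ∈ B0, x ∈ Q0) x hx)
    have := congrArg (Matrix.vecMul w) (h.piF (inv_mem ha) t.inv)
    rw [← Matrix.vecMul_vecMul, ← Matrix.vecMul_vecMul, e] at this
    have v0 : Matrix.vecMul w (π g⁻¹) 0 = 1 := by
      simp [Matrix.vecMul, dotProduct, (h.img _ (inv_mem ha)).2, w0]
    generalize Matrix.vecMul w (π g⁻¹) = v at this v0
    have ev : v = ![1, v 1, v 2, v 3, v 4] := by ext i; fin_cases i <;> simp [v0]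
    exact ⟨y, d7 _ _ _ _ y hy (ev ▸ this), t⟩
  refine mem_N fun x hx => ?_
  rcases (by decide +kernel : ∀ x ∈ B0, Matrix.vecMul ![1, 0, 0, 0, 0] (mat x.v) = ![1, 0, 0, 0, 0] ∨
    x * mk 17 ∈ B0 ∧ Matrix.vecMul ![1, 0, 0, 0, 0] (mat (x * mk 17).v) = ![1, 0, 0, 0, 0] ∧ x * mk 17 * mk 17 = x) x hx
    with e | ⟨m, e, e'⟩
  · exact k x hx _ rfl e
  obtain ⟨y, hy, t⟩ := k _ m _ rfl e
  obtain ⟨y', hy', t'⟩ := k (mk 17) (by decide +kernel) ![1, 0, 1, 0, 0] rfl (by decide +kernel)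
  exact ⟨_, mul_mem hy hy', e' ▸ t.mul t'⟩

theorem real (h : Bs φ π) (l : List ℕ) : ∃ g ∈ N(AA), ∀ x ∈ Q0, word l x ∈ Q0 ∧ F φ g x (word l x) := by
  induction l with
  | nil => exact ⟨1, one_mem _, fun x hx => ⟨hx, F.refl⟩⟩
  | cons k l ih =>
    obtain ⟨g, hg, e⟩ := ih
    obtain ⟨c, hc, e'⟩ : ∃ g ∈ N(AA), ∀ x ∈ Q0, gen k x ∈ Q0 ∧ F φ g x (gen k x) := by
      obtain rfl | rfl | ⟨k, rfl⟩ : k = 0 ∨ k = 1 ∨ ∃ j, k = j + 2 := by
        rcases k with _ | _ | k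
        exacts [.inl rfl, .inr (.inl rfl), .inr (.inr ⟨k, rfl⟩)]
      · obtain ⟨g, hg, -, e⟩ := h.lift Q0 (gen 0) (P1.of (m := !![1, 0, 0, 0, 0; 0, 1, 0, 0, 0; 0, 0, 0, 1, 0; 0, 0, 1, 0, 0; 0, 0, 0, 0, 1])
          !![1, 0, 0, 0, 0; 0, 1, 0, 0, 0; 0, 0, 0, 1, 0; 0, 0, 1, 0, 0; 0, 0, 0, 0, 1] (by decide +kernel) (by decide +kernel))
          (by decide +kernel)
        exact ⟨g, hg, fun x hx => ⟨(by decide +kernel : ∀ x ∈ Q0, gen 0 x ∈ Q0) x hx, e x hx⟩⟩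
      · obtain ⟨g, hg, -, e⟩ := h.lift Q0 (gen 1) (P1.of (m := !![1, 0, 0, 0, 0; 0, 1, 0, 0, 0; 0, 0, 1, 0, 0; 0, 0, 0, 0, 1; 0, 0, 0, 1, 0])
          !![1, 0, 0, 0, 0; 0, 1, 0, 0, 0; 0, 0, 1, 0, 0; 0, 0, 0, 0, 1; 0, 0, 0, 1, 0] (by decide +kernel) (by decide +kernel))
          (by decide +kernel)
        exact ⟨g, hg, fun x hx => ⟨(by decide +kernel : ∀ x ∈ Q0, gen 1 x ∈ Q0) x hx, e x hx⟩⟩
      · exact ⟨_, h.mN _, fun x hx => ⟨nrmQ _ x hx, F.cc _ x⟩⟩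
    exact ⟨c * g, mul_mem hc hg, fun x hx => ⟨(e' _ (e x hx).1).1, (e x hx).2.trans (e' _ (e x hx).1).2⟩⟩

theorem dich (h : Bs φ π) (hg : g ∈ N(QQ)) : cj g BB = AA ∨ cj g BB = BB := by
  have lA : A0 ≤ Q0 := (by decide +kernel : ∀ x ∈ A0, x ∈ Q0)
  have lB : B0 ≤ Q0 := (by decide +kernel : ∀ x ∈ B0, x ∈ Q0)
  obtain ⟨i, hi, a⟩ := plane h hg lA cmA (a := e12) (b := e13) (c := e14) (by decide +kernel) (by decide +kernel)
    (by decide +kernel)
  obtain ⟨j, hj, b⟩ := plane h hg lB (by decide +kernel) (a := e25) (b := e35) (c := mk 512) (by decide +kernel)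
    (by decide +kernel) (by decide +kernel)
  have lq : ∀ {D}, D ≤ Q0 → cj g (D.map φ) ≤ QQ := fun l => cj_le_of_mem_norm hg (map_mono l)
  have fin : ∀ {D}, D ≤ Q0 → (∀ y ∈ Q0, In j y ↔ y ∈ D) → cj g BB = D.map φ := fun l k => le_antisymm (fun w hw => by
      obtain ⟨y, hy, rfl⟩ := lq lB hw
      exact mem_map_of_mem φ ((k y hy).1 ((b y hy).2 hw)))
    (by rintro _ ⟨y, hy, rfl⟩; exact (b y (l hy)).1 ((k y (l hy)).2 hy))
  have zz : ∀ y ∈ Q0, In i y → In j y → y = 1 ∨ y = z := fun y hy e e' => d8 y hy fun x hx => h.inj (by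
    obtain ⟨_, ⟨v, hv, rfl⟩, t⟩ := mem_cj'.1 ((a y hy).1 e)
    have m := (mem_map_iff_mem h.inj).1 (conj_mem_cj.1 (t ▸ (b y hy).1 e'))
    obtain ⟨x', hx', t'⟩ := liftN (inv_mem hg) hx
    replace t' : F φ g x' x := inv_inv g ▸ t'.inv
    rw [← t'.mul t, ← F.mul t t', (by decide +kernel : ∀ v ∈ A0, v ∈ B0 → ∀ x ∈ Q0, x * v = v * x) v hv m x' hx'])
  rcases d5 i hi j hj zz with rfl | rfl | ⟨l, -, e, y, hy, e1, e2⟩
  · exact .inl (fin lA fun y hy => (d6 y hy).1)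
  · exact .inr (fin lB fun y hy => (d6 y hy).2)
  · obtain ⟨c, hc, k⟩ := real h l
    have cq : c ∈ N(QQ) := mem_N fun x hx => ⟨_, k x hx⟩
    have : c ∈ N(cj g AA) := mem_norm_of_cj_le fun w hw => by
      obtain ⟨w', hw', rfl⟩ := mem_cj'.1 hw
      obtain ⟨y, hy, rfl⟩ := lq lA hw'
      exact (k y hy).2.symm ▸ (a _ (k y hy).1).1 (e y hy ((a y hy).2 hw'))
    rw [← cj_norm, mem_cj] at this
    have := par h this (mul_mem (mul_mem (inv_mem hg) cq) hg)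
    rw [← mem_cj, cj_norm] at this
    exact (e2 ((b _ (k y hy).1).2 ((k y hy).2 ▸ conj_mem_of_norm this ((b y hy).1 e1)))).elim

theorem tri : TRI.{u} := fun G _ _ φ π h => by
  by_cases c : N(Q0.map φ) ≤ N(B0.map φ)
  · exact (em (C1 φ)).imp_right fun n => .inr ⟨c, n⟩
  obtain ⟨s, hs, n⟩ := SetLike.not_le_iff_exists.1 c
  have e := (dich h hs).resolve_right fun e => n (mem_norm_of_cj_le e.le)
  refine .inr (.inl ⟨⟨s⁻¹, inv_mem hs, by rw [← e, cj_cj, inv_mul_cancel, cj_one]⟩, fun g hg => ?_⟩)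
  rw [← e, cj_cj, e]
  exact dich h (mul_mem hg hs)

end H23.KI
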