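import Cfsg.Agent.H23.LieN
import Cfsg.Agent.H10.LieGr
import Cfsg.Agent.H1.SF0
import Cfsg.Agent.H2.Action

/-!
# Coprime action of an elementary abelian group on a nilpotent group: bounding the class
-/

set_option autoImplicit false

namespace H23.LN
open H10.LieK H2 Subgroup Cfsg
open H19 hiding eq_bot_mono
open scoped commutatorElement

variable {A G : Type} [Group A] [Group G] {φ : A →* MulAut G} {p n : ℕ} {B : Subgroup A}
  {J K X Y : Subgroup G} {V W : AddSubgroup (Gr G)}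

/-- fixed points -/
def Fx (φ : A →* MulAut G) (B : Subgroup A) : Subgroup G := autFixed (φ.comp B.subtype)

theorem mem_Fx {x : G} : x ∈ Fx φ B ↔ ∀ b ∈ B, φ b x = x := Subtype.forall

/-- subgroups of index at most `p` -/
def Hy (p : ℕ) (B : Subgroup A) : Prop := Nat.card A ≤ #B * p

theorem Fx_inv (hA : ∀ a b : A, a * b = b * a) (B : Subgroup A) : AInv φ (Fx φ B) :=
  fun a x hx => mem_Fx.2 fun b hb => by
    rw [← MulAut.mul_apply, ← map_mul, hA, map_mul, MulAut.mul_apply, mem_Fx.1 hx b hb]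

theorem sdK_Fx (B : Subgroup A) :
    sdK φ K ⊓ C(B.map SemidirectProduct.inr) = sdK φ (K ⊓ Fx φ B) := by
  refine le_antisymm ?_ (le_inf (sdK_le_iff.2 inf_le_left) ?_)
  · rintro _ ⟨⟨x, hx, rfl⟩, h⟩
    refine inl_mem_sdK.2 ⟨hx, mem_Fx.2 fun b hb => SemidirectProduct.inl_injective (φ := φ) ?_⟩
    rw [← inr_mul_inl_mul_inv, mem_cent.1 h _ ⟨b, hb, rfl⟩, mul_inv_cancel_right]
  · rintro _ ⟨x, hx, rfl⟩
    refine mem_cent.2 ?_
    rintro _ ⟨b, hb, rfl⟩
    rw [← mul_inv_eq_iff_eq_mul, inr_mul_inl_mul_inv, mem_Fx.1 hx.2 b hb]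

theorem abelem_sdA (hA : Abelem p (⊤ : Subgroup A)) : Abelem p (sdA φ) :=
  ⟨comm_iff_le_cent.2 (forall_mem_sdA.2 fun a => mem_cent.2 (forall_mem_sdA.2 fun b => by
    rw [← map_mul, ← map_mul, mul_comm_of_comm hA.1 trivial trivial])),
    forall_mem_sdA.2 fun a => by rw [← map_pow, hA.2 a trivial, map_one]⟩

variable [Finite A]

theorem gen_hy [Finite G] (hp : p.Prime) (hA : Abelem p (⊤ : Subgroup A)) (hc : ¬ p ∣ #K) (hK : AInv φ K)
    (h : ∀ B, Hy p B → K ⊓ Fx φ B ≤ J) : K ≤ J := by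
  rcases eq_or_ne (sdA φ) ⊥ with e | e
  · refine le_trans (le_inf le_rfl fun x _ => mem_Fx.2 fun b hb => ?_) (h ⊥ ?_)
    · rw [mem_bot.1 hb, map_one]; rfl
    · rw [Hy, ← card_sdA (φ := φ), e, card_bot, card_bot, one_mul]; exact hp.pos
  refine sdK_le_iff.1 (H1.le_of_hyp hp (abelem_sdA hA) e hK.sd (PiN.of_not_dvd (by rwa [card_sdK]))
    fun B hB => ?_)
  obtain ⟨B, rfl⟩ : ∃ B' : Subgroup A, B'.map SemidirectProduct.inr = B :=
    ⟨_, map_comap_eq_self (hB.1.trans (by rintro _ ⟨a, -, rfl⟩; exact ⟨a, rfl⟩))⟩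
  rw [sdK_Fx, sdK_le_iff]
  refine h B (le_of_eq ?_)
  rw [← card_sdA (φ := φ), ← hB.2, card_map_of_injective SemidirectProduct.inr_injective]

/-- iterated commutators -/
def itc (Y X : Subgroup G) : ℕ → Subgroup G
  | 0 => Y
  | r + 1 => ⁅itc Y X r, X⁆

/-- derived series -/
def dS (Y : Subgroup G) : ℕ → Subgroup G
  | 0 => Y
  | r + 1 => ⁅dS Y r, dS Y r⁆

/-- the Lie subring of a subgroup -/
def LX (X : Subgroup G) : AddSubgroup (Gr G) :=
  ⨆ n, AddSubgroup.closure {a | ∃ x ∈ X ⊓ γ G n, sg n x = a}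

theorem sg_mem {x : G} (hx : x ∈ X) (h : x ∈ γ G n) : sg n x ∈ LX X :=
  AddSubgroup.mem_iSup_of_mem n (AddSubgroup.subset_closure ⟨x, ⟨hx, h⟩, rfl⟩)

theorem LX_le : LX X ≤ V ↔ ∀ n, ∀ x ∈ X, x ∈ γ G n → sg n x ∈ V :=
  ⟨fun h _ _ hx hn => h (sg_mem hx hn), fun h => iSup_le fun n => (AddSubgroup.closure_le _).2 (by
    rintro _ ⟨x, hx, rfl⟩; exact h n x hx.1 hx.2)⟩

theorem LX_mono (h : X ≤ Y) : LX X ≤ LX Y := LX_le.2 fun _ _ hx hn => sg_mem (h hx) hn

theorem LX_bot : LX (⊥ : Subgroup G) = ⊥ := eq_bot_iff.2 (LX_le.2 fun n x hx _ => by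
  rw [mem_bot.1 hx, sg_one]; exact zero_mem _)

theorem LX_top : LX (⊤ : Subgroup G) = ⊤ := eq_top_iff.2 fun a _ =>
  induction (zero_mem _) (fun _ _ hx => sg_mem (mem_top _) hx) (fun _ _ => add_mem) a

theorem br_LX : br (LX X) (LX Y) ≤ LX ⁅X, Y⁆ :=
  br_le_left.2 fun b hb => LX_le.2 fun i x hx hi => (LX_le (V := (LX ⁅X, Y⁆).comap (adL (sg i x)))).2
    (fun j y hy hj => show ⁅sg i x, sg j y⁆ ∈ _ from
      lie_sg hi hj ▸ sg_mem (commutator_mem_commutator hx hy) (comm_mem hi hj)) hb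

theorem adI_LX : ∀ r, adI (LX X) (LX Y) r ≤ LX (itc Y X r)
  | 0 => le_rfl
  | r + 1 => (br_mono (adI_LX r) le_rfl).trans br_LX

theorem der_LX (h : V ≤ LX Y) : ∀ r, der V r ≤ LX (dS Y r)
  | 0 => h
  | r + 1 => (br_mono (der_LX h r) (der_LX h r)).trans br_LX

theorem aut_sg (α : MulAut G) (n : ℕ) (x : G) : aut α (sg n x) = sg n (α x) := lift_sg n x

theorem aut_lie (α : MulAut G) (a b : Gr G) : aut α ⁅a, b⁆ = ⁅aut α a, aut α b⁆ := by
  induction a using induction with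
  | h0 => simp
  | h2 a b ha hb => simp only [add_lie, map_add, ha, hb]
  | h1 i x hx =>
  induction b using induction with
  | h0 => simp
  | h2 a b ha hb => simp only [lie_add, map_add, ha, hb]
  | h1 j y hy => rw [lie_sg hx hy, aut_sg, aut_sg, aut_sg, lie_sg ((aut_mem α).2 hx)
      ((aut_mem α).2 hy), map_commutatorElement]

/-- the action on the Lie ring -/
noncomputable def act (φ : A →* MulAut G) : A →* Module.End ℤ (Gr G) where
  toFun a := (aut (φ a)).toIntLinearMap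
  map_one' := LinearMap.toAddMonoidHom_injective (hom_ext fun n x _ => (aut_sg _ n x).trans (by simp))
  map_mul' a b := LinearMap.toAddMonoidHom_injective (hom_ext fun n x _ => (aut_sg _ n x).trans (by
    rw [map_mul, MulAut.mul_apply, ← aut_sg, ← aut_sg]; rfl))

omit [Finite A] in
theorem act_sg (a : A) (n : ℕ) (x : G) : act φ a (sg n x) = sg n (φ a x) := aut_sg _ n x

/-- the action on the Lie ring, multiplicatively -/
noncomputable def actM (φ : A →* MulAut G) : A →* MulAut (Multiplicative (Gr G)) where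
  toFun a := MonoidHom.toMulEquiv (AddMonoidHom.toMultiplicative (aut (φ a)))
    (AddMonoidHom.toMultiplicative (aut (φ a⁻¹)))
    (MonoidHom.ext fun x => show (act φ a⁻¹ * act φ a) x.toAdd = x.toAdd by simp [← map_mul])
    (MonoidHom.ext fun x => show (act φ a * act φ a⁻¹) x.toAdd = x.toAdd by simp [← map_mul])
  map_one' := MulEquiv.ext fun x => show act φ 1 x.toAdd = x.toAdd by simp
  map_mul' a b := MulEquiv.ext fun x =>
    show act φ (a * b) x.toAdd = (act φ a * act φ b) x.toAdd by rw [map_mul]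

/-- invariant subgroups -/
def Inv (φ : A →* MulAut G) (V : AddSubgroup (Gr G)) : Prop := ∀ a, V ≤ V.comap (aut (φ a))

omit [Finite A] in
theorem Inv.br (h1 : Inv φ V) (h2 : Inv φ W) : Inv φ (br V W) := fun a => br_le.2 fun x hx y hy =>
  by rw [AddSubgroup.mem_comap, aut_lie]; exact lie_mem_br (h1 a hx) (h2 a hy)

omit [Finite A] in
theorem Inv.inf (h1 : Inv φ V) (h2 : Inv φ W) : Inv φ (V ⊓ W) := fun a _ hx =>
  ⟨h1 a hx.1, h2 a hx.2⟩

omit [Finite A] in
theorem inv_LX (h : AInv φ X) : Inv φ (LX X) := fun a => LX_le.2 fun n x hx hn =>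
  show aut _ _ ∈ _ from aut_sg _ n x ▸ sg_mem (h a x hx) ((aut_mem _).2 hn)

variable [Finite G]

theorem card_smul (a : Gr G) : Nat.card G • a = 0 := by
  induction a using induction with
  | h0 => simp
  | h2 a b ha hb => rw [smul_add, ha, hb, add_zero]
  | h1 i x hx => rw [← sg_pow hx, pow_card_eq_one', sg_one]

theorem mem_of_smul (h : n.Coprime (Nat.card G)) {a : Gr G} (ha : n • a ∈ V) : a ∈ V := by
  obtain ⟨m, hm⟩ := exists_nsmul_eq_self_of_coprime (h.coprime_dvd_right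
    (addOrderOf_dvd_of_nsmul_eq_zero (card_smul a)))
  exact hm ▸ nsmul_mem ha m

attribute [local instance] Fintype.ofFinite

/-- the trace map -/
noncomputable def tr (φ : A →* MulAut G) (B : Subgroup A) : Gr G →+ Gr G := ∑ b : B, aut (φ b)

omit [Finite G] in
theorem tr_fix {x : Gr G} (h : ∀ b ∈ B, aut (φ b) x = x) : tr φ B x = #B • x := by
  rw [tr, AddMonoidHom.finsetSum_apply, Finset.sum_congr rfl (g := fun _ => x) fun (b : B) _ => h b b.2,
    Finset.sum_const, Finset.card_univ, ← Nat.card_eq_fintype_card]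

theorem tr_mem (hA : ∀ a b : A, a * b = b * a) (hc : (#B).Coprime (Nat.card G)) (hY : AInv φ Y) :
    LX Y ≤ (LX (Y ⊓ Fx φ B)).comap (tr φ B) := LX_le.2 fun n y hy hn => by
  have h1 : ∀ s : Finset B, ∃ w ∈ Y ⊓ γ G n, ∑ b ∈ s, aut (φ b) (sg n y) = sg n w := fun s => by
    classical
    induction s using Finset.induction_on with
    | empty => exact ⟨1, one_mem _, by simp [sg_one]⟩
    | insert b s hb ih =>
      obtain ⟨w, hw, e⟩ := ih
      have : φ b y ∈ Y ⊓ γ G n := ⟨hY _ _ hy, (aut_mem _).2 hn⟩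
      exact ⟨_, mul_mem this hw, by rw [Finset.sum_insert hb, e, aut_sg, sg_mul this.2 hw.2]⟩
  obtain ⟨w, hw, e⟩ := h1 Finset.univ
  rw [AddSubgroup.mem_comap, tr, AddMonoidHom.finsetSum_apply, e]
  obtain ⟨u, hu, h⟩ := aut_exists_mul_fixed (φ := φ.comp B.subtype) (N := Y ⊓ γ G (n + 1)) (k := w)
    (fun b x hx => ⟨hY _ _ hx.1, (aut_mem _).2 hx.2⟩) (hc.coprime_dvd_right (card_subgroup_dvd_card _))
    (Or.inl (Group.isSolvable_of_comm fun a b => Subtype.ext (hA _ _))) fun b => by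
      have h2 := (aut_mem (φ b)).2 hw.2
      refine ⟨mul_mem (hY _ _ hw.1) (Y.inv_mem hw.1), sg_eq_zero (mul_mem h2 (inv_mem hw.2)) ?_⟩
      change sg n (φ b w * w⁻¹) = 0
      rw [sg_mul h2 (inv_mem hw.2), sg_inv hw.2, ← aut_sg, ← e, map_sum, add_neg_eq_zero,
        ← Equiv.sum_comp (Equiv.mulLeft b) fun c : B => aut (φ c) (sg n y)]
      simp [aut_sg]
  have h3 := γ_succ_le n hu.2
  rw [← zero_add (sg n w), ← sg_zero (Or.inl hu.2), ← sg_mul h3 hw.2]
  exact sg_mem ⟨mul_mem hu.1 hw.1, h⟩ (mul_mem h3 hw.2)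

variable [Group.IsNilpotent G]

instance finite_Gr : Finite (Gr G) := by
  obtain ⟨N, hN⟩ := Subgroup.nilpotent_iff_lowerCentralSeries.1 ‹_›
  refine Finite.of_surjective (fun f : Fin N → G => ∑ i : Fin N, sg i (f i)) fun a => ?_
  choose x _ hx using fun n => exists_proj n a
  exact ⟨fun i => x i, by simp only [← hx]; rw [Fin.sum_univ_eq_sum_range (proj · a), sum_proj hN]⟩

theorem gen_L (hp : p.Prime) (hA : Abelem p (⊤ : Subgroup A)) (hc : ¬ p ∣ Nat.card G)
    (hV : Inv φ V) (hY : AInv φ Y) (hle : V ≤ LX Y)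
    (h : ∀ B, Hy p B → V ⊓ LX (Y ⊓ Fx φ B) ≤ W) : V ≤ W := by
  haveI := Fact.mk hp
  refine gen_hy (φ := actM φ) (K := V.toSubgroup) (J := W.toSubgroup) hp hA (fun hd => ?_) hV
    fun B hB x hx => h B hB ⟨hx.1, mem_of_smul (n := #B) ?_ ?_⟩
  · obtain ⟨x, -, e⟩ := exists_orderOf_eq_prime hp hd
    exact hc (e ▸ orderOf_dvd_of_pow_eq_one (card_smul x.toAdd))
  · exact ((abelem_pg hp hA).of_le le_top).coprime (PiN.of_not_dvd hc)
  have := tr_mem (B := B) (fun a b => mul_comm_of_comm hA.1 trivial trivial)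
    (((abelem_pg hp hA).of_le le_top).coprime (PiN.of_not_dvd hc)) hY (hle hx.1)
  exact (tr_fix (x := x.toAdd) (mem_Fx.1 hx.2)) ▸ AddSubgroup.mem_comap.1 this

theorem class_le (p e t s : ℕ) (hp : p.Prime) : ∃ c, ∀ {A G ι : Type} [Group A] [Group G] [Finite A]
    [Finite G] [Group.IsNilpotent G] [Fintype ι] {φ : A →* MulAut G} {X : ι → Subgroup G} (a : A),
    Fintype.card ι ≤ t → Abelem p (⊤ : Subgroup A) → ¬ p ∣ Nat.card G → (∀ i, AInv φ (X i)) →
    ⨆ i, X i = ⊤ → (∀ i j B, Hy p B → ∃ l, ⁅X i, X j⁆ ⊓ Fx φ B ≤ X l) →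
    (∀ i B, Hy p B → itc (Fx φ B) (X i) e = ⊥) → dS (Fx φ (zpowers a)) s = ⊥ → γ G c = ⊥ := by
  haveI := Fact.mk hp
  obtain ⟨f, hf⟩ := krek_aut.{0} (p := p) ((1 + t * e) ^ s)
  refine ⟨(1 + t * e) ^ f, fun {A G ι} _ _ _ _ _ _ φ X a ht hA hc hX hg h1 h2 h3 => ?_⟩
  have hAc : ∀ a b : A, a * b = b * a := fun a b => mul_comm_of_comm hA.1 trivial trivial
  have hU : ∀ i, adI (LX (X i)) ⊤ e = ⊥ := fun i => le_bot_iff.1 ((adI_mono (gen_L (φ := φ) hp hA hc
    (fun _ => le_top) (Y := ⊤) (fun _ _ _ => trivial) LX_top.ge (W := ⨆ B : {B // Hy p B}, LX (Fx φ B.1))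
    fun B hB => le_iSup_of_le ⟨B, hB⟩ (inf_le_right.trans (LX_mono inf_le_right))) e).trans
    ((adI_iSup _ e).trans (iSup_le fun B => (adI_LX e).trans (by rw [h2 i B.1 B.2, LX_bot]))))
  have hD : ∀ V W, Inv φ V → Inv φ W → V ≤ ⨆ i, V ⊓ LX (X i) → W ≤ ⨆ i, W ⊓ LX (X i) →
      br V W ≤ ⨆ i, br V W ⊓ LX (X i) := fun V W hV hW h h' =>
    (br_mono h h').trans (iSup_br_le.2 fun i => br_iSup_le.2 fun j => gen_L hp hA hc
      ((hV.inf (inv_LX (hX i))).br (hW.inf (inv_LX (hX j)))) ((hX i).commutator (hX j))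
      ((br_mono inf_le_right inf_le_right).trans br_LX) fun B hB => let ⟨l, hl⟩ := h1 i j B hB
        le_iSup_of_le l (inf_le_inf (br_mono inf_le_left inf_le_left) (LX_mono hl)))
  have hN : ∀ V s, Inv φ V → br V V ≤ V → der V s = ⊥ → V ≤ ⨆ i, V ⊓ LX (X i) →
      adI V ⊤ ((1 + t * e) ^ s) = ⊥ := fun V s hV hb h h' => by
    have : ∀ j, Inv φ (der V j) ∧ der V j ≤ ⨆ i, der V j ⊓ LX (X i) := fun j => by
      induction j with
      | zero => exact ⟨hV, h'⟩
      | succ j ih => exact ⟨ih.1.br ih.1, hD _ _ ih.1 ih.1 ih.2 ih.2⟩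
    obtain ⟨k, hk⟩ := Nat.exists_eq_add_of_le (Nat.pow_le_pow_left (Nat.add_le_add_left
      (Nat.mul_le_mul_right e ht) 1) s)
    rw [hk, adI_add, nil_act hU s hb h fun j => (this j).2]
    exact le_bot_iff.1 (adI_le le_rfl bot_br k)
  have hT : (⊤ : AddSubgroup (Gr G)) ≤ ⨆ i, LX (X i) := by
    have hb : br (⨆ i, LX (X i)) (⨆ i, LX (X i)) ≤ ⨆ i, LX (X i) := by
      have hI : Inv φ (⨆ i, LX (X i)) := fun a => iSup_le fun i =>
        (inv_LX (hX i) a).trans (AddSubgroup.comap_mono (le_iSup (fun i => LX (X i)) i))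
      have : ⨆ i, LX (X i) ≤ ⨆ i, (⨆ i, LX (X i)) ⊓ LX (X i) :=
        iSup_mono fun i => le_inf (le_iSup (fun i => LX (X i)) i) le_rfl
      exact (hD _ _ hI hI this this).trans (iSup_mono fun _ => inf_le_right)
    have h0 : ∀ x : G, sg 0 x ∈ ⨆ i, LX (X i) := fun x => by
      refine iSup_induction X (C := fun x => sg 0 x ∈ ⨆ i, LX (X i)) (hg ▸ mem_top x)
        (fun i x hx => AddSubgroup.mem_iSup_of_mem i (sg_mem hx trivial)) ?_ fun x y a b => ?_
      · rw [sg_one]; exact zero_mem _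
      · rw [sg_mul (mem_top x) (mem_top y)]; exact add_mem a b
    rw [← LX_top, LX_le]
    intro n x _ hx
    induction n generalizing x with
    | zero => exact h0 x
    | succ n ih =>
      refine closure_induction (p := fun x _ => sg (n + 1) x ∈ ⨆ i, LX (X i)) ?_ ?_ ?_ ?_ hx
      · rintro _ ⟨a, ha, b, -, rfl⟩
        exact lie_sg (j := 0) ha (mem_top b) ▸ hb (lie_mem_br (ih a trivial ha) (h0 b))
      · rw [sg_one]; exact zero_mem _
      · intro a b ha hb h1 h2; rw [sg_mul ha hb]; exact add_mem h1 h2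
      · intro a ha h1; rw [sg_inv ha]; exact neg_mem h1
  have hcz : (#(zpowers a)).Coprime (Nat.card G) :=
    ((abelem_pg hp hA).of_le le_top).coprime (PiN.of_not_dvd hc)
  have hz : ∀ x ∈ fx (act φ a), ∀ b ∈ zpowers a, act φ b x = x := fun x hx b hb =>
    (zpowers_le (H := (MulAction.stabilizer _ x).comap (act φ).toHomUnits)).2 (mem_fx.1 hx) hb
  have htr : ∀ x ∈ fx (act φ a), tr φ (zpowers a) x = #(zpowers a) • x := fun x hx => tr_fix (hz x hx)
  have hF : LX (Fx φ (zpowers a)) ≤ fx (act φ a) := LX_le.2 fun n x hx _ => mem_fx.2 (by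
    rw [act_sg, mem_Fx.1 hx a (mem_zpowers a)])
  have h4 := hf (act φ a) (aut_lie _) (by rw [← map_pow, hA.2 a trivial, map_one]) (fun x => ?_)
    (hN _ _ (fun b x hx => mem_fx.2 ?_) (br_le.2 fun x hx y hy => mem_fx.2 ?_)
      (le_bot_iff.1 ((der_LX (Y := Fx φ (zpowers a)) (fun x hx => mem_of_smul hcz ?_) s).trans
        (by rw [h3, LX_bot]))) fun x hx => mem_of_smul hcz ?_)
  · have h5 := hN ⊤ f (fun _ => le_top) le_top h4 (by simpa using hT)
    have : ∀ k, γ G ((1 + t * e) ^ f) ≤ γ G ((1 + t * e) ^ f + k) := fun k => by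
      induction k with
      | zero => exact le_rfl
      | succ k ih => exact fun x hx => sg_eq_zero (ih hx) (AddSubgroup.mem_bot.1 ((adI_le h5.le
          bot_br k) ((adI_add ⊤ ⊤ _ k).le (sg_mem_adI _ x (ih hx)))))
    obtain ⟨N, hN⟩ := Subgroup.nilpotent_iff_lowerCentralSeries.1 ‹Group.IsNilpotent G›
    exact le_bot_iff.1 ((this N).trans ((Subgroup.lowerCentralSeries_antitone _ le_add_self).trans hN.le))
  · obtain ⟨m, hm⟩ := exists_nsmul_eq_self_of_coprime (((Nat.Prime.coprime_iff_not_dvd hp).2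
      hc).coprime_dvd_right (addOrderOf_dvd_of_nsmul_eq_zero (card_smul x)))
    exact ⟨m • x, by rw [smul_comm, hm]⟩
  · change (act φ a * act φ b) x = act φ b x
    rw [← map_mul, hAc, map_mul, Module.End.mul_apply, mem_fx.1 hx]
  · exact (aut_lie _ x y).trans (congrArg₂ _ (mem_fx.1 hx) (mem_fx.1 hy))
  · rw [← htr x hx]
    exact LX_mono inf_le_right (AddSubgroup.mem_comap.1
      (tr_mem hAc hcz (Y := ⊤) (fun _ _ _ => trivial) (LX_top.ge trivial)))
  · rw [← htr x hx]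
    refine AddSubgroup.iSup_induction _ (C := fun x => tr φ (zpowers a) x ∈
      ⨆ i, fx (act φ a) ⊓ LX (X i)) (hT (AddSubgroup.mem_top x)) (fun i y hy => ?_) ?_ fun y z h h' => ?_
    · have := AddSubgroup.mem_comap.1 (tr_mem hAc hcz (hX i) hy)
      exact AddSubgroup.mem_iSup_of_mem i ⟨hF (LX_mono inf_le_right this), LX_mono inf_le_left this⟩
    · rw [map_zero]; exact zero_mem _
    · rw [map_add]; exact add_mem h h'

end H23.LN
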