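import Cfsg.Agent.H10.LieK

/-!
# Lie rings: nilpotent action of solvable subrings, Kreknin's theorem with nilpotent zero component
-/

set_option autoImplicit false

namespace H23.LN
open H10.LieK
open scoped TensorProduct

universe u
variable {L : Type u} [LieRing L] {A B M P Q T V W W₀ : AddSubgroup L}

theorem br_sup_le {C : AddSubgroup L} : br A (B ⊔ M) ≤ C ↔ br A B ≤ C ∧ br A M ≤ C := by
  simp only [br_le_right, sup_le_iff, forall₂_and]

theorem sup_br_le {C : AddSubgroup L} : br (A ⊔ B) M ≤ C ↔ br A M ≤ C ∧ br B M ≤ C := by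
  simp only [br_le_left, sup_le_iff, forall₂_and]

theorem br_comm (A B : AddSubgroup L) : br A B ≤ br B A :=
  br_le.2 fun a ha b hb => by rw [← lie_skew]; exact neg_mem (lie_mem_br hb ha)

theorem bot_br : br ⊥ A ≤ B := br_le.2 fun a ha b _ => by
  rw [AddSubgroup.mem_bot.1 ha, zero_lie]; exact zero_mem _

theorem adI_mono' (h : M ≤ P) (h' : A ≤ B) : ∀ k, adI M A k ≤ adI P B k
  | 0 => h'
  | k + 1 => br_mono (adI_mono' h h' k) h

theorem adI_le (h : A ≤ T) (hT : br T M ≤ T) : ∀ k, adI M A k ≤ T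
  | 0 => h
  | k + 1 => (br_mono (adI_le h hT k) le_rfl).trans hT

theorem adI_iSup {ι : Type*} (F : ι → AddSubgroup L) : ∀ k, adI M (⨆ i, F i) k ≤ ⨆ i, adI M (F i) k
  | 0 => le_rfl
  | k + 1 => (br_mono (adI_iSup F k) le_rfl).trans
    (iSup_br_le.2 fun i => le_iSup (fun i => adI M (F i) (k + 1)) i)

theorem adI_sup : ∀ k, adI M (A ⊔ B) k ≤ adI M A k ⊔ adI M B k
  | 0 => le_rfl
  | k + 1 => (br_mono (adI_sup k) le_rfl).trans (sup_br_le.2 ⟨le_sup_left, le_sup_right⟩)

theorem adI_succ' (k : ℕ) : adI M A (k + 1) = adI M (br A M) k := by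
  rw [add_comm, adI_add]; rfl

theorem adI_br (hW : W ≤ W₀) (h0 : br W₀ M ≤ W₀) (hT : br T M ≤ T) (hc : br W₀ (br M M) ≤ T)
    (hP : P ≤ M) (hV : V ≤ M) : ∀ a, adI P (br W V) a ≤ br (adI P W a) V ⊔ T
  | 0 => le_sup_left
  | a + 1 => (br_mono (adI_br hW h0 hT hc hP hV a) le_rfl).trans (sup_br_le.2 ⟨br_br_le le_sup_left
      (le_sup_of_le_right ((br_mono (adI_le hW ((br_mono le_rfl hP).trans h0) a)
        (br_mono hV hP)).trans hc)), le_sup_of_le_right ((br_mono le_rfl hP).trans hT)⟩)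

theorem adI_two (h0 : br W₀ M ≤ W₀) (hT : br T M ≤ T) (hc : br W₀ (br M M) ≤ T) (hP : P ≤ M)
    (hV : V ≤ M) : ∀ a b W, W ≤ W₀ → adI P W a ≤ T → adI V W b ≤ T → adI (P ⊔ V) W (a + b) ≤ T
  | 0, _, _, _, h, _ => adI_le h ((br_mono le_rfl (sup_le hP hV)).trans hT) _
  | _ + 1, 0, _, _, _, h => adI_le h ((br_mono le_rfl (sup_le hP hV)).trans hT) _
  | a + 1, b + 1, W, hW, h1, h2 => by
    rw [← add_assoc, adI_succ']
    refine (adI_mono (br_sup_le.2 ⟨le_sup_left, le_sup_right⟩) _).trans ((adI_sup _).trans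
      (sup_le ?_ ?_))
    · rw [add_assoc, add_comm 1]
      exact adI_two h0 hT hc hP hV a (b + 1) _ ((br_mono hW hP).trans h0) ((adI_succ' a).ge.trans h1)
        ((adI_br hW h0 hT hc hV hP _).trans (sup_le ((br_mono h2 hP).trans hT) le_rfl))
    · exact adI_two h0 hT hc hP hV (a + 1) b _ ((br_mono hW hV).trans h0)
        ((adI_br hW h0 hT hc hP hV _).trans (sup_le ((br_mono h1 hV).trans hT) le_rfl))
        ((adI_succ' b).ge.trans h2)

variable {ι : Type*} [Fintype ι] {U : ι → AddSubgroup L} {e : ℕ}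

theorem adI_fin (hU : ∀ i, adI (U i) ⊤ e = ⊥) (h0 : br W M ≤ W) (hT : br T M ≤ T)
    (hc : br W (br M M) ≤ T) (hM : M ≤ ⨆ i, M ⊓ U i) : adI M W (1 + Fintype.card ι * e) ≤ T := by
  classical
  have : ∀ s : Finset ι, adI (⨆ i ∈ s, M ⊓ U i) W (1 + s.card * e) ≤ T := fun s => by
    induction s using Finset.induction_on with
    | empty => simpa [adI] using (br_comm _ ⊥).trans bot_br
    | insert i s hi ih =>
      rw [Finset.iSup_insert, sup_comm, Finset.card_insert_of_notMem hi, add_mul, one_mul, ← add_assoc]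
      exact adI_two h0 hT hc (iSup₂_le fun _ _ => inf_le_left) inf_le_left _ _ _ le_rfl ih
        ((adI_mono' inf_le_right le_top e).trans ((hU i).le.trans bot_le))
  exact (adI_mono' (hM.trans (by simp)) le_rfl _).trans (this Finset.univ)

/-- derived series -/
def der (V : AddSubgroup L) : ℕ → AddSubgroup L
  | 0 => V
  | j + 1 => br (der V j) (der V j)

theorem der_succ' (V : AddSubgroup L) : ∀ j, der V (j + 1) = der (br V V) j
  | 0 => rfl
  | j + 1 => congrArg (fun X => br X X) (der_succ' V j)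

theorem nil_act (hU : ∀ i, adI (U i) ⊤ e = ⊥) (s : ℕ) : ∀ {V : AddSubgroup L}, br V V ≤ V →
    der V s = ⊥ → (∀ j, der V j ≤ ⨆ i, der V j ⊓ U i) →
    adI V ⊤ ((1 + Fintype.card ι * e) ^ s) = ⊥ := by
  induction s with
  | zero => exact fun _ h _ => le_bot_iff.1 ((br_mono le_rfl h.le).trans ((br_comm _ ⊥).trans bot_br))
  | succ s ih =>
    intro V hV h h'
    have h1 := ih (br_mono hV hV) (der_succ' V s ▸ h) fun j => der_succ' V j ▸ h' (j + 1)
    have h2 : ∀ r, br (adI (br V V) ⊤ r) V ≤ adI (br V V) ⊤ r := fun r => by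
      induction r with
      | zero => exact le_top
      | succ r ih => exact br_br_le (br_mono ih le_rfl) (br_mono le_rfl (br_mono hV le_rfl))
    have h3 : ∀ r, adI V ⊤ ((1 + Fintype.card ι * e) * r) ≤ adI (br V V) ⊤ r := fun r => by
      induction r with
      | zero => exact le_rfl
      | succ r ih =>
        rw [mul_add_one, adI_add]
        exact (adI_mono ih _).trans (adI_fin hU (h2 r) (h2 (r + 1)) le_rfl (h' 0))
    rw [pow_succ', ← le_bot_iff, ← h1]
    exact h3 _

/-! ### Kreknin's theorem -/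

variable {p : ℕ}

theorem gen_br {F : ZMod p → AddSubgroup L} (hF : brF F F ≤ F) (n : ℕ) (j : ZMod p) :
    br (gen F n j) (F 0) ≤ gen F n j := br_le.2 fun x hx z hz => by
  induction hx with
  | base h hx => exact Gen.base h (by simpa using brF_le.1 hF _ _ (lie_mem_br hx hz))
  | zero => rw [zero_lie]; exact Gen.zero
  | add _ _ a b => rw [add_lie]; exact Gen.add a b
  | neg _ a => rw [neg_lie]; exact Gen.neg a
  | lie ha hb a b => rw [lie_lie, sub_eq_add_neg, lie_skew]; exact Gen.add (.lie ha b) (.lie a hb)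

theorem lie_gen' [NeZero p] {F : ZMod p → AddSubgroup L} (hF : brF F F ≤ F)
    {k : ZMod p} {n : ℕ} (hn : k.val = n) {v : ZMod p} {y : L} (hy : Gen F n v y) :
    ∀ x ∈ F (k - v), ⁅x, y⁆ ∈ gen F (n + 1) k ⊔ br (F k) (F 0) := by
  subst hn
  induction hy with
  | @base j y h hy =>
    intro x hx
    rcases h.eq_or_lt with h | h
    · obtain rfl := ZMod.val_injective p h
      rw [sub_self] at hx
      exact AddSubgroup.mem_sup_right (br_comm _ _ (lie_mem_br hx hy))
    · have := Gen.lie (Gen.base (F := F) (k := k.val + 1) ?_ hx) (Gen.base h hy)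
      · rw [sub_add_cancel] at this
        exact AddSubgroup.mem_sup_left this
      · have h1 := ZMod.val_add (k - j) j
        rw [sub_add_cancel] at h1
        have h2 := ZMod.val_lt j
        have h3 := ZMod.val_lt (k - j)
        by_cases h4 : (k - j).val + j.val < p
        · rw [Nat.mod_eq_of_lt h4] at h1; omega
        · rw [Nat.mod_eq_sub_mod (by omega), Nat.mod_eq_of_lt (by omega)] at h1; omega
  | zero => intro x _; rw [lie_zero]; exact zero_mem _
  | add _ _ a b => intro x hx; rw [lie_add]; exact add_mem (a x hx) (b x hx)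
  | neg _ a => intro x hx; rw [lie_neg]; exact neg_mem (a x hx)
  | @lie i j a b ha hb iha ihb =>
    intro x hx
    have hle := gen_le (F := F) (k := k.val) hF fun _ _ => le_rfl
    rw [lie_lie']
    refine sub_mem (ihb _ ?_) (iha _ ?_)
    · have := brF_le.1 hF _ _ (lie_mem_br hx (hle _ ha))
      rwa [show k - (i + j) + i = k - j by ring] at this
    · have := brF_le.1 hF _ _ (lie_mem_br hx (hle _ hb))
      rwa [show k - (i + j) + j = k - i by ring] at this

theorem krek_aux [NeZero p] (m n : ℕ) (hn : n ≤ p) : ∃ f, ∀ {L : Type u} [LieRing L]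
    {F : ZMod p → AddSubgroup L}, brF F F ≤ F → (∀ j, adI (F 0) (F j) m = ⊥) → derF F f ≤ gen F n := by
  induction n with
  | zero => exact ⟨0, fun _ _ j x hx => Gen.base (Nat.zero_le _) hx⟩
  | succ n ih =>
    obtain ⟨f, ih⟩ := ih (by omega)
    refine ⟨(f + 1) * m + f, fun {L} _ F hF h0 => ?_⟩
    have hv : (n : ZMod p).val = n := ZMod.val_cast_of_lt hn
    have hd : ∀ s j, adI (derF F s 0) (derF F s j) m = ⊥ := fun s j =>
      le_bot_iff.1 ((adI_mono' (derF_le hF s 0) (derF_le hF s j) m).trans (h0 j).le)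
    have hg : ∀ s, gen (derF F s) (n + 1) ≤ gen F (n + 1) := fun s =>
      gen_le (gen_closed _ _) fun j hj x hx => Gen.base hj (derF_le hF _ _ hx)
    have hA : ∀ r, derF F ((f + 1) * r) n ≤ gen F (n + 1) n ⊔ adI (F 0) (F n) r := fun r => by
      induction r with
      | zero => exact le_sup_right
      | succ r ihr =>
        rw [mul_add_one, derF_add]
        refine iSup_le fun u => br_le.2 fun a ha b hb => ?_
        refine sup_le (le_sup_of_le_left (hg _ _)) ((br_mono ihr (derF_le hF _ 0)).trans (sup_br_le.2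
          ⟨le_sup_of_le_left (gen_br hF _ _), le_sup_right⟩)) (lie_gen' (derF_closed hF _) hv
            (ih (derF_closed hF _) (hd _) _ hb) a ?_)
        rw [sub_sub_cancel]; exact derF_le (derF_closed hF _) _ _ ha
    rw [derF_add]
    refine (ih (derF_closed hF _) (hd _)).trans (gen_le (gen_closed _ _) fun j hj => ?_)
    rcases hj.eq_or_lt with h | h
    · obtain rfl : j = n := ZMod.val_injective p (by rw [hv, h])
      simpa only [h0, sup_bot_eq] using hA m
    · exact fun x hx => Gen.base h (derF_le hF _ _ hx)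

theorem krek [NeZero p] (m : ℕ) : ∃ f, ∀ {L : Type u} [LieRing L] {F : ZMod p → AddSubgroup L},
    brF F F ≤ F → (∀ j, adI (F 0) (F j) m = ⊥) → der (⨆ j, F j) f = ⊥ := by
  obtain ⟨f, h⟩ := krek_aux.{u} (p := p) m p le_rfl
  refine ⟨f, fun {L} _ F hF h0 => ?_⟩
  have : ∀ s, der (⨆ j, F j) s = ⨆ j, derF F s j := fun s => by
    induction s with
    | zero => rfl
    | succ s ih => rw [der, ih, ← iSup_brF]; rfl
  rw [this, iSup_eq_bot]
  exact fun j => le_bot_iff.1 ((h hF h0).trans (gen_le (H := ⊥) (brF_le.2 fun _ _ => bot_br)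
    fun j hj => absurd (ZMod.val_lt j) (by omega)) j)

/-- fixed points -/
def fx {R L : Type*} [CommRing R] [AddCommGroup L] [Module R L] (φ : Module.End R L) :
    AddSubgroup L := (LinearMap.ker (φ - 1)).toAddSubgroup

theorem mem_fx {R L : Type*} [CommRing R] [AddCommGroup L] [Module R L] {φ : Module.End R L}
    {x : L} : x ∈ fx φ ↔ φ x = x := by simp [fx, sub_eq_zero]

theorem krek_root [hp : Fact p.Prime] (m : ℕ) : ∃ f, ∀ {R : Type} {L : Type u} [CommRing R]
    [LieRing L] [LieAlgebra R L] {ω : R}, ∑ i ∈ Finset.range p, ω ^ i = 0 → ∀ φ : Module.End R L,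
    (∀ x y, φ ⁅x, y⁆ = ⁅φ x, φ y⁆) → φ ^ p = 1 → (∀ x : L, ∃ y, p • y = x) →
    adI (fx φ) ⊤ m = ⊥ → der (⊤ : AddSubgroup L) f = ⊥ := by
  obtain ⟨f, h⟩ := krek.{u} (p := p) m
  refine ⟨f, fun {R L} _ _ _ ω hω φ hφ hφp hq hm => ?_⟩
  have hω1 : ω ^ p = 1 := by rw [← sub_eq_zero, ← mul_geom_sum, hω, mul_zero]
  let e : ZMod p → R := fun a => ω ^ a.val
  have e_add : ∀ a b, e (a + b) = e a * e b := fun a b => by
    simp only [e]; rw [ZMod.val_add, ← pow_eq_pow_mod _ hω1, pow_add]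
  let ψ : ZMod p → Module.End R L := fun a => φ ^ a.val
  have ψ_add : ∀ a, φ * ψ a = ψ (a + 1) := fun a => by
    simp only [ψ]; rw [ZMod.val_add, ← pow_eq_pow_mod _ hφp, ZMod.val_one, pow_succ']
  have e_sum : ∀ s : ZMod p, s ≠ 0 → ∑ i, e (-(i * s)) = 0 := fun s hs => by
    rw [← hω, show ∑ i, e (-(i * s)) = ∑ i, e i from
      Equiv.sum_comp ((Equiv.mulRight₀ s hs).trans (Equiv.neg _)) e]
    obtain ⟨q, rfl⟩ : ∃ q, p = q + 1 := ⟨p - 1, (Nat.sub_add_cancel hp.out.pos).symm⟩
    exact Fin.sum_univ_eq_sum_range (fun i => ω ^ i) (q + 1)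
  let F : ZMod p → AddSubgroup L := fun i => (LinearMap.ker (φ - e i • 1)).toAddSubgroup
  have memF : ∀ i x, x ∈ F i ↔ φ x = e i • x := fun i x => by simp [F, sub_eq_zero]
  rw [← h (F := F) (brF_le.2 fun u v => br_le.2 fun a ha b hb => (memF _ _).2 (by
    rw [hφ, (memF _ _).1 ha, (memF _ _).1 hb, smul_lie, lie_smul, smul_smul, e_add]))
    fun j => le_bot_iff.1 ((adI_mono' (fun x hx => mem_fx.2 (by simpa [e] using (memF _ _).1 hx))
      le_top m).trans hm.le)]
  refine congrArg (der · f) (eq_top_iff.2 fun x _ => ?_).symm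
  obtain ⟨x, rfl⟩ := hq x
  have : p • x = ∑ i, ∑ s, e (-(i * s)) • ψ s x := by
    rw [Finset.sum_comm, Finset.sum_eq_single 0 (fun s _ hs => by
      rw [← Finset.sum_smul, e_sum s hs, zero_smul]) (by simp)]
    simp [e, ψ]
  rw [this]
  refine sum_mem fun i _ => le_iSup F i ((memF i _).2 ?_)
  rw [map_sum, Finset.smul_sum, ← Equiv.sum_comp (Equiv.addRight (1 : ZMod p))
    fun s => e i • e (-(i * s)) • ψ s x]
  refine Finset.sum_congr rfl fun s _ => ?_
  rw [map_smul, ← Module.End.mul_apply, ψ_add, smul_smul, ← e_add]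
  simp only [Equiv.coe_addRight]
  congr 2; ring

theorem krek_aut [hp : Fact p.Prime] (m : ℕ) : ∃ f, ∀ {L : Type u} [LieRing L] (φ : Module.End ℤ L),
    (∀ x y, φ ⁅x, y⁆ = ⁅φ x, φ y⁆) → φ ^ p = 1 → (∀ x : L, ∃ y, p • y = x) →
    adI (fx φ) ⊤ m = ⊥ → der (⊤ : AddSubgroup L) f = ⊥ := by
  obtain ⟨f, h⟩ := krek_root.{u} (p := p) m
  refine ⟨f, fun {L} _ φ hφ hφp hq hm => ?_⟩
  let R := AdjoinRoot (Polynomial.cyclotomic p ℤ)
  let b := AdjoinRoot.powerBasis' (Polynomial.cyclotomic.monic p ℤ)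
  let c : Fin b.dim → R ⊗[ℤ] L →+ L := fun i =>
    ((TensorProduct.lid ℤ L).toLinearMap ∘ₗ (b.basis.coord i).rTensor L).toAddMonoidHom
  have c_tmul : ∀ i r x, c i (r ⊗ₜ x) = b.basis.repr r i • x := fun i r x => rfl
  have c_sum : ∀ x, x = ∑ i, b.basis i ⊗ₜ[ℤ] c i x := fun x => by
    induction x with
    | zero => simp
    | tmul r x =>
      simp only [c_tmul, ← TensorProduct.smul_tmul, ← TensorProduct.sum_tmul]
      rw [b.basis.sum_repr]
    | add x y hx hy =>
      simp only [map_add, TensorProduct.tmul_add, Finset.sum_add_distrib]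
      rw [← hx, ← hy]
  have c_φ : ∀ i x, c i (φ.baseChange R x) = φ (c i x) := fun i x => by
    induction x with
    | zero => simp
    | tmul r x => simp [c_tmul]
    | add x y hx hy => simp [hx, hy]
  let E : AddSubgroup L → AddSubgroup (R ⊗[ℤ] L) := fun V =>
    ⨆ r : R, V.map (TensorProduct.mk ℤ R L r).toAddMonoidHom
  have mE : ∀ V r x, x ∈ V → r ⊗ₜ[ℤ] x ∈ E V := fun V r x hx =>
    AddSubgroup.mem_iSup_of_mem r ⟨x, hx, rfl⟩
  have brE : ∀ V W, br (E V) (E W) ≤ E (br V W) := fun V W =>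
    iSup_br_le.2 fun r => br_iSup_le.2 fun s => br_le.2 (by
      rintro _ ⟨x, hx, rfl⟩ _ ⟨y, hy, rfl⟩
      exact mE _ _ _ (lie_mem_br hx hy))
  have h1 : ∀ k, ∀ y ∈ der (⊤ : AddSubgroup L) k, (1 : R) ⊗ₜ[ℤ] y ∈ der ⊤ k := fun k => by
    induction k with
    | zero => intro _ _; trivial
    | succ k ih =>
      refine (br_le (C := (der ⊤ (k + 1)).comap
        (TensorProduct.mk ℤ R L 1).toAddMonoidHom)).2 fun a ha b hb => ?_
      have := lie_mem_br (ih a ha) (ih b hb)
      rwa [LieAlgebra.ExtendScalars.bracket_tmul, mul_one] at this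
  have h3 : ∀ k, adI (fx (φ.baseChange R)) ⊤ k ≤ E (adI (fx φ) ⊤ k) := fun k => by
    induction k with
    | zero => exact fun x _ => c_sum x ▸ sum_mem fun i _ => mE _ _ _ trivial
    | succ k ih =>
      refine (br_mono ih fun x hx => ?_).trans (brE _ _)
      rw [c_sum x]
      exact sum_mem fun i _ => mE _ _ _ (mem_fx.2 (by rw [← c_φ, mem_fx.1 hx]))
  have h2 := h (R := R) (ω := AdjoinRoot.root _) (by
    have := (congrArg (AdjoinRoot.mk (Polynomial.cyclotomic p ℤ))
      (Polynomial.cyclotomic_prime ℤ p)).symm.trans AdjoinRoot.mk_self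
    simpa using this) (φ.baseChange R) (fun x y => ?_) (by
      rw [← LinearMap.baseChange_pow, hφp, LinearMap.baseChange_one]) (fun x => ?_)
      (le_bot_iff.1 ((h3 m).trans (by simp [E, hm])))
  · have h0 : 0 < b.dim := by
      change 0 < (Polynomial.cyclotomic p ℤ).natDegree
      rw [Polynomial.natDegree_cyclotomic]; exact Nat.totient_pos.2 hp.out.pos
    refine eq_bot_iff.2 fun y hy => ?_
    have := congrArg (c ⟨0, h0⟩) (AddSubgroup.mem_bot.1 (h2.le (h1 f y hy)))
    rwa [map_zero, c_tmul, show (1 : R) = b.basis ⟨0, h0⟩ by simp, b.basis.repr_self,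
      Finsupp.single_eq_same, one_smul] at this
  · induction x with
    | zero => simp
    | tmul r x =>
      induction y with
      | zero => simp
      | tmul s y => simp [hφ]
      | add a b ha hb => simp only [lie_add, map_add, ha, hb]
    | add a b ha hb => simp only [add_lie, map_add, ha, hb]
  · induction x with
    | zero => exact ⟨0, smul_zero _⟩
    | tmul r x =>
      obtain ⟨y, rfl⟩ := hq x
      exact ⟨r ⊗ₜ y, (TensorProduct.tmul_smul _ _ _).symm⟩
    | add a b ha hb =>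
      obtain ⟨_, rfl⟩ := ha
      obtain ⟨_, rfl⟩ := hb
      exact ⟨_, smul_add _ _ _⟩

end H23.LN
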