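/-
Maximal subgroups of `E₇(2)`: no 3-transposition group has an order divisible by `43 · 127` dividing `|E₇(2)|`.
-/
import Cfsg.Agent.H23.ME1
import Cfsg.Agent.S5361
import Cfsg.Agent.S5362
import Cfsg.Agent.S5368
import Cfsg.Agent.S5373
import Cfsg.Agent.S5374
import Cfsg.Agent.S5375
import Cfsg.Agent.S5401

set_option autoImplicit false

namespace H23.ME
open Subgroup H7.ME Cfsg.Agent

theorem fi : FI := fun K _ _ E hE hZ h2 h3 b => by
  have tr : ∀ {L : Type} [Group L], (K ≃* L) → Bad (Nat.card L) := fun e => Nat.card_congr e.toEquiv ▸ b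
  have cj : ∀ g : K, ∀ d ∈ E, g * d * g⁻¹ ∈ E := by
    obtain ⟨d, -, rfl⟩ := hE.2.1
    exact fun g x hx => IsConj.trans hx (isConj_iff.2 ⟨g, rfl⟩)
  have hG : Cfsg.IsThreeTranspositionGroup E := ⟨hE.1, cj, hE.2.2⟩
  by_cases hc : (Cfsg.commutingGraph E).Connected
  · by_cases hw : ∃ a ∈ E, ∃ b ∈ E, a ≠ b ∧ Commute a b
    · obtain ⟨s1, s2⟩ := S5361.result hE hZ hw
      have hp := s2.2 ⟨h2, h3, hc⟩
      rcases S5368.result hE hZ (s1.2 hp) with ⟨n, e, -⟩ | ⟨m, e, -⟩ | ⟨n, F, _, _, hF, e, -⟩ | (⟨m, e, -⟩ | ⟨m, e, -⟩) |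
        ⟨n, B, hB, c, c0, e, -⟩ | t | t | t
      · have b := tr e
        rw [Nat.card_perm, Nat.card_eq_fintype_card, Fintype.card_fin] at b
        have := ((by norm_num : Nat.Prime 127).dvd_factorial).1 b.2.1
        exact absurd ((Nat.dvd_factorial (by norm_num : 0 < 23) (by omega)).trans b.2.2) (by norm_num [NG])
      · exact fc.1 m (tr e)
      · exact fc.2.1 n F hF (tr e)
      · exact fc.2.2.1 m (tr e)
      · exact fc.2.2.2 m (tr e)
      · exact f3 n B hB c c0 (tr e)
      · exact absurd ((S5373.result hG hp t S5401.result.2.2).2.1 ▸ b.1) (by norm_num)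
      · exact absurd ((S5374.result hG hp t S5401.result.2.2).2.2.1 ▸ b.1) (by norm_num)
      · exact absurd ((S5375.result hG hp t).2.2.1 ▸ b.1) (by norm_num)
    · obtain ⟨d, hd, -⟩ := hE.2.1
      have : d ∈ center K := mem_center_iff.2 fun g => by
        obtain ⟨w⟩ := hc.preconnected ⟨d, hd⟩ ⟨_, cj g d hd⟩
        generalize hy : (⟨_, cj g d hd⟩ : E) = y at w
        cases w with
        | nil => exact mul_inv_eq_iff_eq_mul.1 (congrArg Subtype.val hy)
        | @cons _ x _ a _ =>
          obtain ⟨a1, a2⟩ := (SimpleGraph.fromRel_adj _ _ _).1 a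
          exact absurd ⟨d, hd, x, x.2, fun k => a1 (Subtype.ext k), a2.elim id Commute.symm⟩ hw
      have o := hE.1.1 d hd
      rw [hZ, mem_bot] at this
      simp [this] at o
  · haveI : (Cfsg.generalizedFittingSubgroup K).Normal := inferInstance
    obtain ⟨⟨e⟩, t⟩ := S5362.result hE hZ h2 h3 hc _ rfl
    have d := b.1
    rw [card_eq_card_quotient_mul_card_subgroup (Cfsg.generalizedFittingSubgroup K), Nat.card_congr e.toEquiv,
      Nat.card_perm, Nat.card_eq_fintype_card, Fintype.card_fin] at d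
    have d := (Nat.Coprime.dvd_mul_left (by decide)).1 d
    rcases t with ⟨⟨f⟩⟩ | ⟨⟨f⟩⟩ <;> rw [Nat.card_congr f.toEquiv] at d
    · have := d.trans (card_subgroup_dvd_card _)
      rw [S0287.result (ZMod.card 2) 4 (by norm_num)] at this
      exact absurd this (by decide)
    · have := d.trans ((card_quotient_dvd_card _).trans (card_subgroup_dvd_card _))
      rw [S0287.result (ZMod.card 3) 4 (by norm_num)] at this
      exact absurd this (by decide)

end H23.ME
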