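import Cfsg.Agent.H4.Basic
import Cfsg.Agent.H4.ClassTwo
import Cfsg.Agent.H24.ClassSize

/-!
# Elements of the two smallest class sizes (Mann, Isaacs, Ishikawa)
-/

open Subgroup H24
open scoped Pointwise commutatorElement

namespace H23

variable {G : Type*} [Group G]

theorem comm_mem_normal {A : Subgroup G} [hA : A.Normal] (x : G) {a : G} (ha : a ∈ A) :
    ⁅x, a⁆ ∈ A := by
  rw [commutatorElement_def]; exact mul_mem (hA.conj_mem _ ha x) (inv_mem ha)

/-- The map `a ↦ [x, a]` on an abelian normal subgroup. -/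
def cmHom (A : Subgroup G) [A.Normal] (hc : IsMulCommutative A) (x : G) : A →* G :=
  MonoidHom.mk' (fun a => ⁅x, (a : G)⁆) fun a b => by
    have h2 : (a : G) * ⁅x, (b : G)⁆ = ⁅x, (b : G)⁆ * a :=
      congrArg Subtype.val (hc.is_comm.comm a ⟨_, comm_mem_normal x b.2⟩)
    calc ⁅x, (a : G) * b⁆ = ⁅x, (a : G)⁆ * (a * ⁅x, (b : G)⁆) * (a : G)⁻¹ := by
          simp only [commutatorElement_def]; group
      _ = _ := by rw [h2]; group

variable [Finite G]

theorem cs_comm_lt {K : Subgroup G} [hK : K.Normal] (hc : IsMulCommutative K) {x t : G}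
    (hx : x ∉ center G) (ht : t ∈ K) : cs ⁅x, t⁆ < cs x := by
  by_cases h1 : ⁅x, t⁆ = 1
  · rw [h1, cs_one]; exact one_lt_cs_iff.2 hx
  set H := K ⊔ centralizer ({x} : Set G)
  set B := (cmHom K hc x).range
  have hBK : B ≤ K := by rintro _ ⟨b, rfl⟩; exact comm_mem_normal x b.2
  have hn : H ≤ normalizer (B : Set G) := by
    refine sup_le (fun k hk => mem_normalizer_fintype fun d hd => ?_)
      fun c hc' => mem_normalizer_fintype ?_
    · rwa [show k * d = d * k from congrArg Subtype.val (hc.is_comm.comm ⟨k, hk⟩ ⟨d, hBK hd⟩),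
        mul_inv_cancel_right]
    · rintro _ ⟨b, rfl⟩
      refine ⟨⟨c * b * c⁻¹, hK.conj_mem _ b.2 c⟩, ?_⟩
      change ⁅x, c * b * c⁻¹⁆ = c * ⁅x, (b : G)⁆ * c⁻¹
      conv_lhs => rw [← mem_cent_iff_conj.1 hc']
      simp only [commutatorElement_def]; group
  have hy : ⁅x, t⁆ ∈ H := mem_sup_left (comm_mem_normal x ht)
  have h2 : (centralizer ({⁅x, t⁆} : Set G)).relIndex H < Nat.card B := by
    rw [← cs_subgroup H ⟨_, hy⟩, ← ncard_isConj, ← Set.ncard_image_of_injective _ H.subtype_injective,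
      ← SetLike.coe_sort_coe B, Nat.card_coe_set_eq]
    refine Set.ncard_lt_ncard ⟨?_, fun h => ?_⟩
    · rintro _ ⟨z, hz, rfl⟩
      obtain ⟨g, rfl⟩ := isConj_iff.1 hz
      exact (mem_normalizer_iff.1 (hn g.2) _).1 ⟨⟨t, ht⟩, rfl⟩
    · obtain ⟨z, hz, e⟩ := h B.one_mem
      rw [show z = 1 from Subtype.ext e, Set.mem_ofPred_eq, isConj_one_left] at hz
      exact h1 (congrArg Subtype.val hz)
  have h3 : Nat.card B ≤ (centralizer ({x} : Set G)).relIndex H := by
    refine le_trans ?_ (relIndex_le_of_le_right (K := K) le_sup_left index_ne_zero_of_finite)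
    rw [← index_ker]
    refine le_of_eq (congrArg index (Subgroup.ext fun b => ?_))
    rw [MonoidHom.mem_ker, mem_subgroupOf, mem_cent]
    exact commutatorElement_eq_one_iff_mul_comm.trans eq_comm
  calc cs ⁅x, t⁆ ≤ (centralizer ({⁅x, t⁆} : Set G) ⊓ H).index := index_antitone inf_le_left
    _ = (centralizer ({⁅x, t⁆} : Set G)).relIndex H * H.index := by
        rw [← relIndex_mul_index inf_le_right, inf_relIndex_right]
    _ < (centralizer ({x} : Set G)).relIndex H * H.index :=
        Nat.mul_lt_mul_of_pos_right (h2.trans_le h3) (Nat.pos_of_ne_zero index_ne_zero_of_finite)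
    _ = cs x := relIndex_mul_index le_sup_right

theorem comm_le_center_of_min {K : Subgroup G} [hK : K.Normal] (hc : IsMulCommutative K)
    {S : Set G} (hS : ∀ x ∈ S, ∀ y, cs y < cs x → y ∈ center G) : ⁅closure S, K⁆ ≤ center G := by
  rw [commutator_le]
  intro x hx
  induction hx using closure_induction with
  | mem x hx =>
    intro t ht
    by_cases h : x ∈ center G
    · rw [commutatorElement_eq_one_iff_mul_comm.2 (mem_center_iff.1 h t).symm]; exact one_mem _
    · exact hS x hx _ (cs_comm_lt hc h ht)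
  | one => intro t _; simp
  | mul x y _ _ hx hy =>
    intro t ht
    have : ⁅x * y, t⁆ = x * ⁅y, t⁆ * x⁻¹ * ⁅x, t⁆ := by simp only [commutatorElement_def]; group
    rw [this]
    exact mul_mem (Normal.conj_mem inferInstance _ (hy t ht) x) (hx t ht)
  | inv x _ hx =>
    intro t ht
    have : ⁅x⁻¹, t⁆ = x⁻¹ * ⁅x, t⁆⁻¹ * x⁻¹⁻¹ := by simp only [commutatorElement_def]; group
    rw [this]
    exact Normal.conj_mem inferInstance _ (inv_mem (hx t ht)) _

/-- Mann / Isaacs. -/
theorem mann {A : Subgroup G} [A.Normal] (hc : IsMulCommutative A)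
    (hA : centralizer (A : Set G) ≤ A) {S : Set G}
    (hS : ∀ x ∈ S, ∀ y, cs y < cs x → y ∈ center G) :
    ⁅⁅closure S, closure S⁆, closure S⁆ ≤ center G := by
  have h1 := comm_le_center_of_min hc hS
  have h2 : ⁅⁅closure S, A⁆, closure S⁆ = ⊥ := by
    rw [commutator_eq_bot_iff_le_centralizer]
    exact h1.trans (center_le_centralizer _)
  have h3 := commutator_commutator_eq_bot_of_rotate h2 (by rwa [Subgroup.commutator_comm A])
  rw [commutator_eq_bot_iff_le_centralizer] at h3
  rw [Subgroup.commutator_comm] at h1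
  exact (commutator_mono (h3.trans hA) le_rfl).trans h1

omit [Finite G] in
theorem ucs_three {M : Subgroup G} (h : ⁅⁅M, M⁆, M⁆ ≤ center G) :
    Subgroup.upperCentralSeries M 3 = ⊤ := by
  rw [eq_top_iff]
  intro a _ b c
  change _ ∈ Subgroup.upperCentralSeries M 1
  rw [Subgroup.upperCentralSeries_one, mem_center_iff]
  intro d
  exact Subtype.ext (mem_center_iff.1
    (h (commutator_mem_commutator (commutator_mem_commutator a.2 b.2) c.2)) d)

variable {p : ℕ} [hp : Fact p.Prime]

/-- Ishikawa: a `p`-group of conjugate rank one has class at most three. -/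
theorem ishikawa (hP : IsPGroup p G) {m : ℕ} (h : ∀ x : G, cs x = 1 ∨ cs x = m) :
    ⁅⁅(⊤ : Subgroup G), (⊤ : Subgroup G)⁆, (⊤ : Subgroup G)⁆ ≤ center G := by
  obtain ⟨A, hAn, hAc, -, -, hA⟩ := H4.exists_selfCentralizing hP (S := ⊤) (A := ⊥) le_top
    inferInstance
  rw [top_inf_eq] at hA
  rw [← Subgroup.closure_univ]
  refine mann hAc hA fun x _ y hy => cs_eq_one_iff.1 ?_
  have := cs_pos y
  rcases h x with h1 | h1 <;> rcases h y with h2 | h2 <;> omega

omit hp in
theorem cent_eq_of_two {m : ℕ} (h : ∀ x : G, cs x = 1 ∨ cs x = m) {x y : G} (hy : y ∉ center G)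
    (hle : centralizer ({x} : Set G) ≤ centralizer {y}) :
    centralizer ({x} : Set G) = centralizer {y} := by
  have hx : x ∉ center G := fun hx => hy (by
    rw [← cent_eq_top_iff] at hx ⊢; exact eq_top_iff.2 (hx ▸ hle))
  have h1 := (h x).resolve_left (mt cs_eq_one_iff.1 hx)
  have h2 := (h y).resolve_left (mt cs_eq_one_iff.1 hy)
  refine eq_of_le_of_card_ge hle (le_of_eq (Nat.eq_of_mul_eq_mul_left (cs_pos x) ?_))
  rw [cs_mul_card, h1, ← h2, cs_mul_card]

/-- Isaacs: a `p`-group of conjugate rank one has central quotient of exponent `p`. -/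
theorem isaacs_pow (hP : IsPGroup p G) {m : ℕ} (h : ∀ x : G, cs x = 1 ∨ cs x = m) (x : G) :
    x ^ p ∈ center G := by
  by_contra hx
  obtain ⟨z, -, hz, hzp, hzc⟩ := H4.exists_central_mod hP (M := center G) (N := ⊤)
    fun e => hx (e (mem_top _))
  have key : ∀ y : G, y ∉ centralizer ({z} : Set G) → y ^ p ∈ center G := by
    intro y hy
    by_contra hy'
    have h1 : Commute z ⁅z, y⁆ := mem_center_iff.1 (hzc y) z
    have h2 : Commute y ⁅z, y⁆ := mem_center_iff.1 (hzc y) y
    have h3 : ⁅z, y ^ p⁆ = 1 := by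
      rw [H4.commutator_pow_right h2, ← H4.commutator_pow_left h1]
      exact commutatorElement_eq_one_iff_mul_comm.2 (mem_center_iff.1 hzp y).symm
    have h4 := cent_eq_of_two h hy' (cent_le_cent_pow y p)
    exact hy (mem_cent_comm.1 (h4 ▸ mem_cent.2 (commutatorElement_eq_one_iff_mul_comm.1 h3)))
  have hxz : x ∈ centralizer ({z} : Set G) := by_contra fun e => hx (key x e)
  have hcl := ishikawa hP h
  let f := QuotientGroup.mk' (center G)
  have hf : ∀ g, f g = 1 ↔ g ∈ center G := fun g => QuotientGroup.eq_one_iff g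
  have hc : ∀ a b c : G, Commute (f c) ⁅f a, f b⁆ := fun a b c => by
    rw [← map_commutatorElement]
    refine Commute.symm (commutatorElement_eq_one_iff_commute.1 ?_)
    rw [← map_commutatorElement, hf]
    exact hcl (commutator_mem_commutator (commutator_mem_commutator trivial trivial) trivial)
  have h1 : ∀ y : G, y ∉ centralizer ({z} : Set G) →
      f x ^ p * ⁅f y, f x⁆ ^ p.choose 2 = 1 ∧ ⁅f y, f x⁆ ^ p = 1 := by
    intro y hy
    have h2 : f y ^ p = 1 := by rw [← map_pow, hf]; exact key y hy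
    have h3 : (f x * f y) ^ p = 1 := by
      rw [← map_mul, ← map_pow, hf]
      exact key _ fun e => hy ((Subgroup.mul_mem_cancel_left _ hxz).1 e)
    rw [H4.mul_pow_of_commute_commutator (hc y x x) (hc y x y), h2, mul_one] at h3
    refine ⟨h3, ?_⟩
    rw [← H4.commutator_pow_left (hc y x y), h2, commutatorElement_one_left]
  obtain ⟨y, -, hy⟩ := SetLike.exists_of_lt (lt_top_iff_ne_top.2 (mt cent_eq_top_iff.1 hz))
  refine hx ?_
  rw [← hf, map_pow]
  rcases hp.out.eq_two_or_odd' with rfl | hodd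
  · by_cases h2 : (centralizer ({z} : Set G)).index = 2
    · rw [← map_pow, hf, mem_center_iff]
      intro g
      have hm := (h z).resolve_left (mt cs_eq_one_iff.1 hz)
      rcases h g with h3 | h3
      · exact (mem_center_iff.1 (cs_eq_one_iff.1 h3) _).symm
      · exact (mem_cent.1 (sq_mem_of_index_two (h3.trans (hm.symm.trans h2)) x)).symm
    · rw [index_eq_two_iff'] at h2
      push Not at h2
      obtain ⟨y', hy'⟩ := h2 y
      have h3 : y' ∉ centralizer ({z} : Set G) := fun e => hy'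
        (Or.inr ⟨e, fun e' => hy ((Subgroup.mul_mem_cancel_right _ e).1 e')⟩)
      have h4 : y * y' ∉ centralizer ({z} : Set G) := fun e => hy' (Or.inl ⟨e, h3⟩)
      have e1 := (h1 y hy).1
      have e2 := (h1 y' h3).1
      have e3 := (h1 _ h4).1
      have e4 : ⁅f (y * y'), f x⁆ = ⁅f y', f x⁆ * ⁅f y, f x⁆ := by
        calc _ = f y * ⁅f y', f x⁆ * (f y)⁻¹ * ⁅f y, f x⁆ := by
              simp only [commutatorElement_def, map_mul]; group
          _ = _ := by rw [(hc y' x y).eq, mul_inv_cancel_right]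
      rw [Nat.choose_self, pow_one] at e1 e2 e3
      rw [e4, ← mul_assoc, e2, one_mul] at e3
      rwa [e3, mul_one] at e1
  · obtain ⟨e1, e2⟩ := h1 y hy
    obtain ⟨k, this⟩ := H4.odd_dvd_choose_two hodd
    rwa [this, pow_mul, e2, one_pow, mul_one] at e1

end H23
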