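import Cfsg.Agent.H24.ND0

/-! S4780, chunk `W0`: the case `[P,P] ⊓ C(H) ≰ γ₃(P)`. -/

set_option autoImplicit false
set_option linter.unusedVariables false

open Subgroup MulAction H19 H20 H6 Cfsg H3.PT H3.GR H3.ND Module H24.ND
open scoped commutatorElement

namespace H23.ND

universe u
variable {G : Type u} [Group G] [Finite G] {P H : Subgroup G} {p : ℕ} {ψ : G → ℂ}

theorem nn (A M : Subgroup G) [M.Normal] : A ≤ N(M) := by rw [normalizer_eq_top]; exact le_top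

theorem cmem {A B : Subgroup G} {a b : G} (ha : a ∈ A) (hb : b ∈ B) : a * b * a⁻¹ * b⁻¹ ∈ ⁅A, B⁆ :=
  commutator_mem_commutator ha hb

theorem g3_le [P.Normal] : g3 P ≤ g2 P := commg_le_left (nn _ _)

/-- subgroups between `g3` and `g2` are normalized by `P` -/
theorem nmid [P.Normal] {M : Subgroup G} (h1 : g3 P ≤ M) (h2 : M ≤ g2 P) : P ≤ N(M) :=
  norms_of_commg_le ((commutator_mono h2 le_rfl).trans h1)

theorem c32 : ⁅P, g2 P⁆ = g3 P := commutator_comm _ _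

/-- central character on `g2` -/
theorem cen_char (hψ : ψ ∈ H20.Irr P) (h3 : g3 P ≤ cker ψ) : ∃ l, Lin (g2 P) l ∧ Res (g2 P) ψ = ψ 1 • l ∧
    (∀ z ∈ g2 P, ψ z = l z * ψ 1) ∧ ∀ z ∈ g2 P, z ∈ cker ψ ↔ l z = 1 := by
  obtain ⟨l, hl, hr, hm⟩ := irr_Res_central hψ (der_le P) (c32.le.trans h3)
  have e : ∀ z ∈ g2 P, ψ z = l z * ψ 1 := fun z hz => by simpa using hm z hz 1
  refine ⟨l, hl, hr, e, fun z hz => ?_⟩
  rw [chr_mem_cker (irr_chr hψ) (der_le P hz), e z hz]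
  exact ⟨fun h => mul_right_cancel₀ (irr_one_ne hψ) (by rw [h, one_mul]), fun h => by rw [h, one_mul]⟩

theorem ex_w (hψ : ψ ∈ H20.Irr P) (h1 : deg ψ ≠ 1) : ∃ w ∈ g2 P, w ∉ cker ψ := by
  by_contra hc
  push Not at hc
  exact h1 ((der_le_cker hψ).1 hc)

theorem van (h : PC P H p) (hψ : ψ ∈ H20.Irr P) (h3 : g3 P ≤ cker ψ) (h1 : deg ψ ≠ 1) {x : G}
    (hx : x ∉ V1 P H) : ψ x = 0 := by
  by_cases hP : x ∈ P
  · obtain ⟨w, hw, hw'⟩ := ex_w hψ h1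
    obtain ⟨g, hg, e⟩ := h.cam x hP hx w hw
    have e' : g * x * g⁻¹ * x⁻¹ = w := by rw [e]; group
    exact vanish_off_center hψ (der_le P) (c32.le.trans h3) hg (e' ▸ hw) (e' ▸ hw')
  · exact irr_zero hψ hP

theorem V_norm (h : PC P H p) : H ≤ N(V1 P H) := by
  haveI := h.nP
  exact norms_sup (nn _ _) (norms_inf (nn _ _) (norms_cent le_normalizer))

theorem inva (h : PC P H p) (hψ : ψ ∈ H20.Irr P) (h3 : g3 P ≤ cker ψ) (h1 : deg ψ ≠ 1)
    (hk : ⁅g2 P, H⁆ ≤ cker ψ) {c : G} (hc : c ∈ H) : cfj c ψ = ψ := by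
  haveI := h.nP
  ext x
  rw [cfj_apply]
  by_cases hx : x ∈ V1 P H
  · obtain ⟨w, hw, a, ha, rfl⟩ := (mem_sup_of_norm (nn _ _)).1 hx
    have ea : c * a = a * c := mem_cent.1 ha.2 c hc
    have e : c * (w * a) * c⁻¹ = (c * w * c⁻¹ * w⁻¹) * (w * a) := by
      have : c * (w * a) * c⁻¹ = c * w * c⁻¹ * (c * a * c⁻¹) := by group
      rw [this, ea]; group
    rw [e]
    exact cker_mul (hk (commutator_comm H _ ▸ cmem hc hw)) _
  · rw [van h hψ h3 h1 hx, van h hψ h3 h1 fun hh => hx ((conj_mem_iff_of_norm (V_norm h hc)).1 hh)]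

theorem dd_eq (hi : ∀ c ∈ H, cfj c ψ = ψ) : dd H ψ = deg ψ := by
  have : H ≤ H20.inertia H ψ := fun c hc => H20.mem_inertia.2 ⟨hc, hi c hc⟩
  rw [dd, relIndex_eq_one.2 this, one_mul]

theorem deg_sq (hψ : ψ ∈ H20.Irr P) (h3 : g3 P ≤ cker ψ) : deg ψ ^ 2 = (CM P (cker ψ) P).relIndex P := by
  have hn := norm_cker (irr_cinv hψ)
  refine deg_sq_of_vanish hψ inf_le_left (by rw [commutator_comm]; exact comm_CM_le hn hn) fun g hg => ?_
  by_cases hP : g ∈ P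
  · rw [mem_CM hn hn] at hg
    push Not at hg
    obtain ⟨y, hy, hy'⟩ := hg hP
    exact vanish_off_center hψ (der_le P) (c32.le.trans h3) hy (cmem hy hP) hy'
  · exact irr_zero hψ hP

theorem Z_le (h : PC P H p) (hψ : ψ ∈ H20.Irr P) (h1 : deg ψ ≠ 1) : CM P (cker ψ) P ≤ V1 P H := by
  have hn := norm_cker (irr_cinv hψ)
  intro z hz
  rw [mem_CM hn hn] at hz
  by_contra hx
  obtain ⟨w, hw, hw'⟩ := ex_w hψ h1
  obtain ⟨g, hg, e⟩ := h.cam z hz.1 hx w hw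
  have e' : g * z * g⁻¹ * z⁻¹ = w := by rw [e]; group
  exact hw' (e' ▸ hz.2 g hg)

/-- the centralizer of `P ⊓ C(H)` modulo `g3` -/
abbrev P1 (P H : Subgroup G) : Subgroup G := CM P (g3 P) (P ⊓ C(H))

theorem P1_comm [P.Normal] : ⁅P1 P H, P ⊓ C(H)⁆ ≤ g3 P := comm_CM_le (nn _ _) (nn _ _)

theorem P_le (ra : RA.{u}) (cs : CS.{u}) (h : PC P H p) : P ≤ P1 P H ⊔ (P ⊓ C(H)) := by
  haveI := h.nP
  obtain ⟨c, hc, hc', hce⟩ := ra (X := g2 P) (Y := g3 P) h g3_le le_rfl le_rfl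
  intro x hx
  obtain ⟨y, hy, a, ha, w, hw, rfl⟩ := cs h hc hc' x hx
  have hw1 : w ∈ P1 P H := (le_CM_iff (nn _ _) (nn _ _)).2 ⟨der_le P, commutator_mono le_rfl inf_le_left⟩ hw
  have hk : c * y * c⁻¹ * y⁻¹ ∈ P := mul_mem (h.nP.conj_mem y hy c) (inv_mem hy)
  have hk1 : c * y * c⁻¹ * y⁻¹ ∈ P1 P H := by
    refine (mem_CM (nn _ _) (nn _ _)).2 ⟨hk, fun b hb => ?_⟩
    have eb : c * b = b * c := mem_cent.1 hb.2 c hc
    have hu : b * y * b⁻¹ * y⁻¹ ∈ g2 P := cmem hb.1 hy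
    have e : b * (c * y * c⁻¹ * y⁻¹) * b⁻¹ * (c * y * c⁻¹ * y⁻¹)⁻¹ =
        (c * (b * y * b⁻¹ * y⁻¹) * c⁻¹ * (b * y * b⁻¹ * y⁻¹)⁻¹) *
        ((b * y * b⁻¹ * y⁻¹) * (c * y * c⁻¹ * y⁻¹) * (b * y * b⁻¹ * y⁻¹)⁻¹ * (c * y * c⁻¹ * y⁻¹)⁻¹) := by
      have e1 : b * (c * y * c⁻¹ * y⁻¹) * b⁻¹ = (b * c) * y * (b * c)⁻¹ * (b * y⁻¹ * b⁻¹) := by group
      rw [e1, ← eb]; group
    rw [e]
    exact mul_mem (hce _ hu) (cmem hu hk)
  exact mul_mem (mul_mem (mem_sup_left hk1) (mem_sup_right ha)) (mem_sup_left hw1)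

theorem ex_x (ra : RA.{u}) (cs : CS.{u}) (h : PC P H p) : ∃ x ∈ P1 P H, x ∉ V1 P H := by
  by_contra hc
  push Not at hc
  exact h.nV ((P_le ra cs h).trans (sup_le hc le_sup_right))

theorem PV (ra : RA.{u}) (cs : CS.{u}) (h : PC P H p) : ⁅P, V1 P H⁆ ≤ (g2 P ⊓ C(H)) ⊔ g3 P := by
  haveI := h.nP
  have hn : P ≤ N(((g2 P ⊓ C(H)) ⊔ g3 P : Subgroup G)) := nmid le_sup_right (sup_le inf_le_left g3_le)
  refine commg_sup_right_le (c32.le.trans le_sup_right) ?_ ((der_le P).trans hn) (inf_le_left.trans hn)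
  refine (commutator_mono (P_le ra cs h) le_rfl).trans (commg_sup_left_le (P1_comm.trans le_sup_right) ?_
    (inf_le_left.trans hn) (inf_le_left.trans hn))
  exact (le_inf (der_mono inf_le_left) ((der_le _).trans inf_le_right)).trans le_sup_left

theorem cop (h : PC P H p) {K : Subgroup G} (hK : K ≤ P) : (#K).Coprime #H :=
  PiN.coprime (PiN.of_le h.pg hK) (PiN.of_not_dvd h.np)

theorem proper (h : PC P H p) (hW : ¬ g2 P ⊓ C(H) ≤ g3 P) : ¬ g2 P ≤ ⁅g2 P, H⁆ ⊔ g3 P := by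
  haveI := h.nP
  intro hle
  apply hW
  let f := QuotientGroup.mk' (g3 P)
  have k : f.ker = g3 P := QuotientGroup.ker_mk' _
  have hab : H19.Ab ((g2 P).map f) := by
    refine comm_iff_der.2 ?_
    rw [← map_commutator, Subgroup.map_eq_bot_iff, k]
    exact commutator_mono le_rfl (der_le P)
  haveI : ((g2 P).map f).Normal := Normal.map inferInstance f (QuotientGroup.mk'_surjective _)
  have hc : (#((g2 P).map f)).Coprime #(H.map f) :=
    ((cop h (der_le P)).coprime_dvd_left (card_map_dvd _ _)).coprime_dvd_right (card_map_dvd _ _)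
  have e := ab_commg_inf_cent hab (nn (H.map f) _) hc
  intro w hw
  rw [← k, MonoidHom.mem_ker, ← mem_bot, ← e]
  refine ⟨?_, mem_cent.2 ?_⟩
  · obtain ⟨a, ha, b, hb, rfl⟩ := (mem_sup_of_norm' (nn _ _)).1 (hle hw.1)
    have : f b = 1 := by rw [← MonoidHom.mem_ker, k]; exact hb
    rw [map_mul, this, mul_one, ← map_commutator]
    exact mem_map_of_mem f ha
  · rintro _ ⟨c, hc, rfl⟩
    rw [← map_mul, ← map_mul, mem_cent.1 hw.2 c hc]

theorem stepA (ra : RA.{u}) (cs : CS.{u}) (h : PC P H p) (hW : ¬ g2 P ⊓ C(H) ≤ g3 P) : ⁅g2 P, H⁆ ≤ g3 P := by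
  haveI := h.nP
  by_contra hA
  have hs : ⁅g2 P, H⁆ ⊔ (g2 P ⊓ C(H)) = g2 P :=
    commg_sup_cent (nn _ _) (cop h (der_le P)) (Or.inl (sol_of_ab h.ab))
  have l0 : ⁅g2 P, H⁆ ⊔ g3 P ≤ g2 P := sup_le (commg_le_left (nn _ _)) g3_le
  have l1 : (g2 P ⊓ C(H)) ⊔ g3 P ≤ g2 P := sup_le inf_le_left g3_le
  obtain ⟨ψ0, hψ0, k0, d0⟩ := exists_nonlin ⟨l0.trans (der_le P), nmid le_sup_right l0⟩ (proper h hW)
  obtain ⟨ψ1, hψ1, k1, d1⟩ := exists_nonlin ⟨l1.trans (der_le P), nmid le_sup_right l1⟩ (fun hle => hA (by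
    refine (commutator_mono hle le_rfl).trans (commg_sup_left_le ?_ (commg_le_left (nn _ _)) (nn _ _) (nn _ _))
    rw [commg_eq_bot.2 inf_le_right]; exact bot_le))
  obtain ⟨a0, ha0, -, -, m0⟩ := cen_char hψ0 (le_sup_right.trans k0)
  obtain ⟨a1, ha1, -, -, m1⟩ := cen_char hψ1 (le_sup_right.trans k1)
  have hν := ha0.mul ha1
  obtain ⟨ψ, hψ, k⟩ := exists_above (K := g3 P) ⟨der_le P, nn _ _⟩ (nn _ _) g3_le hν.irr (fun z hz => by
    rw [hν.mem_cker (g3_le hz), Pi.mul_apply, (m0 z (g3_le hz)).1 (k0 (mem_sup_right hz)),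
      (m1 z (g3_le hz)).1 (k1 (mem_sup_right hz)), one_mul])
  obtain ⟨hψ, hd⟩ := mem_ovr.1 hψ
  obtain ⟨l, hl, hr, ev, m⟩ := cen_char hψ k
  obtain rfl : l = a0 * a1 := by
    refine irr_eq_of_dot hl.irr hν.irr fun e => hd ?_
    rw [← dot_Res_left, hr, dot_smul_left, e, mul_zero]
  -- `ψ` and `ψ0` agree on `W0`
  have ag : ∀ z ∈ (g2 P ⊓ C(H)) ⊔ g3 P, z ∈ cker ψ ↔ z ∈ cker ψ0 := fun z hz => by
    rw [m z (l1 hz), m0 z (l1 hz), Pi.mul_apply, (m1 z (l1 hz)).1 (k1 hz), mul_one]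
  have d : deg ψ ≠ 1 := fun e => by
    have := (der_le_cker hψ).2 e
    refine d0 ((der_le_cker hψ0).1 (hs.ge.trans (sup_le (le_sup_left.trans k0) fun z hz => ?_)))
    exact (ag z (mem_sup_left hz)).1 (this hz.1)
  have n := norm_cker (irr_cinv hψ)
  have n0 := norm_cker (irr_cinv hψ0)
  have eZ : CM P (cker ψ) P = CM P (cker ψ0) P := by
    ext z
    constructor
    · intro hz
      have hv := Z_le h hψ d hz
      rw [mem_CM n n] at hz
      exact (mem_CM n0 n0).2 ⟨hz.1, fun x hx => (ag _ (PV ra cs h (cmem hx hv))).1 (hz.2 x hx)⟩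
    · intro hz
      have hv := Z_le h hψ0 d0 hz
      rw [mem_CM n0 n0] at hz
      exact (mem_CM n n).2 ⟨hz.1, fun x hx => (ag _ (PV ra cs h (cmem hx hv))).2 (hz.2 x hx)⟩
  have ed : deg ψ = deg ψ0 := by
    have := deg_sq hψ k
    rw [eZ, ← deg_sq hψ0 (le_sup_right.trans k0)] at this
    exact (Nat.pow_left_injective two_ne_zero) this
  have i0 := dd_eq fun c hc => inva h hψ0 (le_sup_right.trans k0) d0 (le_sup_left.trans k0) hc
  have e := h.nd ψ0 hψ0 ψ hψ d0 (by rw [i0, dd, ed]; exact dvd_mul_left _ _)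
  rw [i0, dd, ed] at e
  have e1 : (H20.inertia H ψ).relIndex H = 1 := by
    have := irr_deg_pos hψ0
    exact (Nat.eq_of_mul_eq_mul_right this (by rw [← e, one_mul]))
  have hi := relIndex_eq_one.1 e1
  refine d1 ((der_le_cker hψ1).1 (hs.ge.trans (sup_le ?_ (le_sup_left.trans k1))))
  rw [commutator_comm, commutator_le]
  intro c hc w hw
  have hcw : c * w * c⁻¹ ∈ g2 P := (inferInstance : (g2 P).Normal).conj_mem w hw c
  have hz : c * w * c⁻¹ * w⁻¹ ∈ g2 P := mul_mem hcw (inv_mem hw)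
  have e2 : ψ (c * w * c⁻¹) = ψ w := by rw [← cfj_apply c ψ w, (H20.mem_inertia.1 (hi hc)).2]
  rw [ev _ hcw, ev _ hw] at e2
  have e3 := mul_right_cancel₀ (irr_one_ne hψ) e2
  have e4 : (a0 * a1) (c * w * c⁻¹ * w⁻¹) = 1 := by rw [hν.map_mul hcw (inv_mem hw), e3, hν.mul_inv hw]
  rw [Pi.mul_apply, (m0 _ hz).1 (k0 (mem_sup_left (commutator_comm H _ ▸ cmem hc hw))), one_mul] at e4
  exact (m1 _ hz).2 e4

theorem stepB (ra : RA.{u}) (cs : CS.{u}) (fp : FP.{u}) (h : PC P H p) (hA : ⁅g2 P, H⁆ ≤ g3 P) : g3 P = ⊥ := by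
  haveI := h.nP
  obtain ⟨x, hx, hx'⟩ := ex_x ra cs h
  have l1 : P1 P H ≤ P := inf_le_left
  have lM : ⁅P1 P H, P1 P H⁆ ⊔ g3 P ≤ g2 P := sup_le (der_mono l1) g3_le
  have hn := nmid le_sup_right lM
  have h1 : g2 P ≤ ⁅P1 P H, P1 P H⁆ ⊔ g3 P := fun w hw => by
    obtain ⟨g, hg, e⟩ := h.cam x (l1 hx) hx' w hw
    have e' : g * x * g⁻¹ * x⁻¹ = w := by rw [e]; group
    rw [← e']
    refine commg_sup_left_le le_sup_left ?_ (l1.trans hn) (inf_le_left.trans hn) (cmem (P_le ra cs h hg) hx)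
    rw [commutator_comm]; exact P1_comm.trans le_sup_right
  have h2 : ⁅g2 P, P ⊓ C(H)⁆ ≤ g4 P := by
    refine (commutator_mono h1 le_rfl).trans (commg_sup_left_le ?_ (commutator_mono le_rfl inf_le_left)
      (nn _ _) (nn _ _))
    refine H1.three_subgroups (commutator_mono P1_comm l1) ?_
    rw [commutator_comm (P ⊓ C(H))]; exact commutator_mono P1_comm l1
  have h3 : ⁅g2 P, g2 P⁆ ≤ g4 P := H1.three_subgroups (by rw [c32]) le_rfl
  obtain ⟨c, hc, hc', hce⟩ := ra (X := g3 P) (Y := g4 P) h (commg_le_left (nn _ _)) g3_le le_rfl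
  have hf := fp (X := g2 P) h (der_le P) (commg_sup_right_le h3 h2 (nn _ _) (nn _ _)) hc hc'
    fun w hw => hA (commutator_comm H _ ▸ cmem hc hw)
  by_contra h0
  exact (PiN.commg_lt (PiN.of_le h.pg (g3_le.trans (der_le P))) h.pg (nn _ _) h0).not_ge
    fun w hw => hf w hw (hce w hw)

theorem w0 (ra : RA.{u}) (cs : CS.{u}) (fp : FP.{u}) : W0.{u} := by
  intro G _ _ P H p h hW
  haveI := h.nP
  haveI : Fact p.Prime := ⟨h.pr⟩
  have hA := stepA ra cs h hW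
  have h3 := stepB ra cs fp h hA
  have k3 : ∀ ψ : G → ℂ, g3 P ≤ cker ψ := fun ψ => by rw [h3]; exact bot_le
  have iv : ∀ ψ ∈ H20.Irr P, deg ψ ≠ 1 → ∀ c ∈ H, cfj c ψ = ψ := fun ψ hψ d c hc =>
    inva h hψ (k3 ψ) d (hA.trans (k3 ψ)) hc
  obtain ⟨ψ0, hψ0, -, d0⟩ := exists_nonlin (K := ⊥) ⟨bot_le, nn P _⟩ fun hle =>
    hW (inf_le_left.trans (hle.trans bot_le))
  refine ⟨by rw [g4, h3, commutator_bot_left], ⟨dd H ψ0, 0, fun ψ hψ d => Or.inl ?_⟩, fun ψ hψ d S hS ab => ?_,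
    fun e => absurd (e.le.trans bot_le) hW,
    fun X hX _ => ⟨ψ0, hψ0, d0, fun c hc => H20.mem_inertia.2 ⟨hX hc, iv ψ0 hψ0 d0 c (hX hc)⟩⟩⟩
  · have a := PiN.dvd h.pg (irr_deg_dvd hψ)
    have b := PiN.dvd h.pg (irr_deg_dvd hψ0)
    have ea := dd_eq (iv ψ hψ d)
    have eb := dd_eq (iv ψ0 hψ0 d0)
    rcases le_total (deg ψ) (deg ψ0) with hl | hl
    · exact h.nd ψ hψ ψ0 hψ0 d (by rw [ea, eb]; exact pdvd a b (irr_deg_pos hψ).ne' hl)
    · exact (h.nd ψ0 hψ0 ψ hψ d0 (by rw [ea, eb]; exact pdvd b a (irr_deg_pos hψ0).ne' hl)).symm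
  · obtain ⟨x, hx, hx'⟩ := ex_x ra cs h
    have l1 : P1 P H ≤ P := inf_le_left
    have lV : V1 P H ≤ P := sup_le (der_le P) inf_le_left
    have hc : P1 P H ≤ C(V1 P H) := by
      refine cents_sup (commg_eq_bot.1 ?_) (commg_eq_bot.1 ?_)
      · exact le_bot_iff.1 (((commutator_mono l1 le_rfl).trans c32.le).trans h3.le)
      · exact le_bot_iff.1 (P1_comm.trans h3.le)
    have ab' : IsMulCommutative ↥(S ⊔ zpowers x) :=
      comm_sup ab (comm_zpowers x) (cents_symm (cents_mono hc (zpowers_le.2 hx) hS))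
    have lS : S ⊔ zpowers x ≤ P := sup_le (hS.trans lV) (zpowers_le.2 (l1 hx))
    have hd := deg_le_of_ab lS hψ (by rw [comm_iff_der.1 ab']; exact bot_le)
    have e := relIndex_mul_relIndex S (S ⊔ zpowers x) P le_sup_left lS
    have n1 : S.relIndex (S ⊔ zpowers x) ≠ 1 := fun e1 =>
      hx' (hS (relIndex_eq_one.1 e1 (mem_sup_right (mem_zpowers x))))
    have n0 : S.relIndex (S ⊔ zpowers x) ≠ 0 := index_ne_zero_of_finite
    have n2 : (S ⊔ zpowers x).relIndex P ≠ 0 := index_ne_zero_of_finite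
    rw [← e]
    have : 2 ≤ S.relIndex (S ⊔ zpowers x) := by omega
    nlinarith [Nat.pos_of_ne_zero n2]

end H23.ND
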