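import Cfsg.Agent.H6.Brauer
import Cfsg.Agent.H5.Pairs
import Mathlib.GroupTheory.Focal

/-! Perfect groups with a Sylow `3`-subgroup of order nine and at least three classes of `3`-elements. -/

set_option autoImplicit false

namespace H23.Nine
open Cfsg Subgroup H5
open scoped commutatorElement

variable {G : Type*} [Group G] [Finite G] {m : ℕ}

instance fact3 : Fact (Nat.Prime 3) := ⟨Nat.prime_three⟩

theorem card_P (hm : m.Coprime 3) (hc : Nat.card G = 9 * m) (P : Sylow 3 G) : Nat.card P = 9 := by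
  have h0 : m ≠ 0 := by rintro rfl; simp at hm
  rw [P.card_eq_multiplicity, hc, Nat.factorization_mul (by norm_num) h0, Finsupp.add_apply,
    Nat.factorization_eq_zero_of_not_dvd ((Nat.Prime.coprime_iff_not_dvd Nat.prime_three).1 hm.symm),
    show 9 = 3 ^ 2 from rfl, Nat.prime_three.factorization_pow]
  simp

theorem comm9 {P : Subgroup G} (h : Nat.card P = 9) {x y : G} (hx : x ∈ P) (hy : y ∈ P) : x * y = y * x := by
  have := (IsPGroup.isMulCommutative_of_card_eq_prime_sq (p := 3) (G := P) (by rw [h]; rfl)).is_comm.comm ⟨x, hx⟩ ⟨y, hy⟩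
  exact congrArg Subtype.val this

theorem pow9 {P : Subgroup G} (h : Nat.card P = 9) {x : G} (hx : x ∈ P) : x ^ 9 = 1 := by
  have := pow_card_eq_one' (x := (⟨x, hx⟩ : P))
  rw [h] at this
  exact congrArg Subtype.val this

theorem fus (P : Sylow 3 G) (h : Nat.card P = 9) {x g : G} (hx : x ∈ (P : Subgroup G))
    (hy : g * x * g⁻¹ ∈ (P : Subgroup G)) :
    ∃ n ∈ normalizer ((P : Subgroup G) : Set G), n * x * n⁻¹ = g * x * g⁻¹ := by
  obtain ⟨n, hn, e⟩ := P.conj_eq_normalizer_conj_of_mem_centralizer x g⁻¹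
    (fun y hy => comm9 h hy hx) (by rw [inv_inv]; exact fun y hy' => comm9 h hy' hy)
  exact ⟨n⁻¹, inv_mem hn, by simpa using e.symm⟩

theorem conj_mem {P : Subgroup G} {n x : G} (hn : n ∈ normalizer (P : Set G)) (hx : x ∈ P) :
    n * x * n⁻¹ ∈ P := (mem_normalizer_iff.1 hn x).1 hx

theorem exists_sylow_conj (P : Sylow 3 G) {R : Subgroup G} (hR : IsPGroup 3 R) :
    ∃ c : G, ∀ x ∈ R, c * x * c⁻¹ ∈ (P : Subgroup G) := by
  obtain ⟨Q, hQ⟩ := hR.exists_le_sylow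
  obtain ⟨c, rfl⟩ := MulAction.exists_smul_eq G Q P
  refine ⟨c, fun x hx => ?_⟩
  rw [Sylow.smul_def, Sylow.pointwise_smul_def, mem_pointwise_smul_iff_inv_smul_mem]
  simpa [mul_assoc] using hQ hx

theorem isP_of_pow {x : G} (h : x ^ 9 = 1) : IsPGroup 3 (zpowers x) := fun y => by
  obtain ⟨y, k, rfl⟩ := y
  exact ⟨2, Subtype.ext (by
    change (x ^ k) ^ 9 = 1
    rw [← zpow_natCast, ← zpow_mul, mul_comm, zpow_mul, zpow_natCast, h, one_zpow])⟩

theorem exists_w (P : Sylow 3 G) (h : Nat.card P = 9)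
    (h3 : 3 ≤ Nat.card {C : ConjClasses G // ∃ g ∈ C.carrier, g ≠ 1 ∧ orderOf g ∣ 9}) :
    ∃ w ∈ (P : Subgroup G), orderOf w = 3 ∧
      ∀ n ∈ normalizer ((P : Subgroup G) : Set G), n * w * n⁻¹ ∈ zpowers w := by
  classical
  haveI := Fintype.ofFinite G
  haveI := Fintype.ofFinite (ConjClasses G)
  let f : {y : (P : Subgroup G) // y ≠ 1} → {C : ConjClasses G // ∃ g ∈ C.carrier, g ≠ 1 ∧ orderOf g ∣ 9} := fun y =>
    ⟨ConjClasses.mk (y.1 : G), y.1, ConjClasses.mem_carrier_mk, fun e => y.2 (Subtype.ext e),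
      orderOf_dvd_of_pow_eq_one (pow9 h y.1.2)⟩
  obtain ⟨C, hC⟩ := Fintype.exists_card_fiber_lt_of_card_lt_mul f (n := 3) (by
    rw [Fintype.card_subtype_compl, ← Nat.card_eq_fintype_card, h, ← Nat.card_eq_fintype_card (α := {C : ConjClasses G // _})]
    simp only [Fintype.card_unique]; omega)
  obtain ⟨C, g, hg, g1, g9⟩ := C
  obtain ⟨c, hc⟩ := exists_sylow_conj P (isP_of_pow (orderOf_dvd_iff_pow_eq_one.1 g9))
  set y := c * g * c⁻¹ with hy
  have yP : y ∈ (P : Subgroup G) := hc g (mem_zpowers g)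
  have y1 : y ≠ 1 := by simpa [hy] using g1
  have key : ∀ a b : G, a ∈ (P : Subgroup G) → b ∈ (P : Subgroup G) → IsConj y a → IsConj y b →
      y = a ∨ y = b ∨ a = b := fun a b ha hb ia ib => by
    by_contra! k
    have mk : ∀ a : G, ∀ ha : a ∈ (P : Subgroup G), ∀ ia : IsConj y a, ∃ t : {y : (P : Subgroup G) // y ≠ 1}, t.1.1 = a ∧
        f t = ⟨C, g, hg, g1, g9⟩ := fun a ha ia =>
      ⟨⟨⟨a, ha⟩, fun e => y1 (isConj_one_left.1 (by rwa [show a = 1 from congrArg Subtype.val e] at ia))⟩, rfl, Subtype.ext (by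
        rw [ConjClasses.mem_carrier_iff_mk_eq] at hg
        change ConjClasses.mk a = C
        rw [← hg, ConjClasses.mk_eq_mk_iff_isConj]
        exact ia.symm.trans (isConj_iff.2 ⟨c, rfl⟩).symm)⟩
    obtain ⟨t1, e1, f1⟩ := mk y yP (IsConj.refl y)
    obtain ⟨t2, e2, f2⟩ := mk a ha ia
    obtain ⟨t3, e3, f3⟩ := mk b hb ib
    refine absurd hC (not_lt.2 (Finset.two_lt_card_iff.2 ⟨t1, t2, t3, by simpa, by simpa, by simpa, ?_, ?_, ?_⟩))
    · rintro rfl; exact k.1 (e1.symm.trans e2)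
    · rintro rfl; exact k.2.1 (e1.symm.trans e3)
    · rintro rfl; exact k.2.2 (e2.symm.trans e3)
  obtain ⟨v, vP, v1, hv⟩ : ∃ v ∈ (P : Subgroup G), v ≠ 1 ∧
      ∀ n ∈ normalizer ((P : Subgroup G) : Set G), n * v * n⁻¹ ∈ zpowers v := by
    by_cases k : ∀ n ∈ normalizer ((P : Subgroup G) : Set G), n * y * n⁻¹ ∈ zpowers y
    · exact ⟨y, yP, y1, k⟩
    push Not at k
    obtain ⟨n0, hn0, k⟩ := k
    set z := n0 * y * n0⁻¹ with hz
    have zP : z ∈ (P : Subgroup G) := conj_mem hn0 yP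
    have iz : IsConj y z := isConj_iff.2 ⟨n0, rfl⟩
    have yz : y ≠ z := fun e => k (e ▸ mem_zpowers y)
    have two : ∀ a ∈ (P : Subgroup G), IsConj y a → a = y ∨ a = z := fun a ha ia => by
      rcases key a z ha zP ia iz with e | e | e
      exacts [.inl e.symm, absurd e yz, .inr e]
    refine ⟨y * z, mul_mem yP zP, fun e => k ?_, fun n hn => ?_⟩
    · rw [eq_inv_of_mul_eq_one_right e]; exact inv_mem (mem_zpowers y)
    have e : n * (y * z) * n⁻¹ = (n * y * n⁻¹) * (n * z * n⁻¹) := by group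
    have ne : n * y * n⁻¹ ≠ n * z * n⁻¹ := fun e => yz (by simpa using e)
    rw [e]
    rcases two _ (conj_mem hn yP) (isConj_iff.2 ⟨n, rfl⟩) with a | a <;>
      rcases two _ (conj_mem hn zP) (iz.trans (isConj_iff.2 ⟨n, rfl⟩)) with b | b
    · exact absurd (a.trans b.symm) ne
    · rw [a, b]; exact mem_zpowers _
    · rw [a, b, comm9 h zP yP]; exact mem_zpowers _
    · exact absurd (a.trans b.symm) ne
  by_cases v3 : v ^ 3 = 1
  · exact ⟨v, vP, orderOf_eq_prime v3 v1, hv⟩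
  refine ⟨v ^ 3, pow_mem vP 3, orderOf_eq_prime (by rw [← pow_mul]; exact pow9 h vP) v3, fun n hn => ?_⟩
  obtain ⟨k, hk⟩ := hv n hn
  refine ⟨k, ?_⟩
  change (v ^ 3) ^ k = _
  rw [← conj_pow, ← hk, ← zpow_natCast, ← zpow_mul, mul_comm, zpow_mul, zpow_natCast]

/-- the setting -/
structure St (m : ℕ) (P : Sylow 3 G) (W : Subgroup G) : Prop where
  hm : m.Coprime 3
  hc : Nat.card G = 9 * m
  le : W ≤ P
  cW : Nat.card W = 3
  nm : ∀ n ∈ normalizer ((P : Subgroup G) : Set G), ∀ u ∈ W, n * u * n⁻¹ ∈ W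

theorem exists_st (hm : m.Coprime 3) (hc : Nat.card G = 9 * m)
    (h3 : 3 ≤ Nat.card {C : ConjClasses G // ∃ g ∈ C.carrier, g ≠ 1 ∧ orderOf g ∣ 9}) :
    ∃ (P : Sylow 3 G) (W : Subgroup G), St m P W := by
  obtain ⟨P⟩ : Nonempty (Sylow 3 G) := inferInstance
  obtain ⟨w, wP, w3, hw⟩ := exists_w P (card_P hm hc P) h3
  refine ⟨P, zpowers w, hm, hc, zpowers_le.2 wP, by rw [Nat.card_zpowers, w3], fun n hn u hu => ?_⟩
  obtain ⟨k, rfl⟩ := hu
  change n * w ^ k * n⁻¹ ∈ _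
  rw [← conj_zpow]; exact zpow_mem (hw n hn) k

namespace St
variable {P : Sylow 3 G} {W : Subgroup G} (S : St m P W)
include S

theorem cP : Nat.card P = 9 := card_P S.hm S.hc P

theorem sc {g u : G} (hu : u ∈ W) (h : g * u * g⁻¹ ∈ (P : Subgroup G)) : g * u * g⁻¹ ∈ W := by
  obtain ⟨n, hn, e⟩ := fus P S.cP (S.le hu) h
  exact e ▸ S.nm n hn u hu

theorem nrm : (W.subgroupOf P).Normal :=
  ⟨fun a ha g => mem_subgroupOf.2 (by
    rw [coe_mul, coe_mul, comm9 S.cP g.2 a.2, coe_inv, mul_inv_cancel_right]; exact mem_subgroupOf.1 ha)⟩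

theorem cQ : Nat.card (P ⧸ W.subgroupOf P) = 3 := by
  have := (W.subgroupOf P).card_mul_index
  rw [Nat.card_congr (subgroupOfEquivOfLe S.le).toEquiv, S.cW, S.cP, index] at this
  omega

theorem w3 {u : G} (hu : u ∈ W) : u ^ 3 = 1 := by
  have := pow_card_eq_one' (x := (⟨u, hu⟩ : W))
  rw [S.cW] at this
  exact congrArg Subtype.val this

theorem dec {x y : G} (hx : x ∈ (P : Subgroup G)) (hx' : x ∉ W) (hy : y ∈ (P : Subgroup G)) :
    ∃ u ∈ W, y = u ∨ y = x * u ∨ y = x⁻¹ * u := by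
  haveI := S.nrm
  let π := QuotientGroup.mk' (W.subgroupOf P)
  have x1 : π ⟨x, hx⟩ ≠ 1 := fun e => hx' (mem_subgroupOf.1 ((QuotientGroup.eq_one_iff _).1 e))
  have o3 : orderOf (π ⟨x, hx⟩) = 3 := orderOf_eq_prime (by have := pow_card_eq_one' (x := π ⟨x, hx⟩); rwa [S.cQ] at this) x1
  have ht : zpowers (π ⟨x, hx⟩) = ⊤ := zpowers_eq_top_of_prime_card S.cQ x1
  obtain ⟨k, hk⟩ := (mem_powers_iff_mem_zpowers (x := π ⟨x, hx⟩) (y := π ⟨y, hy⟩)).2 (ht ▸ mem_top _)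
  change π ⟨x, hx⟩ ^ k = _ at hk
  rw [← pow_mod_orderOf, o3, ← map_pow, QuotientGroup.mk'_eq_mk'] at hk
  obtain ⟨u, hu, e⟩ := hk
  have e' : x ^ (k % 3) * u = y := congrArg Subtype.val e
  have x3 : x ^ 3 ∈ W := mem_subgroupOf.1 ((QuotientGroup.eq_one_iff (⟨x, hx⟩ ^ 3 : P)).1 (by
    change π _ = 1; rw [map_pow]; exact orderOf_dvd_iff_pow_eq_one.1 o3.dvd))
  have : k % 3 = 0 ∨ k % 3 = 1 ∨ k % 3 = 2 := by omega
  rcases this with r | r | r <;> rw [r] at e'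
  · exact ⟨u, mem_subgroupOf.1 hu, .inl (by simpa using e'.symm)⟩
  · exact ⟨u, mem_subgroupOf.1 hu, .inr (.inl (by simpa using e'.symm))⟩
  · exact ⟨x ^ 3 * u, mul_mem x3 (mem_subgroupOf.1 hu), .inr (.inr (by rw [← e']; group))⟩

theorem exists_x (hp : commutator G = ⊤) : ∃ x ∈ (P : Subgroup G), x ∉ W ∧
    ∀ y ∈ (P : Subgroup G), y ∉ W → ∃ u ∈ W, IsConj (x * u) y := by
  have hf := Subgroup.commutator_inf_eq_focalSubgroup P
  rw [hp, top_inf_eq] at hf
  have : ¬ focalSubgroup (P : Subgroup G) ≤ W := fun h => by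
    have := card_le_of_le (hf.le.trans h); rw [S.cP, S.cW] at this; omega
  rw [focalSubgroup, closure_le, Set.not_subset] at this
  obtain ⟨g, ⟨gP, x, xP, c, rfl⟩, gW⟩ := this
  have e : ⁅x, c⁆ = x * (c * x⁻¹ * c⁻¹) := by rw [commutatorElement_def]; group
  rw [e] at gP gW
  have yP : c * x⁻¹ * c⁻¹ ∈ (P : Subgroup G) := (mul_mem_cancel_left xP).1 gP
  have xW : x ∉ W := fun h => gW (mul_mem h (S.sc (inv_mem h) yP))
  obtain ⟨n, hn, en⟩ := fus P S.cP (inv_mem xP) yP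
  obtain ⟨v, hv, ev⟩ : ∃ v ∈ W, c * x⁻¹ * c⁻¹ = x * v := by
    obtain ⟨v, hv, a | a | a⟩ := S.dec xP xW yP
    · refine absurd ?_ xW
      have := S.sc (g := c⁻¹) hv (by rw [← a]; simpa [mul_assoc] using xP)
      rw [← a] at this; simpa [mul_assoc] using this
    · exact ⟨v, hv, a⟩
    · exact absurd (by rw [a]; simpa using hv) gW
  refine ⟨x, xP, xW, fun y hy yW => ?_⟩
  obtain ⟨u, hu, a | a | a⟩ := S.dec xP xW hy
  · exact absurd (a ▸ hu) yW
  · exact ⟨u, hu, a ▸ IsConj.refl _⟩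
  · refine ⟨v * (n * u * n⁻¹), mul_mem hv (S.nm n hn u hu), (isConj_iff.2 ⟨n, ?_⟩).symm⟩
    rw [a, ← mul_assoc x, ← ev, ← en]; group

theorem powm (g : G) : (g ^ m) ^ 9 = 1 := by rw [← pow_mul, mul_comm, ← S.hc, pow_card_eq_one']

theorem inj {a b : G} (ha : a ∈ (P : Subgroup G)) (hb : b ∈ (P : Subgroup G)) (e : a ^ m = b ^ m) : a = b := by
  have := (powCoprime (G := P) (n := m) (by rw [S.cP]; exact (S.hm.pow_right 2).symm)).injective
    (a₁ := ⟨a, ha⟩) (a₂ := ⟨b, hb⟩) (Subtype.ext e)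
  exact congrArg Subtype.val this

/-- type one -/
def One (P : Sylow 3 G) (x : G) : Prop :=
  ∀ n ∈ normalizer ((P : Subgroup G) : Set G), n * x * n⁻¹ = x → ∀ y ∈ (P : Subgroup G), n * y * n⁻¹ = y

theorem inv_of {x n : G} (hx : x ∈ (P : Subgroup G)) (hx' : x ∉ W)
    (hn : n ∈ normalizer ((P : Subgroup G) : Set G)) (e : n * x * n⁻¹ = x)
    (h : ¬ ∀ y ∈ (P : Subgroup G), n * y * n⁻¹ = y) {u : G} (hu : u ∈ W) : n * u * n⁻¹ = u⁻¹ := by
  by_cases u1 : u = 1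
  · simp [u1]
  have ht : zpowers (⟨u, hu⟩ : W) = ⊤ := zpowers_eq_top_of_prime_card S.cW (fun e => u1 (congrArg Subtype.val e))
  have pw : ∀ v ∈ W, ∃ k : ℕ, v = u ^ k := fun v hv => by
    obtain ⟨k, hk⟩ := (mem_powers_iff_mem_zpowers (x := (⟨u, hu⟩ : W)) (y := ⟨v, hv⟩)).2 (ht ▸ mem_top _)
    exact ⟨k, (congrArg Subtype.val hk).symm⟩
  obtain ⟨k, hk⟩ := pw _ (S.nm n hn u hu)
  rw [pow_eq_pow_mod k (S.w3 hu)] at hk
  have : k % 3 = 0 ∨ k % 3 = 1 ∨ k % 3 = 2 := by omega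
  rcases this with r | r | r <;> rw [r] at hk
  · exact absurd (by simpa using hk) u1
  · refine absurd (fun y hy => ?_) h
    obtain ⟨v, hv, a⟩ := S.dec hx hx' hy
    obtain ⟨j, rfl⟩ := pw v hv
    have b : n * u ^ j * n⁻¹ = u ^ j := by rw [← conj_pow, hk, pow_one]
    rcases a with rfl | rfl | rfl
    · exact b
    · rw [← conj_mul, b, e]
    · rw [← conj_mul, b, ← conj_inv, e]
  · rw [hk, eq_inv_iff_mul_eq_one, ← pow_succ, S.w3 hu]

theorem one_or {x u : G} (hx : x ∈ (P : Subgroup G)) (hx' : x ∉ W) (hu : u ∈ W) (u1 : u ≠ 1) :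
    One P x ∨ One P (x * u) := by
  by_contra k
  rw [not_or] at k
  obtain ⟨k1, k2⟩ := k
  simp only [One, not_forall (α := G), exists_prop, Classical.not_imp] at k1 k2
  obtain ⟨n, hn, e, h⟩ := k1
  obtain ⟨n', hn', e', h'⟩ := k2
  have a := S.inv_of hx hx' hn e (by simpa using h) hu
  have a' := S.inv_of (mul_mem hx (S.le hu)) (fun h => hx' ((mul_mem_cancel_right hu).1 h)) hn' e' (by simpa using h') hu
  have u3 : u⁻¹ * u⁻¹ = u := by
    rw [← mul_inv_rev, inv_eq_iff_mul_eq_one, ← pow_two, ← pow_succ, S.w3 hu]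
  have b1 : (n * n') * u * (n * n')⁻¹ = u := by
    calc _ = n * (n' * u * n'⁻¹) * n⁻¹ := by group
      _ = u := by rw [a', ← conj_inv, a, inv_inv]
  have b2 : (n * n') * x * (n * n')⁻¹ = x * u := by
    have : n' * x * n'⁻¹ = x * u * u := by
      calc _ = (n' * (x * u) * n'⁻¹) * (n' * u * n'⁻¹)⁻¹ := by group
        _ = _ := by rw [e', a', inv_inv]
    calc _ = n * (n' * x * n'⁻¹) * n⁻¹ := by group
      _ = (n * x * n⁻¹) * ((n * u * n⁻¹) * (n * u * n⁻¹)) := by rw [this]; group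
      _ = x * u := by rw [e, a, u3]
  have b3 : ∀ j : ℕ, (n * n') ^ j * x * ((n * n') ^ j)⁻¹ = x * u ^ j := fun j => by
    induction j with
    | zero => simp
    | succ j ih =>
      calc _ = (n * n') * ((n * n') ^ j * x * ((n * n') ^ j)⁻¹) * (n * n')⁻¹ := by rw [pow_succ', mul_inv_rev (n * n')]; simp only [mul_assoc]
        _ = _ := by rw [ih, ← conj_mul, ← conj_pow, b1, b2, pow_succ', mul_assoc]
  have hP : (n * n') ^ m ∈ (P : Subgroup G) := by
    have := (isP_of_pow (S.powm (n * n'))).inf_normalizer_sylow P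
    have h2 : (n * n') ^ m ∈ zpowers ((n * n') ^ m) ⊓ normalizer ((P : Subgroup G) : Set G) :=
      ⟨mem_zpowers _, pow_mem (mul_mem hn hn') m⟩
    exact (this.le h2).2
  have := b3 m
  rw [comm9 S.cP hP hx, mul_inv_cancel_right, left_eq_mul] at this
  exact u1 (S.inj (S.le hu) (one_mem _) (by simpa using this))

end St
end H23.Nine
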