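import Cfsg.Agent.H23.Nine1

/-! The generalized character `1 + χ - ψ`. -/

set_option autoImplicit false

namespace H23.Nine
open Cfsg Subgroup H5
open scoped ComplexConjugate

variable {G : Type*} [Group G] {m : ℕ} {P : Sylow 3 G} {W : Subgroup G}

open Classical in
/-- the class function -/
noncomputable def al (m : ℕ) (W : Subgroup G) (g : G) : ℂ := if ∃ c : G, c * g ^ m * c⁻¹ ∈ W then 0 else 3

theorem al_cf : IsClassFunction G (al m W) := fun g x => by
  unfold al
  congr 1
  rw [conj_pow]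
  exact propext ⟨fun ⟨c, hc⟩ => ⟨c * x, by simpa [mul_assoc] using hc⟩,
    fun ⟨c, hc⟩ => ⟨c * x⁻¹, by simpa [mul_assoc] using hc⟩⟩

theorem al_val (g : G) : al m W g = 0 ∨ al m W g = 3 := by
  unfold al; split_ifs <;> simp

theorem pow_hom {E : Type*} [Group E] [Finite E] (h : (center E).index ∣ m) (e f : E) :
    (e * f) ^ m = e ^ m * f ^ m := by
  obtain ⟨j, rfl⟩ := h
  have h1 := congrArg Subtype.val (map_mul (MonoidHom.transferCenterPow E) e f)
  rw [coe_mul] at h1
  simp only [MonoidHom.transferCenterPow_apply] at h1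
  have h2 := (MonoidHom.transferCenterPow E f).2
  rw [MonoidHom.transferCenterPow_apply] at h2
  rw [pow_mul, pow_mul, pow_mul, h1, Commute.mul_pow (mem_center_iff.1 h2 _)]

variable [Finite G]

theorem sec_le (x : G) (r : ℕ) (h : r * {g : G | g ^ m = x}.ncard ≤ Nat.card (centralizer ({x} : Set G))) :
    r * {g : G | IsConj x (g ^ m)}.ncard ≤ Nat.card G := by
  set C := centralizer ({x} : Set G)
  have : {g : G | IsConj x (g ^ m)} ⊆ (fun p : (G ⧸ C) × G => p.1.out * p.2 * p.1.out⁻¹) ''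
      (Set.univ ×ˢ {g : G | g ^ m = x}) := fun g hg => by
    obtain ⟨c, hc⟩ := isConj_iff.1 hg
    obtain ⟨k, hk⟩ := QuotientGroup.mk_out_eq_mul C c
    refine ⟨⟨c, (c * k)⁻¹ * g * (c * k)⟩, ⟨trivial, ?_⟩, by simp only [hk]; group⟩
    have := mem_centralizer_singleton_iff.1 k.2
    change _ = x
    rw [show (c * k)⁻¹ * g * (c * k) = (c * k)⁻¹ * g * ((c * k)⁻¹)⁻¹ by group, conj_pow, ← hc]
    calc _ = (k : G)⁻¹ * (x * k) := by group
      _ = x := by rw [← this]; group
  have h2 := (Set.ncard_le_ncard this).trans (Set.ncard_image_le)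
  rw [Set.ncard_prod, Set.ncard_univ] at h2
  calc _ ≤ r * (C.index * _) := Nat.mul_le_mul_left _ h2
    _ = C.index * (r * _) := by ring
    _ ≤ C.index * Nat.card C := Nat.mul_le_mul_left _ h
    _ = _ := C.index_mul_card

namespace St
variable (S : St m P W)
include S

theorem mem_of_pow {y : G} (hy : y ∈ (P : Subgroup G)) (h : y ^ m ∈ W) : y ∈ W := by
  obtain ⟨u, hu⟩ := (powCoprime (G := W) (n := m) (by rw [S.cW]; exact S.hm.symm)).surjective ⟨_, h⟩
  exact S.inj (S.le u.2) hy (congrArg Subtype.val hu) ▸ u.2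

theorem al_zero {g c : G} (h : c * g ^ m * c⁻¹ ∈ (P : Subgroup G)) :
    (∃ c : G, c * g ^ m * c⁻¹ ∈ W) ↔ c * g ^ m * c⁻¹ ∈ W := by
  refine ⟨fun ⟨d, hd⟩ => ?_, fun h => ⟨c, h⟩⟩
  have := S.sc (g := c * d⁻¹) hd (by simpa [mul_assoc] using h)
  simpa [mul_assoc] using this

open Classical in
theorem al_P {y : G} (hy : y ∈ (P : Subgroup G)) : al m W y = if y ∈ W then 0 else 3 := by
  unfold al
  rw [S.al_zero (c := 1) (by simpa using pow_mem hy m)]
  congr 1
  exact propext ⟨fun h => S.mem_of_pow hy (by simpa using h), fun h => by simpa using pow_mem h m⟩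

theorem al_reg {g : G} (h : ¬ 3 ∣ orderOf g) : al m W g = 0 := by
  refine if_pos ⟨1, ?_⟩
  have : orderOf g ∣ m := (((Nat.Prime.coprime_iff_not_dvd Nat.prime_three).2 h).symm.pow_right 2).dvd_of_dvd_mul_left
    (S.hc ▸ orderOf_dvd_natCard g)
  rw [orderOf_dvd_iff_pow_eq_one.1 this]; simpa using one_mem W

theorem cen_dvd {E : Subgroup G} (hE : H6.IsElem E) : (center E).index ∣ m := by
  obtain ⟨p, hp, x, hx, -, k, hk⟩ := hE
  by_cases p3 : p = 3
  · subst p3
    obtain ⟨R⟩ : Nonempty (Sylow 3 E) := inferInstance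
    have ht := H6.sup_sylow_eq_top hk R
    obtain ⟨c, hc⟩ := exists_sylow_conj P (R.2.map E.subtype)
    have : center E = ⊤ := by
      rw [eq_top_iff, ← ht, sup_le_iff, zpowers_le]
      refine ⟨hx, fun r hr => mem_center_iff.2 fun g => ?_⟩
      have : g ∈ centralizer ({r} : Set E) := by
        refine (?_ : ⊤ ≤ centralizer ({r} : Set E)) (mem_top g)
        rw [← ht, sup_le_iff, zpowers_le]
        refine ⟨mem_centralizer_singleton_iff.2 (mem_center_iff.1 hx r).symm, fun s hs =>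
          mem_centralizer_singleton_iff.2 (Subtype.ext ?_)⟩
        have := comm9 S.cP (hc s ⟨s, hs, rfl⟩) (hc r ⟨r, hr, rfl⟩)
        rw [conj_mul, conj_mul] at this
        simpa using this
      exact mem_centralizer_singleton_iff.1 this
    rw [this, index_top]; exact one_dvd _
  · have h1 : (center E).index ∣ p ^ k := hk ▸ index_dvd_of_le (zpowers_le.2 hx)
    have h2 : (center E).index ∣ 9 * m := S.hc ▸ (index_dvd_card _).trans (card_subgroup_dvd_card E)
    exact (Nat.Coprime.coprime_dvd_left h1 (Nat.Coprime.pow k 2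
      ((Nat.coprime_primes hp Nat.prime_three).2 p3))).dvd_of_dvd_mul_left h2

theorem al_gen : IsGeneralizedCharacter G (al m W) := by
  refine H6.gen_of_elementary al_cf fun E hE => ?_
  let φ : E →* G := E.subtype.comp (MonoidHom.mk' (fun e => e ^ m) (pow_hom (S.cen_dvd hE)))
  have hφ : ∀ e : E, φ e = (e : G) ^ m := fun e => by simp [φ]
  obtain ⟨c, hc⟩ := exists_sylow_conj P (R := φ.range) (fun ⟨y, e, he⟩ => ⟨2, Subtype.ext (by
    change y ^ 9 = 1; rw [← he, hφ, S.powm])⟩)
  haveI := S.nrm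
  let ψ : E →* (P : Subgroup G) := ((MulAut.conj c).toMonoidHom.comp φ).codRestrict _ fun e => hc _ ⟨e, rfl⟩
  have h := ((isCharacter_one (G := E)).natCast_smul 3).isGeneralizedCharacter.sub
    ((isCharacter_regChar.comp ((QuotientGroup.mk' (W.subgroupOf P)).comp ψ)).isGeneralizedCharacter)
  convert h using 1
  funext e
  have hψ : (ψ e : G) = c * (e : G) ^ m * c⁻¹ := by rw [← hφ]; rfl
  unfold al
  rw [S.al_zero (hψ ▸ (ψ e).2), ← hψ]
  split_ifs with k
  · have : QuotientGroup.mk' (W.subgroupOf P) (ψ e) = 1 := (QuotientGroup.eq_one_iff _).2 (mem_subgroupOf.2 k)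
    simp only [Pi.sub_apply, MonoidHom.comp_apply, this, regChar_one, S.cQ]; simp
  · have : QuotientGroup.mk' (W.subgroupOf P) (ψ e) ≠ 1 := fun h =>
      k (mem_subgroupOf.1 ((QuotientGroup.eq_one_iff _).1 h))
    simp only [Pi.sub_apply, MonoidHom.comp_apply, regChar_of_ne_one this]; simp

theorem T3 {x : G} (hx : x ∈ (P : Subgroup G)) (x1 : x ≠ 1) :
    3 * {g : G | g ^ m = x}.ncard ≤ Nat.card (centralizer ({x} : Set G)) := by
  have cm : ∀ t : {g : G | g ^ m = x}, Commute (t : G) x := fun ⟨t, ht⟩ => by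
    have := Commute.self_pow t m; rwa [show t ^ m = x from ht] at this
  have o : 3 ≤ orderOf x := by
    have := (Nat.dvd_prime_pow Nat.prime_three).1 (orderOf_dvd_of_pow_eq_one (n := 3 ^ 2) (pow9 S.cP hx))
    obtain ⟨k, hk, e⟩ := this
    rcases k with _ | k
    · exact absurd (orderOf_eq_one_iff.1 e) x1
    · rw [e, pow_succ]; have := Nat.one_le_pow k 3 (by norm_num); omega
  let f : Fin 3 × {g : G | g ^ m = x} → centralizer ({x} : Set G) := fun p =>
    ⟨p.2 * x ^ (p.1 : ℕ), mem_centralizer_singleton_iff.2 ((cm p.2).mul_left (Commute.pow_self _ _))⟩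
  have hf : Function.Injective f := fun ⟨i, s⟩ ⟨j, t⟩ e => by
    have e1 : (s : G) * x ^ (i : ℕ) = t * x ^ (j : ℕ) := congrArg Subtype.val e
    have e2 := congrArg (· ^ m) e1
    simp only [((cm _).pow_right _).mul_pow, show (s : G) ^ m = x from s.2, show (t : G) ^ m = x from t.2,
      mul_right_inj] at e2
    have e3 := S.inj (pow_mem hx _) (pow_mem hx _) e2
    obtain rfl : i = j := Fin.ext (pow_injOn_Iio_orderOf (i.2.trans_le o) (j.2.trans_le o) e3)
    rw [Subtype.ext (mul_right_cancel e1 : (s : G) = t)]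
  simpa [Nat.card_prod] using Nat.card_le_card_of_injective f hf

theorem T9 {x : G} (hx : x ∈ (P : Subgroup G)) (h1 : One P x) :
    9 * {g : G | g ^ m = x}.ncard ≤ Nat.card (centralizer ({x} : Set G)) := by
  set C := centralizer ({x} : Set G)
  have le : (P : Subgroup G) ≤ C := fun y hy => mem_centralizer_singleton_iff.2 (comm9 S.cP hy hx)
  let Q : Sylow 3 C := P.subtype le
  have cQ : Nat.card (Q : Subgroup C) = 9 := (Nat.card_congr (subgroupOfEquivOfLe le).toEquiv).trans S.cP
  have hQ : normalizer ((Q : Subgroup C) : Set C) ≤ centralizer ((Q : Subgroup C) : Set C) := fun n hn y hy => by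
    have a : (n : G) ∈ normalizer ((P : Subgroup G) : Set G) := by
      refine mem_normalizer_fintype fun z hz => ?_
      exact mem_subgroupOf.1 ((mem_normalizer_iff.1 hn ⟨z, le hz⟩).1 (mem_subgroupOf.2 hz))
    have := h1 n a (by rw [mem_centralizer_singleton_iff.1 n.2]; group) y hy
    exact Subtype.ext (by rw [coe_mul, coe_mul, ← mul_inv_eq_iff_eq_mul.1 this])
  let τ := MonoidHom.transferSylow Q hQ
  have hd := (MonoidHom.ker_transferSylow_isComplement' Q hQ).disjoint
  have cm : ∀ t : {g : G | g ^ m = x}, (t : G) ∈ C := fun ⟨t, ht⟩ =>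
    mem_centralizer_singleton_iff.2 (by
      have := Commute.self_pow t m; rwa [show t ^ m = x from ht] at this)
  let f : ↥(Q : Subgroup C) × {g : G | g ^ m = x} → C := fun p => (⟨p.2, cm p.2⟩ : C) * p.1
  have hf : Function.Injective f := fun ⟨i, s⟩ ⟨j, t⟩ e => by
    have e1 : (⟨s, cm s⟩ : C) * i = ⟨t, cm t⟩ * j := e
    have e2 : τ ⟨s, cm s⟩ = τ ⟨t, cm t⟩ := (powCoprime (G := (Q : Subgroup C)) (n := m)
      (by rw [cQ]; exact (S.hm.pow_right 2).symm)).injective (by
        simp only [powCoprime_apply, ← map_pow]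
        congr 1
        exact Subtype.ext (s.2.trans t.2.symm))
    have e3 := congrArg τ e1
    rw [map_mul, map_mul, e2, mul_right_inj] at e3
    have e4 : (i : C) * (j : C)⁻¹ = 1 := disjoint_def.1 hd (by
      rw [MonoidHom.mem_ker, map_mul, map_inv, e3, mul_inv_cancel]) (mul_mem i.2 (inv_mem j.2))
    obtain rfl : i = j := Subtype.ext (mul_inv_eq_one.1 e4)
    have e6 := mul_right_cancel e1
    have e5 : (s : G) = t := Subtype.mk.inj e6
    rw [Subtype.ext e5]
  simpa [Nat.card_prod, cQ] using Nat.card_le_card_of_injective f hf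

theorem count (hp : commutator G = ⊤) :
    0 < {g : G | al m W g ≠ 0}.ncard ∧ 9 * {g : G | al m W g ≠ 0}.ncard ≤ 5 * Nat.card G := by
  classical
  obtain ⟨x, xP, xW, hx⟩ := S.exists_x hp
  refine ⟨(Set.ncard_pos).2 ⟨x, by simp [S.al_P xP, xW]⟩, ?_⟩
  haveI := Fintype.ofFinite W
  obtain ⟨u0, h0⟩ : ∃ u0 : W, ∀ u : W, u ≠ u0 → One P (x * u) := by
    by_cases k : ∀ u : W, One P (x * u)
    · exact ⟨1, fun u _ => k u⟩
    push Not at k
    obtain ⟨u0, k⟩ := k
    refine ⟨u0, fun u hu => ?_⟩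
    have := (S.one_or (mul_mem xP (S.le u0.2)) (fun h => xW ((mul_mem_cancel_right u0.2).1 h)) (u0⁻¹ * u).2
      (fun e => hu (eq_of_inv_mul_eq_one (Subtype.ext e)).symm)).resolve_left k
    simpa [mul_assoc] using this
  have sub : {g : G | al m W g ≠ 0} ⊆ ⋃ u : W, {g : G | IsConj (x * u) (g ^ m)} := fun g hg => by
    obtain ⟨c, hc⟩ := exists_sylow_conj P (isP_of_pow (S.powm g))
    obtain ⟨u, hu, e⟩ := hx _ (hc _ (mem_zpowers _)) fun h => hg (if_pos ⟨c, h⟩)
    exact Set.mem_iUnion.2 ⟨⟨u, hu⟩, e.trans (isConj_iff.2 ⟨c, rfl⟩).symm⟩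
  have h1 := (Set.ncard_le_ncard sub).trans (Set.ncard_iUnion_le_of_fintype _)
  rw [← Finset.add_sum_erase _ _ (Finset.mem_univ u0)] at h1
  have h2 := sec_le _ 3 (S.T3 (mul_mem xP (S.le u0.2)) fun h => xW ((mul_mem_cancel_right u0.2).1 (h ▸ one_mem W)))
  have h3 := Finset.sum_le_card_nsmul (Finset.univ.erase u0) (fun u : W => 9 * {g : G | IsConj (x * u) (g ^ m)}.ncard)
    (Nat.card G) fun u hu => sec_le _ 9 (S.T9 (mul_mem xP (S.le u.2)) (h0 u (Finset.ne_of_mem_erase hu)))
  rw [← Finset.mul_sum, Finset.card_erase_of_mem (Finset.mem_univ _), Finset.card_univ,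
    ← Nat.card_eq_fintype_card, S.cW, smul_eq_mul] at h3
  omega

theorem exists_pair (hp : commutator G = ⊤) : ∃ χ ψ : G → ℂ, IsIrrCharacter G χ ∧ IsIrrCharacter G ψ ∧ χ ≠ ψ ∧
    χ ≠ (fun _ => 1) ∧ ψ ≠ (fun _ => 1) ∧ al m W = (fun _ => 1) + χ - ψ := by
  classical
  haveI := Fintype.ofFinite G
  obtain ⟨n, hn⟩ := S.al_gen.exists_classInner_int isGeneralizedCharacter_one
  have h1 := hn
  rw [classInner_one_right, inv_mul_eq_iff_eq_mul₀ (card_ne_zero_complex G)] at h1
  have h2 : ∑ g, al m W g = 3 * ({g : G | al m W g ≠ 0}.ncard : ℂ) := by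
    rw [← Finset.sum_filter_ne_zero, Finset.sum_congr rfl fun g hg =>
      (al_val g).resolve_left (Finset.mem_filter.1 hg).2, Finset.sum_const, nsmul_eq_mul, mul_comm,
      ← Set.ncard_coe_finset]
    simp
  rw [h2] at h1
  have h3 : 3 * ({g : G | al m W g ≠ 0}.ncard : ℤ) = Nat.card G * n := by exact_mod_cast h1
  obtain ⟨a, b⟩ := S.count hp
  have hG : 0 < Nat.card G := Nat.card_pos
  obtain rfl : n = 1 := by
    have : 0 < n := by nlinarith
    have : n < 2 := by nlinarith
    omega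
  refine S.al_gen.exists_of_norm_three ?_ (by simpa using hn) (S.al_reg (by simp))
  have : classInner (al m W) (al m W) = 3 * classInner (al m W) (fun _ => 1) := by
    rw [classInner_one_right, classInner_def, mul_left_comm (3 : ℂ), Finset.mul_sum _ _ (3 : ℂ)]
    congr 1
    refine Finset.sum_congr rfl fun g _ => ?_
    rcases al_val (m := m) (W := W) g with e | e <;> rw [e] <;> simp [map_ofNat]
  rw [this, hn]; simp

end St
end H23.Nine
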