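import Cfsg.Agent.H23.Nine2
import Cfsg.Agent.H7.Expand
import Cfsg.Agent.S0925
import Cfsg.Agent.S4710
import Cfsg.Agent.S4471
import Cfsg.Agent.S4730
import Cfsg.Agent.H10.Pass1

/-! Degrees of the two characters. -/

set_option autoImplicit false

namespace H23.Nine
open Cfsg Subgroup H5 H7
open scoped ComplexConjugate

variable {G : Type*} [Group G] [Finite G] {m : ℕ} {P : Sylow 3 G} {W : Subgroup G} {χ ψ : G → ℂ}

theorem St.deg (S : St m P W) (hχ : IsIrrCharacter G χ) (hψ : IsIrrCharacter G ψ)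
    (e : al m W = (fun _ => 1) + χ - ψ) :
    ¬ 3 ∣ charDegree χ ∧ ¬ 3 ∣ charDegree ψ ∧ charDegree ψ = charDegree χ + 1 := by
  obtain ⟨M, hM⟩ := exists_isPModular Nat.prime_three
  have a := irr_apply_one ⟨χ, hχ⟩
  have b := irr_apply_one ⟨ψ, hψ⟩
  have a0 := charDegree_pos ⟨χ, hχ⟩
  simp only at a b a0
  have h1 : charDegree ψ = charDegree χ + 1 := by
    have := congrFun e 1
    rw [S.al_reg (by simp)] at this
    simp only [Pi.sub_apply, Pi.add_apply, a, b] at this
    exact_mod_cast (by linear_combination this : (charDegree ψ : ℂ) = charDegree χ + 1)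
  have h0 := (Cfsg.Agent.S0925.result 3 M hM).1 _ (al_cf (m := m) (W := W)) 1 ⟨0, by simp⟩
    (fun u z ⟨y, e, _, _, hy⟩ hz => S.al_reg (by rwa [← e, isConj_one_right.1 hz, one_mul])) _
    isPBlock_principalBlock 1 1 ⟨1, by simp, by simp, ⟨0, by simp⟩, by simp⟩ (IsConj.refl _)
  have h2 := blockPart_sub (irrOne G).2.isClassFunction (al_cf (m := m) (W := W)) (principalBlock M G) 1
  rw [h0, blockPart_irr_of_mem (irrOne_mem_principalBlock hM), show (irrOne G).1 - al m W = ψ - χ by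
    rw [e]; change (fun _ => 1) - _ = _; abel, blockPart_sub hψ.isClassFunction hχ.isClassFunction] at h2
  have hB : (⟨χ, hχ⟩ : IrrCharacter G) ∈ principalBlock M G ∧ (⟨ψ, hψ⟩ : IrrCharacter G) ∈ principalBlock M G := by
    have c1 : (irrOne G).1 1 = 1 := rfl
    by_cases k1 : (⟨χ, hχ⟩ : IrrCharacter G) ∈ principalBlock M G <;>
      by_cases k2 : (⟨ψ, hψ⟩ : IrrCharacter G) ∈ principalBlock M G
    · exact ⟨k1, k2⟩
    · rw [blockPart_irr_of_mem k1, blockPart_irr_of_notMem k2, c1] at h2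
      simp only [a] at h2
      have : (charDegree χ + 1 : ℕ) = 0 := by exact_mod_cast (by linear_combination -h2 : (charDegree χ : ℂ) + 1 = 0)
      omega
    · rw [blockPart_irr_of_notMem k1, blockPart_irr_of_mem k2, c1] at h2
      simp only [b] at h2
      have : charDegree ψ = 1 := by exact_mod_cast (by linear_combination h2 : (charDegree ψ : ℂ) = 1)
      omega
    · rw [blockPart_irr_of_notMem k1, blockPart_irr_of_notMem k2, c1] at h2
      simp at h2
  have ht : ∀ θ ∈ principalBlock M G, ¬ 3 ∣ charDegree θ.1 := fun θ hθ => by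
    have := ((Cfsg.Agent.S4710.result 3 M hM _ isPBlock_principalBlock _ rfl).2 θ hθ)
    have d2 : blockDefect 3 (principalBlock M G) ≤ 2 := by
      have := P.card_eq_multiplicity
      rw [S.cP, show 9 = 3 ^ 2 from rfl] at this
      exact (Nat.sub_le _ _).trans (Nat.pow_right_injective (by norm_num) this).ge
    have h3 : blockHeight 3 (principalBlock M G) θ.1 = 0 := by omega
    have h4 := Nat.sInf_le (s := (fun ψ : IrrCharacter G => (charDegree (ψ : G → ℂ)).factorization 3) ''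
      principalBlock M G) ⟨_, irrOne_mem_principalBlock hM, rfl⟩
    simp only [charDegree_irrOne, Nat.factorization_one, Finsupp.coe_zero, Pi.zero_apply] at h4
    unfold blockHeight at h3
    intro h
    have := (Nat.prime_three.dvd_iff_one_le_factorization (charDegree_ne_zero θ)).1 h
    omega
  exact ⟨ht _ hB.1, ht _ hB.2, h1⟩

theorem St.not_four (S : St m P W) (hχ : IsIrrCharacter G χ) (hψ : IsIrrCharacter G ψ) (ne : χ ≠ ψ)
    (e : al m W = (fun _ => 1) + χ - ψ) (hk : charKer χ = ⊥) (h4 : χ 1 = 4) : False := by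
  classical
  haveI := Fintype.ofFinite G
  have key : ∀ σ : ℂ ≃+* ℂ, (fun g => σ (χ g)) = χ := fun σ => by
    by_contra k
    have a := hχ.map_ringHom σ.toRingHom
    have b := hψ.map_ringHom σ.toRingHom
    have c : ((fun g => σ.toRingHom (χ g)) - fun g => σ.toRingHom (ψ g)) = χ - ψ := by
      funext g
      have h1 : σ (al m W g) = al m W g := by
        rcases al_val (m := m) (W := W) g with e | e <;> rw [e] <;> simp [map_ofNat]
      rw [e] at h1
      simp only [Pi.sub_apply, Pi.add_apply, map_sub, map_add, map_one] at h1 ⊢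
      change σ _ - σ _ = _
      linear_combination h1
    have d := congrArg (classInner · χ) c
    simp only [classInner_sub_left, a.classInner_of_ne hχ k, hχ.classInner_self, hψ.classInner_of_ne hχ ne.symm,
      b.classInner_eq hχ] at d
    split_ifs at d <;> norm_num at d
  choose f hf using fun g => exists_int_of_fixed (hχ.isGeneralizedCharacter.isIntegral_apply g)
    fun σ => congrFun (key σ) g
  obtain ⟨M, hM⟩ := exists_isPModular Nat.prime_three
  have val : ∀ y : (P : Subgroup G), f y = 1 + (if y = 1 then 3 else 0) - (if f y = -2 then 3 else 0) := fun y => by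
    by_cases y1 : y = 1
    · have : f 1 = 4 := by exact_mod_cast (hf 1).symm.trans h4
      simp [y1, this]
    have a := dvd_sub_of_isPElt hM hχ.isCharacter (x := 1) (y := y) ⟨0, by simp⟩
      (isPElt_iff.2 ⟨2, pow9 S.cP y.2⟩) (a := 4) (by exact_mod_cast h4) (hf y)
    have b := hχ.isCharacter.re_lt_of_not_mem_charKer (g := y) (by rw [hk]; simpa using y1)
    have c := hχ.isCharacter.norm_apply_le (y : G)
    rw [h4, hf] at b c
    simp only [Complex.intCast_re, Complex.re_ofNat, Complex.norm_intCast] at b c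
    have b' : f y < 4 := Int.cast_lt (R := ℝ) |>.1 (by push_cast; exact b)
    have c' : |f y| ≤ 4 := Int.cast_le (R := ℝ) |>.1 (by push_cast; exact c)
    have := abs_le.1 c'
    simp only [y1, if_false]
    split_ifs <;> omega
  obtain ⟨n1, h1⟩ := (hχ.isCharacter.restrict P).exists_classInner_nat isCharacter_one
  obtain ⟨n2, h2⟩ := (hψ.isCharacter.restrict P).exists_classInner_nat isCharacter_one
  rw [classInner_one_right, inv_mul_eq_iff_eq_mul₀ (card_ne_zero_complex _), S.cP] at h1 h2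
  have cP : Fintype.card (P : Subgroup G) = 9 := by rw [← Nat.card_eq_fintype_card, S.cP]
  have h3 : ∑ y : (P : Subgroup G), al m W y = 18 := by
    have : (Finset.univ.filter fun y : (P : Subgroup G) => (y : G) ∈ W).card = 3 := by
      rw [← Fintype.card_subtype, ← Nat.card_eq_fintype_card]
      exact (Nat.card_congr (subgroupOfEquivOfLe S.le).toEquiv).trans S.cW
    have h9 := Finset.card_filter_add_card_filter_not (s := Finset.univ) fun y : (P : Subgroup G) => (y : G) ∈ W
    rw [this, Finset.card_univ, cP] at h9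
    rw [Finset.sum_congr rfl fun y _ => S.al_P y.2, Finset.sum_ite, Finset.sum_const_zero, Finset.sum_const,
      show (Finset.univ.filter fun y : (P : Subgroup G) => ¬ (y : G) ∈ W).card = 6 by omega]
    norm_num
  simp only [e, Pi.sub_apply, Pi.add_apply, Finset.sum_sub_distrib, Finset.sum_add_distrib, h1, h2,
    Finset.sum_const, Finset.card_univ, cP] at h3
  have h5 : n1 = n2 + 1 := by
    exact_mod_cast (by simp only [nsmul_eq_mul] at h3; push_cast at h3; linear_combination h3 / 9 : (n1 : ℂ) = n2 + 1)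
  have h6 : ∑ y : (P : Subgroup G), f y = 9 * n1 := by
    simp only [hf] at h1; exact_mod_cast h1
  rw [Finset.sum_congr rfl fun y _ => val y] at h6
  simp only [Finset.sum_sub_distrib, Finset.sum_add_distrib, Finset.sum_ite_eq', Finset.mem_univ, if_true,
    Finset.sum_const, Finset.card_univ, cP, ← Finset.sum_filter, nsmul_eq_mul] at h6
  obtain ⟨y, hy⟩ := Finset.card_eq_one.1
    (by omega : (Finset.univ.filter fun y : (P : Subgroup G) => f y = -2).card = 1)
  have y2 : f y = -2 := (Finset.mem_filter.1 (hy.ge (Finset.mem_singleton_self y))).2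
  have y3 : y⁻¹ = y := Finset.mem_singleton.1 (hy.le <| Finset.mem_filter.2 ⟨Finset.mem_univ _, by
    have := hχ.apply_inv y
    rw [hf, hf, y2, map_intCast] at this
    exact_mod_cast this⟩)
  have y4 : (y : G) = 1 := by
    have a : (y : G) ^ 2 = 1 := by rw [pow_two]; nth_rewrite 1 [← y3]; simp
    have := pow9 S.cP y.2
    rwa [show 9 = 2 * 4 + 1 from rfl, pow_succ, pow_mul, a, one_pow, one_mul] at this
  have : f 1 = 4 := by exact_mod_cast (hf 1).symm.trans h4
  rw [y4] at y2; omega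

theorem arith {q a b d : ℕ} (hq : q.Prime) (q2 : q ≠ 2) (q3 : q ≠ 3) (d2 : 2 ≤ d) (h1 : d ∣ 9 * 2 ^ a * q ^ b)
    (h2 : d + 1 ∣ 9 * 2 ^ a * q ^ b) (n1 : ¬ 3 ∣ d) (n2 : ¬ 3 ∣ d + 1) :
    (d = q ∧ ∃ i, q + 1 = 2 ^ i) ∨ (d + 1 = q ∧ ∃ i, d = 2 ^ i) := by
  have k : ∀ e, e ∣ 9 * 2 ^ a * q ^ b → ¬ 3 ∣ e → ∃ i j, e = 2 ^ i * q ^ j := fun e h n => by
    rw [mul_assoc] at h
    obtain ⟨x, y, hx, hy, rfl⟩ := (Nat.dvd_mul).1
      ((((Nat.Prime.coprime_iff_not_dvd Nat.prime_three).2 n).symm.pow_right 2).dvd_of_dvd_mul_left h)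
    obtain ⟨i, -, rfl⟩ := (Nat.dvd_prime_pow Nat.prime_two).1 hx
    obtain ⟨j, -, rfl⟩ := (Nat.dvd_prime_pow hq).1 hy
    exact ⟨i, j, rfl⟩
  obtain ⟨i, j, e1⟩ := k d h1 n1
  obtain ⟨s, t, e2⟩ := k _ h2 n2
  have c : ∀ r, r.Prime → r ∣ d → ¬ r ∣ d + 1 := fun r hr a b => hr.one_lt.ne' (Nat.dvd_one.1 ((Nat.dvd_add_right a).1 b))
  have c1 : i = 0 ∨ s = 0 := by
    by_contra! h
    exact c 2 Nat.prime_two (e1 ▸ (dvd_pow_self 2 h.1).mul_right _) (e2 ▸ (dvd_pow_self 2 h.2).mul_right _)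
  have c2 : j = 0 ∨ t = 0 := by
    by_contra! h
    exact c q hq (e1 ▸ (dvd_pow_self q h.1).mul_left _) (e2 ▸ (dvd_pow_self q h.2).mul_left _)
  rcases c1 with rfl | rfl <;> rcases c2 with rfl | rfl <;> simp only [pow_zero, one_mul, mul_one] at e1 e2
  · omega
  · have := H10.Pass.N1 hq.one_lt (Nat.pos_of_ne_zero (by rintro rfl; simp at e1; omega)) (e1 ▸ e2)
    subst this; rw [pow_one] at e1; exact .inl ⟨e1, s, e1 ▸ e2⟩
  · have : t = 1 := by
      by_contra h
      have : t ≠ 0 := by rintro rfl; simp at e2; omega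
      exact q3 (H10.Pass.N2 (hq.odd_of_ne_two q2) (by omega) (e2.symm.trans (by rw [e1]))).1
    subst this; exact .inr ⟨by simpa using e2, i, e1⟩
  · omega

theorem b_one [IsSimpleGroup G] (hG : ¬ IsMulCommutative G) {q a b : ℕ} (hq : q.Prime) (q2 : q ≠ 2) (q3 : q ≠ 3)
    (hc : Nat.card G = 9 * 2 ^ a * q ^ b)
    (h3 : 3 ≤ Nat.card {C : ConjClasses G // ∃ g ∈ C.carrier, g ≠ 1 ∧ orderOf g ∣ 9}) : 7 ≤ q ∧ b = 1 := by
  haveI := Fact.mk hq
  have c3 : q.Coprime 3 := (Nat.coprime_primes hq Nat.prime_three).2 q3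
  have hp : commutator G = ⊤ := (IsSimpleGroup.eq_bot_or_eq_top_of_normal _ inferInstance).resolve_left fun h =>
    hG ⟨⟨fun x y => commutatorElement_eq_one_iff_mul_comm.1 (mem_bot.1 (h ▸ commutator_mem_commutator (mem_top x) (mem_top y)))⟩⟩
  have hZ : center G = ⊥ := (IsSimpleGroup.eq_bot_or_eq_top_of_normal _ inferInstance).resolve_right fun h =>
    hG ⟨⟨fun x y => mem_center_iff.1 (h ▸ mem_top y) x⟩⟩
  obtain ⟨P, W, S⟩ := exists_st (m := 2 ^ a * q ^ b) (Nat.Coprime.mul_left (Nat.Coprime.pow_left a (by norm_num))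
    (c3.pow_left b)) (by rw [hc, mul_assoc]) h3
  obtain ⟨χ, ψ, hχ, hψ, ne, χ1, ψ1, e⟩ := S.exists_pair hp
  obtain ⟨n1, n2, d⟩ := S.deg hχ hψ e
  have k1 := hχ.charKer_eq_bot_of_simple χ1
  have k2 := hψ.charKer_eq_bot_of_simple ψ1
  have a1 := irr_apply_one ⟨χ, hχ⟩
  have a2 := irr_apply_one ⟨ψ, hψ⟩
  have d1 : charDegree χ ∣ _ := hc ▸ hχ.dvd_card a1
  have d2 : charDegree ψ ∣ _ := hc ▸ hψ.dvd_card a2
  have g2 : 2 ≤ charDegree χ := by
    have := charDegree_pos ⟨χ, hχ⟩
    have : charDegree χ ≠ 1 := fun h => by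
      have := hχ.apply_one_eq_one_iff.1 (a1.trans (by simp [h]))
      rw [hp, k1] at this; exact absurd this (by simp)
    simp only at *; omega
  have fa : ∀ {θ : G → ℂ}, IsIrrCharacter G θ → charKer θ = ⊥ → ∀ g, θ g = θ 1 → g = 1 := fun h k g e =>
    mem_bot.1 (k ▸ h.mem_charKer_iff.2 e)
  obtain ⟨q7, θ, η, f1, f2, t1, t2, t3⟩ : 7 ≤ q ∧ ∃ θ η : IrrCharacter G, (∀ g, θ.1 g = θ.1 1 → g = 1) ∧
      (∀ g, η.1 g = η.1 1 → g = 1) ∧ charDegree θ.1 = q ∧ charDegree η.1 < 2 * q ∧ charDegree η.1 ≠ q := by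
    have q5 : q = 5 ∨ 7 ≤ q := by
      have := hq.two_le
      have := hq.eq_two_or_odd
      have : q ≠ 1 := hq.ne_one
      omega
    rcases arith hq q2 q3 g2 d1 (d ▸ d2) n1 (d ▸ n2) with ⟨r, i, hi⟩ | ⟨r, -⟩
    · refine ⟨q5.resolve_left ?_, ⟨χ, hχ⟩, ⟨ψ, hψ⟩, fa hχ k1, fa hψ k2, r, by simp only; omega, by simp only; omega⟩
      rintro rfl
      have : 3 ∣ 2 ^ i := hi ▸ (by norm_num)
      exact absurd (Nat.prime_three.dvd_of_dvd_pow this) (by norm_num)
    · refine ⟨q5.resolve_left ?_, ⟨ψ, hψ⟩, ⟨χ, hχ⟩, fa hψ k2, fa hχ k1, d.trans r, by simp only; omega, by simp only; omega⟩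
      rintro rfl
      exact S.not_four hχ hψ ne e k1 (a1.trans (by simp only; rw [show charDegree χ = 4 by omega]; simp))
  have fq : (Nat.card G).factorization q = b := by
    rw [hc, Nat.factorization_mul (by positivity) (pow_ne_zero _ hq.ne_zero), Finsupp.add_apply,
      Nat.factorization_eq_zero_of_not_dvd (n := 9 * 2 ^ a), hq.factorization_pow]
    · simp
    · exact (Nat.Prime.coprime_iff_not_dvd hq).1 (Nat.Coprime.mul_right (c3.pow_right 2)
        (((Nat.coprime_primes hq Nat.prime_two).2 q2).pow_right a))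
  have b1 : 1 ≤ b := fq ▸ (hq.dvd_iff_one_le_factorization Nat.card_pos.ne').1 (t1 ▸ θ.2.dvd_card (irr_apply_one θ))
  refine ⟨q7, le_antisymm ?_ b1⟩
  obtain ⟨Q⟩ : Nonempty (Sylow q G) := inferInstance
  by_cases ab : IsMulCommutative (Q : Subgroup G)
  · obtain ⟨M, hM⟩ := exists_isPModular hq
    obtain ⟨s, hs⟩ := IsPGroup.iff_card.1 (Q.2.to_subgroup (center (Q : Subgroup G)))
    have := (Cfsg.Agent.S4730.result q M hM hZ Q _ s Q.card_eq_multiplicity hs θ f1 1 (by simpa using t1)).2 ab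
    have h4 := Nat.sInf_le (s := (fun ψ : IrrCharacter G => (charDegree (ψ : G → ℂ)).factorization q) ''
      blockOf M θ.1) ⟨_, mem_blockOf_self hM θ, rfl⟩
    simp only [t1, hq.factorization_self] at h4
    unfold blockDefect at this
    omega
  · have h := (Cfsg.Agent.S4471.result η f2 _ rfl q hq q7 t2 t3).1 ⟨Q, by
      by_contra! k
      exact ab ⟨⟨fun x y => Subtype.ext (k x x.2 y y.2)⟩⟩⟩
    have : pCore q G = ⊥ := sSup_eq_bot.2 fun N hN =>
      (IsSimpleGroup.eq_bot_or_eq_top_of_normal N hN.1).resolve_right fun h => by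
        obtain ⟨s, hs⟩ := IsPGroup.iff_card.1 hN.2
        rw [h, card_top, hc] at hs
        have : 3 ∣ q ^ s := hs ▸ (Dvd.dvd.mul_right (Dvd.dvd.mul_right (by norm_num) _) _)
        exact q3 ((Nat.prime_dvd_prime_iff_eq Nat.prime_three hq).1 (Nat.prime_three.dvd_of_dvd_pow this)).symm
    rw [this, index_bot, hq.pow_dvd_iff_le_factorization Nat.card_pos.ne', fq] at h
    omega

end H23.Nine
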