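import Cfsg.Agent.H23.TIChar
import Cfsg.Agent.H5.Pairs
import Cfsg.Agent.H5.Galois

/-! A strongly self-centralizing abelian subgroup of odd order and index two in its normalizer. -/

set_option autoImplicit false

namespace H23.Nine
open Subgroup Cfsg H5
open scoped ComplexConjugate

variable {G : Type*} [Group G] [Finite G] {U : Subgroup G}

theorem dih_conj (hC : ∀ u ∈ U, u ≠ 1 → centralizer ({u} : Set G) ≤ U) (hab : ∀ a b : U, a * b = b * a)
    (ho : Odd (Nat.card U)) {t u : G} (ht : t ∈ normalizer (U : Set G)) (t2 : t * t = 1) (tU : t ∉ U)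
    (hu : u ∈ U) : IsConj t (t * u) := by
  have ti : t⁻¹ = t := inv_eq_of_mul_eq_one_right t2
  have inv : ∀ w ∈ U, t * w * t⁻¹ = w⁻¹ := fun w hw => by
    by_contra k
    have a := (mem_normalizer_iff.1 ht w).1 hw
    refine tU (hC (t * w * t⁻¹ * w) (mul_mem a hw) (fun e => k (eq_inv_of_mul_eq_one_left e))
      (mem_centralizer_singleton_iff.2 ?_))
    have c : t * w * t⁻¹ * w = w * (t * w * t⁻¹) := congrArg Subtype.val (hab ⟨_, a⟩ ⟨w, hw⟩)
    calc _ = (t * t) * w * t⁻¹ * w := by group
      _ = w * t * w * (t * t) := by rw [t2, ti]; group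
      _ = (w * (t * w * t⁻¹)) * t := by rw [ti]; group
      _ = _ := by rw [c]
  obtain ⟨w, hw⟩ := (powCoprime (G := U) (n := 2) (Nat.coprime_two_right.2 ho)).surjective ⟨u, hu⟩
  have hw' : (w : G) ^ 2 = u := congrArg Subtype.val hw
  refine isConj_iff.2 ⟨w⁻¹, ?_⟩
  have := inv _ (inv_mem w.2)
  rw [← hw', inv_inv] at *
  calc _ = t⁻¹ * (t * (w : G)⁻¹ * t) * w := by group
    _ = _ := by rw [ti] at this ⊢; rw [this, pow_two, mul_assoc]

theorem dih_bound [IsSimpleGroup G] (hTI : IsTI U) (hC : ∀ u ∈ U, u ≠ 1 → centralizer ({u} : Set G) ≤ U)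
    (hab : ∀ a b : U, a * b = b * a) (ho : Odd (Nat.card U)) (hU : 1 < Nat.card U)
    (h2 : U.relIndex (normalizer (U : Set G)) = 2) {z : G} (hz : orderOf z = 2) :
    Nat.card U * Nat.card (centralizer ({z} : Set G)) ^ 2 < 4 * Nat.card G := by
  classical
  haveI := Fintype.ofFinite G
  set N := normalizer (U : Set G)
  haveI := Fintype.ofFinite N
  haveI := Fintype.ofFinite (U.subgroupOf N)
  let e := subgroupOfEquivOfLe (le_normalizer : U ≤ N)
  have : Nontrivial (IrrCharacter U) := Finite.one_lt_card_iff_nontrivial.1 (by rwa [card_irr_of_comm hab])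
  obtain ⟨τ, hτ⟩ := exists_ne (irrOne U)
  have hτ' := τ.2.comp_equiv e
  have t1 : τ.1 (e 1) = 1 := by rw [map_one, τ.2.apply_one_of_comm hab]
  have hne : (fun x => τ.1 (e x)) ≠ fun _ => 1 := fun h =>
    hτ (Subtype.ext (funext fun x => by simpa [irrOne] using congrFun h (e.symm x)))
  have h3 := isIrr_indFun_of_frob (frob_subgroupOf hC N) hτ' hne
  set η1 := indFun (U.subgroupOf N) fun x => τ.1 (e x)
  set η0 := indFun (U.subgroupOf N) fun _ => (1 : ℂ)
  have g0 : IsCharacter N η0 := isCharacter_one.ind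
  have cN : Nat.card N = 2 * Nat.card U := by
    rw [← h2, relIndex, ← (U.subgroupOf N).card_mul_index, Nat.card_congr e.toEquiv, mul_comm]
  have u0 := card_ne_zero_complex U
  have v0 : (fun x : U.subgroupOf N => η0 x) = (2 : ℂ) • fun _ => 1 := by
    funext x
    simp only [η0]
    rw [indFun_apply_of_normal, Finset.sum_const, Finset.card_univ, ← Nat.card_eq_fintype_card, cN,
      Nat.card_congr e.toEquiv]
    simp only [nsmul_eq_mul, Pi.smul_apply, smul_eq_mul]; push_cast; field_simp
  have h6 : ∀ x : N, (x : G) ∉ U → (η0 - η1) x = 0 := fun x hx => by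
    simp only [Pi.sub_apply, η0, η1, indFun_eq_zero_of_normal (U.subgroupOf N) _ (g := x) hx, sub_self]
  have h5 : (η0 - η1) 1 = 0 := by simp only [Pi.sub_apply, η0, η1, indFun_apply_one, t1, sub_self]
  have gen := g0.isGeneralizedCharacter.sub h3.isGeneralizedCharacter
  have i1 : classInner (η0 - η1) (fun _ => 1) = 1 := by
    rw [classInner_sub_left, classInner_indFun_left _ _ (isClassFunction_const 1),
      classInner_indFun_left _ _ (isClassFunction_const 1), classInner_one_one, hτ'.classInner_one hne, sub_zero]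
  have TI : ∀ g : G, g ∉ N → ∀ t ∈ (U : Set G), g * t * g⁻¹ ∈ (U : Set G) → t = 1 :=
    fun g hg t ht h => by_contra fun e => hg (hTI g t ht e h)
  obtain ⟨χ, ψ, hχ, hψ, -, χ1, -, eq⟩ := (gen.ind (H := N)).exists_of_norm_three (by
    have a : classInner η1 η0 = 0 := by
      rw [classInner_indFun_left _ _ g0.isClassFunction, v0, classInner_smul_right, hτ'.classInner_one hne, mul_zero]
    rw [classInner_indFun_of_TIset N TI gen.isClassFunction h6 h6 h5, classInner_sub_left, classInner_sub_right,
      classInner_sub_right, h3.classInner_self, a, (classInner_eq_zero_comm _ _).1 a,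
      classInner_indFun_left _ _ g0.isClassFunction, v0, classInner_smul_right, classInner_one_one, map_ofNat]
    norm_num) (by rw [classInner_indFun_left _ _ (isClassFunction_const 1), i1]) (by rw [indFun_apply_one, h5, mul_zero])
  have sq : ∀ x, IsConj z x → x * x = 1 ∧ x ∉ U := fun x hx => by
    have o : orderOf x = 2 := hz ▸ (isConj_iff.1 hx).elim fun c hc => by rw [← hc]; exact (MulAut.conj c).orderOf_eq z
    refine ⟨by rw [← pow_two, ← o, pow_orderOf_eq_one], fun h => ?_⟩
    have := orderOf_dvd_natCard (⟨x, h⟩ : U)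
    rw [← orderOf_coe, o] at this
    exact (Nat.not_even_iff_odd.2 ho) (even_iff_two_dvd.2 this)
  have ps := pairSum_indFun N (η0 - η1) z z fun t x ht hx hy => by
    have tU : (t : G) ∈ U := by_contra fun h => ht (h6 t h)
    refine hTI x t tU (fun h => ht (by rw [show t = 1 from Subtype.ext h, h5])) ?_
    have a := (sq x hx).1
    have b := (sq _ hy).1
    rw [inv_eq_of_mul_eq_one_right a] at b ⊢
    rw [show x * t * x = (t : G)⁻¹ from eq_inv_of_mul_eq_one_left (by simpa [mul_assoc] using b)]
    exact inv_mem tU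
  obtain ⟨d, d0, hd⟩ := hχ.exists_apply_one
  obtain ⟨u, hu⟩ := hχ.isGeneralizedCharacter.exists_int_of_sq_eq_one (g := z) (by rw [← hz, pow_orderOf_eq_one])
  have p1 : ψ 1 = d + 1 := by
    have := congrFun eq 1
    rw [indFun_apply_one, h5] at this
    simp only [Pi.sub_apply, Pi.add_apply, hd] at this
    linear_combination this
  have pz : ψ z = u + 1 := by
    have := congrFun eq z
    rw [indFun_eq_zero N _ fun x hx => h6 _ (sq _ (isConj_iff.2 ⟨x, rfl⟩)).2] at this
    simp only [Pi.sub_apply, Pi.add_apply, hu] at this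
    linear_combination this
  rw [eq, pairSum_sub, pairSum_add, pairSum_one, hχ.pairSum_eq, hψ.pairSum_eq, hd, hu, p1, pz] at ps
  set K := (centralizer ({z} : Set G)).index
  set c := Nat.card (centralizer ({z} : Set G))
  have K0 : K ≠ 0 := index_ne_zero_of_finite
  have Kc : K * c = Nat.card G := index_mul_card _
  have ud : u ≠ d := fun h => by
    have := hχ.mem_charKer_iff.2 (show χ z = χ 1 by rw [hu, hd, h]; simp)
    rw [hχ.charKer_eq_bot_of_simple χ1, mem_bot] at this
    rw [this] at hz; simp at hz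
  have ul : |u| ≤ d := by
    have := hχ.isCharacter.norm_apply_le z
    rw [hd, hu, Complex.norm_intCast, Complex.natCast_re] at this
    exact Int.cast_le (R := ℝ) |>.1 (by push_cast; exact this)
  have d' : (d : ℂ) ≠ 0 := Nat.cast_ne_zero.2 d0.ne'
  have d'' : (d : ℂ) + 1 ≠ 0 := Nat.cast_add_one_ne_zero d
  have ps' : (K : ℂ) ^ 2 * (d - u) ^ 2 = d * (d + 1) *
      (N.index * ∑ x : N, ∑ y : N, classInd z x * classInd z y * (η0 - η1) (x * y)) := by
    rw [← ps]; field_simp; ring
  obtain ⟨t, ht⟩ : ∃ t : N, IsConj z t := by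
    by_contra! k
    simp only [classInd_of_not_isConj (k _), zero_mul, Finset.sum_const_zero, mul_zero, mul_eq_zero,
      pow_eq_zero_iff two_ne_zero, Nat.cast_eq_zero, K0, false_or, sub_eq_zero] at ps'
    exact ud (by exact_mod_cast ps'.symm)
  have idx : (U.subgroupOf N).index = 2 := h2
  have ci : ∀ x : N, classInd z x = if (x : G) ∈ U then 0 else 1 := fun x => by
    split_ifs with h
    · exact classInd_of_not_isConj fun k => (sq _ k).2 h
    · have : t⁻¹ * x ∈ U.subgroupOf N := (mul_mem_iff_of_index_two idx).2 (by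
        simp [mem_subgroupOf, h, (sq _ ht).2])
      have := dih_conj hC hab ho t.2 (sq _ ht).1 (sq _ ht).2 (mem_subgroupOf.1 this)
      exact classInd_of_isConj (ht.trans (by simpa using this))
  have s1 : ∑ y : N, (η0 - η1) y = Nat.card N := by
    rw [classInner_one_right, inv_mul_eq_iff_eq_mul₀ (card_ne_zero_complex N), mul_one] at i1; exact i1
  have s2 : ∀ x : N, ∑ y : N, classInd z x * classInd z y * (η0 - η1) (x * y) =
      (if (x : G) ∈ U then 0 else 1) * Nat.card N := fun x => by
    rw [← s1, ← Equiv.sum_comp (Equiv.mulLeft x) (η0 - η1), Finset.mul_sum]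
    refine Finset.sum_congr rfl fun y _ => ?_
    rw [ci, ci]
    by_cases a : (x : G) ∈ U
    · simp [a]
    by_cases b : (y : G) ∈ U
    · rw [Equiv.coe_mulLeft, h6 (x * y) fun h => a ((mul_mem_cancel_right b).1 h)]; simp
    · simp [a, b]
  have s3 : (Finset.univ.filter fun x : N => ¬ (x : G) ∈ U).card = Nat.card U := by
    have a : (Finset.univ.filter fun x : N => (x : G) ∈ U).card = Nat.card U := by
      rw [← Fintype.card_subtype, ← Nat.card_eq_fintype_card]; exact Nat.card_congr e.toEquiv
    have := Finset.card_filter_add_card_filter_not (s := Finset.univ) fun x : N => (x : G) ∈ U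
    rw [a, Finset.card_univ, ← Nat.card_eq_fintype_card, cN] at this
    omega
  rw [Finset.sum_congr rfl fun x _ => s2 x, ← Finset.sum_mul, Finset.sum_ite, Finset.sum_const_zero, Finset.sum_const,
    s3, zero_add, nsmul_eq_mul, mul_one, mul_left_comm (N.index : ℂ), ← Nat.cast_mul N.index, index_mul_card,
    ← Kc] at ps'
  have k1 : (K : ℤ) * (d - u) ^ 2 = d * (d + 1) * (Nat.card U * c) := by
    have : (K : ℤ) ^ 2 * (d - u) ^ 2 = d * (d + 1) * (Nat.card U * (K * c)) := by exact_mod_cast ps'
    exact mul_left_cancel₀ (Int.natCast_ne_zero.2 K0) (by linear_combination this)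
  rw [← Kc]
  have c0 : 0 < c := Nat.card_pos
  have a := abs_le.1 ul
  have k2 : (d - u) ^ 2 ≤ 4 * (d : ℤ) ^ 2 := by nlinarith
  have k3 : (d : ℤ) * (d + 1) * (Nat.card U * c) ≤ K * (4 * d ^ 2) := k1 ▸ mul_le_mul_of_nonneg_left k2 (by positivity)
  have k4 : (Nat.card U : ℤ) * c < 4 * K := by
    by_contra! k
    have : (0 : ℤ) < K * d := by have := Nat.pos_of_ne_zero K0; positivity
    have : (d : ℤ) * (d + 1) * (4 * K) ≤ d * (d + 1) * (Nat.card U * c) := mul_le_mul_of_nonneg_left k (by positivity)
    nlinarith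
  have : (Nat.card U : ℤ) * c ^ 2 < 4 * (K * c) := by nlinarith
  exact_mod_cast this

end H23.Nine
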