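import Cfsg.Agent.H23.OrOre4
import Cfsg.Agent.H22.Cyc1
import Cfsg.Agent.H11.OmegaBridge

/-!
Every element of a finite orthogonal group `Ω` of Witt index at least 3 is a commutator.
-/

namespace H23.OO

open Module QuadraticMap Matrix H12 Polynomial

/-- decoding of `3 × 3` matrices over `𝔽₂` -/
def dcd (c : ℕ) : Matrix (Fin 3) (Fin 3) (ZMod 2) := of fun i j => ((c >>> (3 * i.1 + j.1) : ℕ) : ZMod 2)

/-- factorizations in `GL₃(2)` -/
def tab : ℕ := 0x761ed58f7ba176c6ac761eefce26a159faac0000000000000000000000000006a15ae45f000000000fa178d48e5e19ec666000000000f61cf5e5f000000000000000000aa1551c6abe1d7745f0000000000000000002a1519866de1ba9e5f000000000000000000ce1bcd45fde1bb5ecc0000000000000000004e19ac65fba177746a000000000000000000661c976660000000002a15374bb46189c466000000000d61ae9e6a000000000000000000000000000fa17afc5fce1bee48e3e1f35e8ec61a9fa5f000000000000000000000000000000000000000000000000000000000000000000000000000000000000000000000000000000000000ea15fbcace61eae4bb3e1f1585f4618b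ca5f000000000000000000000000000000000000000000000000000000000000000000000000000000000000000000d61adfa660000000000000000002a151c48e0000000004618a9ebbea15efc660000000003e1f1585f000000000ae1f51c5f0000000005e19d3acc000000000ae1f77466000000000fa1793a73000000000000000000ea15ec68e000000000aa154e69dae1f7d673000000000e61e93a5f00000000046189988e0000000003a171985f000000000ce1bfbc73000000000000000000000000000661cb1a5fae1f4d49d7a17ee466761ed765f000000000000000000000000000000000000000000000000000000000000000000000000000000000000000000000000000de1ba9e5f000000000d61acccbbae1f5ee6a000000000f61cf5e5f000000000aa157d666000000000000000000c61ab74ac000000000f61cd3a664e199c46a000000000000000000000000000000000000000000000000000000000000000000000000000000000661cb1a5f2e1d1986a000000000000000000ae1f51c5fba1751c730000000000000000003a1715873000000000000000000f61cfd6cc000000000ce1bdfa6a5618ec66a0000000000000000005618fca66000000000aa1569eac2e1d3385f000000000aa155ee5f000000000fa17afc5fbe1d7745f000000000000000000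fa1793a733a173e866000000000000000000000000000000000000000000000000000000000000000000000000000000000000000000000000000ce1bcd45f6a158be660000000000000000005618ccc736a15ae45f00000000046188cc6a0000000007a17ee466000000000de1b8d466000000000de1b9589d0000000003e1f3e86a5e19ccc5f000000000000000000661c8be6aea15ce65f000000000000000000000000000000000000000000000000000000000000000000000000000000000000000000000000000661cae4735e19ccc5f0000000000000000005618dc45fae1f71a8e00000000046189c4660000000002a153e85f000000000761eee46a0000000007a17cbe5f000000000fa178e666761ecbe730000000000000000004e198cc662e1d3e873000000000000000000000000000000000000000000000000000000000000000000000000000000000000000000000000000f61cd3a66de1bbbc6a0000000000000000002a15198664618ac6730000000005618fca660000000000000000007a17f75ba0000000002e1d15866de1b9fa73000000000661c976660000000000000000005e19f749d000000000be1d7d66a761ef1a660000000000000000002e1d15866fa17a9f4f000000000000000000aa1577473be1d51c660000000000000000000000000000000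000000000000000000000000000000000000000000000000004e19b389dea15d3a6abe1d7d66a2a150d4ac0000000000000000000000000000000000007a17dc4ac3a173bc8ec61abe88e3e1f29e9d0000000000000000000000000000000000000000000000000000000000000000000000000000000000000000000000000000000000000000000002a150cccc000000000fa178d48efa17b5e6a000000000761eee46a000000000fa179989d0000000005618ec66a000000000e61eafc73000000000c61a8d46a0000000000000000002a151c48e0000000002e1d2c69d7a17cbe5f000000000aa155ee5f000000000ba177746a0000000002e1d0becc0000000003a171985f0000000002e1d3385f000000000761ed765f5618dc45fce1bdfa6aaa154cd8d000000000000000000000000000000000000000000000000000000000000000000000000000000000000000000000000000000000000c61a9fa5f4e19ac65faa157bd7e6a158cc8e000000000000000000000000000000000000000000000000000000000000000000000000000000000000000000000000000000000000000000000000000000ba175ee667a17e9e8ee61e93a5fba177d65f000000000000000000000000000000000000e61eb5e66ea15d76e2ce1be9e66de1b99963000000000000000000aa15558e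2ea15efc660000000000000000002a153e85fd61afbc5f000000000000000000aa1551c6a761ef1a66000000000000000000ea15d5972be1d51c660000000000000000004618bca5ffa17976bbea15ce65f761ef748e000000000000000000000000000000000000ba177d65f2a151586ad61afbc5fc61aac6bb000000000000000000000000000000000000000000000000000000000000000000000000000000000000000000000000000000000000000000000000000000000000000000000000000000000000000000000000000000000000000000000000000000000000000000000000000000000000000000000000000000000000000000000000000000000000000000000000000000000000000000000000000000000000000000000000000000000000000000000000000000000000000000000000000000000000000000000000000000000000000000000000000000000000000000000000000000000000000000000000000000000000000000000000000000000000000000000000000000000000000000000000000000000000000000000000000000000000000000000000000000000000000000000000000000000000000000000000000000000000000000000000000000000000000000000000000000000000000000000000000000000000000000000000000000000000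

theorem tab_spec : ∀ a b c d e f g h i : ZMod 2, let A := !![a, b, c; d, e, f; g, h, i]
    let t := tab >>> (36 * (a.val + 2 * b.val + 4 * c.val + 8 * d.val + 16 * e.val + 32 * f.val + 64 * g.val + 128 * h.val +
      256 * i.val))
    a * e * i - a * f * h - b * d * i + b * f * g + c * d * h - c * e * g = 1 →
      dcd t * dcd t * dcd t + dcd t + 1 = 0 ∧ dcd (t >>> 9) * dcd (t >>> 9) * dcd (t >>> 9) + dcd (t >>> 9) + 1 = 0 ∧
      dcd (t >>> 18) * dcd (t >>> 27) = 1 ∧ dcd (t >>> 18) * dcd t = dcd (t >>> 9) * dcd (t >>> 18) ∧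
      (A * dcd t = dcd (t >>> 9) ∨ A * dcd t * (dcd (t >>> 9))ᵀ = 1) := by
  decide +kernel

universe u

variable {F : Type u} {V : Type*} {n : Type} [Field F] [AddCommGroup V] [Module F V] [Fintype n] [DecidableEq n]
  {Q : QuadraticForm F V}

theorem gl_three [Fintype F] (h : Fintype.card F = 2) (A : Matrix (Fin 3) (Fin 3) F) (hA : A.det = 1) :
    ∃ D D' T T' : Matrix (Fin 3) (Fin 3) F, D * D * D + D + 1 = 0 ∧ D' * D' * D' + D' + 1 = 0 ∧ T * T' = 1 ∧ T * D = D' * T ∧
      (A * D = D' ∨ A * D * D'ᵀ = 1) := by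
  let σ := ZMod.ringEquivOfPrime F Nat.prime_two h
  obtain ⟨B, rfl⟩ := σ.mapMatrix.surjective A
  have := tab_spec (B 0 0) (B 0 1) (B 0 2) (B 1 0) (B 1 1) (B 1 2) (B 2 0) (B 2 1) (B 2 2) (by
    rw [← det_fin_three]; exact σ.injective ((σ.map_det B).trans (hA.trans (map_one σ).symm)))
  rw [← eta_fin_three B] at this
  obtain ⟨h1, h2, h3, h4, h5⟩ := this
  refine ⟨_, _, _, _, by simpa only [map_add, map_mul, map_one, map_zero] using congrArg σ.mapMatrix h1,
    by simpa only [map_add, map_mul, map_one, map_zero] using congrArg σ.mapMatrix h2,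
    by simpa only [map_mul, map_one] using congrArg σ.mapMatrix h3, by simpa only [map_mul] using congrArg σ.mapMatrix h4,
    h5.imp (fun h => by simpa only [map_mul] using congrArg σ.mapMatrix h) fun h => ?_⟩
  have := congrArg σ.mapMatrix h
  rw [map_mul, map_mul, map_one] at this
  exact this

theorem minpoly_inv {K : Type*} [Field K] [Finite K] [Algebra F K] (hq : 4 ≤ Nat.card F ∨ 5 ≤ Nat.card K) {θ : Kˣ}
    (hθ : ∀ x, x ∈ Submonoid.powers θ) : aeval (θ⁻¹).1 (minpoly F θ.1) ≠ 0 := fun e => by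
  haveI := Finite.of_injective _ (algebraMap F K).injective
  obtain ⟨σ, hσ⟩ := minpoly.exists_algEquiv_of_root' (Algebra.IsAlgebraic.isAlgebraic _) e
  have k : ∀ x, x ≠ 0 → σ x * x = 1 := fun x hx => by
    obtain ⟨j, hj⟩ := hθ (Units.mk0 x hx)
    obtain rfl : θ.1 ^ j = x := congrArg Units.val hj
    rw [map_pow, hσ, ← mul_pow, Units.inv_mul, one_pow]
  rcases hq with hm | hm
  · refine absurd (hm.trans (SO.card_le_deg (q := X ^ 3 - X) (by monicity!) fun x => ?_)) (not_le.2 (by compute_degree!))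
    by_cases hx : x = 0
    · simp [hx]
    have := k _ ((_root_.map_ne_zero (algebraMap F _)).2 hx)
    rw [σ.commutes, ← map_mul, map_eq_one_iff _ (algebraMap F _).injective] at this
    simp only [eval_sub, eval_pow, eval_X]
    linear_combination x * this
  · refine absurd (hm.trans (SO.card_le_deg (q := X ^ 4 + 2 * X ^ 3 + 2 * X ^ 2 + X) (by monicity!) fun x => ?_))
      (not_le.2 (by compute_degree!))
    simp only [eval_add, eval_mul, eval_pow, eval_X, eval_ofNat]
    by_cases hx : x = 0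
    · simp [hx]
    by_cases hx' : x + 1 = 0
    · linear_combination (x ^ 3 + x ^ 2 + x) * hx'
    have e1 := k x hx
    have e2 := k _ hx'
    rw [map_add, map_one] at e2
    linear_combination (x ^ 2 + x) * (x * e2 - (x + 1) * e1)

namespace Fr

variable (fr : Fr Q n)

/-- good factorizations in the Levi subgroup -/
def Nice : Prop := ∀ A : GL n F, A.1.det = 1 → (∀ c : F, A.1 ≠ c • 1) → ∃ Z D δ c, A = Z * D⁻¹ ∧ fr.swap.Fp (fr.lev Z * δ) ∧
  fr.Fp (fr.lev D * δ) ∧ c ∈ commutator (orth Q) ∧ c * (fr.lev D * δ) * c⁻¹ = fr.lev Z * δ ∧ fr.lev D * δ ∈ commutator (orth Q)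

variable [FiniteDimensional F V] [Fintype F] (hQ : QNondeg Q) (hne : NotExc F V)
include hQ hne

theorem nice_field {K : Type u} [Field K] [Finite K] [Algebra F K] (h1 : finrank F K + 1 = Fintype.card n) (h2 : 2 ≤ finrank F K)
    (hq : 4 ≤ Nat.card F ∨ 5 ≤ Nat.card K) {θ : Kˣ} (hθ : ∀ x, x ∈ Submonoid.powers θ) {δ : orth Q} (h3 : δ ∈ fr.O)
    (h4 : δ ∈ commutator (orth Q)) {ψ : F[X]} (h5 : ∀ w ∈ fr.W, aeval δ.1.toLinearMap ψ w = 0) (h6 : aeval θ.1 ψ ≠ 0)
    (h7 : aeval (θ⁻¹).1 ψ ≠ 0) (h8 : aeval (Algebra.norm F θ.1) ψ ≠ 0) (h9 : aeval (Algebra.norm F θ.1)⁻¹ ψ ≠ 0) : fr.Nice := by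
  intro A hA hs
  have pw : ∀ p : Submodule F K, 1 ∈ p → (∀ u ∈ p, θ.1 * u ∈ p) → p = ⊤ := fun p e1 e2 => eq_top_iff.2 fun x _ => by
    by_cases hx : x = 0
    · simp [hx]
    obtain ⟨j, hj⟩ := hθ (Units.mk0 x hx)
    obtain rfl : θ.1 ^ j = x := congrArg Units.val hj
    clear hj hx
    induction j with
    | zero => simpa
    | succ j ih => exact pow_succ' θ.1 j ▸ e2 _ (ih trivial)
  have nf : ∀ a : F, θ.1 ≠ algebraMap F K a := fun a e => by
    have := congrArg (fun p : Submodule F K => finrank F p) (pw (F ∙ 1) (Submodule.mem_span_singleton_self _) fun u hu => by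
      rw [e, ← Algebra.smul_def]; exact Submodule.smul_mem _ a hu)
    simp only [finrank_span_singleton one_ne_zero, finrank_top] at this
    omega
  have nr : ∀ a : F, aeval a (minpoly F θ.1) ≠ 0 := fun a e => by
    obtain ⟨σ, hσ⟩ := minpoly.exists_algEquiv_of_root (K := F) (x := algebraMap F K a) (Algebra.IsAlgebraic.isAlgebraic θ.1) (by
      rw [aeval_algebraMap_apply K a, e, map_zero])
    exact nf a (hσ.symm.trans (σ.commutes a))
  have n0 : Algebra.norm F θ.1 ≠ 0 := Algebra.norm_ne_zero_iff.2 θ.ne_zero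
  let Λ : ((K × F) ≃ₗ[F] (n → F)) → (K × F →ₐ[F] Matrix n n F) := fun h =>
    (LinearMap.toMatrixAlgEquiv'.toAlgHom.comp (h.conjAlgEquiv F).toAlgHom).comp (Algebra.lmul F (K × F))
  have l1 : ∀ h r x, Λ h r *ᵥ x = h (r * h.symm x) := fun h r x =>
    LinearMap.toMatrix'_mulVec (h.conj (Algebra.lmul F (K × F) r)) x
  have l2 : ∀ (a : K) (b : F), Algebra.lmul F (K × F) (a, b) = H22.CY.blk (Algebra.lmul F K a) b := fun a b =>
    LinearMap.ext fun _ => rfl
  have l3 : ∀ h a b, (Λ h (a, b)).det = Algebra.norm F a * b := fun h a b =>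
    (LinearMap.det_toMatrix' (h.conj (Algebra.lmul F (K × F) (a, b)))).trans ((LinearMap.det_conj (Algebra.lmul F (K × F) (a, b)) h).trans (by
      rw [l2, H22.CY.det_blk]; rfl))
  let D : ((K × F) ≃ₗ[F] (n → F)) → GL n F := fun h => Units.map (Λ h).toMonoidHom
    ⟨(θ.1, (Algebra.norm F θ.1)⁻¹), ((θ⁻¹).1, Algebra.norm F θ.1), by simp [n0], by simp [n0]⟩
  have l4 : ∀ h (a : K) (b : F) (φ : F[X]), aeval a φ ≠ 0 → aeval b φ ≠ 0 → IsUnit (aeval (Λ h (a, b)) φ) := fun h a b φ e1 e2 => by
    rw [aeval_algHom_apply, aeval_prod_apply]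
    exact (Prod.isUnit_iff.2 ⟨e1.isUnit, e2.isUnit⟩).map _
  have fp := fun h => fr.fp_both hQ (D := D h) h3 (φ := minpoly F θ.1) (a := h (0, 1))
    (b := fun i => aeval (Algebra.norm F θ.1)⁻¹ (minpoly F θ.1) * (h.symm (Pi.single i 1)).2) (by
      refine (aeval_algHom_apply (Λ h) _ _).trans (matrix_ext_mulVec fun x => ?_)
      obtain ⟨b, hb⟩ := exists_vec (LinearMap.snd F K F ∘ₗ h.symm.toLinearMap)
      simp only [LinearMap.comp_apply, LinearEquiv.coe_coe, LinearMap.snd_apply] at hb
      rw [aeval_prod_apply, minpoly.aeval, l1, vecMulVec_mulVec, op_smul_eq_smul, ← map_smul]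
      simp [hb, Prod.ext_iff, dotProduct, Finset.mul_sum, mul_assoc, Pi.single_apply])
    (l4 h _ _ _ (minpoly_inv hq hθ) (nr _)) h5 (l4 h _ _ _ h6 h9) (l4 h _ _ _ h7 h8)
  have b1 : Function.Bijective (Algebra.lmul F K θ.1 - (Algebra.norm F θ.1)⁻¹ • 1 : End F K) := by
    have := (End.isUnit_iff _).1 ((sub_ne_zero.2 (nf (Algebra.norm F θ.1)⁻¹)).isUnit.map (Algebra.lmul F K))
    rwa [map_sub, AlgHom.commutes, Algebra.algebraMap_eq_smul_one] at this
  have d1 : LinearMap.det (Algebra.lmul F K θ.1) * (Algebra.norm F θ.1)⁻¹ = 1 := mul_inv_cancel₀ n0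
  have cy : H22.CY.Cyc (Algebra.lmul F K θ.1) 1 := pw
  obtain ⟨h₁, h₂, e⟩ := H22.CY.fac (V := n → F) (by simpa using h1.symm) (by simp) rfl (A := toLin' A.1) (fun c e => hs c
    (toLin'.injective (by simpa [End.one_eq_id] using e))) cy b1 (cy.blk b1) (by
      rw [H22.CY.det_blk, d1, LinearMap.det_toLin', hA, one_mul]) (by rw [H22.CY.det_blk, d1]; exact one_ne_zero)
  let T := LinearMap.toMatrix' (h₂.toLinearMap ∘ₗ h₁.symm.toLinearMap)
  have t0 : T.det ≠ 0 := by
    rw [LinearMap.det_toMatrix']; exact (h₁.symm.trans h₂).isUnit_det'.ne_zero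
  have t1 : (T * Λ h₁ (1, T.det⁻¹)).det = 1 := by rw [det_mul, l3, map_one, one_mul, mul_inv_cancel₀ t0]
  refine ⟨D h₂, D h₁, δ, fr.lev (GeneralLinearGroup.mkOfDetNeZero _ (t1.trans_ne one_ne_zero)), eq_mul_inv_of_mul_eq
    (Units.ext (matrix_ext_mulVec fun x => ?_)), (fp h₂).2, (fp h₁).1, fr.lev_mem hQ hne ⟨1, t1.trans (mul_one _).symm⟩, ?_,
    mul_mem (fr.lev_mem hQ hne ⟨1, (l3 ..).trans ((mul_inv_cancel₀ n0).trans (mul_one _).symm)⟩) h4⟩
  · rw [Units.val_mul, ← mulVec_mulVec]
    exact (congrArg _ (l1 ..)).trans ((by have := e (h₂.symm x); rw [h₂.apply_symm_apply] at this; exact this : _ = _).trans (l1 ..).symm)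
  · rw [mul_inv_eq_iff_eq_mul, ← mul_assoc, ← map_mul, mul_assoc, ← (fr.lev_comm _ h3).eq, ← mul_assoc, ← map_mul]
    refine congrArg (fr.lev · * δ) (Units.ext (matrix_ext_mulVec fun x => ?_))
    change (T * Λ h₁ _ * Λ h₁ _) *ᵥ x = (Λ h₂ _ * (T * Λ h₁ _)) *ᵥ x
    simp [← mulVec_mulVec, l1, T, mul_left_comm]

theorem nice_three (fr : Fr Q (Fin 3)) (hq : Fintype.card F = 2) {w : V} (hw : w ∈ fr.W) (w0 : Q w ≠ 0) : fr.Nice := by
  intro A hA _
  have h2 : (2 : F) = 0 := by simpa [hq] using FiniteField.cast_card_eq_zero F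
  have k : ∀ D : Matrix (Fin 3) (Fin 3) F, D * D * D + D + 1 = 0 → ∃ P : GL (Fin 3) F, P.1 = D ∧ ∀ fr : Fr Q (Fin 3),
      fr.Fp (fr.lev P * 1) ∧ fr.swap.Fp (fr.lev P * 1) := fun D e => by
    have t : ∀ M : Matrix (Fin 3) (Fin 3) F, M + M = 0 := fun M => by rw [← two_smul F, h2, zero_smul]
    let P : GL (Fin 3) F := ⟨D, D * D + 1, by linear_combination (norm := noncomm_ring) e - t 1,
      by linear_combination (norm := noncomm_ring) e - t 1⟩
    refine ⟨P, rfl, fun fr => fr.fp_both hQ (one_mem _) (φ := X * X * X + X + 1) (ψ := X - 1) (a := 0) (b := 0)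
      (by simpa using e) ?_ (by simp [End.one_eq_id]) ?_ ?_⟩ <;> simp only [map_add, map_sub, map_mul, aeval_X, map_one]
    · convert P.isUnit using 1
      change (D * D + 1) * (D * D + 1) * (D * D + 1) + (D * D + 1) + 1 = D
      linear_combination (norm := noncomm_ring) (D * D * D + D * 2 - 1) * e + t (D * D) + t 1 + t 1 - t D
    · convert (P * P * P).isUnit using 1
      change D - 1 = D * D * D
      linear_combination (norm := noncomm_ring) t D - e
    · exact add_sub_cancel_right (D * D) 1 ▸ (P * P).isUnit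
  obtain ⟨D, D', T, T', e1, e2, e3, e4, e5⟩ := gl_three hq A.1 hA
  obtain ⟨D, rfl, d1⟩ := k D e1
  obtain ⟨D', rfl, d2⟩ := k D' e2
  obtain ⟨T, rfl⟩ := IsUnit.of_mul_eq_one T' e3
  obtain ⟨τ, hτ⟩ := exists_orth hQ (fr.Φ ∘ₗ fr.cx + fr.p + fr.E ∘ₗ fr.cy) fun v => by
    rw [fr.Q_eq, fr.Q_eq v]; simp [dotProduct_comm]
  have e6 : fr.lev T * fr.lev D = fr.lev D' * fr.lev T := by rw [← map_mul, ← map_mul, show T * D = D' * T from Units.ext e4]
  have e7 : τ * fr.lev D' = fr.lev (dual D') * τ := orth_ext fun v => by simp [orth_mul_apply, hτ, lev_apply, dual_dual]; abel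
  have k' : ∀ c : orth Q, ∃ s, s * fr.lev D = fr.lev D * s ∧ c * s ∈ commutator (orth Q) := fun c => by
    obtain ⟨s, h1, h2⟩ := exists_mem_commutator_of hQ hne (Subgroup.centralizer {fr.lev D}) c (.inr ⟨_,
      Subgroup.mem_centralizer_singleton_iff.2 (fr.lev_comm D (fr.refl_mem hw)).symm.eq, dickson_refl hQ hne w0⟩)
      fun c _ => ⟨1, one_mem _, map_one _, (map_one _).trans (qsign_eq_one_of_two h2 c).symm⟩
    exact ⟨s, Subgroup.mem_centralizer_singleton_iff.1 h1, h2⟩
  have m := mul_mem (fr.lev_mem hQ hne (A := D) (isSquare_of_two_eq_zero h2 _)) (one_mem _)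
  rcases e5 with e5 | e5
  · obtain ⟨s, h1, h2⟩ := k' (fr.lev T)
    exact ⟨D', D, 1, _, eq_mul_inv_of_mul_eq (Units.ext e5), (d2 fr).2, (d1 fr).1, h2, by
      rw [mul_inv_eq_iff_eq_mul, mul_one, mul_one, mul_assoc, h1, ← mul_assoc, e6, mul_assoc], m⟩
  · obtain ⟨s, h1, h2⟩ := k' (τ * fr.lev T)
    exact ⟨dual D', D, 1, _, eq_mul_inv_of_mul_eq (eq_inv_of_mul_eq_one_left (Units.ext e5 : _ * (dual D')⁻¹ = 1) |>.trans
      (inv_inv _)), fr.swap_lev (dual D') ▸ (d2 fr.swap).1, (d1 fr).1, h2, by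
      rw [mul_inv_eq_iff_eq_mul, mul_one, mul_one, mul_assoc, h1, ← mul_assoc, mul_assoc τ, e6, ← mul_assoc τ, e7]; group, m⟩

theorem nice {k : ℕ} (fr : Fr Q (Fin k)) (an : ∀ w ∈ fr.W, Q w = 0 → w = 0) (h3 : 3 ≤ k) (h4 : fr.W = ⊥ → 4 ≤ k) : fr.Nice := by
  obtain ⟨p, _⟩ := CharP.exists F
  haveI : Fact p.Prime := ⟨CharP.char_is_prime F p⟩
  haveI : NeZero (k - 1) := ⟨by omega⟩
  let K := ULift.{u} (FiniteField.Extension F p (k - 1))
  obtain ⟨θ, hθ⟩ := IsCyclic.exists_monoid_generator (α := Kˣ)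
  have r : finrank F K = k - 1 := finrank_ulift.trans (FiniteField.finrank_extension F p (k - 1))
  have c : Nat.card K = _ := (Nat.card_ulift _).trans (FiniteField.natCard_extension F p (k - 1))
  have nice := fun hq δ => fr.nice_field hQ hne (δ := δ) (K := K) (by simp [r]; omega) (by omega) hq hθ
  have o : ∀ j, 0 < j → θ ^ j = 1 → Nat.card K ≤ j + 1 := fun j j0 e => by
    have := Nat.le_of_dvd j0 (orderOf_dvd_of_pow_eq_one e)
    rw [orderOf_eq_card_of_forall_mem_powers hθ, Nat.card_units] at this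
    omega
  rcases (show Nat.card F = 2 ∨ 2 < Nat.card F by have := Finite.one_lt_card (α := F); omega) with hq | hq
  swap
  · have c1 : 3 ^ 2 ≤ Nat.card K := c ▸ (Nat.pow_le_pow_left hq 2).trans (Nat.pow_le_pow_right (by omega) (by omega : 2 ≤ k - 1))
    have n1 : Algebra.norm F θ.1 ≠ 1 := fun e => by
      refine absurd (SO.card_le_deg (K := F) (q := X ^ 2 - X) (by monicity!) fun x => ?_) (not_le.2 (lt_of_le_of_lt
        (by compute_degree!) hq))
      obtain ⟨y, rfl⟩ := FiniteField.norm_surjective F K x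
      by_cases hy : y = 0
      · simp [hy]
      obtain ⟨j, hj⟩ := hθ (Units.mk0 y hy)
      simp [← show θ.1 ^ j = y from congrArg Units.val hj, e]
    have t1 : θ ≠ 1 := fun e => by have := o 1 one_pos (by simpa); omega
    exact nice (.inr (by omega)) 1 (one_mem _) (one_mem _) (ψ := X - 1) (by simp [End.one_eq_id]) (by simpa [sub_eq_zero])
      (by simpa [sub_eq_zero]) (by simpa [sub_eq_zero]) (by simpa [sub_eq_zero])
  by_cases h0 : fr.W = ⊥
  · have := h4 h0
    exact nice (.inr (c ▸ hq ▸ (by norm_num : 5 ≤ 2 ^ 3).trans (Nat.pow_le_pow_right two_pos (by omega)))) 1 (one_mem _)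
      (one_mem _) (ψ := 1) (by simp [h0]) (by simp) (by simp) (by simp) (by simp)
  obtain ⟨a, ha, a0⟩ := (Submodule.ne_bot_iff _).1 h0
  rw [Nat.card_eq_fintype_card] at hq
  rcases h3.eq_or_lt with rfl | h3
  · exact nice_three hQ hne fr hq ha (mt (an a ha) a0)
  have h2 : (2 : F) = 0 := by simpa [hq] using FiniteField.cast_card_eq_zero F
  have one : ∀ x : F, x ≠ 0 → x = 1 := fun x hx => by simpa [hq] using FiniteField.pow_card_sub_one_eq_one x hx
  obtain ⟨b, hb, e⟩ : ∃ b ∈ fr.W, polar Q a b ≠ 0 := by simpa using mt (fr.eq_zero hQ ha) a0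
  have qa := one _ (mt (an a ha) a0)
  have qb := one _ (mt (an b hb) (by rintro rfl; simp at e))
  replace e := one _ e
  have s : Submodule.span F {a, b} = fr.W := Submodule.eq_of_le_of_finrank_le (Submodule.span_le.2 (Set.pair_subset ha hb)) (by
    rw [finrank_span_pair_of_not_mem a0 fun e' => by
      obtain ⟨c, rfl⟩ := Submodule.mem_span_singleton.1 e'
      simp [polar_self', h2] at e]
    by_contra! H
    obtain ⟨w, h1, h2, h3⟩ := exists_singular_mem Q H
    exact h2 (an w h1 h3))
  have c1 : 8 ≤ Nat.card K := by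
    rw [c, Nat.card_eq_fintype_card, hq]; exact Nat.pow_le_pow_right two_pos (by omega : 3 ≤ k - 1)
  have t3 : ∀ x : Kˣ, x.1 * x.1 + x.1 + 1 = 0 → x ^ 3 = 1 := fun x e =>
    Units.ext (by push_cast; linear_combination (x.1 - 1) * e)
  have n1 := one _ (Algebra.norm_ne_zero_iff.2 θ.ne_zero : Algebra.norm F θ.1 ≠ 0)
  refine nice (.inr (by omega)) _ (mul_mem (fr.refl_mem ha) (fr.refl_mem hb)) (refl_mul_refl_mem_commutator hQ (qa ▸ one_ne_zero)
    (qb ▸ one_ne_zero) (isSquare_of_two_eq_zero h2 _)) (ψ := X * X + X + 1) (fun w hw => ?_) (fun e => ?_) (fun e => ?_)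
    (by simp [n1, one_add_one_eq_two, h2]) (by simp [n1, one_add_one_eq_two, h2])
  · obtain ⟨x, y, rfl⟩ := Submodule.mem_span_pair.1 (s.ge hw)
    simp only [map_add, map_mul, aeval_X, map_one, LinearMap.add_apply, End.mul_apply, End.one_apply, LinearEquiv.coe_coe,
      orth_mul_apply, map_smul, refl_apply, qa, qb, polar_self', h2, e, polar_comm Q b a, map_sub, inv_one, one_mul, zero_mul,
      zero_smul, one_smul, sub_zero, map_zero]
    match_scalars <;> grind
  · have := o 3 three_pos (t3 θ (by simpa using e)); omega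
  · have := o 3 three_pos (by simpa using t3 θ⁻¹ (by simpa using e)); omega

theorem com {k : ℕ} (fr : Fr Q (Fin k)) (an : ∀ w ∈ fr.W, Q w = 0 → w = 0) (h3 : 3 ≤ k) (h4 : fr.W = ⊥ → 4 ≤ k) {g : orth Q}
    (hg : g ∈ commutator (orth Q)) : Com Q g := by
  have N := nice hQ hne fr an h3 h4
  by_cases hs : ∃ c : F, ∀ v, g.1 v = c • v
  · obtain ⟨c, hc⟩ := hs
    let e : Fin k → F := Pi.single ⟨0, by omega⟩ 1
    have := orth_Q g (fr.E e + fr.Φ e)
    rw [hc, Q_smul] at this
    rcases mul_self_eq_one_iff.1 (by simpa [Q_add, e] using this : c * c = 1) with rfl | rfl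
    · exact ⟨1, one_mem _, 1, one_mem _, orth_ext (by simp [hc, orth_one_apply])⟩
    by_cases h2 : (2 : F) = 0
    · exact ⟨1, one_mem _, 1, one_mem _, orth_ext fun v => by
        simp [hc, orth_one_apply, neg_eq_iff_add_eq_zero, ← two_smul F, h2]⟩
    exact fr.com_neg hQ hne h2 (by simpa using hc) an (by simpa) (by simpa) hg
  have d : 1 + (Pi.single ⟨1, by omega⟩ 1 : Fin k → F) ⬝ᵥ Pi.single ⟨0, by omega⟩ 1 = 1 := by simp
  obtain ⟨_, _, _, -, -, u1, u2, -⟩ := N (rk _ _ (d.trans_ne one_ne_zero)) ((rk_det ..).trans d) fun c e => by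
    have := congrFun (congrArg (· *ᵥ Pi.single ⟨1, by omega⟩ 1) e) ⟨0, by omega⟩
    simp only [rk_mulVec] at this
    simp [smul_mulVec] at this
  obtain ⟨x, hx⟩ := fr.exists_I hQ (by simpa) (g := g) (by simpa using hs)
  obtain ⟨x', y, A, H, a1, a2⟩ := fr.exists_norm hQ an hne u2.le u1.le (Subgroup.Normal.conj_mem inferInstance _ hg x) hx
  obtain ⟨Z, D, δ, c, rfl, b1, b2, b3, b4, b5⟩ := N A a1 a2
  exact ((H.com b1 b2 b3 b4 b5).of_conj _).of_conj _

end Fr

/-- extension by zero to the left summand -/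
def inlL (α β : Type) : (α → F) →ₗ[F] (α ⊕ β → F) where
  toFun x := Sum.elim x 0
  map_add' _ _ := by ext (_ | _) <;> simp
  map_smul' _ _ := by ext (_ | _) <;> simp

/-- extension by zero to the right summand -/
def inrL (α β : Type) : (β → F) →ₗ[F] (α ⊕ β → F) where
  toFun x := Sum.elim 0 x
  map_add' _ _ := by ext (_ | _) <;> simp
  map_smul' _ _ := by ext (_ | _) <;> simp

theorem ore_of {ι : Type} [Fintype ι] [DecidableEq ι] [Fintype F] {Q : QuadraticForm F (ι → F)} {q : (ι → F) → F} (h : ⇑Q = q)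
    (hQ : QNondeg Q) {k : ℕ} (fr : Fr Q (Fin k)) (an : ∀ w ∈ fr.W, Q w = 0 → w = 0) (h3 : 3 ≤ k) (h4 : fr.W = ⊥ → 4 ≤ k)
    (g : Cfsg.Omega F q) : ∃ a b : Cfsg.Omega F q, g = a * b * a⁻¹ * b⁻¹ := by
  obtain ⟨a, ha, b, hb, e⟩ := fr.com hQ (.inr (by have := fr.rank_eq; simp at this ⊢; omega)) an h3 h4 (H11.omegaEquiv Q h g).2
  exact ⟨(H11.omegaEquiv Q h).symm ⟨a, ha⟩, (H11.omegaEquiv Q h).symm ⟨b, hb⟩, (H11.omegaEquiv Q h).injective
    (Subtype.ext (by simpa using e))⟩

open LinearMap Cfsg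

theorem ore_plus [Fintype F] {m : ℕ} (hm : 4 ≤ m) (g : Omega F (quadFormPlus m F)) :
    ∃ a b : Omega F (quadFormPlus m F), g = a * b * a⁻¹ * b⁻¹ :=
  ore_of (H11.coe_qPlus m) (H11.qPlus_nondeg m) ⟨inlL _ _, inrL _ _, funLeft F F .inl, funLeft F F .inr,
    by simp [quadFormPlus, inlL], by simp [quadFormPlus, inrL], by simp [H11.polar_quadFormPlus, inlL, dotProduct],
    by simp [H11.polar_quadFormPlus, inrL, dotProduct], fun _ => rfl, fun _ => rfl⟩
    (fun w hw _ => funext fun | .inl i => congrFun hw.1 i | .inr i => congrFun hw.2 i) (by omega) (fun _ => hm) g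

theorem ore_odd [Fintype F] (h2 : (2 : F) ≠ 0) {m : ℕ} (hm : 3 ≤ m) (g : Omega F (quadFormOdd m F)) :
    ∃ a b : Omega F (quadFormOdd m F), g = a * b * a⁻¹ * b⁻¹ := by
  refine ore_of (H11.coe_qOdd m) (H11.qOdd_nondeg h2 m) ⟨inrL _ _ ∘ₗ inlL _ _, inrL _ _ ∘ₗ inrL _ _,
    funLeft F F (.inr ∘ .inl), funLeft F F (.inr ∘ .inr), by simp [quadFormOdd, inlL, inrL], by simp [quadFormOdd, inrL],
    by simp [H11.polar_quadFormOdd, inlL, inrL, dotProduct], by simp [H11.polar_quadFormOdd, inrL, dotProduct],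
    fun _ => rfl, fun _ => rfl⟩ (fun w hw e => ?_) hm (fun e => ?_) g
  · have h1 : ∀ i, w (.inr (.inl i)) = 0 := congrFun hw.1
    exact funext fun
      | .inl _ => by simpa [quadFormOdd, h1] using e
      | .inr (.inl i) => h1 i
      | .inr (.inr i) => congrFun hw.2 i
  · simpa using (Submodule.eq_bot_iff _).1 e (Pi.single (.inl ()) 1) ⟨funext fun _ => by simp, funext fun _ => by simp⟩

theorem ore_minus [Fintype F] {m : ℕ} (hm : 3 ≤ m) {a b : F}
    (hab : ∀ z₁ z₂ : F, z₁ ^ 2 + a * z₁ * z₂ + b * z₂ ^ 2 = 0 → z₁ = 0 ∧ z₂ = 0) (g : Omega F (quadFormMinus m F a b)) :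
    ∃ x y : Omega F (quadFormMinus m F a b), g = x * y * x⁻¹ * y⁻¹ := by
  refine ore_of (H11.coe_qMinus m a b) (H11.qMinus_nondeg m (H11.disc_ne_zero_of_aniso hab)) ⟨inlL _ _ ∘ₗ inlL _ _,
    inlL _ _ ∘ₗ inrL _ _, funLeft F F (.inl ∘ .inl), funLeft F F (.inl ∘ .inr), by simp [quadFormMinus, inlL],
    by simp [quadFormMinus, inlL, inrL], by simp [H11.polar_quadFormMinus, inlL, dotProduct],
    by simp [H11.polar_quadFormMinus, inlL, inrL, dotProduct], fun _ => rfl, fun _ => rfl⟩ (fun w hw e => ?_) hm (fun e => ?_) g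
  · have h1 : ∀ i, w (.inl (.inl i)) = 0 := congrFun hw.1
    have := hab _ _ (by simpa [quadFormMinus, h1] using e)
    exact funext fun
      | .inr 0 => this.1
      | .inr 1 => this.2
      | .inl (.inl i) => h1 i
      | .inl (.inr i) => congrFun hw.2 i
  · simpa using (Submodule.eq_bot_iff _).1 e (Pi.single (.inr 0) 1) ⟨funext fun _ => by simp, funext fun _ => by simp⟩

end H23.OO
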