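import Cfsg.Agent.H17.GS23
import Cfsg.Agent.H20.JT9
import Cfsg.Agent.H19.Ab2b

/-!
# Non-solvable groups with abelian Sylow `2`-subgroups have non-abelian `p'`-subgroups of even order
-/

open Subgroup Cfsg MatrixGroups
open H19 hiding eq_bot_mono
open H17.GS H20.JT

namespace H23

universe u

variable {G : Type u} [Group G] [Finite G] {p r : ℕ} {s y : G} {L : Subgroup G}

/-- all `p'`-subgroups of even order are abelian -/
def PAb (p : ℕ) (L : Subgroup G) : Prop := ∀ H ≤ L, PiG {p}ᶜ H → 2 ∣ #H → Ab H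

theorem PAb.no_real (h : PAb p L) (p2 : p ≠ 2) (hr : r.Prime) (r2 : r ≠ 2) (rp : r ≠ p) (hy : y ∈ L)
    (hs : s ∈ L) (oy : orderOf y = r) (ss : s * s = 1) (e : s * y * s⁻¹ = y⁻¹) : False := by
  have key : s * y ≠ y * s := fun c => r2 ((Nat.prime_dvd_prime_iff_eq hr Nat.prime_two).1 (oy ▸
    orderOf_dvd_of_pow_eq_one (by rw [c, mul_inv_cancel_right] at e; rw [sq]; nth_rw 1 [e]; simp)))
  have s2 : orderOf s = 2 := orderOf_eq_prime (by rwa [sq]) (by rintro rfl; simp at key)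
  refine key (mul_comm_of_comm (h (zpowers y ⊔ zpowers s) (sup_le (zpowers_le.2 hy) (zpowers_le.2 hs))
    (PiN.sup (piG_zpowers.2 (by rw [PiE, oy]; exact (piN_prime hr).2 rp)) (piG_zpowers.2 (by
      rw [PiE, s2]; exact (piN_prime Nat.prime_two).2 p2.symm)) (zpowers_le.2 (mem_norm_iff_cj.2 (by
        rw [cj_zpowers, e, zpowers_inv])))) (s2 ▸ orderOf_dvd_card' (mem_sup_right (mem_zpowers s))))
    (mem_sup_right (mem_zpowers s)) (mem_sup_left (mem_zpowers y)))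

theorem sl2_real {F : Type*} [Field F] [CharP F 2] (y : SL(2, F)) :
    ∃ s : SL(2, F), s * s = 1 ∧ s * y * s⁻¹ = y⁻¹ := by
  have h2 : (2 : F) = 0 := CharP.ofNat_eq_zero F 2
  have hd := y.det_coe
  rw [Matrix.det_fin_two] at hd
  suffices ∃ x z w : F, x * x - z * w = 1 ∧ x * (y 0 0 + y 1 1) + z * y 1 0 + w * y 0 1 = 0 by
    obtain ⟨x, z, w, h1, h3⟩ := this
    obtain ⟨s, hs⟩ : ∃ s : SL(2, F), s.1 = !![x, z; w, x] :=
      ⟨⟨_, by rwa [Matrix.det_fin_two_of]⟩, rfl⟩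
    refine ⟨s, Subtype.ext ?_, ?_⟩
    · rw [Matrix.SpecialLinearGroup.coe_mul, hs]
      ext i j
      fin_cases i <;> fin_cases j <;> simp [Matrix.mul_apply, Fin.sum_univ_two] <;> grind
    · rw [mul_inv_eq_iff_eq_mul]
      refine Subtype.ext ?_
      rw [Matrix.SpecialLinearGroup.coe_mul, Matrix.SpecialLinearGroup.coe_mul, hs,
        Matrix.SpecialLinearGroup.coe_inv, Matrix.adjugate_fin_two]
      ext i j
      fin_cases i <;> fin_cases j <;> simp [Matrix.mul_apply, Fin.sum_univ_two] <;> grind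
  by_cases hb : y 0 1 = 0
  · by_cases hc : y 1 0 = 0
    · exact ⟨0, 1, 1, by grind, by simp [hb, hc]⟩
    · exact ⟨1, (y 0 0 + y 1 1) / y 1 0, 0, by simp, by grind⟩
  · exact ⟨1, 0, (y 0 0 + y 1 1) / y 0 1, by simp, by grind⟩

theorem exists_prime_ne {a b : ℕ} (p : ℕ) (h : a.Coprime b) (ha : Odd a) (hb : Odd b) (a1 : a ≠ 1)
    (b1 : b ≠ 1) : ∃ r, r.Prime ∧ r ≠ 2 ∧ r ≠ p ∧ r ∣ a * b := by
  obtain ⟨r, hr, h1⟩ := Nat.exists_prime_and_dvd a1
  obtain ⟨s, hs, h2⟩ := Nat.exists_prime_and_dvd b1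
  by_cases e : r = p
  · exact ⟨s, hs, odd_prime_ne_two hb h2, fun f => hr.one_lt.ne' (Nat.eq_one_of_dvd_coprimes h h1
      (e.trans f.symm ▸ h2)), h2.mul_left _⟩
  · exact ⟨r, hr, odd_prime_ne_two ha h1, e, h1.mul_right _⟩

theorem PAb.not_l2 (h : PAb p L) (p2 : p ≠ 2) (hL : H3.IsL2 L) : False := by
  obtain ⟨F, _, _, ⟨m, hm, hF⟩, ⟨e⟩⟩ := hL
  haveI := charP_of_card_eq_prime_pow hF
  obtain ⟨e'⟩ := H19.psl2_sl2 F
  obtain ⟨k, hk⟩ : ∃ k, 2 ^ m = 2 * k + 4 := by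
    obtain ⟨m, rfl⟩ := Nat.exists_eq_add_of_le' hm
    exact ⟨2 * 2 ^ m - 2, by have := Nat.one_le_two_pow (n := m); rw [pow_add]; omega⟩
  have h3 := H11.card_psl_two (F := F)
  rw [hF, ← Nat.card_congr e.toEquiv, hk, (Nat.coprime_two_left.2 ⟨k + 1, by omega⟩ :
    Nat.gcd _ _ = 1), one_mul] at h3
  obtain ⟨r, hr, r2, rp, hd⟩ := exists_prime_ne p (a := 2 * k + 3) (b := 2 * k + 3 + 2)
    (by simp [Nat.coprime_self_add_right, parity_simps]) ⟨k + 1, rfl⟩ ⟨k + 2, rfl⟩ (by omega) (by omega)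
  obtain ⟨y, hy, oy⟩ := exists_orderOf_eq_prime (H := L) hr (h3 ▸ (hd.trans (Dvd.intro 1 (by
    zify [show 1 ≤ (2 * k + 4) ^ 2 by nlinarith]; ring))).mul_left _)
  obtain ⟨s, ss, hs⟩ := sl2_real ((e.trans e') ⟨y, hy⟩)
  obtain ⟨s, rfl⟩ := (e.trans e').surjective s
  rw [← map_mul, map_eq_one_iff _ (MulEquiv.injective _)] at ss
  rw [← map_inv, ← map_mul, ← map_mul, ← map_inv] at hs
  exact h.no_real p2 hr r2 rp hy s.2 oy (congrArg Subtype.val ss)
    (congrArg Subtype.val (MulEquiv.injective _ hs))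

theorem PAb.not_l2pm (h : PAb p L) (p2 : p ≠ 2) (hL : IsL2pm L) : False := by
  obtain ⟨F, _, _, h8, h5, ⟨e⟩⟩ := hL
  obtain ⟨c, _, f, hc, hq⟩ := FiniteField.card' F
  haveI := Fact.mk hc
  have hpa := pa_psl c (F := F) (Nat.odd_iff.2 (by omega))
    (φ := L.subtype.comp e.symm.toMonoidHom) (L.subtype_injective.comp e.symm.injective)
  rw [MonoidHom.range_comp, MonoidHom.range_eq_top.2 e.symm.surjective, ← MonoidHom.range_eq_map,
    L.range_subtype] at hpa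
  have cq : c ∣ Fintype.card F := hq ▸ dvd_pow_self c f.ne_zero
  have c5 : Fintype.card F = 5 → c = 5 := fun e =>
    (Nat.prime_dvd_prime_iff_eq hc Nat.prime_five).1 (e ▸ cq)
  generalize Fintype.card F = q at *
  have key : ∀ r, r.Prime → r ≠ 2 → r ≠ p → ¬ r ∣ q ^ 2 - 1 := fun r hr r2 rp hd => by
    obtain ⟨y, hy, oy⟩ := exists_orderOf_eq_prime (H := L) hr (((Nat.coprime_primes hr
      Nat.prime_two).2 r2).dvd_of_dvd_mul_left (hpa.card ▸ hd.mul_left q))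
    obtain ⟨g, s, T, ⟨i, rfl⟩, -⟩ := hpa.tor y hy fun e => by
      obtain rfl := (Nat.prime_dvd_prime_iff_eq hr hc).1 (oy ▸ orderOf_dvd_of_pow_eq_one e)
      have := Nat.dvd_sub (cq.trans (dvd_pow_self q two_ne_zero)) hd
      rw [Nat.sub_sub_self (by nlinarith)] at this
      exact hr.one_lt.ne' (Nat.dvd_one.1 this)
    exact h.no_real p2 hr r2 rp hy T.sL oy (by rw [← sq, ← T.s2, pow_orderOf_eq_one]) (by
      rw [← conj_zpow, T.inv, inv_zpow])
  rcases h8 with h8 | h8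
  · obtain ⟨k, rfl⟩ : ∃ k, q = 8 * k + 11 := ⟨(q - 11) / 8, by omega⟩
    obtain ⟨r, hr, r2, rp, hd⟩ := exists_prime_ne p (a := 2 * k + 3) (b := 4 * k + 5)
      (by rw [← Nat.isCoprime_iff_coprime]; exact ⟨2, -1, by push_cast; ring⟩)
      ⟨k + 1, rfl⟩ ⟨2 * k + 2, by ring⟩ (by omega) (by omega)
    exact key r hr r2 rp (hd.trans (Dvd.intro 8 (by
      zify [show 1 ≤ (8 * k + 11) ^ 2 by nlinarith]; ring)))
  obtain ⟨k, rfl⟩ : ∃ k, q = 8 * k + 5 := ⟨(q - 5) / 8, by omega⟩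
  rcases eq_or_ne k 0 with rfl | k0
  · obtain rfl : p = 3 := by_contra fun e => key 3 Nat.prime_three (by decide) (Ne.symm e) (by decide)
    obtain rfl := c5 rfl
    obtain ⟨y, hy, oy⟩ := exists_orderOf_eq_prime (H := L) hc
      ((show Nat.Coprime 5 2 by decide).dvd_of_dvd_mul_left (hpa.card ▸ by decide))
    have y1 : y ≠ 1 := by rintro rfl; simp at oy
    obtain ⟨U, B, hU, hy⟩ := hpa.uni y hy y1 (oy ▸ pow_orderOf_eq_one y)
    have h1 : #B = 10 := by have := hU.cardB; omega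
    have h2 := card_le (show B ≤ U from fun b hb => hU.cent y hy y1 b (hU.BL hb) (mul_comm_of_comm
      (h B hU.BL (PiN.of_not_dvd (h1 ▸ by decide)) (h1 ▸ by decide)) hb (hU.UB hy)))
    have := hU.card
    omega
  obtain ⟨r, hr, r2, rp, hd⟩ := exists_prime_ne p (a := 2 * k + 1) (b := 4 * k + 3)
    (by rw [← Nat.isCoprime_iff_coprime]; exact ⟨-2, 1, by push_cast; ring⟩)
    ⟨k, rfl⟩ ⟨2 * k + 1, by ring⟩ (by omega) (by omega)
  exact key r hr r2 rp (hd.trans (Dvd.intro 8 (by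
    zify [show 1 ≤ (8 * k + 5) ^ 2 by nlinarith]; ring)))

theorem burnside_fus {S X : Subgroup G} {x g : G} (hS : Syl p S X) (hx : x ∈ C(S)) (hg : g ∈ X) (h : g * x * g⁻¹ ∈ C(S)) :
    ∃ n ∈ X ⊓ N(S), n * x * n⁻¹ = g * x * g⁻¹ := by
  obtain ⟨c, hc, e⟩ := ((hS.Jmem hg).inf (K := C[g * x * g⁻¹]) (by
    rw [← cj_cent1]; exact cj_mono g (le_cent1_iff.2 hx))).sconj (hS.inf (le_cent1_iff.2 h))
  refine ⟨c * g, ⟨mul_mem hc.1 hg, mem_norm_iff_cj.2 (by rw [cj_mul, e])⟩, ?_⟩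
  rw [← conj_conj', mem_cent1.1 hc.2, mul_inv_cancel_right]

theorem PAb.not_jrt (h : PAb p L) (hp : p.Prime) (p2 : p ≠ 2) (hL : JRt L) : False := by
  obtain ⟨S, hE, hS⟩ := hL.syl
  have h8 : #S = 8 := hE.card
  have key : ∀ M ≤ L ⊓ N(S), ∀ K, C(S) ≤ K → (∀ R, Syl p R M → R ≤ K) → M ≤ K :=
    fun M hM K h1 h2 => le_of_syl fun l R hl hR => by
      rcases eq_or_ne l p with rfl | e
      · exact h2 R hR
      · have := hR.le.trans hM
        exact (cents_of_comm (h _ (sup_le hS.le (this.trans inf_le_left)) ((hS.pi.sing_ne p2.symm).sup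
          (hR.pi.sing_ne e) (this.trans inf_le_right)) ((h8 ▸ by decide : 2 ∣ #S).trans
          (card_dvd le_sup_left))) le_sup_right le_sup_left).trans h1
  have o2 : ∀ s ∈ S, s ≠ 1 → orderOf s = 2 := fun s hs => orderOf_eq_prime (hE.ab.2 s hs)
  rcases eq_or_ne p 3 with rfl | p3
  · obtain ⟨R, hR⟩ := exists_syl 3 (L ⊓ N(S))
    have h1 := modEq_cent hR.pi hp (hR.le.trans inf_le_right)
    obtain ⟨t, ⟨ht, ht'⟩, t1⟩ := exists_ne_one (H := S ⊓ C(R)) fun e => by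
      rw [e, h8, card_bot] at h1; exact absurd h1 (by decide)
    have h2 : L ⊓ N(S) ≤ C[t] := le_of_exists_syl fun l hl _ => by
      rcases eq_or_ne l 3 with rfl | e
      · exact ⟨R, hR, le_cent1_iff.2 ht'⟩
      · obtain ⟨Q, hQ⟩ := exists_syl l (L ⊓ N(S))
        exact ⟨Q, hQ, key Q hQ.le _ (cent_le_cent1 ht) fun R hR => by
          simp [(hR.pi.eq_bot ((hQ.pi.sing_ne e).of_le hR.le))]⟩
    have h3 : S ≤ zpowers t := fun s hs => by
      rcases eq_or_ne s 1 with rfl | s1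
      · exact one_mem _
      obtain ⟨g, hg, rfl⟩ := hL.conj t (hS.le ht) s (hS.le hs) (o2 t ht t1) (o2 s hs s1)
      obtain ⟨n, hn, e⟩ := burnside_fus hS (hE.le_cent ht) hg (hE.le_cent hs)
      rw [← e, mem_cent1.1 (h2 hn), mul_inv_cancel_right]
      exact mem_zpowers t
    have := card_le h3
    rw [h8, Nat.card_zpowers, o2 t ht t1] at this
    omega
  obtain ⟨t, ht, t1⟩ := exists_ne_one hE.ne_bot
  have h1 := H18.Burnside_normal_complement (hS.inf (le_cent1_iff.2 (hE.le_cent ht)))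
    (key _ (inf_le_inf_right _ inf_le_left) _ le_rfl fun R hR => by
      have h1 := modEq_cent hR.pi hp (hR.le.trans inf_le_right)
      have h2 : 2 ∣ #(S ⊓ C(R)) := o2 t ht t1 ▸ orderOf_dvd_card' (mem_inf.2
        ⟨ht, le_cent1_iff.1 (hR.le.trans (inf_le_left.trans inf_le_right))⟩)
      have h3 : #(S ⊓ C(R)) ∣ 8 := h8 ▸ card_dvd inf_le_left
      refine cents_symm (inf_eq_left.1 (eq_of_le_of_card_eq inf_le_left ?_))
      rw [h8] at h1 ⊢
      have h4 := Nat.le_of_dvd (by decide) h3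
      have h5 := (Nat.modEq_iff_dvd' h4).1 h1.symm
      generalize #(S ⊓ C(R)) = a at *
      have : ¬ p ∣ 2 ^ 2 := fun e => p2 ((Nat.prime_dvd_prime_iff_eq hp Nat.prime_two).1
        (hp.dvd_of_dvd_pow e))
      have : ¬ p ∣ 2 * 3 := fun e => ((Nat.Prime.dvd_mul hp).1 e).elim
        (fun e => p2 ((Nat.prime_dvd_prime_iff_eq hp Nat.prime_two).1 e))
        fun e => p3 ((Nat.prime_dvd_prime_iff_eq hp Nat.prime_three).1 e)
      interval_cases a <;> simp_all)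
  rw [show Oc {2}ᶜ (L ⊓ C[t]) = ⊥ from hL.core t (hS.le ht) (o2 t ht t1)] at h1
  exact hL.nsol t (hS.le ht) (o2 t ht t1) (PiN.sol (p := 2) (by simpa using h1.pi'_of_eq_bot))

theorem exists_lift {G' : Type*} [Group G'] {f : G →* G'} (hf : Function.Surjective f)
    {H : Subgroup G'} (hH : PiG {p}ᶜ H) : ∃ K : Subgroup G, PiG {p}ᶜ K ∧ K.map f = H := by
  obtain ⟨P, hP⟩ := exists_syl p f.ker
  have h1 : f.ker ≤ H.comap f := fun x hx => by simp [MonoidHom.mem_ker.1 hx, one_mem]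
  have h2 := hP.frattini ⟨h1, le_normalizer_of_normal⟩
  have h3 : Syl p P (H.comap f) := hP.of_idx h1 (by
    rw [← MonoidHom.comap_bot, relIndex_comap, map_comap_eq_self_of_surjective hf, relIndex_bot_left]
    exact hH)
  obtain ⟨K, hK⟩ := (h3.inf le_normalizer).exists_compl inf_le_right
  refine ⟨K, (hK.hall_right (h3.inf le_normalizer)).pi, ?_⟩
  rw [← map_comap_eq_self_of_surjective hf H, ← h2, ← hK.sup, ← sup_assoc, sup_eq_left.2 hP.le,
    Subgroup.map_sup, (map_eq_bot_iff f.ker).2 le_rfl, bot_sup_eq]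

theorem ab_of_map_subtype {P : Subgroup L} (h : Ab (P.map L.subtype)) : Ab P :=
  ⟨⟨fun a b => Subtype.ext (Subtype.ext (mul_comm_of_comm h ⟨a, a.2, rfl⟩ ⟨b, b.2, rfl⟩))⟩⟩

theorem sol_of_pab (hp : p.Prime) (p2 : p ≠ 2) (G : Type u) [Group G] [Finite G] :
    AbS (⊤ : Subgroup G) → PAb p (⊤ : Subgroup G) → Group.IsSolvable G := by
  induction' hn : Nat.card G using Nat.strong_induction_on with n ih generalizing G
  intro h1 h2
  by_cases hs : ∀ N : Subgroup G, N.Normal → N = ⊥ ∨ N = ⊤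
  · by_contra hc
    haveI : Nontrivial G := by_contra fun h => hc (by
      haveI := not_nontrivial_iff_subsingleton.1 h; infer_instance)
    haveI : IsSimpleGroup G := ⟨hs⟩
    rcases ab_cases (L := ⊤) ⟨topEquiv.isSimpleGroup, fun h => hc (Group.isSolvable_of_comm fun a b =>
      mul_comm_of_comm h trivial trivial)⟩ h1 with h | h | h
    exacts [h2.not_l2 p2 h, h2.not_l2pm p2 h, h2.not_jrt hp p2 h]
  push Not at hs
  obtain ⟨N, _, n1, n2⟩ := hs
  haveI := ih _ (hn ▸ card_top (G := G) ▸ card_lt n2.lt_top) N rfl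
    (fun P hP _ => ab_of_map_subtype (h1 _ (hP.dvd (card_map_dvd _ _)) le_top))
    fun P _ hP e => ab_of_map_subtype (h2 _ le_top (hP.dvd (card_map_dvd _ _)) (by rwa [card_map_of_injective N.subtype_injective]))
  haveI := ih _ (hn ▸ by
      rw [← index_eq_card, ← N.index_mul_card]
      exact lt_mul_of_one_lt_right (Nat.pos_of_ne_zero index_ne_zero_of_finite)
        (ne_bot_iff_one_lt_card.1 n1)) (G ⧸ N) rfl
    (fun P hP _ => by
      obtain ⟨S, hS⟩ := exists_syl 2 (⊤ : Subgroup G)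
      have := hS.map (QuotientGroup.mk' N)
      rw [map_top_of_surjective _ (QuotientGroup.mk'_surjective N)] at this
      obtain ⟨g, -, e⟩ := this.sle_cj le_top hP
      haveI := h1 S hS.pi le_top
      exact comm_mono (comm_cj.2 inferInstance) e)
    fun P _ hP e => by
      obtain ⟨K, hK, rfl⟩ := exists_lift (QuotientGroup.mk'_surjective N) hP
      haveI := h2 K le_top hK (e.trans (card_map_dvd _ _))
      infer_instance
  exact Group.isSolvable_of_ker_le_range N.subtype (QuotientGroup.mk' N) (by simp)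

end H23
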