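import Cfsg.Agent.H6.PS0

/-! The Praeger-Saxl bound: distinguishing sets (chunk DB). -/

set_option autoImplicit false

namespace H23.PS
open MulAction Finset H22.Bab H6.PS
universe u

set_option synthInstance.maxSize 1000 in
theorem num0 : ∀ σ < 80, ∀ ρ < 80, ∀ d < 17, 11 ≤ σ + ρ → (2 * (σ + ρ) ≤ d * σ ∨ ρ ≤ σ) →
    2 * σ + 3 * ρ + 2 * σ * ρ ≤ d * (σ + 2 * ρ) → σ ≤ ρ * ρ → 12 * (1 + σ + ρ) + 24 * d ≤ 9 * d ^ 2 + 16 := by
  decide +kernel

theorem num {σ ρ d : ℕ} (h : 11 ≤ σ + ρ) (hA : 2 * (σ + ρ) ≤ d * σ ∨ ρ ≤ σ)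
    (hC : 2 * σ + 3 * ρ + 2 * σ * ρ ≤ d * (σ + 2 * ρ)) (hq : σ ≤ ρ * ρ) :
    12 * (1 + σ + ρ) + 24 * d ≤ 9 * d ^ 2 + 16 := by
  by_contra! H
  by_cases b : σ + ρ < 80
  · exact H.not_ge (num0 σ (by omega) ρ (by omega) d (by nlinarith) h hA hC hq)
  rcases le_or_gt ρ σ with l | l
  · have h1 : 2 * ρ + 2 ≤ 3 * d := Nat.le_of_mul_le_mul_right (c := σ) (by nlinarith) (by omega)
    have h2 : 4 * ρ ≤ σ := by_contra fun k => by
      obtain ⟨t, e⟩ : ∃ t, 3 * d = t + 4 := ⟨3 * d - 4, by omega⟩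
      have : t * t < 60 * ρ := by nlinarith
      obtain ⟨r, rfl⟩ : ∃ r, ρ = r + 1 := ⟨ρ - 1, by omega⟩
      have : 2 * r ≤ t := by omega
      have : 15 ≤ r := by omega
      nlinarith
    have h3 : 4 * ρ + 4 ≤ 3 * d := Nat.le_of_mul_le_mul_right (c := σ) (by nlinarith) (by omega)
    obtain ⟨t, e⟩ : ∃ t, 3 * d = t + 4 := ⟨3 * d - 4, by omega⟩
    have : t * t < 12 * (1 + σ + ρ) := by nlinarith
    have : 4 * ρ ≤ t := by omega
    have : 4 ≤ ρ := by nlinarith
    nlinarith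
  replace hA := hA.resolve_right l.not_ge
  have h1 : 2 * σ + 3 ≤ 3 * d := Nat.le_of_mul_le_mul_right (c := ρ) (by nlinarith) (by omega)
  have h2 : 4 * σ ≤ ρ := by_contra fun k => by
    obtain ⟨t, e⟩ : ∃ t, 3 * d = t + 4 := ⟨3 * d - 4, by omega⟩
    have : t * t < 60 * σ := by nlinarith
    obtain ⟨r, rfl⟩ : ∃ r, σ = r + 1 := ⟨σ - 1, by omega⟩
    have : 2 * r + 1 ≤ t := by omega
    have : 15 ≤ r := by omega
    nlinarith
  have h3 : 8 * σ + 12 ≤ 9 * d := Nat.le_of_mul_le_mul_right (c := ρ) (by nlinarith) (by omega)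
  have h4 : 1 + σ + ρ < 3 * d := by nlinarith
  nlinarith

open Classical in
/-- indicator -/
noncomputable def I (P : Prop) : ℕ := if P then 1 else 0
theorem I1 {P : Prop} (h : P) : I P = 1 := if_pos h
theorem I0 {P : Prop} (h : ¬ P) : I P = 0 := if_neg h

variable {G Ω : Type u} [Group G] [MulAction G Ω] [Fintype Ω] {a b u v w x : Ω}

/-- `x` separates `u` and `v` -/
def Sep (G : Type u) [Group G] [MulAction G Ω] (x u v : Ω) : Prop := ¬ ∃ g : G, g • x = x ∧ g • u = v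
/-- number of solutions -/
noncomputable def N (P : Ω → Prop) : ℕ := ∑ v, I (P v)

theorem N_eq (P : Ω → Prop) [DecidablePred P] : N P = #(univ.filter P) := by
  rw [card_filter]; exact sum_congr rfl fun _ _ => by unfold I; congr

theorem DI : D G u v = N fun x => Sep G x u v := by
  classical
  rw [D, N_eq]; congr

theorem N_smul {P Q : Ω → Prop} (g : G) (h : ∀ v, Q (g • v) ↔ P v) : N Q = N P :=
  (Fintype.sum_equiv (toPerm g) (fun v => I (P v)) (fun v => I (Q v)) fun v => congrArg I (propext (h v).symm)).symm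

theorem N_one (a : Ω) : N (· = a) = 1 := by
  rw [N, sum_eq_single a (fun _ _ => I0) fun k => (k (mem_univ a)).elim, I1 rfl]

omit [Fintype Ω] in
theorem Sep.symm (h : Sep G x u v) : Sep G x v u := fun ⟨g, e, f⟩ =>
  h ⟨g⁻¹, inv_smul_eq_iff.2 e.symm, inv_smul_eq_iff.2 f.symm⟩
omit [Fintype Ω] in
theorem Sep.smul (h : Sep G x u v) (g : G) : Sep G (g • x) (g • u) (g • v) := fun ⟨k, e, f⟩ =>
  h ⟨g⁻¹ * k * g, by rw [mul_smul, mul_smul, e, inv_smul_smul], by rw [mul_smul, mul_smul, f, inv_smul_smul]⟩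
omit [Fintype Ω] in
theorem Sep.tri (h : Sep G x u w) (v : Ω) : Sep G x u v ∨ Sep G x v w := by
  by_contra! k
  obtain ⟨⟨g, e, f⟩, l, e', f'⟩ := And.intro (not_not.1 k.1) (not_not.1 k.2)
  exact h ⟨l * g, by rw [mul_smul, e, e'], by rw [mul_smul, f, f']⟩
omit [Fintype Ω] in
theorem sep_l (n : u ≠ v) : Sep G u u v := fun ⟨_, e, f⟩ => n (e.symm.trans f)
omit [Fintype Ω] in
theorem ne_of (n : a ≠ b) (h : Adj G a b u v) : u ≠ v := fun e => by
  obtain ⟨g, k | k⟩ := h
  exacts [n (smul_left_cancel g (k.1.trans (e.trans k.2.symm))), n (smul_left_cancel g (k.1.trans (e.symm.trans k.2.symm)))]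

theorem D_adj (h : Adj G a b u v) : D G u v = D G a b := by
  have k : ∀ (g : G) (u v : Ω), D G (g • u) (g • v) = D G u v := fun g u v => by
    rw [DI, DI]
    exact N_smul g fun x => ⟨fun h => by simpa using h.smul g⁻¹, fun h => h.smul g⟩
  obtain ⟨g, ⟨rfl, rfl⟩ | ⟨rfl, rfl⟩⟩ := h
  · exact k ..
  rw [k, DI, DI]
  exact congrArg N (funext fun _ => propext ⟨Sep.symm, Sep.symm⟩)

variable [Finite G] [IsPreprimitive G Ω] {R : Ω → Ω → Prop}

omit [Finite G] in
theorem val (hi : ∀ (g : G) u v, R u v → R (g • u) (g • v)) (u a : Ω) : N (R u) = N (R a) := by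
  obtain ⟨g, rfl⟩ := exists_smul_eq G a u
  exact N_smul g fun v => ⟨fun h => by simpa using hi g⁻¹ _ _ h, hi g _ _⟩

theorem stA (n : a ≠ b) : 2 * (Fintype.card Ω - 1) ≤ D G a b * N (Adj G a b a) := by
  classical
  have key : ∀ x, 2 * (Fintype.card Ω - 1) ≤ ∑ u, ∑ v, I (Adj G a b u v ∧ Sep G x u v) := fun x => by
    let P : ℕ → Ω → Prop := fun j => Nat.rec (· = x) (fun _ Q y => ∃ z, Q z ∧ Adj G a b z y) j
    have p0 : ∀ y, P 0 y → y = x := fun _ => id
    have p1 : ∀ j y, P (j + 1) y → ∃ z, P j z ∧ Adj G a b z y := fun _ _ => id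
    have ex : ∀ y, ∃ j, P j y := fun y => by
      induction conn (G := G) n x y with
      | refl => exact ⟨0, rfl⟩
      | tail _ h ih => exact let ⟨j, k⟩ := ih; ⟨j + 1, _, k, h⟩
    have inv : ∀ g : G, g • x = x → ∀ j y, P j y → P j (g • y) := fun g e j => by
      induction j with
      | zero => exact fun y (h : y = x) => (h ▸ e : g • y = x)
      | succ j ih => exact fun y ⟨z, k, h⟩ => ⟨_, ih z k, h.smul g⟩
    clear_value P
    have sp : ∀ u v, Nat.find (ex u) < Nat.find (ex v) → Sep G x u v := fun u v l ⟨g, e, f⟩ =>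
      Nat.find_min (ex v) l (f ▸ inv g e _ _ (Nat.find_spec (p := fun j => P j u) (ex u)))
    have up : Fintype.card Ω - 1 ≤ ∑ v, ∑ u, I (Adj G a b u v ∧ Nat.find (ex u) < Nat.find (ex v)) := by
      rw [← card_univ, ← card_erase_of_mem (mem_univ x), card_eq_sum_ones]
      refine (sum_le_sum fun v m => ?_).trans (sum_le_sum_of_subset (subset_univ _))
      have s := Nat.find_spec (ex v)
      generalize Nat.find (ex v) = j at s
      rcases j with _ | j
      · exact absurd (p0 _ s) (mem_erase.1 m).1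
      obtain ⟨z, k, h⟩ := p1 _ _ s
      exact (I1 ⟨h, Nat.lt_succ_of_le (Nat.find_min' _ k)⟩).ge.trans
        (single_le_sum (f := fun u => I (Adj G a b u v ∧ Nat.find (ex u) < j + 1)) (fun _ _ => Nat.zero_le _) (mem_univ z))
    rw [two_mul]
    refine (add_le_add up (up.trans_eq sum_comm)).trans ?_
    rw [← sum_add_distrib]
    refine sum_le_sum fun u _ => ?_
    rw [← sum_add_distrib]
    refine sum_le_sum fun v _ => ?_
    by_cases h1 : Adj G a b v u ∧ Nat.find (ex v) < Nat.find (ex u)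
    · rw [I1 h1, I0 fun k => h1.2.not_gt k.2, I1 ⟨h1.1.symm, (sp _ _ h1.2).symm⟩]
    by_cases h2 : Adj G a b u v ∧ Nat.find (ex u) < Nat.find (ex v)
    · rw [I0 h1, I1 h2, I1 ⟨h2.1, sp _ _ h2.2⟩]
    rw [I0 h1, I0 h2]
    exact Nat.zero_le _
  have s := sum_le_sum fun x (_ : x ∈ univ) => key x
  rw [sum_comm, sum_congr rfl (f := fun u => ∑ x, ∑ v, I (Adj G a b u v ∧ Sep G x u v))
    (g := fun _ => D G a b * N (Adj G a b a)) fun u _ => by
    rw [sum_comm, ← val (G := G) (fun g _ _ h => h.smul g) u a, N, mul_sum]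
    refine sum_congr rfl fun v _ => ?_
    by_cases h : Adj G a b u v
    · simp only [h, true_and, I1 trivial, mul_one]
      rw [← D_adj h, DI, N]
    · simp only [h, false_and, I0 not_false, mul_zero, sum_const_zero]] at s
  simp only [sum_const, card_univ, smul_eq_mul] at s
  exact Nat.le_of_mul_le_mul_left s (Fintype.card_pos_iff.2 ⟨a⟩)

omit [Finite G] [IsPreprimitive G Ω] in
theorem spl (ir : ∀ u v, R u v → u ≠ v) (u : Ω) : Fintype.card Ω = 1 + N (R u) + N fun v => u ≠ v ∧ ¬ R u v := by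
  rw [← N_one u, N, N, N, ← sum_add_distrib, ← sum_add_distrib, ← card_univ, card_eq_sum_ones]
  refine sum_congr rfl fun v _ => ?_
  by_cases e : v = u
  · rw [I1 e, I0 fun k => ir _ _ k e.symm, I0 fun k => k.1 e.symm]
  by_cases r : R u v
  · rw [I0 e, I1 r, I0 fun k => k.2 r]
  rw [I0 e, I0 r, I1 ⟨Ne.symm e, r⟩]

omit [Finite G] [IsPreprimitive G Ω] [Fintype Ω] in
theorem cinv (hi : ∀ (g : G) u v, R u v → R (g • u) (g • v)) (g : G) (u v : Ω) (h : u ≠ v ∧ ¬ R u v) :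
    g • u ≠ g • v ∧ ¬ R (g • u) (g • v) :=
  ⟨fun e => h.1 (smul_left_cancel g e), fun k => h.2 (by simpa using hi g⁻¹ _ _ k)⟩

omit [Finite G] in
theorem stS {d σ ρ : ℕ} (hi : ∀ (g : G) u v, R u v → R (g • u) (g • v)) (ir : ∀ u v, R u v → u ≠ v)
    (h1 : ∀ u v, R u v → D G u v ≤ d) (h2 : ∀ u v : Ω, u ≠ v → D G u v + 1 ≤ 2 * d) (eσ : N (R a) = σ)
    (eρ : N (fun v => a ≠ v ∧ ¬ R a v) = ρ) : 2 * σ + 3 * ρ + 2 * σ * ρ ≤ d * (σ + 2 * ρ) := by
  have c := spl ir a
  have vσ := fun u => (val hi u a).trans eσ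
  have vρ := fun u => (val (R := fun u v => u ≠ v ∧ ¬ R u v) (cinv hi) u a).trans eρ
  rw [eσ, eρ] at c
  have s1 : ∀ x : Ω, Fintype.card Ω * Fintype.card Ω ≤ ∑ u, ∑ v, I (Sep G x u v) + (1 * 1 + σ * σ + ρ * ρ) := fun x => by
    rw [← vσ x, ← vρ x, ← N_one x, N, N, N, sum_mul_sum, sum_mul_sum, sum_mul_sum, ← sum_add_distrib, ← sum_add_distrib,
      ← sum_add_distrib, ← card_univ, ← smul_eq_mul, ← sum_const]
    refine sum_le_sum fun u _ => ?_
    rw [← sum_add_distrib, ← sum_add_distrib, ← sum_add_distrib, card_eq_sum_ones]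
    refine sum_le_sum fun v _ => ?_
    by_cases s : Sep G x u v
    · rw [I1 s]; omega
    obtain ⟨g, e, rfl⟩ := not_not.1 s
    by_cases q : u = x
    · rw [I1 q, I1 (q ▸ e : g • u = x)]; omega
    by_cases r : R x u
    · rw [I1 r, I1 (e ▸ hi g _ _ r : R x (g • u))]; omega
    rw [I1 (And.intro (Ne.symm q) r), I1 (e ▸ cinv hi g _ _ ⟨Ne.symm q, r⟩ : x ≠ g • u ∧ ¬ R x (g • u))]; omega
  have s2 : ∀ u : Ω, ∑ v, ∑ x, I (Sep G x u v) + ρ ≤ d * σ + 2 * d * ρ := fun u => by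
    rw [← vσ u, ← vρ u, N, N, mul_sum, mul_sum, ← sum_add_distrib, ← sum_add_distrib]
    refine sum_le_sum fun v _ => ?_
    change N (fun x => Sep G x u v) + _ ≤ _
    by_cases q : u = v
    · rw [I0 fun k : u ≠ v ∧ _ => k.1 q, N, sum_eq_zero fun x _ => I0 fun k => k ⟨1, one_smul .., q ▸ one_smul ..⟩]
      exact Nat.zero_le _
    rw [← DI]
    by_cases r : R u v
    · have := h1 u v r
      rw [I1 r, I0 fun k : u ≠ v ∧ ¬ R u v => k.2 r]; omega
    have := h2 u v q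
    rw [I0 r, I1 (And.intro q r)]; omega
  have t1 := sum_le_sum fun x (_ : x ∈ univ) => s1 x
  have t2 := sum_le_sum fun x (_ : x ∈ univ) => s2 x
  rw [sum_add_distrib] at t1 t2
  rw [sum_comm, sum_congr rfl fun _ _ => sum_comm] at t1
  simp only [sum_const, card_univ, smul_eq_mul] at t1 t2
  have : Fintype.card Ω * (Fintype.card Ω * Fintype.card Ω + ρ) ≤
      Fintype.card Ω * (d * σ + 2 * d * ρ + (1 * 1 + σ * σ + ρ * ρ)) := by rw [mul_add, mul_add _ (_ + _) (_ + _)]; omega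
  have := Nat.le_of_mul_le_mul_left this (Fintype.card_pos_iff.2 ⟨a⟩)
  rw [c] at this
  nlinarith

theorem csq (n : a ≠ b) (ex : ∃ u v : Ω, u ≠ v ∧ ¬ Adj G a b u v) :
    N (Adj G a b a) ≤ N (fun v => a ≠ v ∧ ¬ Adj G a b a v) * N fun v => a ≠ v ∧ ¬ Adj G a b a v := by
  classical
  have hY := cinv (G := G) (R := Adj G a b) fun g _ _ h => h.smul g
  by_cases h3 : ∃ u w v, (u ≠ w ∧ ¬ Adj G a b u w) ∧ (w ≠ v ∧ ¬ Adj G a b w v) ∧ Adj G a b u v
  · have sy : ∀ {u v}, u ≠ v ∧ ¬ Adj G a b u v → v ≠ u ∧ ¬ Adj G a b v u := fun h => ⟨h.1.symm, fun k => h.2 k.symm⟩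
    have k0 : ∃ w, (a ≠ w ∧ ¬ Adj G a b a w) ∧ (w ≠ b ∧ ¬ Adj G a b w b) := by
      obtain ⟨u, w, v, h4, h5, g, ⟨rfl, rfl⟩ | ⟨rfl, rfl⟩⟩ := h3
      · exact ⟨g⁻¹ • w, by simpa using hY g⁻¹ _ _ h4, by simpa using hY g⁻¹ _ _ h5⟩
      · exact ⟨g⁻¹ • w, by simpa using hY g⁻¹ _ _ (sy h5), by simpa using hY g⁻¹ _ _ (sy h4)⟩
    obtain ⟨w, k1, k2⟩ := k0
    rw [N_eq, N_eq]
    refine le_trans (card_le_card (t := (univ.filter fun v => a ≠ v ∧ ¬ Adj G a b a v).biUnion fun w =>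
      univ.filter fun v => w ≠ v ∧ ¬ Adj G a b w v) fun v hv => ?_) (card_biUnion_le_card_mul _ _ _ fun w _ => by
        rw [← N_eq, ← N_eq]; exact (val (R := fun u v => u ≠ v ∧ ¬ Adj G a b u v) hY w a).le)
    simp only [mem_filter, mem_univ, true_and, mem_biUnion] at hv ⊢
    obtain ⟨g, ⟨e, rfl⟩ | ⟨rfl, e⟩⟩ := hv
    · exact ⟨g • w, by have := hY g _ _ k1; rwa [e] at this, hY g _ _ k2⟩
    · exact ⟨g • w, by have := sy (hY g _ _ k2); rwa [e] at this, sy (hY g _ _ k1)⟩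
  obtain ⟨u, v, huv⟩ := ex
  exact ((preorder (G := G) (fun u v => u = v ∨ u ≠ v ∧ ¬ Adj G a b u v) (fun _ => .inl rfl) (by
    rintro u w v (rfl | h4) (rfl | h5)
    exacts [.inl rfl, .inr h5, .inr h4, (em (u = v)).imp_right fun h6 => ⟨h6, fun h7 => h3 ⟨u, w, v, h4, h5, h7⟩⟩])
    (fun g u v h => h.imp (congrArg _) (hY g u v)) huv.1 (.inr huv) a b).elim n fun h => h.2 ⟨1, by simp⟩).elim

theorem db : DB.{u} := by
  classical
  intro G Ω _ _ _ _ _ nt h12 a b n
  rw [Nat.card_eq_fintype_card] at h12 ⊢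
  have d2 : ∀ {u v : Ω}, u ≠ v → #((univ.filter fun x => Sep G x u v) \ {u, v}) + 2 = D G u v := fun {u v} n => by
    rw [DI, N_eq, ← card_pair n]
    exact card_sdiff_add_card_eq_card (by simp [insert_subset_iff, sep_l n, (sep_l n.symm).symm])
  refine ⟨?_, by have := d2 n; omega⟩
  have hA := stA (G := G) n
  have c := spl (R := Adj G a b) (fun _ _ => ne_of n) a
  by_cases hn : ∀ u v, u = v ∨ Adj G a b u v ∨ ∃ w, Adj G a b u w ∧ Adj G a b w v
  · have h2 : ∀ u v : Ω, u ≠ v → D G u v + 1 ≤ 2 * D G a b := fun u v q => by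
      rcases hn u v with k | k | ⟨w, k, l⟩
      · exact (q k).elim
      · have := d2 n
        rw [D_adj k]; omega
      have e := card_union_add_card_inter (univ.filter fun x => Sep G x u w) (univ.filter fun x => Sep G x w v)
      have e1 := card_le_card (show (univ.filter fun x => Sep G x u v) ⊆ (univ.filter fun x => Sep G x u w) ∪
        univ.filter fun x => Sep G x w v from fun x m => by simpa using (mem_filter.1 m).2.tri w)
      have e2 := card_pos.2 (show ((univ.filter fun x => Sep G x u w) ∩ univ.filter fun x => Sep G x w v).Nonempty from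
        ⟨w, by simp [sep_l (ne_of n l), (sep_l (ne_of n k).symm).symm]⟩)
      rw [← N_eq (fun x => Sep G x u w), ← N_eq (fun x => Sep G x w v), ← DI, ← DI, D_adj k, D_adj l] at e
      rw [← N_eq, ← DI] at e1
      omega
    by_cases ex : ∃ u v : Ω, u ≠ v ∧ ¬ Adj G a b u v
    · have := num (by omega) (.inl (by rw [c] at hA; omega)) (stS (a := a) (R := Adj G a b) (fun g _ _ h => h.smul g) (fun _ _ => ne_of n)
        (fun _ _ h => (D_adj h).le) h2 rfl rfl) (csq n ex)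
      rwa [c]
    let O : Ω → Ω → Prop := fun u v => ∃ g : G, g • a = u ∧ g • b = v
    have iO : ∀ (g : G) u v, O u v → O (g • u) (g • v) := fun g _ _ ⟨k, e, f⟩ =>
      ⟨g * k, by rw [mul_smul, e], by rw [mul_smul, f]⟩
    have aO : ∀ u v, O u v → Adj G a b u v := fun _ _ ⟨g, k⟩ => ⟨g, .inl k⟩
    have c' := spl (R := O) (fun _ _ h => ne_of n (aO _ _ h)) a
    obtain ⟨κ, e1, e2⟩ := compl_sq (G := G) n (by_contra fun k => nt fun p q r s m m' => by
      push Not at k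
      obtain ⟨⟨g, rfl, rfl⟩, h, rfl, rfl⟩ := And.intro (k p q m) (k r s m')
      exact ⟨h * g⁻¹, by simp [mul_smul]⟩)
    rw [show #(sub G a b) = N (O a) by rw [N_eq, sub]] at e1 e2
    have io : N (fun v => O v a) = N (O a) := by
      have : ∑ u, N (fun v => O v u) = ∑ u, N (O u) := sum_comm
      rw [sum_congr rfl fun u _ => val (R := fun u v => O v u) (fun g _ _ => iO g _ _) u a,
        sum_congr rfl fun u _ => val iO u a] at this
      simp only [sum_const, card_univ, smul_eq_mul] at this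
      exact Nat.eq_of_mul_eq_mul_left (by omega) this
    have le : N (fun v => a ≠ v ∧ ¬ O a v) ≤ N (O a) := by
      rw [← io, N_eq, N_eq]
      refine card_le_card fun v m => ?_
      simp only [mem_filter, mem_univ, true_and] at m ⊢
      obtain ⟨g, k | k⟩ := not_not.1 fun q => ex ⟨a, v, m.1, q⟩
      exacts [(m.2 ⟨g, k⟩).elim, ⟨g, k⟩]
    have := num (by omega) (.inr le) (stS (a := a) iO (fun _ _ h => ne_of n (aO _ _ h))
      (fun _ _ h => (D_adj (aO _ _ h)).le) h2 rfl rfl) (by rwa [show N (fun v => a ≠ v ∧ ¬ O a v) = κ by omega])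
    rwa [c']
  obtain ⟨u, p, q, w, h1, h2, h3, h4⟩ : ∃ u p q w, Adj G a b u p ∧ Adj G a b p q ∧ Adj G a b q w ∧
      ¬ (u = w ∨ Adj G a b u w ∨ ∃ v, Adj G a b u v ∧ Adj G a b v w) := by
    by_contra! hc
    refine hn fun u v => ?_
    induction conn (G := G) n u v with
    | refl => exact .inl rfl
    | tail _ h ih =>
      rcases ih with rfl | k | ⟨_, k, l⟩
      exacts [.inr (.inl h), .inr (.inr ⟨_, k, h⟩), hc _ _ _ _ k l h]
  let B : Ω → Finset Ω := fun u => insert u (univ.filter (Adj G a b u))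
  have cB : ∀ u, #(B u) = N (Adj G a b a) + 1 := fun u => by
    rw [card_insert_of_notMem fun m => ne_of n (mem_filter.1 m).2 rfl, ← N_eq, val (G := G) (fun g _ _ h => h.smul g) u a]
  have ed : ∀ {u v}, Adj G a b u v → ∀ x, ¬ (x ∈ B u ↔ x ∈ B v) → x ∈ (univ.filter fun x => Sep G x u v) \ {u, v} :=
    fun {u v} h x k => by
      simp only [B, mem_insert, mem_filter, mem_univ, true_and, mem_sdiff, mem_singleton, not_or] at k ⊢
      have x1 : x ≠ u := fun e => k (iff_of_true (.inl e) (.inr (e ▸ h.symm)))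
      have x2 : x ≠ v := fun e => k (iff_of_true (.inr (e ▸ h)) (.inl e))
      refine ⟨fun ⟨g, e, f⟩ => k (or_congr (iff_of_false x1 x2) ⟨fun l => ?_, fun l => ?_⟩), x1, x2⟩
      · have := l.smul g
        rwa [e, f] at this
      · have := l.smul g⁻¹
        rwa [inv_smul_eq_iff.2 e.symm, inv_smul_eq_iff.2 f.symm] at this
  have dj : Disjoint (B u) (B w) := disjoint_left.2 fun x k l => by
    simp only [B, mem_insert, mem_filter, mem_univ, true_and] at k l
    rcases k with rfl | k <;> rcases l with l | l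
    exacts [h4 (.inl l), h4 (.inr (.inl l.symm)), h4 (.inr (.inl (l ▸ k))), h4 (.inr (.inr ⟨x, k, l.symm⟩))]
  have := (card_le_card (show B u ∪ B w ⊆ (univ.filter fun x => Sep G x u p) \ {u, p} ∪
    ((univ.filter fun x => Sep G x p q) \ {p, q} ∪ (univ.filter fun x => Sep G x q w) \ {q, w}) from fun x m => by
      by_contra k
      rw [mem_union, mem_union, not_or, not_or] at k
      have i := ((not_not.1 (mt (ed h1 x) k.1)).trans (not_not.1 (mt (ed h2 x) k.2.1))).trans (not_not.1 (mt (ed h3 x) k.2.2))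
      exact (mem_union.1 m).elim (fun l => disjoint_left.1 dj l (i.1 l)) fun l => disjoint_left.1 dj (i.2 l) l)).trans
    ((card_union_le ..).trans (Nat.add_le_add_left (card_union_le ..) _))
  have e1 := (d2 (ne_of n h1)).trans (D_adj h1)
  have e2 := (d2 (ne_of n h2)).trans (D_adj h2)
  have e3 := (d2 (ne_of n h3)).trans (D_adj h3)
  rw [card_union_of_disjoint dj, cB, cB] at this
  have k : 2 * N (Adj G a b a) + 8 ≤ 3 * D G a b := by omega
  obtain ⟨m, e⟩ : ∃ m, Fintype.card Ω = m + 1 := ⟨Fintype.card Ω - 1, by omega⟩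
  rw [e] at hA ⊢
  rw [Nat.add_sub_cancel] at hA
  nlinarith

end H23.PS
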