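import Cfsg.Agent.H23.RG1

/-! S3320: the elementary abelian sections of `T` over the extraspecial group `Q`. -/

set_option autoImplicit false
set_option linter.unusedSectionVars false
set_option linter.unusedVariables false
set_option maxRecDepth 100000
set_option synthInstance.maxSize 4000
open Cfsg Subgroup H19 H0 H15 H10.RF H10.RG
open scoped commutatorElement Pointwise
namespace H23.RG
local notation "cj" => H19.cj
universe u

def ra (k : ℕ) : ℕ := getT 0x320300220200120100020000 12 4095 k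
def rg (k : ℕ) : ℕ := ug (getT 0x24c24820c20824424020420004c04800c008044040004000 12 4095 k)
def qa (i : ℕ) : ℕ := Nat.add (Nat.shiftLeft (Nat.land i 7) 2) (Nat.shiftLeft (Nat.shiftRight i 3) 6)
def qg (i : ℕ) : ℕ := ug (Nat.add (Nat.add (Nat.land i 3) (Nat.shiftLeft (Nat.land i 12) 2)) (Nat.shiftLeft (Nat.land i 48) 3))
def CM : ℕ := 0xf0fff0f03c330000f0fff0f03c330000f0fff0f03c330000f0fff0f03c330000f0fff0f0c3cc0000f0fff0f0c3cc0000f0fff0f0c3cc0000f0fff0f0c3cc00000fff0f0f3ccc00000fff0f0f3ccc00000fff0f0f3ccc00000fff0f0f3ccc00000fff0f0fc33300000fff0f0fc33300000fff0f0fc33300000fff0f0fc3330000fff0f0f0333c0000fff0f0f0333c0000fff0f0f0333c0000fff0f0f0333c0000fff0f0f0ccc30000fff0f0f0ccc30000fff0f0f0ccc30000fff0f0f0ccc30000ff0f0f0fcc3c0000ff0f0f0fcc3c0000ff0f0f0fcc3c0000ff0f0f0fcc3c0000ff0f0f0f33c30000ff0f0f0f33c30000ff0f0f0f33c30000ff0f0f0f33c30000f0f0fff00000ccc3f0f0fff00000ccc3f0f0fff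00000ccc3f0f0fff00000ccc3f0f0fff00000333cf0f0fff00000333cf0f0fff00000333cf0f0fff00000333c0f0fff0f0000cc3c0f0fff0f0000cc3c0f0fff0f0000cc3c0f0fff0f0000cc3c0f0fff0f000033c30f0fff0f000033c30f0fff0f000033c30f0fff0f000033c3f0f0f0ff0000c3ccf0f0f0ff0000c3ccf0f0f0ff0000c3ccf0f0f0ff0000c3ccf0f0f0ff00003c33f0f0f0ff00003c33f0f0f0ff00003c33f0f0f0ff00003c330f0f0fff00003ccc0f0f0fff00003ccc0f0f0fff00003ccc0f0f0fff00003ccc0f0f0fff0000c3330f0f0fff0000c3330f0f0fff0000c3330f0f0fff0000c333333c0000fff0f0f0333c0000fff0f0f0333c0000fff0f0f0333c0000fff0f0f0ccc30000fff0f0f0ccc30000fff0f0f0ccc30000fff0f0f0ccc30000fff0f0f0cc3c0000ff0f0f0fcc3c0000ff0f0f0fcc3c0000ff0f0f0fcc3c0000ff0f0f0f33c30000ff0f0f0f33c30000ff0f0f0f33c30000ff0f0f0f33c30000ff0f0f0f3c330000f0fff0f03c330000f0fff0f03c330000f0fff0f03c330000f0fff0f0c3cc0000f0fff0f0c3cc0000f0fff0f0c3cc0000f0fff0f0c3cc0000f0fff0f03ccc00000fff0f0f3ccc00000fff0f0f3c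cc00000fff0f0f3ccc00000fff0f0fc33300000fff0f0fc33300000fff0f0fc33300000fff0f0fc33300000fff0f0f0000ccc3f0f0fff00000ccc3f0f0fff00000ccc3f0f0fff00000ccc3f0f0fff00000333cf0f0fff00000333cf0f0fff00000333cf0f0fff00000333cf0f0fff00000cc3c0f0fff0f0000cc3c0f0fff0f0000cc3c0f0fff0f0000cc3c0f0fff0f000033c30f0fff0f000033c30f0fff0f000033c30f0fff0f000033c30f0fff0f0000c3ccf0f0f0ff0000c3ccf0f0f0ff0000c3ccf0f0f0ff0000c3ccf0f0f0ff00003c33f0f0f0ff00003c33f0f0f0ff00003c33f0f0f0ff00003c33f0f0f0ff00003ccc0f0f0fff00003ccc0f0f0fff00003ccc0f0f0fff00003ccc0f0f0fff0000c3330f0f0fff0000c3330f0f0fff0000c3330f0f0fff0000c3330f0f0ffff0fff0f03c330000f0fff0f03c330000f0fff0f03c330000f0fff0f03c330000f0fff0f0c3cc0000f0fff0f0c3cc0000f0fff0f0c3cc0000f0fff0f0c3cc00000fff0f0f3ccc00000fff0f0f3ccc00000fff0f0f3ccc00000fff0f0f3ccc00000fff0f0fc33300000fff0f0fc33300000fff0f0fc33300000fff0f0fc3330000fff0f0f0333c0000fff0f0f0333c0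000fff0f0f0333c0000fff0f0f0333c0000fff0f0f0ccc30000fff0f0f0ccc30000fff0f0f0ccc30000fff0f0f0ccc30000ff0f0f0fcc3c0000ff0f0f0fcc3c0000ff0f0f0fcc3c0000ff0f0f0fcc3c0000ff0f0f0f33c30000ff0f0f0f33c30000ff0f0f0f33c30000ff0f0f0f33c30000f0f0fff00000ccc3f0f0fff00000ccc3f0f0fff00000ccc3f0f0fff00000ccc3f0f0fff00000333cf0f0fff00000333cf0f0fff00000333cf0f0fff00000333c0f0fff0f0000cc3c0f0fff0f0000cc3c0f0fff0f0000cc3c0f0fff0f0000cc3c0f0fff0f000033c30f0fff0f000033c30f0fff0f000033c30f0fff0f000033c3f0f0f0ff0000c3ccf0f0f0ff0000c3ccf0f0f0ff0000c3ccf0f0f0ff0000c3ccf0f0f0ff00003c33f0f0f0ff00003c33f0f0f0ff00003c33f0f0f0ff00003c330f0f0fff00003ccc0f0f0fff00003ccc0f0f0fff00003ccc0f0f0fff00003ccc0f0f0fff0000c3330f0f0fff0000c3330f0f0fff0000c3330f0f0fff0000c333333c0000fff0f0f0333c0000fff0f0f0333c0000fff0f0f0333c0000fff0f0f0ccc30000fff0f0f0ccc30000fff0f0f0ccc30000fff0f0f0ccc30000fff0f0f0cc3c0000ff0f0f0fcc3c0000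ff0f0f0fcc3c0000ff0f0f0fcc3c0000ff0f0f0f33c30000ff0f0f0f33c30000ff0f0f0f33c30000ff0f0f0f33c30000ff0f0f0f3c330000f0fff0f03c330000f0fff0f03c330000f0fff0f03c330000f0fff0f0c3cc0000f0fff0f0c3cc0000f0fff0f0c3cc0000f0fff0f0c3cc0000f0fff0f03ccc00000fff0f0f3ccc00000fff0f0f3ccc00000fff0f0f3ccc00000fff0f0fc33300000fff0f0fc33300000fff0f0fc33300000fff0f0fc33300000fff0f0f0000ccc3f0f0fff00000ccc3f0f0fff00000ccc3f0f0fff00000ccc3f0f0fff00000333cf0f0fff00000333cf0f0fff00000333cf0f0fff00000333cf0f0fff00000cc3c0f0fff0f0000cc3c0f0fff0f0000cc3c0f0fff0f0000cc3c0f0fff0f000033c30f0fff0f000033c30f0fff0f000033c30f0fff0f000033c30f0fff0f0000c3ccf0f0f0ff0000c3ccf0f0f0ff0000c3ccf0f0f0ff0000c3ccf0f0f0ff00003c33f0f0f0ff00003c33f0f0f0ff00003c33f0f0f0ff00003c33f0f0f0ff00003ccc0f0f0fff00003ccc0f0f0fff00003ccc0f0f0fff00003ccc0f0f0fff0000c3330f0f0fff0000c3330f0f0fff0000c3330f0f0fff0000c3330f0f0fff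
def row (e : ℕ) : ℕ := getT CM 128 0xffffffffffffffffffffffffffffffff e
/-- union of masks -/
noncomputable def lo (f : ℕ → ℕ) (n : ℕ) : ℕ := Nat.rec 0 (fun k acc => Nat.lor (f k) acc) n
theorem lo_spec {f : ℕ → ℕ} {n k e : ℕ} (hk : k < n) (h : (f k).testBit e = true) : (lo f n).testBit e = true := by
  induction n with
  | zero => omega
  | succ n ih =>
    rw [show lo f (n + 1) = f n ||| lo f n from rfl, Nat.testBit_or, Bool.or_eq_true]
    exact (Nat.lt_succ_iff_lt_or_eq.1 hk).symm.imp (fun e : k = n => e ▸ h) ih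
/-- the elements of `Q` centralized modulo `s` -/
noncomputable def FM (a g : ℕ) : ℕ := force (L2 g) fun M => lo (fun j => force (qg j) fun f => Bool.rec 0
  (force (Nat.xor (mv (L2 f) a) a) fun d => Nat.shiftLeft (lo (fun i => force (qa i) fun b => Bool.rec 0 (Nat.pow 2 (Nat.mul 12 i))
    (Nat.blt (Nat.xor d (Nat.xor (mv M b) b)) 2)) 32) (Nat.mul 384 j)) (Nat.beq (mm f g) (mm g f))) 64
noncomputable def FT : ℕ := lo (fun k => force (rg (Nat.div k 8)) fun g => force (ra (Nat.mod k 8)) fun a =>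
  Nat.shiftLeft (FM a g) (Nat.mul 24576 k)) 128
set_option exponentiation.threshold 30000 in
theorem FT_spec {k i j : ℕ} (hk : k < 128) (hi : i < 32) (hj : j < 64) (h1 : mm (qg j) (rg (k / 8)) = mm (rg (k / 8)) (qg j))
    (h2 : (Lv (qg j) (ra (k % 8)) ^^^ ra (k % 8)) ^^^ (Lv (rg (k / 8)) (qa i) ^^^ qa i) < 2) :
    sl (getT FT 24576 (Nat.pred (Nat.pow 2 24576)) k) (32 * j + i) = true := by
  rw [sl_eq, getT, Nat.land_eq, Nat.shiftRight_eq, Nat.testBit_and, Nat.testBit_shiftRight, Nat.pred_eq_sub_one, Nat.pow_eq,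
    Nat.testBit_two_pow_sub_one, decide_eq_true (by omega), Bool.and_true]
  refine lo_spec hk ?_
  simp only [force_eq, shiftLeft_eq'', Nat.mul_eq, div_eq', mod_eq', FM, Nat.testBit_shiftLeft, Nat.add_sub_cancel_left, Bool.and_eq_true,
    decide_eq_true_eq]
  refine ⟨by omega, lo_spec hj ?_⟩
  rw [h1, Nat.beq_refl, Nat.testBit_shiftLeft, decide_eq_true (by omega), Bool.true_and]
  refine lo_spec hi ?_
  simp only [xor_eq', Lv] at h2 ⊢
  rw [Nat.blt_eq.mpr h2, show 12 * (32 * j + i) - 384 * j = 12 * i by omega]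
  exact Nat.testBit_two_pow_self
theorem ckM : ∀ f < 16, ∀ g < 16, force (rg f) (fun x => force (mm x (rg g)) fun y => bimp (decide (inP mF (mm y y)))
    (force (L2 x) fun M => force (L2 y) fun N => allTo (fun a => allTo (fun b => force (Nat.xor (ra a) (mv M (ra b))) fun c =>
      bimp (decide (sb (c ^^^ mv N c) 223)) (tb (row (8 * f + a)) (8 * g + b))) 8) 8)) = true := by decide +kernel
/-- enumeration along a chain of subgroups -/
noncomputable def dfs (F : ℕ → ℕ) (P : ℕ → ℕ → ℕ → Bool) (n : ℕ) : ℕ → ℕ → ℕ → ℕ → Bool :=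
  Nat.rec (fun _ f c x => P f c x) (fun _ R p f c x => force (Nat.mul 2 p) fun q =>
    band (force (Nat.lor (Nat.mod c (Nat.pow 2 p)) (Nat.shiftLeft (Nat.shiftRight c q) q)) fun c => R q f c x)
      (force (Nat.mul 2 f) fun f => allTo (fun k => force (Nat.add p k) fun e => bimp (tb c e)
        (force (Nat.land c (row e)) fun c => force (Nat.land x (F e)) fun x => R q f c x)) p)) n
def mD : ℕ := 0x700e00c00800
noncomputable def lf (f c x : ℕ) : Bool := force (cnt x) fun n => decide (f ≤ 32 ∧ (f = 32 → sb c 0xf0f0f0f000000000f0f0f0f) ∧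
  (f = 1 ∨ f * (f * (n * 4)) < 8192 ∨ f ≤ 8 ∧ n ≤ 32 ∧ (sb c 255 ∨ sb c 0x30300000303 ∨ sb c 0xc03000000c03)))
theorem ckD : force FT (fun T => force (Nat.pred (Nat.pow 2 24576)) fun mk => force (row 0) fun c => force FULL fun x =>
    dfs (getT T 24576 mk) lf 7 1 1 c x) = true := by decide +kernel
def ms (l : ℕ) : ℕ := getT 0x3ff3ff3ff3ff3ff1ff0ff0df 12 4095 l
def mu (l : ℕ) : ℕ := [mF, mF, mF, mF, 0x700600c00000, 0x700e00c00000, 0xf00e00c00000, mU].getD l 0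
theorem chk : ∀ l < 8, (gd (ms l) (mu l) ∧ ∀ j < 5, sb (cl11 (mu l) j) (cl11 mU j)) ∧ (sb 223 (ms l) ∧ ∀ j < 5, sb (cl11 mF j) (cl11 (mu l) j)) ∧
    (l < 7 → sb (ms l) (ms (l + 1)) ∧ ∀ j < 5, sb (cl11 (mu l) j) (cl11 (mu (l + 1)) j)) ∧
    ((Finset.range 1024).filter (sb · (ms l))).card * ((Finset.range 1024).filter fun i => inP (mu l) (ug i)).card = 8192 * 2 ^ l ∧
    ∀ k < 128, sb (ra (k % 8)) (ms l) ∧ inP (mu l) (rg (k / 8)) ↔ k < 2 ^ l := by decide +kernel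
theorem rk : (∀ g < 16, ok (rg g) = true ∧ inP mU (rg g)) ∧ (∀ a < 8, ra a < 1024) ∧ (∀ a < 1024, ∃ k < 8, sb (a ^^^ ra k) 223) ∧
    ∀ j < 1024, force (ug j) (fun u => force (j / 4 % 2 + j / 64 % 2 * 2 + j / 8 % 2 * 4 + j / 512 * 8) fun k => force (rg k) fun g =>
      force (mm u (mm g (mm g g))) fun f => decide (k < 16 ∧ inP mF f ∧ mm f g = u)) = true := by decide +kernel
theorem qk : (∀ j < 64, ok (qg j) = true ∧ inP mF (qg j) ∧ mm (qg j) (qg j) = I5) ∧ (∀ j < 1024, inP mF (ug j) → ∃ i < 64, ug j = qg i) ∧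
    (∀ b < 256, sb b 223 → ∃ i < 32, b = b % 4 ^^^ qa i) ∧ (∀ i < 32, sb (qa i) 223) ∧ lm mF 1023 223 ∧ lm mF 223 1 ∧ lm mU 3 1 := by
  decide +kernel
theorem dk : (gd 511 mD ∧ ∀ j < 5, sb (cl11 mD j) (cl11 mU j)) ∧ ∀ k < 128,
    (Nat.testBit 0xf0f0f0f000000000f0f0f0f k = true → sb (ra (k % 8)) 511 ∧ inP mD (rg (k / 8))) ∧
    (Nat.testBit 255 k = true → rg (k / 8) = I5) ∧ (Nat.testBit 0x30300000303 k = true → sb (ra (k % 8)) 63 ∧ inP mH (rg (k / 8))) ∧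
    (Nat.testBit 0xc03000000c03 k = true → rg (k / 8) = ug (ra (k % 8) / 64)) := by decide +kernel

variable {G : Type*} [Group G] [Finite G] {A B D E X : Subgroup G} {ρ : G → ℕ} {v K : ℕ → G} {x y : G} {a b f g i j k l : ℕ}
/-- representatives of `T / Q` -/
def rr (v K : ℕ → G) (k : ℕ) : G := v (ra (k % 8)) * K (rg (k / 8))
/-- representatives of `Q` modulo a subgroup of order four -/
def rq (v K : ℕ → G) (k : ℕ) : G := v (qa (k % 32)) * K (qg (k / 32))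
local notation "QQ" => sQ v K
local notation "TT" => sT v K
local notation "SS" => zpowers (v 1)
theorem rk' (hk : k < 128) : ra (k % 8) < 1024 ∧ ok (rg (k / 8)) = true ∧ inP mU (rg (k / 8)) :=
  ⟨rk.2.1 _ (Nat.mod_lt _ (by decide)), rk.1 _ (by omega)⟩
variable (h : IK A ρ v K)
include h
theorem vS (ha : a < 1024) : v a ∈ SS ↔ a < 2 := by
  rw [zp2 (h.vv 1), h.v1 ha]
  exact ⟨fun k => k.elim (by omega) fun e => by have := h.vi _ ha _ (by decide) e; omega, fun k => by interval_cases a <;> simp⟩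
theorem TS' : TT ≤ N(SS) := h.TC.trans HZ
theorem TQ' : TT ≤ N(QQ) := h.TY.trans h.YQ
theorem exQ (hx : x ∈ QQ) : ∃ b, sb b 223 ∧ ∃ j < 64, x = v b * K (qg j) := by
  obtain ⟨a, ha, i, hi, rfl⟩ := h.exT (h.QT hx)
  obtain ⟨k1, k2⟩ := (h.el_mem gdk.1.2.2.2 ha (ugk i hi).1).1 hx
  obtain ⟨j, hj, e⟩ := qk.2.1 i hi k2
  exact ⟨a, k1, j, hj, by rw [e]⟩
theorem sqQ (hx : x ∈ QQ) : x * x ∈ SS := by
  obtain ⟨b, hb, j, hj, rfl⟩ := exQ h hx
  obtain ⟨o, p, e⟩ := qk.1 j hj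
  have := (qk.2.2.2.2.2.1.sb o p hb).le
  rw [h.elm o o, e, h.K1, mul_one, vS h (x10 (by have := hb.le; omega) (Lv_lt _ _)), Nat.xor_comm]
  omega
theorem QM : QQ ≤ cm SS QQ := fun x hx => ⟨TS' h (h.QT hx), fun y hy => cmsq (h.QT.trans (TS' h)) (fun _ => sqQ h) hx hy⟩
theorem cmS (o : ok f = true) (p : ok g = true) (ha : a < 1024) (hb : b < 1024) (c : v b * K f ∈ cm SS {v a * K g}) :
    mm f g = mm g f ∧ (Lv f a ^^^ a) ^^^ (Lv g b ^^^ b) < 2 := by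
  have k := (mem_cm1.1 c).2
  obtain ⟨e, he, k⟩ : ∃ e < 2, ⁅v b * K f, v a * K g⁆ = v e := ((zp2 (h.vv 1)).1 k).elim (fun k => ⟨0, by decide, h.v0 ▸ k⟩)
    fun k => ⟨1, by decide, k⟩
  rw [commutatorElement_def, mul_assoc, ← mul_inv_rev, mul_inv_eq_iff_eq_mul, h.elm o p, h.elm p o, ← mul_assoc, ← h.vx] at k
  obtain ⟨k1, k2⟩ := h.uniq (x10 hb (Lv_lt _ _)) (x10 (by omega) (x10 ha (Lv_lt _ _))) (ok_mm o p) (ok_mm p o) k
  refine ⟨k2, lt_of_eq_of_lt ?_ he⟩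
  rw [← Nat.xor_xor_cancel_right e (a ^^^ Lv g b), ← k1]; ac_rfl
theorem rrT (hk : k < 128) : rr v K k ∈ TT := el_PS ((sb_lt 10).2 (rk' hk).1) (rk' hk).2.1 (rk' hk).2.2
theorem exr (hx : x ∈ TT) : ∃ k < 128, x * (rr v K k)⁻¹ ∈ QQ := by
  obtain ⟨a, ha, j, hj, rfl⟩ := h.exT hx
  obtain ⟨c, hc, s⟩ := rk.2.2.1 a ha
  have := rk.2.2.2 j hj
  simp only [force_eq, decide_eq_true_eq] at this
  generalize j / 4 % 2 + j / 64 % 2 * 2 + j / 8 % 2 * 4 + j / 512 * 8 = k at this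
  have o := (rk.1 k this.1).1
  have o' := ok_mm (ugk j hj).1 (ok_mm o (ok_mm o o))
  refine ⟨8 * k + c, by omega, ?_⟩
  rw [rr, show (8 * k + c) % 8 = c by omega, show (8 * k + c) / 8 = k by omega, ← this.2.2, h.km _ _ o' o, mul_inv_rev, ← mul_assoc,
    ← mul_assoc, mul_inv_cancel_right, h.vinv, mul_assoc, h.Kv o', ← mul_assoc, ← h.vx]
  refine el_PS ?_ o' this.2.1
  have := s.xor (qk.2.2.2.2.1.sb o' this.2.1 ((sb_lt 10).2 (rk.2.1 c hc)))
  rwa [Nat.xor_assoc, Nat.xor_comm _ (ra c), Nat.xor_xor_cancel_left] at this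
theorem rowS (hk : k < 128) (hl : l < 128) (q : rr v K k * rr v K l * (rr v K k * rr v K l) ∈ QQ) : (row k).testBit l = true := by
  have o := ok_mm (rk' hk).2.1 (rk' hl).2.1
  rw [rr, rr, h.elm (rk' hk).2.1 (rk' hl).2.1, h.elm o o, h.el_mem gdk.1.2.2.2 (x10 (x10 (rk' hk).1 (Lv_lt _ _)) (Lv_lt _ _))
    (ok_mm o o)] at q
  have := ckM (k / 8) (by omega) (l / 8) (by omega)
  simp only [force_eq, bimp_iff, allTo_iff, decide_eq_true_eq, tb_eq] at this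
  simpa only [Nat.div_add_mod] using this q.2 _ (Nat.mod_lt k (by decide)) _ (Nat.mod_lt l (by decide)) q.1
theorem dfs_ok {F : ℕ → ℕ} {P : ℕ → ℕ → ℕ → Bool} (hF : ∀ e < 128, ∀ i < 2048, rq v K i ∈ cm SS {rr v K e} → sl (F e) i = true)
    (l1 : QQ ≤ B) (l2 : B ≤ TT) (q : ∀ b ∈ B, b * b ∈ QQ) (n : ℕ) : ∀ l f c x, l + n = 7 → dfs F P n (2 ^ l) f c x = true →
    #(B ⊓ PS v K (ms l) (mu l) : Subgroup G) ≤ f * 8192 → (∀ k < 128, rr v K k ∈ B → c.testBit k = true) →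
    (∀ i < 2048, rq v K i ∈ cm SS B → sl x i = true) → ∃ f c x, P f c x = true ∧ #B ≤ f * 8192 ∧
      (∀ k < 128, rr v K k ∈ B → c.testBit k = true) ∧ ∀ i < 2048, rq v K i ∈ cm SS B → sl x i = true := by
  induction n with
  | zero =>
    rintro l f c x (rfl : l = 7) d k1 k2 k3
    exact ⟨f, c, x, d, by rwa [inf_eq_left.2 (show B ≤ PS v K (ms 7) (mu 7) from l2)] at k1, k2, k3⟩
  | succ n ih =>
    intro l f c x e d k1 k2 k3
    rw [show dfs F P (n + 1) (2 ^ l) f c x = force (Nat.mul 2 (2 ^ l)) (fun q => band (force (Nat.lor (Nat.mod c (Nat.pow 2 (2 ^ l)))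
      (Nat.shiftLeft (Nat.shiftRight c q) q)) fun c => dfs F P n q f c x) (force (Nat.mul 2 f) fun f => allTo (fun k =>
        force (Nat.add (2 ^ l) k) fun e => bimp (tb c e) (force (Nat.land c (row e)) fun c => force (Nat.land x (F e)) fun x =>
          dfs F P n q f c x)) (2 ^ l))) from rfl] at d
    simp only [force_eq, band_iff, allTo_iff, bimp_iff, tb_eq, Nat.mul_eq, Nat.add_eq, Nat.land_eq, Nat.lor_eq, ← pow_succ'] at d
    have m : ∀ l < 8, ∀ k < 128, rr v K k ∈ PS v K (ms l) (mu l) ↔ k < 2 ^ l := fun l hl k hk =>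
      (h.el_mem (chk l hl).1.1 (rk' hk).1 (rk' hk).2.1).trans ((chk l hl).2.2.2.2 k hk)
    have c1 : ∀ l < 8, #(PS v K (ms l) (mu l)) = 8192 * 2 ^ l := fun l hl => (h.cPS (chk l hl).1).trans (chk l hl).2.2.2.1
    have lq : ∀ l < 8, QQ ≤ PS v K (ms l) (mu l) := fun l hl => PS_le (chk l hl).2.1.1 (chk l hl).2.1.2
    by_cases z : ∃ k < 128, 2 ^ l ≤ k ∧ k < 2 ^ (l + 1) ∧ rr v K k ∈ B
    · obtain ⟨k, hk, z1, z2, z3⟩ := z
      obtain ⟨k, rfl⟩ := Nat.exists_eq_add_of_le z1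
      refine ih (l + 1) _ _ _ (by omega) (d.2 k (by omega) (k2 _ hk z3)) ((idx2 (K := B ⊓ _) (L := PS v K (ms l) (mu l)) fun x hx y hy =>
        H10.RF.two_mul (PS_le ((chk l (by omega)).2.2.1 (by omega)).1 ((chk l (by omega)).2.2.1 (by omega)).2)
          (by rw [c1 l (by omega), c1 _ (by omega)]; omega) hx.2 hy.2).trans ?_) (fun j hj t => ?_) fun i hi t => ?_
      · exact mul_assoc 2 f _ ▸ Nat.mul_le_mul_left 2 ((card_le (inf_le_inf_right _ inf_le_left)).trans k1)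
      · rw [Nat.testBit_and, k2 j hj t, rowS h hk hj (q _ (mul_mem z3 t))]; rfl
      · rw [sl_and, k3 i hi t, hF _ hk i hi (cm_one z3 t)]; rfl
    · have z : ∀ k < 128, rr v K k ∈ B → k < 2 ^ l ∨ 2 ^ (l + 1) ≤ k := fun k hk t => by
        by_contra! n; exact z ⟨k, hk, n.1, n.2, t⟩
      refine ih (l + 1) _ _ _ (by omega) d.1 ((card_le fun y (hy : y ∈ B ⊓ _) => mem_inf.2 ⟨hy.1, ?_⟩).trans k1) (fun k hk t => ?_) k3
      · obtain ⟨k, hk, r⟩ := exr h (l2 hy.1)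
        have := (m (l + 1) (by omega) k hk).1 (by simpa using mul_mem (inv_mem (lq (l + 1) (by omega) r)) hy.2)
        simpa using mul_mem (lq l (by omega) r) ((m l (by omega) k hk).2 ((z k hk (by
          simpa using mul_mem (inv_mem (l1 r)) hy.1)).resolve_right (by omega)))
      · rcases z k hk t with s | s <;> simp [Nat.testBit_mod_two_pow, s, k2 k hk t]
theorem tab (l1 : QQ ≤ B) (l2 : B ≤ TT) (q : ∀ b ∈ B, b * b ∈ QQ) : ∃ f, #B ≤ f * 8192 ∧ f ≤ 32 ∧ (f = 32 → B ≤ PS v K 511 mD) ∧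
    (f = 1 ∨ f * (f * #(QQ ⊓ cm SS B : Subgroup G)) < 8192 ∨ f ≤ 8 ∧ #(QQ ⊓ cm SS B : Subgroup G) ≤ 128 ∧
      ∃ X, (X = A ∨ X = X0 v K ∨ X = X1 v K) ∧ B ≤ QQ ⊔ X) := by
  have d := ckD
  simp only [force_eq] at d
  obtain ⟨f, c, x, p, k1, k2, k3⟩ := dfs_ok h (fun e he i hi t => by
      obtain ⟨t1, t2⟩ := cmS h (qk.1 _ (by omega)).1 (rk' he).2.1 (rk' he).1 (by
        have := (qk.2.2.2.1 _ (Nat.mod_lt i (by decide))).le; omega) t
      simpa only [Nat.div_add_mod] using FT_spec he (Nat.mod_lt i (by decide)) (show i / 32 < 64 by omega) t1 t2)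
    l1 l2 q 7 0 1 _ _ rfl d ((card_le inf_le_right).trans h.cQ.le) (fun k hk t => rowS h (by decide) hk (by
      simpa [show rr v K 0 = 1 from (congrArg₂ _ h.v0 h.K1).trans (one_mul 1)] using q _ t)) fun i hi _ => sl_FULL hi
  simp only [lf, force_eq, decide_eq_true_eq] at p
  have le : ∀ {m D}, sb c m → QQ ≤ D → (∀ k < 128, m.testBit k = true → rr v K k ∈ D) → B ≤ D := fun s l k y hy => by
    obtain ⟨j, hj, r⟩ := exr h (l2 hy)
    simpa using mul_mem (l r) (k j hj (sb_iff.1 s j (k2 j hj (by simpa using mul_mem (inv_mem (l1 r)) hy))))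
  have c4 : #(QQ ⊓ cm SS B : Subgroup G) ≤ cnt x * 4 := by
    rw [cnt_eq, ← show #(PS v K 3 0) = 4 from (h.cPS (by decide +kernel)).trans (by decide +kernel)]
    refine (cosf _ (rq v K) fun y hy => ?_).trans (Nat.mul_le_mul_left _ (card_le inf_le_right))
    obtain ⟨b, hb, j, hj, rfl⟩ := exQ h hy.1
    obtain ⟨i, hi, e⟩ := qk.2.2.1 b (by have := hb.le; omega) hb
    have s : sb (b % 4) 3 := (sb_lt 2).2 (Nat.mod_lt _ (by decide))
    have r : v b * K (qg j) = v (b % 4) * rq v K (32 * j + i) := by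
      rw [rq, show (32 * j + i) % 32 = i by omega, show (32 * j + i) / 32 = j by omega, ← mul_assoc, ← h.vx, ← e]
    rw [r] at hy ⊢
    refine ⟨32 * j + i, Finset.mem_filter.2 ⟨Finset.mem_range.2 (by omega), k3 _ (by omega) ((Subgroup.mul_mem_cancel_left _ (mem_cm.2
      ⟨TS' h (h.AP (h.vm _)), fun t ht => cms ?_⟩)).1 hy.2)⟩, by simpa using h.vP s⟩
    have := (qk.2.2.2.2.2.2.sb (h.okr t (h.PN (l2 ht))) (h.rP gdk.2.2.1 (l2 ht)) s).le
    rw [h.cmv (h.PN (l2 ht)), vS h (x10 (Lv_lt _ _) (by omega))]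
    omega
  refine ⟨f, k1, p.1, fun e => le (p.2.1 e) (PS_le (by decide) (by decide +kernel)) fun k hk t => el_PS ((dk.2 k hk).1 t).1 (rk' hk).2.1
    ((dk.2 k hk).1 t).2, p.2.2.imp_right (.imp (lt_of_le_of_lt (by gcongr)) fun p => ⟨p.1, by omega, ?_⟩)⟩
  rcases p.2.2 with s | s | s
  · exact ⟨_, .inl rfl, le s le_sup_left fun k hk t => mem_sup_right (by rw [rr, (dk.2 k hk).2.1 t, h.K1, mul_one]; exact h.vm _)⟩
  · exact ⟨_, .inr (.inl rfl), le s le_sup_left fun k hk t => mem_sup_right (el_PS ((dk.2 k hk).2.2.1 t).1 (rk' hk).2.1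
      ((dk.2 k hk).2.2.1 t).2)⟩
  · exact ⟨_, .inr (.inr rfl), le s le_sup_left fun k hk t => mem_sup_right (h.mem_X1.2 ⟨_, (rk' hk).1, by rw [rr, (dk.2 k hk).2.2.2 t]⟩)⟩
end H23.RG
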