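import Cfsg.Agent.H23.Hom
import Cfsg.Agent.H10.Dihedral
import Cfsg.Agent.S0199

/-! Groups without nontrivial real elements of odd order have a normal Sylow 2-subgroup. -/

set_option autoImplicit false

namespace H23

open Subgroup Cfsg
open scoped Pointwise

universe u

variable {G : Type*} [Group G]

/-- An involution outside `O_2(G)` inverts a nontrivial element of odd order. -/
theorem exists_odd_inverted [Finite G] {t : G} (ht : t * t = 1) (h : t ∉ pCore 2 G) :
    ∃ x : G, x ≠ 1 ∧ Odd (orderOf x) ∧ t * x * t⁻¹ = x⁻¹ := by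
  by_contra hc
  push Not at hc
  have hti : t⁻¹ = t := inv_eq_of_mul_eq_one_right ht
  have ho : ∀ s : G, s * s = 1 → ∃ k, orderOf s = 2 ^ k := fun s hs => by
    obtain ⟨k, -, hk⟩ := (Nat.dvd_prime_pow Nat.prime_two (m := 1)).1
      (orderOf_dvd_of_pow_eq_one (x := s) (by rw [pow_one, pow_two, hs]))
    exact ⟨k, hk⟩
  obtain ⟨N, hN, h1, h2⟩ := Cfsg.Agent.S0199.result (zpowers t) (isPGroup_zpowers (ho t ht)) (by
    intro g
    rw [MonoidHom.map_zpowers]
    set s : G := (MulAut.conj g).toMonoidHom t with hs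
    have hss : s * s = 1 := by rw [hs, ← map_mul, ht, map_one]
    have hsi : s⁻¹ = s := inv_eq_of_mul_eq_one_right hss
    have hinv : t * (t * s) * t⁻¹ = (t * s)⁻¹ := by
      rw [← mul_assoc, ht, one_mul, mul_inv_rev, hsi]
    obtain ⟨u, hu, v, hv, huv, hu', hv'⟩ := exists_pPart 2 Nat.prime_two (t * s)
    have hv1 : v = 1 := by
      by_contra hne
      refine hc v hne (Nat.coprime_two_right.1 hv') ?_
      obtain ⟨k, rfl⟩ := hv
      simp only
      rw [← conj_zpow, hinv, inv_zpow]
    rw [hv1, mul_one] at huv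
    subst huv
    have h3 : IsPGroup 2 (zpowers t ⊔ zpowers (t * s) : Subgroup G) :=
      (isPGroup_zpowers (ho t ht)).to_sup_of_normal_right' (isPGroup_zpowers hu')
        (zpowers_le.2 (mem_normalizer_zpowers (by rw [hinv]; exact inv_mem (mem_zpowers _))))
    refine h3.to_le (sup_le le_sup_left (zpowers_le.2 ?_))
    have := mul_mem_sup (inv_mem (mem_zpowers t)) (mem_zpowers (t * s))
    rwa [inv_mul_cancel_left] at this)
  exact h (H1.le_pCore hN h1 (h2 (mem_zpowers t)))

theorem piClosed_two_of_no_real (G : Type u) [Group G] [Finite G] :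
    (∀ x : G, x ≠ 1 → Odd (orderOf x) → ¬ IsConj x x⁻¹) → PiClosed {2} G := by
  refine H1.induction_card (P := fun G _ _ =>
    (∀ x : G, x ≠ 1 → Odd (orderOf x) → ¬ IsConj x x⁻¹) → PiClosed {2} G) ?_ G
  intro G _ _ ih h
  by_cases h2 : 2 ∣ Nat.card G
  · obtain ⟨t, ht⟩ := exists_prime_orderOf_dvd_card' 2 h2
    have ht' : t ∈ pCore 2 G := by
      by_contra hc
      obtain ⟨x, h1, h2, h3⟩ := exists_odd_inverted (by rw [← pow_two, ← ht, pow_orderOf_eq_one]) hc
      exact h x h1 h2 (isConj_iff.2 ⟨t, h3⟩)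
    have hne : pCore 2 G ≠ ⊥ := fun hb => by
      rw [hb, mem_bot] at ht'; rw [ht'] at ht; simp at ht
    have hN : PiNum {2} (Nat.card (pCore 2 G)) := piNum_of_isPGroup Nat.prime_two rfl H1.pCore_isPGroup
    refine piClosed_of_quotient _ hN (ih _ (H1.card_quotient_lt hne) ?_)
    intro y hy hodd hr
    obtain ⟨y, rfl⟩ := QuotientGroup.mk_surjective y
    obtain ⟨x, -, hx, hxy⟩ := exists_piElt_lift (QuotientGroup.mk' (pCore 2 G)) y (π := {2}ᶜ)
      ((piNum_compl_singleton_iff Nat.prime_two).2 hodd.not_two_dvd_nat)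
    simp only [QuotientGroup.mk'_apply] at hxy
    rw [← hxy] at hy hr
    have hc := (hN.coprime hx).symm
    refine h x (by rintro rfl; simp at hy)
      (Nat.not_even_iff_odd.1 fun he => (piNum_compl_singleton_iff Nat.prime_two).1 hx he.two_dvd)
      (isConj_of_isConj_mk hc (by simpa using hc) (by simpa using hr))
  · exact piClosed_of_piNum_compl ((piNum_compl_singleton_iff Nat.prime_two).2 h2)

theorem sylow_two_normal_iff [Finite G] (P : Sylow 2 G) :
    (∀ x : G, x ≠ 1 → Odd (orderOf x) → ¬ IsConj x x⁻¹) ↔ (P : Subgroup G).Normal := by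
  refine ⟨fun h => (piClosed_singleton_iff P).1 (piClosed_two_of_no_real G h), fun hP x hx hodd hr => ?_⟩
  have h1 : (x : G ⧸ (P : Subgroup G)) = 1 := by
    refine eq_one_of_real_of_odd ?_ (fun h => P.not_dvd_index (h.trans (H24.cs_dvd_card _))) ?_
    · simpa using (QuotientGroup.mk' (P : Subgroup G)).map_isConj hr
    · exact hodd.of_dvd_nat (orderOf_map_dvd (QuotientGroup.mk' (P : Subgroup G)) x)
  rw [QuotientGroup.eq_one_iff] at h1
  exact hx (H3.eq_one_of_coprime_of_mem P.isPGroup' h1 (Nat.coprime_two_right.2 hodd))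

end H23
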