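import Cfsg.Agent.H23.Wag6
import Cfsg.Agent.H1.Fitting

/-! Alternating sections: minimal covers, lifting of local data. -/

set_option autoImplicit false

namespace H23.Sec

open Equiv Equiv.Perm Module H23.Wag Subgroup

section loc
variable {G H : Type*} [Group G] [Finite G] [Group H] {l : ℕ} [hl : Fact l.Prime]

/-- a Sylow subgroup of a preimage -/
theorem syl_pre (q : G →* H) (E : Subgroup H) (hE : IsPGroup l E) (hq : E ≤ q.range) :
    ∃ P : Subgroup G, IsPGroup l P ∧ P.map q = E ∧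
      ∀ g0 : G, (∀ e ∈ E, q g0 * e * (q g0)⁻¹ ∈ E) → ∃ g, q g = q g0 ∧ ∀ x ∈ P, g * x * g⁻¹ ∈ P := by
  let M := E.comap q
  obtain ⟨S⟩ : Nonempty (Sylow l M) := inferInstance
  let f : M →* E := (q.comp M.subtype).codRestrict E fun x => x.2
  have hf : Function.Surjective f := fun e => by
    obtain ⟨g, hg⟩ := hq e.2
    exact ⟨⟨g, by change q g ∈ E; rw [hg]; exact e.2⟩, Subtype.ext hg⟩
  have h1 : (S : Subgroup M).map f = ⊤ :=
    top_le_iff.1 ((S.mapSurjective hf).3 (hE.to_subgroup ⊤) le_top).le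
  have h2 : ((S : Subgroup M).map M.subtype).map q = E := by
    refine le_antisymm ?_ fun e he => ?_
    · rintro _ ⟨_, ⟨x, -, rfl⟩, rfl⟩; exact x.2
    · obtain ⟨x, hx, e'⟩ : (⟨e, he⟩ : E) ∈ (S : Subgroup M).map f := h1 ▸ mem_top _
      exact ⟨x, ⟨x, hx, rfl⟩, congrArg Subtype.val e'⟩
  refine ⟨_, S.2.map _, h2, fun g0 h0 => ?_⟩
  have h3 : g0 ∈ normalizer (M : Set G) := mem_normalizer_fintype fun x (hx : q x ∈ E) => by
    change q _ ∈ E; rw [map_mul, map_mul, map_inv]; exact h0 _ hx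
  have h4 := H1.frattini_argument (le_normalizer (H := M)) le_rfl S
  rw [← h4] at h3
  obtain ⟨n, hn, m, hm, rfl⟩ := (H1.mem_sup_of_le_normalizer (N := M) inf_le_right).1 h3
  obtain ⟨x, hx, e⟩ := h2.ge (show q m ∈ E from hm)
  refine ⟨n * x, by rw [map_mul, map_mul, e], fun y hy => ?_⟩
  have := (mem_normalizer_iff.1 hn.1 _).1 (mul_mem (mul_mem hx hy) (inv_mem hx))
  simpa [mul_assoc] using this

theorem lift_E (q : G →* H) (hq : Function.Surjective q) (hk : (Nat.card q.ker).Coprime l)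
    (E : Subgroup H) (hE : IsPGroup l E) :
    ∃ s : E →* G, (∀ e, q (s e) = e) ∧ ∀ h : H, (∀ e ∈ E, h * e * h⁻¹ ∈ E) →
      ∃ g, q g = h ∧ ∀ e e' : E, h * e * h⁻¹ = e' → g * s e * g⁻¹ = s e' := by
  obtain ⟨P, hP, h1, h2⟩ := syl_pre q E hE (by rw [MonoidHom.range_eq_top.2 hq]; exact le_top)
  have hi : ∀ x ∈ P, ∀ y ∈ P, q x = q y → x = y := fun x hx y hy e => by
    obtain ⟨n, hn⟩ := hP ⟨_, mul_mem (inv_mem hx) hy⟩
    have a1 := orderOf_dvd_of_pow_eq_one (show (x⁻¹ * y) ^ l ^ n = 1 from congrArg Subtype.val hn)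
    have a2 := orderOf_dvd_natCard (⟨x⁻¹ * y, by simp [MonoidHom.mem_ker, e]⟩ : q.ker)
    rw [← Subgroup.orderOf_coe] at a2
    exact inv_mul_eq_one.1 (orderOf_eq_one_iff.1 (Nat.eq_one_of_dvd_coprimes (hk.pow_right n) a2 a1))
  let f : P →* E := (q.comp P.subtype).codRestrict E fun x => h1.le ⟨x, x.2, rfl⟩
  have hf : Function.Bijective f := ⟨fun x y e => Subtype.ext (hi _ x.2 _ y.2 (congrArg Subtype.val e)),
    fun e => by obtain ⟨x, hx, e'⟩ := h1.ge e.2; exact ⟨⟨x, hx⟩, Subtype.ext e'⟩⟩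
  let e := MulEquiv.ofBijective f hf
  have he : ∀ x, q (e.symm x) = x := fun x => congrArg Subtype.val (e.apply_symm_apply x)
  refine ⟨P.subtype.comp e.symm.toMonoidHom, he, fun h hh => ?_⟩
  obtain ⟨g0, rfl⟩ := hq h
  obtain ⟨g, hg, h3⟩ := h2 g0 hh
  refine ⟨g, hg, fun a b hab => hi _ (h3 _ (e.symm a).2) _ (e.symm b).2 ?_⟩
  rw [map_mul, map_mul, map_inv, hg]
  exact (congrArg (fun t => q g0 * t * (q g0)⁻¹) (he a)).trans (hab.trans (he b).symm)

theorem local_conj (π : G →* H)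
    (hab : ∀ P : Subgroup G, IsPGroup l P → ∀ a ∈ P, ∀ b ∈ P, a * b = b * a) {y s : G} {u : ℕ}
    (hy : π y ^ l = 1) (h1 : π y ≠ 1) (hs : π s * π y * (π s)⁻¹ = π y ^ u) :
    ∃ x g : G, x ≠ 1 ∧ x ^ l = 1 ∧ g * x * g⁻¹ = x ^ u := by
  have ho : orderOf (π y) = l := orderOf_eq_prime hy h1
  obtain ⟨P, hP, h2, h3⟩ := syl_pre (l := l) π (zpowers (π y))
    (IsPGroup.of_card (n := 1) (by rw [Nat.card_zpowers, ho, pow_one])) (zpowers_le.2 ⟨y, rfl⟩)
  have h4 : ∀ e ∈ zpowers (π y), π s * e * (π s)⁻¹ = e ^ u := by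
    rintro _ ⟨k, rfl⟩
    simp only
    rw [← conj_zpow, hs, ← zpow_natCast, ← zpow_natCast, ← zpow_mul, ← zpow_mul, mul_comm]
  obtain ⟨g, hg, h5⟩ := h3 s fun e he => h4 e he ▸ pow_mem he u
  let θ : P → P := fun x => ⟨g * x * g⁻¹ * ((x : G) ^ u)⁻¹, mul_mem (h5 _ x.2) (inv_mem (pow_mem x.2 u))⟩
  have h6 : ¬ Function.Injective θ := fun hi => by
    obtain ⟨x, hx, e⟩ := h2.ge (mem_zpowers (π y))
    obtain ⟨z, hz⟩ := Finite.surjective_of_injective hi ⟨x, hx⟩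
    have := congrArg (fun t : P => π t) hz
    simp only [θ, map_mul, map_inv, map_pow, hg, h4 _ (h2.le ⟨_, z.2, rfl⟩),
      mul_inv_cancel] at this
    exact h1 (e.symm.trans this.symm)
  obtain ⟨a, b, e, hne⟩ := Function.not_injective_iff.1 h6
  have h7 : g * (b⁻¹ * a : P) * g⁻¹ = ((b⁻¹ * a : P) : G) ^ u := by
    have e1 : g * a * g⁻¹ * (a ^ u : G)⁻¹ = g * b * g⁻¹ * (b ^ u : G)⁻¹ := congrArg Subtype.val e
    have c : Commute (b : G)⁻¹ a := hab P hP _ (inv_mem b.2) _ a.2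
    simp only [Subgroup.coe_mul, Subgroup.coe_inv]
    rw [c.mul_pow, inv_pow]
    calc _ = (g * b * g⁻¹)⁻¹ * (g * a * g⁻¹ * (a ^ u : G)⁻¹) * a ^ u := by group
      _ = _ := by rw [e1]; group
  obtain ⟨n, hn⟩ := (IsPGroup.iff_orderOf.1 hP) (b⁻¹ * a)
  have h8 : orderOf ((b⁻¹ * a : P) : G) = l ^ n := by rw [Subgroup.orderOf_coe, hn]
  generalize ((b⁻¹ * a : P) : G) = x at h7 h8
  rcases n with _ | n
  · exact absurd (inv_mul_eq_one.1 (orderOf_eq_one_iff.1 hn)).symm hne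
  refine ⟨x ^ l ^ n, g, pow_ne_one_of_lt_orderOf (pow_pos hl.out.pos n).ne' ?_, ?_, ?_⟩
  · rw [h8]; exact Nat.pow_lt_pow_right hl.out.one_lt (by omega)
  · rw [← pow_mul, ← pow_succ, ← h8, pow_orderOf_eq_one]
  · rw [← conj_pow, h7, ← pow_mul, ← pow_mul, mul_comm]

end loc

variable {α : Type} [Fintype α] [DecidableEq α] {G : Type*} [Group G] [Finite G] {π : G →* Perm α}

/-- minimal covers of alternating groups -/
structure Mn (π : G →* Perm α) : Prop where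
  even : ∀ g, sign (π g) = 1
  surj : ∀ σ, sign σ = 1 → ∃ g, π g = σ
  min : ∀ H : Subgroup G, (∀ σ, sign σ = 1 → ∃ g ∈ H, π g = σ) → H = ⊤

theorem exists_mn (even : ∀ g, sign (π g) = 1) (surj : ∀ σ, sign σ = 1 → ∃ g, π g = σ) :
    ∃ H : Subgroup G, Mn (π.comp H.subtype) := by
  obtain ⟨H, hH, hm⟩ := exists_minimal_of_wellFoundedLT
    (fun H : Subgroup G => ∀ σ, sign σ = 1 → ∃ g ∈ H, π g = σ)
    ⟨⊤, fun σ hσ => by obtain ⟨g, hg⟩ := surj σ hσ; exact ⟨g, trivial, hg⟩⟩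
  refine ⟨H, fun g => even g, fun σ hσ => ?_, fun K hK => ?_⟩
  · obtain ⟨g, hg, e⟩ := hH σ hσ; exact ⟨⟨g, hg⟩, e⟩
  · have := hm (y := K.map H.subtype) (fun σ hσ => by
      obtain ⟨g, hg, e⟩ := hK σ hσ; exact ⟨g, ⟨g, hg, rfl⟩, e⟩) (map_subtype_le K)
    exact top_le_iff.1 fun x _ => by
      obtain ⟨y, hy, e⟩ := this x.2
      rwa [← Subtype.ext e]

namespace Mn
variable (h : Mn π) (h5 : 5 ≤ Fintype.card α)
include h

theorem nil : Group.IsNilpotent π.ker := by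
  have hfr : π.ker ≤ frattini G := by
    rw [frattini, Order.radical]
    refine le_iInf fun M => le_iInf fun hM => ?_
    by_contra hle
    have ht : M ⊔ π.ker = ⊤ := hM.2 _ (left_lt_sup.2 hle)
    refine hM.1 (h.min M fun σ hσ => ?_)
    obtain ⟨g, rfl⟩ := h.surj σ hσ
    obtain ⟨y, hy, z, hz, rfl⟩ := Subgroup.mem_sup_of_normal_right.1
      (show g ∈ M ⊔ π.ker from ht ▸ Subgroup.mem_top g)
    exact ⟨y, hy, by rw [map_mul, (show π z = 1 from hz), mul_one]⟩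
  haveI := frattini_nilpotent (G := G)
  exact Group.nilpotent_of_mulEquiv (Subgroup.subgroupOfEquivOfLe hfr)

omit [Finite G] in
include h5 in
theorem dich (N : Subgroup G) [N.Normal] : (∀ g ∈ N, π g = 1) ∨ N = ⊤ :=
  (norm_dich h5 h.even h.surj N).imp_right (h.min N)

omit [Finite G] in
include h5 in
theorem perf : commutator G = ⊤ := (h.dich h5 _).resolve_left fun hh => by
  obtain ⟨s, t, hst⟩ := ex_comm h5 h.surj
  exact hst (hh _ (Subgroup.commutator_mem_commutator (Subgroup.mem_top s) (Subgroup.mem_top t)))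

include h5 in
theorem cen {M : Subgroup G} [hM : M.Normal] (h1 : M ≤ π.ker) (h2 : ¬ M ≤ center G) :
    ∃ A : Subgroup G, A.Normal ∧ A ≤ M ∧ ¬ A ≤ center G ∧
      (∀ B : Subgroup G, B.Normal → B ≤ A → B ≤ center G ∨ A ≤ B) ∧
      (∀ a ∈ A, ∀ n ∈ π.ker, a * n * a⁻¹ * n⁻¹ ∈ center G) ∧
      ∃ l, ∃ _ : Fact l.Prime, l ∣ Nat.card A ∧ (∀ a ∈ A, a ^ l ∈ center G) ∧
        ∃ d, ∃ τ : G →* Matrix (Fin d) (Fin d) (ZMod l),
          l ^ d = Nat.card (A ⧸ (center G).subgroupOf A) ∧ ∀ g, τ g = 1 → π g = 1 := by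
  obtain ⟨A, ⟨hA, hAM, hnc⟩, hmin⟩ := exists_minimal_of_wellFoundedLT
    (fun B : Subgroup G => B.Normal ∧ B ≤ M ∧ ¬ B ≤ center G) ⟨_, hM, le_rfl, h2⟩
  have hsub : ∀ B : Subgroup G, B.Normal → B ≤ A → B ≤ center G ∨ A ≤ B := fun B h1 h2 =>
    or_iff_not_imp_left.2 fun h3 => hmin ⟨h1, h2.trans hAM, h3⟩ h2
  have hA0 : A ≠ ⊥ := by rintro rfl; exact hnc bot_le
  have hlt := H1.commutator_lt_of_isNilpotent h.nil (hAM.trans h1) le_normalizer_of_normal hA0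
  have hcz : ∀ a ∈ A, ∀ b ∈ π.ker, a * b * a⁻¹ * b⁻¹ ∈ center G := fun a ha b hb =>
    ((hsub _ inferInstance hlt.le).resolve_right hlt.2) (commutator_mem_commutator ha hb)
  let mk := QuotientGroup.mk' (center G)
  have hmk : ∀ x, mk x = 1 ↔ x ∈ center G := fun x => QuotientGroup.eq_one_iff x
  obtain ⟨a0, ha0, hn0⟩ := SetLike.not_le_iff_exists.1 hnc
  have ho : orderOf (mk a0) ≠ 1 := fun e => hn0 ((hmk _).1 (orderOf_eq_one_iff.1 e))
  have hl := Nat.minFac_prime ho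
  set l := (orderOf (mk a0)).minFac with hld
  haveI := Fact.mk hl
  let B : Subgroup G :=
    { carrier := {a | a ∈ A ∧ mk a ^ l = 1}
      one_mem' := ⟨A.one_mem, by simp⟩
      mul_mem' := by
        rintro a b ⟨h1', h2⟩ ⟨h3, h4⟩
        refine ⟨A.mul_mem h1' h3, ?_⟩
        have : Commute (mk a) (mk b) := by
          have := (hmk _).2 (hcz a h1' b (h1 (hAM h3)))
          simp only [map_mul, map_inv] at this
          rw [mul_inv_eq_one, mul_inv_eq_iff_eq_mul] at this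
          exact this
        rw [map_mul, this.mul_pow, h2, h4, one_mul]
      inv_mem' := by rintro a ⟨h1, h2⟩; exact ⟨A.inv_mem h1, by rw [map_inv, inv_pow, h2, inv_one]⟩ }
  have hB : B.Normal := ⟨by
    rintro a ⟨h1, h2⟩ g
    exact ⟨hA.conj_mem a h1 g, by rw [map_mul, map_mul, map_inv, conj_pow, h2]; simp⟩⟩
  have hAB : A ≤ B := (hsub B hB fun a ha => ha.1).resolve_left fun e => by
    have h1 : orderOf (mk a0 ^ (orderOf (mk a0) / l)) = l :=
      orderOf_pow_orderOf_div (orderOf_pos _).ne' (Nat.minFac_dvd _)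
    have h2 := (hmk _).2 (e (show a0 ^ (orderOf (mk a0) / l) ∈ B from
      ⟨A.pow_mem ha0 _, by rw [map_pow]; exact orderOf_dvd_iff_pow_eq_one.1 (by rw [h1])⟩))
    rw [map_pow] at h2
    rw [h2, orderOf_one] at h1
    exact hl.ne_one h1.symm
  have hp : ∀ a ∈ A, a ^ l ∈ center G := fun a ha => (hmk _).1 (by rw [map_pow]; exact (hAB ha).2)
  obtain ⟨d, τ, hd, hτ⟩ := quot_rep A (fun a ha b hb => hcz a ha b (h1 (hAM hb))) l hp
  refine ⟨A, hA, hAM, hnc, hsub, hcz, l, inferInstance, ((Nat.minFac_dvd _).trans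
    (orderOf_map_dvd _ _)).trans (A.orderOf_dvd_natCard ha0), hp, d, τ, hd, fun g hg =>
      ((h.dich h5 τ.ker).resolve_right fun e => hnc ?_) g hg⟩
  have h1 : ⁅(⊤ : Subgroup G), A⁆ ≤ center G := commutator_le.2 fun g _ a ha =>
    hτ g (show g ∈ τ.ker from e ▸ mem_top g) a ha
  have h2 : ⁅⁅(⊤ : Subgroup G), A⁆, (⊤ : Subgroup G)⁆ = ⊥ := by
    rw [commutator_eq_bot_iff_le_centralizer]
    exact h1.trans (center_le_centralizer _)
  have h3 := commutator_commutator_eq_bot_of_rotate (H₁ := ⊤) (H₂ := ⊤) (H₃ := A) h2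
    (by rw [Subgroup.commutator_comm A]; exact h2)
  rw [← commutator_def, h.perf h5, Subgroup.commutator_comm,
    commutator_eq_bot_iff_le_centralizer] at h3
  rwa [coe_top, centralizer_univ] at h3

omit [Finite G] in
theorem cv {K Z : Subgroup G} [K.Normal] (h1 : K ≤ π.ker) (h2 : Z ≤ center G)
    (h3 : π.ker ≤ K ⊔ Z) : Cv (QuotientGroup.lift K π h1) := by
  refine ⟨fun g => ?_, fun σ hσ => ?_, fun z hz g => ?_⟩
  · induction g using QuotientGroup.induction_on with | _ g => exact h.even g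
  · obtain ⟨g, e⟩ := h.surj σ hσ; exact ⟨g, e⟩
  · induction g using QuotientGroup.induction_on with | _ g => ?_
    induction z using QuotientGroup.induction_on with | _ z => ?_
    obtain ⟨k, hk, y, hy, rfl⟩ := mem_sup_of_normal_left.1 (h3 (show z ∈ π.ker from hz))
    rw [QuotientGroup.mk_mul, (QuotientGroup.eq_one_iff k).2 hk, one_mul, ← QuotientGroup.mk_mul,
      ← QuotientGroup.mk_mul, mem_center_iff.1 (h2 hy) g]

theorem split (p : ℕ) [Fact p.Prime] : ∃ Q M : Subgroup G, Q.Normal ∧ M.Normal ∧ Q ≤ π.ker ∧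
    M ≤ π.ker ∧ IsPGroup p Q ∧ (Nat.card M).Coprime p ∧ π.ker = Q ⊔ M :=
  ⟨_, _, H1.pCoreOf_normal _, H1.pPrimeCoreOf_normal _, map_subtype_le _, map_subtype_le _,
    H1.pCoreOf_isPGroup _, H1.pPrimeCoreOf_coprime _, (H1.pCoreOf_sup_pPrimeCoreOf h.nil p).symm⟩

end Mn

end H23.Sec
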