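import Cfsg.Agent.H23.Sec3
import Cfsg.Agent.H14.TwD4

/-! Alternating sections of the fixed points of a triality. -/

set_option autoImplicit false
set_option linter.unusedSectionVars false
set_option maxRecDepth 100000

namespace H23.Sec

open H14 H14.PreSt H14.St Equiv Equiv.Perm H23.Wag Cfsg.Lie
open H14.RootSys hiding sign
open Matrix hiding J

theorem rank_bound {A Q : Type*} [Group A] [Finite A] [Group Q] (mk : A →* Q)
    (hs : Function.Surjective mk) {l : ℕ} (he : ∀ a, mk (a ^ l) = 1) (B : Subgroup A)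
    (hc : ∀ a ∈ B, ∀ b ∈ B, a * b = b * a) :
    Nat.card Q ≤ Nat.card {x : B // x ^ l = 1} * B.index := by
  haveI := Finite.of_surjective _ hs
  letI : CommGroup B := { B.toGroup with mul_comm := fun a b => Subtype.ext (hc _ a.2 _ b.2) }
  rw [← (B.map mk).card_mul_index]
  refine Nat.mul_le_mul ?_ (Nat.le_of_dvd (Nat.pos_of_ne_zero B.index_ne_zero_of_finite)
    (B.index_map_dvd hs))
  have h1 := (mk.comp B.subtype).ker.card_mul_index
  have h2 := (powMonoidHom l : B →* B).ker.card_mul_index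
  rw [Subgroup.index_ker] at h1 h2
  have h3 : Nat.card (powMonoidHom l : B →* B).range ≤ Nat.card (mk.comp B.subtype).ker :=
    Subgroup.card_le_of_le (by rintro _ ⟨x, rfl⟩; exact he x)
  rw [MonoidHom.range_comp, Subgroup.range_subtype] at h1
  change _ ≤ Nat.card (powMonoidHom l : B →* B).ker
  have h4 : 0 < Nat.card (powMonoidHom l : B →* B).range := Nat.card_pos
  nlinarith

theorem lift2 {G H : Type*} [Group G] [Finite G] [Group H] {l : ℕ} [hl : Fact l.Prime] (q : G →* H)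
    (hq : Function.Surjective q) (hk : (Nat.card q.ker).Coprime l) {y1 y2 : H} (hc : Commute y1 y2)
    (h1 : y1 ^ l = 1) (h2 : y2 ^ l = 1) : ∃ Y1 Y2 : G, q Y1 = y1 ∧ q Y2 = y2 ∧ Commute Y1 Y2 ∧
      Y1 ^ l = 1 ∧ Y2 ^ l = 1 ∧ ∀ (h : H) (i j k m : ℕ), h * y1 * h⁻¹ = y1 ^ i * y2 ^ j →
        h * y2 * h⁻¹ = y1 ^ k * y2 ^ m →
        ∃ g, g * Y1 * g⁻¹ = Y1 ^ i * Y2 ^ j ∧ g * Y2 * g⁻¹ = Y1 ^ k * Y2 ^ m := by
  let E := Subgroup.closure {y1, y2}
  have m1 : y1 ∈ E := Subgroup.subset_closure (by simp)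
  have m2 : y2 ∈ E := Subgroup.subset_closure (by simp)
  haveI : IsMulCommutative E := Subgroup.isMulCommutative_closure (by
    rintro a (rfl | rfl) b (rfl | rfl)
    exacts [rfl, hc, hc.symm, rfl])
  letI : CommGroup E := { E.toGroup with mul_comm := mul_comm' }
  have hE : ∀ x : E, x ^ l = 1 := by
    rintro ⟨x, hx⟩
    induction hx using Subgroup.closure_induction with
    | mem x hx => rcases hx with rfl | rfl <;> exact Subtype.ext ‹_›
    | one => exact one_pow _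
    | mul x y hx hy a b => exact (mul_pow (⟨x, hx⟩ : E) ⟨y, hy⟩ l).trans (by rw [a, b, one_mul])
    | inv x hx a => exact (inv_pow (⟨x, hx⟩ : E) l).trans (by rw [a, inv_one])
  obtain ⟨s, a1, a2⟩ := lift_E (l := l) q hq hk E fun x => ⟨1, by rw [pow_one, hE]⟩
  refine ⟨s ⟨y1, m1⟩, s ⟨y2, m2⟩, a1 _, a1 _, (Commute.all _ _).map s, by rw [← map_pow, hE, map_one],
    by rw [← map_pow, hE, map_one], fun h i j k m e1 e2 => ?_⟩
  obtain ⟨g, -, hg⟩ := a2 h fun e he => (Subgroup.closure_le (K := E.comap (MulAut.conj h).toMonoidHom)).2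
    (by
      rintro a (rfl | rfl)
      · change h * _ * h⁻¹ ∈ E; rw [e1]; exact mul_mem (pow_mem m1 _) (pow_mem m2 _)
      · change h * _ * h⁻¹ ∈ E; rw [e2]; exact mul_mem (pow_mem m1 _) (pow_mem m2 _)) he
  simp only [← map_pow, ← map_mul]
  exact ⟨g, hg _ _ e1, hg _ _ e2⟩

section
variable {ι κ : Type*} [Fintype κ] [DecidableEq κ] [Fintype ι] [DecidableEq ι] {R : RootSys ι κ}
  {C : Chev R} {K G : Type*} [Field K] [Group G] {S : St C K G}

variable (R) in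
/-- the value at a root -/
def ev {M : Type*} [CommRing M] (a : κ → M) (r : ι) : M := ∑ j, (R.cf r j : M) * a j

theorem ev_simple {M : Type*} [CommRing M] (a : κ → M) (i : κ) : ev R a (R.simple i) = a i := by
  simp [ev, R.cf_simple, Pi.single_apply]

theorem ev_sr {M : Type*} [CommRing M] (a : κ → M) (i : κ) (r : ι) :
    ev R a (R.sr i r) = ev R (fun j => a j - R.A i j * a i) r := by
  simp only [ev, refl_simple, R.cf_sref, Pi.sub_apply, Int.cast_sub, sub_mul, mul_sub,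
    Finset.sum_sub_distrib, Pi.single_apply, mulVec, dotProduct]
  simp [Finset.sum_mul, mul_comm, mul_left_comm, Finset.mul_sum]

theorem inv_W {M β : Type*} [CommRing M] (I : (κ → M) → (κ → M) → β)
    (h : ∀ i a b, I (fun j => a j - R.A i j * a i) (fun j => b j - R.A i j * b i) = I a b)
    {w : Perm ι} (hw : w ∈ R.W) (a b : κ → M) :
    I (fun j => ev R a (w (R.simple j))) (fun j => ev R b (w (R.simple j))) = I a b := by
  obtain ⟨L, rfl⟩ := R.mem_W_iff.1 hw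
  induction L generalizing a b with
  | nil => simp [wprod_nil, ev_simple]
  | cons i L ih => simp only [wprod_cons, Perm.mul_apply, ev_sr, ih _ _ (R.wprod_mem_W L), h]

variable (R) in
/-- the exponents of a torus element at the simple roots -/
def Lb (z : Kˣ) (c : κ → Kˣ) (a : κ → ℤ) : Prop := ∀ j, R.chi c (R.simple j) = z ^ a j

theorem Lb.chi {z : Kˣ} {c : κ → Kˣ} {a : κ → ℤ} (h : Lb R z c a) (r : ι) :
    R.chi c r = z ^ ev R a r := by
  rw [RootSys.chi, prod_wt, ev, zpow_sum']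
  refine Finset.prod_congr rfl fun j _ => ?_
  rw [Int.cast_id, mul_comm, _root_.zpow_mul, ← h j]
  simp [RootSys.chi, wt_simple, mpow_apply]

theorem Lb.mul {z : Kˣ} {c c' : κ → Kˣ} {a a' : κ → ℤ} (h : Lb R z c a) (h' : Lb R z c' a')
    (i j : ℕ) : Lb R z (c ^ i * c' ^ j) fun k => i * a k + j * a' k := fun k => by
  rw [_root_.zpow_add, mul_comm (i : ℤ), mul_comm (j : ℤ), _root_.zpow_mul, _root_.zpow_mul, ← h k,
    ← h' k]
  simp only [RootSys.chi, ← Finset.prod_zpow, ← Finset.prod_mul_distrib, Pi.mul_apply, Pi.pow_apply,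
    mul_zpow, ← zpow_natCast, ← _root_.zpow_mul, mul_comm]

theorem ex_lab (hS : S.Sep) (hh : S.HMul) {z : Kˣ} {l : ℕ} (hz : orderOf z = l) (hl : 0 < l)
    {c : κ → Kˣ} (h : hh.tor c ^ l = 1) : ∃ a, Lb R z c a := by
  have := NeZero.mk (hz ▸ hl.ne' : orderOf z ≠ 0)
  choose μ hμ using fun j => (IsPrimitiveRoot.orderOf z).zpowers_eq.ge
    (show R.chi c (R.simple j) ∈ rootsOfUnity _ _ from hz ▸ hh.chi_pow hS h _)
  exact ⟨μ, fun j => (hμ j).symm⟩

theorem lab_conj (hS : S.Sep) (hG : S.U Set.univ = ⊤) (hh : S.HMul) {z : Kˣ} {l : ℕ}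
    (hz : orderOf z = l) (g : G) : ∃ w ∈ R.W, ∀ c c' a a', Lb R z c a → Lb R z c' a' →
      g * hh.tor c * g⁻¹ = hh.tor c' →
      (fun j => (a j : ZMod l)) = fun j => ev R (fun j => (a' j : ZMod l)) (w (R.simple j)) := by
  obtain ⟨w, hw, h⟩ := simW hS hG hh g
  refine ⟨w, hw, fun c c' a a' h1 h2 e => funext fun j => ?_⟩
  have := h c c' e (R.simple j)
  rw [h1 j, h2.chi] at this
  simpa [ev] using (cast_eq hz this).symm

theorem lab_tw (T : S.Tw) (hh : S.HMul) {φ : K →+* K} (hφ : ∀ i t, T.f (R.simple i) t = φ t)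
    {z : Kˣ} {u : ℤ} (hu : φ z = (z ^ u : Kˣ)) {c : κ → Kˣ} {a : κ → ℤ} (h : Lb R z c a) :
    ∃ c', T.σ (hh.tor c) = hh.tor c' ∧ Lb R z c' fun j => u * a (T.π⁻¹ j) := by
  obtain ⟨c', hc⟩ := hh.exists_tor (T.σ_mem_H (hh.range_tor.le ⟨c, rfl⟩))
  refine ⟨c', hc, fun j => Units.ext ?_⟩
  have := tw_chi T hh hc (R.simple (T.π⁻¹ j))
  rw [hφ, hφ, map_one, mul_one, T.ρ_simple, h] at this
  simpa [hu, ← _root_.zpow_mul] using this

theorem lab_cen (hS : S.Sep) (hG : S.U Set.univ = ⊤) (hh : S.HMul) {z : Kˣ} {l : ℕ}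
    (hz : orderOf z = l) {c : κ → Kˣ} {a : κ → ℤ} (h : Lb R z c a)
    (h0 : (fun j => (a j : ZMod l)) = 0) : hh.tor c ∈ Subgroup.center G := by
  rw [hh.tor_mem_center hS hG]
  funext j
  have := h j
  rw [orderOf_dvd_iff_zpow_eq_one.1 (hz ▸ (ZMod.intCast_zmod_eq_zero_iff_dvd _ _).1
    (congrFun h0 j))] at this
  simpa [RootSys.chi, wt_simple, mpow_apply] using this

end

section
variable {M : Type*} [CommRing M]

/-- invariant bilinear form -/
def B2 (a b : Fin 4 → M) : M :=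
  (2 * a 0 + 2 * a 1 + a 2 + a 3) * (2 * b 0 + 2 * b 1 + b 2 + b 3) +
    (2 * a 1 + a 2 + a 3) * (2 * b 1 + b 2 + b 3) + (a 2 + a 3) * (b 2 + b 3) + (a 3 - a 2) * (b 3 - b 2)

/-- polarised Pfaffian -/
def J2 (a b : Fin 4 → M) : M :=
  (2 * b 0 + 2 * b 1 + b 2 + b 3) * (2 * a 1 + a 2 + a 3) * (a 2 + a 3) * (a 3 - a 2) +
  (2 * a 0 + 2 * a 1 + a 2 + a 3) * (2 * b 1 + b 2 + b 3) * (a 2 + a 3) * (a 3 - a 2) +
  (2 * a 0 + 2 * a 1 + a 2 + a 3) * (2 * a 1 + a 2 + a 3) * (b 2 + b 3) * (a 3 - a 2) +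
  (2 * a 0 + 2 * a 1 + a 2 + a 3) * (2 * a 1 + a 2 + a 3) * (a 2 + a 3) * (b 3 - b 2)

/-- triality -/
def rh (a : Fin 4 → M) : Fin 4 → M := ![a 3, a 1, a 0, a 2]

/-- stability under triality -/
def Tri (a : Fin 4 → M) : Prop := J2 a a = J2 (rh a) (rh a) ∧ J2 a a = J2 (rh (rh a)) (rh (rh a))

instance instTri [DecidableEq M] (a : Fin 4 → M) : Decidable (Tri a) := by
  unfold Tri; infer_instance

theorem invD4 {w : Perm (Fin chevD4.nroots)} (hw : w ∈ goodD4.R.W) (a b : Fin 4 → M) :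
    let a' := fun j : Fin 4 => ev goodD4.R a (w (goodD4.R.simple j))
    let b' := fun j : Fin 4 => ev goodD4.R b (w (goodD4.R.simple j))
    B2 a' b' = B2 a b ∧ J2 a' b' = J2 a b := by
  have hA : ∀ i j : Fin 4, (goodD4.R.A i j : ℤ) = (![![2, -1, 0, 0], ![-1, 2, -1, -1], ![0, -1, 2, 0],
      ![0, -1, 0, 2]] : Fin 4 → Fin 4 → ℤ) i j := by
    change ∀ i j : Fin 4, tabD4.A chevD4 i j = _
    decide +kernel
  refine Prod.mk.inj (inv_W (R := goodD4.R) (fun a b => (B2 a b, J2 a b)) (fun i a b => ?_) hw a b)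
  revert i a b
  change ∀ (i : Fin 4) (a b : Fin 4 → M), (B2 (fun j : Fin 4 => a j - goodD4.R.A i j * a i)
    (fun j : Fin 4 => b j - goodD4.R.A i j * b i), J2 (fun j : Fin 4 => a j - goodD4.R.A i j * a i)
    (fun j : Fin 4 => b j - goodD4.R.A i j * b i)) = _
  intro i a b
  simp only [hA]
  fin_cases i <;> simp [B2, J2] <;> constructor <;> ring

end

theorem chk5 : ∀ a0 a1 a2 a3 : ZMod 5, Tri ![a0, a1, a2, a3] →
    B2 ![a0, a1, a2, a3] ![a0, a1, a2, a3] = 0 → ![a0, a1, a2, a3] = 0 := by decide +kernel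

theorem chk3 : ∀ a0 a1 a2 a3 : ZMod 3, Tri ![a0, a1, a2, a3] → ![a0, a1, a2, a3] ≠ 0 →
    ∀ b0 b1 b2 b3 : ZMod 3, Tri ![b0, b1, b2, b3] → ![b0, b1, b2, b3] ≠ 0 →
    B2 ![a0, a1, a2, a3] ![a0, a1, a2, a3] = B2 ![b0, b1, b2, b3] ![b0, b1, b2, b3] →
    B2 ![a0, a1, a2, a3] ![b0, b1, b2, b3] = 0 → J2 ![a0, a1, a2, a3] ![b0, b1, b2, b3] = 0 →
    Tri ![a0 + b0, a1 + b1, a2 + b2, a3 + b3] →
    ![a0 + b0, a1 + b1, a2 + b2, a3 + b3] = 0 ∨
      ![a0 + 2 * b0, a1 + 2 * b1, a2 + 2 * b2, a3 + 2 * b3] = 0 := by decide +kernel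

end H23.Sec
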