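import Cfsg.Agent.H23.Sec9
import Cfsg.Agent.H23.Sec4

/-! Weights of elementary abelian subgroups covering products of cycles. -/

set_option autoImplicit false
set_option linter.unusedSectionVars false
set_option maxRecDepth 100000

namespace H23.Sec

open H14 H14.PreSt H14.St Equiv Equiv.Perm H23.Wag Cfsg.Lie Module
open H14.RootSys hiding sign
open Matrix hiding J

section lin
variable {k V : Type*} [Field k] [IsAlgClosed k] [AddCommGroup V] [Module k V]
  [FiniteDimensional k V] {G : Type*} [Group G]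

theorem diag_dim {β I : Type*} [Fintype β] (b : Basis β k V) (g : I → End k V) (φ : β → I → k)
    (h : ∀ x j, g j (b x) = φ x j • b x) (χ : I → k) :
    finrank k ↥(⨅ j, (g j).eigenspace (χ j)) = {x | φ x = χ}.ncard := by
  rw [← Pi.dim_spanSubset (R := k), ← LinearEquiv.finrank_map_eq b.equivFun]
  refine congrArg (fun W : Submodule k (β → k) => finrank k W) (Submodule.ext fun v => ?_)
  rw [Submodule.mem_map_equiv, Pi.mem_spanSubset_iff, Submodule.mem_iInf]
  have : ∀ j, g j (b.equivFun.symm v) = b.equivFun.symm fun x => φ x j * v x := fun j => by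
    simp [h, smul_smul, mul_comm]
  simp only [End.mem_eigenspace_iff, this, ← map_smul, b.equivFun.symm.injective.eq_iff, funext_iff,
    Pi.smul_apply, smul_eq_mul, mul_eq_mul_right_iff, Set.mem_ofPred_eq]
  rw [forall_comm]
  exact forall_congr' fun x => by by_cases v x = 0 <;> simp [*]

theorem wts (ρ : G →* End k V) {ι : Type*} [Fintype ι] [DecidableEq ι] {l : ℕ} [hl : Fact l.Prime]
    {ζ : k} (hζ : IsPrimitiveRoot ζ l) (Y : ι → G) (hc : ∀ i j, Commute (Y i) (Y j))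
    (h1 : ∀ i, Y i ^ l = 1) : ∃ c : (ι → ZMod l) → ℕ,
      (∀ (g : G) (σ : ι → ι) (n : ι → ℕ), Function.Surjective σ → (∀ i, (n i : ZMod l) ≠ 0) →
        (∀ i, g * Y i * g⁻¹ = Y (σ i) ^ n i) → ∀ w, c (fun i => n i * w (σ i)) = c w) ∧
      ∀ (y : G) (φ : (ι → ZMod l) → ZMod l), (∀ w v, (∀ i, ρ (Y i) v = ζ ^ (w i).val • v) →
        ρ y v = ζ ^ (φ w).val • v) → ∀ j : ZMod l,
        finrank k ((ρ y).eigenspace (ζ ^ j.val)) = ∑ w with φ w = j, c w := by
  have h2 : ∀ i, ρ (Y i) ^ l = 1 := fun i => by rw [← map_pow, h1, map_one]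
  have h3 : ∀ i, (ρ (Y i)).IsSemisimple := fun i => End.isSemisimple_of_squarefree_aeval_eq_zero
    (Polynomial.separable_X_pow_sub_C (1 : k) (hζ.neZero' (R := k)).ne one_ne_zero).squarefree
    (by simp [h2])
  have h4 := End.iSup_iInf_maxGenEigenspace_eq_top_of_iSup_maxGenEigenspace_eq_top_of_commute
    (fun i => ρ (Y i)) (fun i j _ => (hc i j).map ρ) fun i => End.iSup_maxGenEigenspace_eq_top _
  simp only [(h3 _).isFinitelySemisimple.maxGenEigenspace_eq_eigenspace] at h4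
  rw [Submodule.iSup_eq_span] at h4
  obtain ⟨s, a1, a2, a3⟩ := exists_linearIndependent k (⋃ χ : ι → k,
    ((⨅ i, (ρ (Y i)).eigenspace (χ i) : Submodule k V) : Set V))
  let b := Basis.mk a3 (by rw [Subtype.range_coe_subtype, Set.ofPred_mem_eq, a2, h4])
  haveI : Fintype s := a3.setFinite.fintype
  have h5 : ∀ x : s, ∃ w : ι → ZMod l, ∀ i, ρ (Y i) (b x) = ζ ^ (w i).val • b x := fun x => by
    obtain ⟨χ, hχ⟩ := Set.mem_iUnion.1 (a1 x.2)
    have hχ' : ∀ i, ρ (Y i) (b x) = χ i • b x := fun i => by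
      rw [Basis.mk_apply]; exact End.mem_eigenspace_iff.1 ((Submodule.mem_iInf _).1 hχ i)
    choose w hw using fun i => root_val hζ (eig_root (b.ne_zero x) (hχ' i) (h2 i))
    exact ⟨w, fun i => hw i ▸ hχ' i⟩
  choose w hw using h5
  have h6 : ∀ χ : ι → ZMod l, finrank k ↥(⨅ i, (ρ (Y i)).eigenspace (ζ ^ (χ i).val)) =
      (Finset.univ.filter fun x => w x = χ).card := fun χ => by
    rw [diag_dim b _ _ hw, ← Set.ncard_coe_finset]
    congr 1; ext x
    simp only [Set.mem_ofPred_eq, Finset.coe_filter, Finset.mem_univ, true_and, funext_iff]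
    exact forall_congr' fun i => ⟨val_inj' hζ, fun e => by rw [e]⟩
  refine ⟨fun χ => (Finset.univ.filter fun x => w x = χ).card, fun g σ n b1 b2 b3 χ => ?_,
    fun y φ hy j => ?_⟩
  · refine ((Finset.sum_eq_sum_iff_of_le (s := Finset.univ)
      (f := fun χ => (Finset.univ.filter fun x => w x = χ).card) (g := fun χ => (Finset.univ.filter
        fun x => w x = fun i => n i * χ (σ i)).card) fun χ _ => ?_).1 (Equiv.sum_comp
      (Equiv.ofBijective (fun (w : ι → ZMod l) i => (n i : ZMod l) * w (σ i))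
        (Finite.injective_iff_bijective.1 fun w w' e => funext fun i => ?_)) _).symm χ
          (Finset.mem_univ _)).symm
    · rw [← h6, ← h6, LinearEquiv.finrank_eq (Submodule.equivMapOfInjective (ρ g⁻¹) (ρ_inj _) _)]
      apply Submodule.finrank_mono
      rintro _ ⟨v, hv, rfl⟩
      exact (Submodule.mem_iInf _).2 fun i => End.mem_eigenspace_iff.2 (wt_conj hζ.pow_eq_one (b3 i)
        (End.mem_eigenspace_iff.1 ((Submodule.mem_iInf _).1 hv _)))
    · obtain ⟨i, rfl⟩ := b1 i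
      exact mul_left_cancel₀ (b2 i) (congrFun e i)
  · have := diag_dim b (fun _ : Unit => ρ y) (fun x _ => ζ ^ (φ (w x)).val)
      (fun x _ => hy _ _ (hw x)) fun _ => ζ ^ j.val
    rw [iInf_const] at this
    rw [this, Finset.sum_card_fiberwise_eq_card_filter, ← Set.ncard_coe_finset]
    congr 1; ext x
    simp only [Set.mem_ofPred_eq, Finset.coe_filter, Finset.mem_univ, true_and, funext_iff,
      Finset.mem_filter, forall_const]
    exact ⟨val_inj' hζ, fun e => by rw [e]⟩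

end lin

theorem sum_ty {β : Type*} [Fintype β] {c : β → ℕ} {n : ℕ} (ty : β → Fin n) (r : Fin n → β)
    (h : ∀ w, c w = c (r (ty w))) (s : Finset β) :
    ∑ w ∈ s, c w = ∑ t, (s.filter fun w => ty w = t).card * c (r t) := by
  rw [← Finset.sum_fiberwise s ty]
  exact Finset.sum_congr rfl fun t _ => Finset.sum_const_nat fun w hw => by
    rw [h, (Finset.mem_filter.1 hw).2]

theorem liftN {G H : Type*} [Group G] [Finite G] [Group H] {l : ℕ} [hl : Fact l.Prime] (q : G →* H)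
    (hq : Function.Surjective q) (hk : (Nat.card q.ker).Coprime l) {ι : Type*} {y : ι → H}
    (hc : ∀ i j, Commute (y i) (y j)) (h1 : ∀ i, y i ^ l = 1) : ∃ Y : ι → G, (∀ i, q (Y i) = y i) ∧
      (∀ i j, Commute (Y i) (Y j)) ∧ (∀ i, Y i ^ l = 1) ∧ ∀ (h : H) (σ : ι → ι) (n : ι → ℕ),
        (∀ i, h * y i * h⁻¹ = y (σ i) ^ n i) → ∃ g, ∀ i, g * Y i * g⁻¹ = Y (σ i) ^ n i := by
  let E := Subgroup.closure (Set.range y)
  have m1 : ∀ i, y i ∈ E := fun i => Subgroup.subset_closure ⟨i, rfl⟩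
  haveI : IsMulCommutative E := Subgroup.isMulCommutative_closure (by
    rintro _ ⟨i, rfl⟩ _ ⟨j, rfl⟩; exact hc i j)
  letI : CommGroup E := { E.toGroup with mul_comm := mul_comm' }
  have hE : ∀ x : E, x ^ l = 1 := by
    rintro ⟨x, hx⟩
    induction hx using Subgroup.closure_induction with
    | mem x hx => obtain ⟨i, rfl⟩ := hx; exact Subtype.ext (h1 i)
    | one => exact one_pow _
    | mul x y hx hy a b => exact (mul_pow (⟨x, hx⟩ : E) ⟨y, hy⟩ l).trans (by rw [a, b, one_mul])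
    | inv x hx a => exact (inv_pow (⟨x, hx⟩ : E) l).trans (by rw [a, inv_one])
  obtain ⟨s, a1, a2⟩ := lift_E (l := l) q hq hk E fun x => ⟨1, by rw [pow_one, hE]⟩
  refine ⟨fun i => s ⟨y i, m1 i⟩, fun i => a1 _, fun i j => (Commute.all _ _).map s,
    fun i => by rw [← map_pow, hE, map_one], fun h σ n e => ?_⟩
  obtain ⟨g, -, hg⟩ := a2 h fun e' he => (Subgroup.closure_le (K := E.comap (MulAut.conj h).toMonoidHom)).2
    (by rintro _ ⟨i, rfl⟩; change h * _ * h⁻¹ ∈ E; rw [e]; exact pow_mem (m1 _) _) he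
  simp only [← map_pow]
  exact ⟨g, fun i => hg _ _ (e i)⟩

theorem lifts {α : Type} [Fintype α] [DecidableEq α] {X : Type*} [Group X] [Finite X]
    {π : X →* Perm α} (h : Mn π) {l : ℕ} [hl : Fact l.Prime] (ho : Odd l) (hr : l + 5 ≤ Fintype.card α)
    (hc : ∀ Q : Subgroup X, Q.Normal → Q ≤ π.ker → IsPGroup l Q → Q ≤ Subgroup.center X) {m : ℕ}
    (e : Fin m ↪ α) {ι : Type*} (t s : ι → Perm (Fin m)) (ht : ∀ i, sign (t i) = 1 ∧ sign (s i) = 1 ∧
      s i * t i * (s i)⁻¹ = (t i)⁻¹ ∧ t i ^ l = 1 ∧ (t i).support.card = l ∧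
      ∀ j, t j * t i * (t j)⁻¹ = t i ^ 1) : ∃ Y : ι → X, (∀ i, π (Y i) = J e (t i)) ∧
      (∀ i j, Commute (Y i) (Y j)) ∧ (∀ i, Y i ^ l = 1) ∧ ∀ τ (σ : ι → ι) (n : ι → ℕ), sign τ = 1 →
        (∀ i, τ * t i * τ⁻¹ = t (σ i) ^ n i) → ∃ g, ∀ i, g * Y i * g⁻¹ = Y (σ i) ^ n i := by
  obtain ⟨Q, M, _, _, h1, h2, h3, h4, h5⟩ := h.split l
  have hv := h.cv h2 (hc Q ‹_› h1 h3) (by rw [h5, sup_comm])
  choose y hy c using fun i => hv.canJ ho e (ht i).1 (ht i).2.1 (ht i).2.2.1 (ht i).2.2.2.1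
  obtain ⟨Y, a1, a2, a3, a4⟩ := liftN (l := l) (QuotientGroup.mk' M) (QuotientGroup.mk'_surjective _)
    (by rwa [QuotientGroup.ker_mk']) (y := y) (fun i j => mul_inv_eq_iff_eq_mul.1 ((hv.conjJ hl.1 ho hr
      (hy j) (c j) (hy j) (c j) (hy i) (ht j).2.2.2.2.1 ((ht j).2.2.2.2.2 i)).trans (pow_one _)))
    fun i => (c i).1
  refine ⟨Y, fun i => (congrArg _ (a1 i)).trans (hy i), a2, a3, fun τ σ n b1 b2 => ?_⟩
  obtain ⟨g, hg⟩ := hv.surj (J e τ) (by rw [J_sign, b1])
  exact a4 g σ n fun i => hv.conjJ hl.1 ho hr (hy i) (c i) (hy _) (c _) hg (ht i).2.2.2.2.1 (b2 i)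

theorem cenL {ι κ : Type*} [Fintype κ] [DecidableEq κ] [Fintype ι] [DecidableEq ι] {R : RootSys ι κ}
    {C : Chev R} {K G : Type*} [Field K] [IsAlgClosed K] [Group G] {S : St C K G} {p l a : ℕ}
    [Fact p.Prime] [CharP K p] [hl : Fact l.Prime] (hS : S.Alg p) (hi : Function.Injective hS.hmul.tor)
    (hp : l ≠ p) (hW : ¬ l ^ (a + 1) ∣ R.poin 1 Set.univ 1) {α : Type} [Fintype α] [DecidableEq α]
    (h9 : 9 ≤ Fintype.card α) (hκ : Fintype.card κ + a + 2 < Fintype.card α) {X : Type*} [Group X]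
    [Finite X] {f : X →* G} (hf : Function.Injective f) {π : X →* Perm α} (h : Mn π)
    (Q : Subgroup X) (_ : Q.Normal) (h1 : Q ≤ π.ker) (hQ : IsPGroup l Q) :
    Q ≤ Subgroup.center X := by
  by_contra hc
  obtain ⟨A, -, hA, -, -, -, l', hl', h2, h3, d, τ, hd, hτ⟩ := h.cen (by omega) h1 hc
  have hA3 := hQ.to_le hA
  obtain rfl : l' = l := by
    obtain ⟨n, hn⟩ := hA3.exists_card_eq
    exact (Nat.prime_dvd_prime_iff_eq hl'.1 hl.1).1 (hl'.1.dvd_of_dvd_pow (hn ▸ h2))
  obtain ⟨g, B, h4, h5⟩ := tor_idx hS hp hW hA3 (f.comp A.subtype)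
  obtain ⟨z, hz⟩ := ex_root K p hl.1 hp
  have h6 := rank_bound (QuotientGroup.mk' ((Subgroup.center X).subgroupOf A))
    (QuotientGroup.mk'_surjective _) (l := l') (fun a => (QuotientGroup.eq_one_iff _).2 (h3 _ a.2)) B
    fun a ha b hb => Subtype.ext (hf (by
      have := hS.hmul.comm _ (h5 a ha) _ (h5 b hb)
      simp only [Subgroup.coe_mul, map_mul]
      calc _ = g * (g⁻¹ * f a * g * (g⁻¹ * f b * g)) * g⁻¹ := by group
        _ = _ := by rw [show g⁻¹ * f a * g * (g⁻¹ * f b * g) = _ from this]; simp; group))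
  have h7 : Nat.card {x : B // x ^ l' = 1} ≤ Nat.card (κ → ZMod l') := by
    choose μ hμ using fun x : {x : B // x ^ l' = 1} => ex_nu hS.hmul (e := 1)
      (fun c h => by rw [pow_one]; exact hi (h.trans (map_one _).symm)) (by simp) hz hl.1.pos
      (h5 _ x.1.2) (by
        have : ((x.1 : A) : X) ^ l' = 1 := congrArg (fun t : B => ((t : A) : X)) x.2
        simpa [← map_pow, this] using conj_pow (a := g⁻¹) (b := f (x.1 : A)) (i := l'))
    refine Nat.card_le_card_of_injective (fun x i => (μ x i : ZMod l')) fun x y e => ?_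
    have : (fun i => z ^ μ x i) = fun i => z ^ μ y i := funext fun i => by
      rw [zpow_eq_zpow_iff_modEq, hz, ← ZMod.intCast_eq_intCast_iff]; exact congrFun e i
    have := (hμ x).trans ((congrArg _ this).trans (hμ y).symm)
    rw [mul_left_inj, mul_right_inj] at this
    exact Subtype.ext (Subtype.ext (Subtype.ext (hf this)))
  have h8 : d ≤ Fintype.card κ + a := by
    have := Nat.le_of_dvd (pow_pos hl.1.pos a) h4
    rw [Nat.card_fun, Nat.card_zmod, Nat.card_eq_fintype_card (α := κ)] at h7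
    rw [← hd] at h6
    exact (Nat.pow_le_pow_iff_right hl.1.one_lt).1
      (h6.trans ((Nat.mul_le_mul h7 this).trans (pow_add _ _ _).ge))
  have := ((pp d).mat (algebraMap (ZMod l') (AlgebraicClosure (ZMod l'))) h9 τ π h.even h.surj hτ).1
  omega

end H23.Sec
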