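import Cfsg.Agent.H23.Sec10

/-! Lifting fusion through kernels of coprime order; the Sylow 3-subgroup of A₁₈. -/

set_option autoImplicit false
set_option linter.unusedSectionVars false
set_option maxRecDepth 100000

namespace H23.Sec

open Equiv Equiv.Perm H23.Wag Module Subgroup

section grp
variable {G H : Type*} [Group G] [Finite G] [Group H] {l : ℕ} [hl : Fact l.Prime]

theorem pcl {ι : Type*} {y : ι → H} (hc : ∀ i j, Commute (y i) (y j)) (h1 : ∀ i, y i ^ l = 1) :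
    IsPGroup l (closure (Set.range y)) := by
  let E := closure (Set.range y)
  haveI : IsMulCommutative E := isMulCommutative_closure (by
    rintro _ ⟨i, rfl⟩ _ ⟨j, rfl⟩; exact hc i j)
  letI : CommGroup E := { E.toGroup with mul_comm := mul_comm' }
  rintro ⟨x, hx⟩
  refine ⟨1, (pow_one l).symm ▸ ?_⟩
  induction hx using closure_induction with
  | mem x hx => obtain ⟨i, rfl⟩ := hx; exact Subtype.ext (h1 i)
  | one => exact one_pow _
  | mul x y hx hy a b => exact (mul_pow (⟨x, hx⟩ : E) ⟨y, hy⟩ l).trans (by rw [a, b, one_mul])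
  | inv x hx a => exact (inv_pow (⟨x, hx⟩ : E) l).trans (by rw [a, inv_one])

theorem conj_fam (q : G →* H) (hk : (Nat.card q.ker).Coprime l) {T1 T2 : Subgroup G}
    (h1 : IsPGroup l T1) (h2 : IsPGroup l T2) {I : Type*} {x y : I → G} (hx : ∀ i, x i ∈ T1)
    (hy : ∀ i, y i ∈ T2) (e : ∀ i, q (x i) = q (y i)) : ∃ k, ∀ i, k * x i * k⁻¹ = y i := by
  let L := ((closure (Set.range x)).map q).comap q
  have m1 : ∀ i, x i ∈ closure (Set.range x) := fun i => subset_closure ⟨i, rfl⟩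
  obtain ⟨P1, a1⟩ := ((h1.to_le ((closure_le _).2 (Set.range_subset_iff.2 hx))).comap_subtype
    (K := L)).exists_le_sylow
  obtain ⟨P2, a2⟩ := (h2.comap_subtype (K := L)).exists_le_sylow
  obtain ⟨m, rfl⟩ := MulAction.exists_smul_eq L P1 P2
  obtain ⟨z, hz, e1⟩ := m.2
  have hz' : z ∈ L := ⟨z, hz, rfl⟩
  refine ⟨m * z⁻¹, fun i => ?_⟩
  have a3 : (⟨z, hz'⟩⁻¹ * ⟨x i, _, m1 i, rfl⟩ * ⟨z, hz'⟩ : L) ∈ P1 :=
    a1 (mul_mem (mul_mem (inv_mem hz) (m1 i)) hz)
  have a4 := mul_mem (inv_mem (a2 (show (⟨y i, _, m1 i, e i⟩ : L) ∈ _ from hy i)))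
    (smul_mem_pointwise_smul _ (MulAut.conj m) _ a3)
  obtain ⟨n, hn⟩ := (m • P1).2 ⟨_, a4⟩
  have a5 : ((y i)⁻¹ * (m * z⁻¹ * x i * (m * z⁻¹)⁻¹)) ^ l ^ n = 1 := by
    simpa [mul_assoc] using congrArg (fun t : ((m • P1 : Sylow l L) : Subgroup L) => ((t : L) : G)) hn
  have a6 := orderOf_dvd_natCard (⟨(y i)⁻¹ * (m * z⁻¹ * x i * (m * z⁻¹)⁻¹), by
    simp [MonoidHom.mem_ker, ← e1, e]⟩ : q.ker)
  rw [← Subgroup.orderOf_coe] at a6
  exact (inv_mul_eq_one.1 (orderOf_eq_one_iff.1 (Nat.eq_one_of_dvd_coprimes (hk.pow_right n) a6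
    (orderOf_dvd_of_pow_eq_one a5)))).symm

theorem fus (q : G →* H) (hq : Function.Surjective q) (hk : (Nat.card q.ker).Coprime l)
    (P : Subgroup H) (hP : IsPGroup l P) : ∃ s : P →* G, (∀ e, q (s e) = e) ∧
      ∀ (h : H) (I : Type) (x y : I → P), (∀ i, h * x i * h⁻¹ = y i) →
        ∃ g, ∀ i, g * s (x i) * g⁻¹ = s (y i) := by
  obtain ⟨s, h1, -⟩ := lift_E q hq hk P hP
  refine ⟨s, h1, fun h I x y e => ?_⟩
  obtain ⟨g, rfl⟩ := hq h
  have h2 := (hP.to_subgroup ⊤).map s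
  obtain ⟨k, hk⟩ := conj_fam q hk (h2.map (MulAut.conj g).toMonoidHom) h2
    (x := fun i => g * s (x i) * g⁻¹) (y := fun i => s (y i))
    (fun i => ⟨_, ⟨x i, trivial, rfl⟩, rfl⟩) (fun i => ⟨y i, trivial, rfl⟩) fun i => by simp [h1, e]
  exact ⟨k * g, fun i => by rw [← hk]; group⟩

/-- generators of the normaliser: permutation of the blocks -/
def σ6 : Fin 5 → Fin 6 → Fin 6 := ![![1, 0, 2, 3, 4, 5], ![1, 2, 3, 4, 5, 0], ![1, 2, 0, 3, 4, 5],
  ![0, 1, 2, 4, 5, 3], ![3, 4, 5, 0, 2, 1]]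
/-- generators of the normaliser: exponents -/
def n6 (k : Fin 5) (i : Fin 6) : ℕ := if k < 2 ∧ i = 0 then 2 else 1

/-- the relations in the normaliser of the base group -/
structure Cfg (Y : Fin 6 → H) (g : Fin 5 → H) (γ : H) : Prop where
  cm : ∀ i j, Commute (Y i) (Y j)
  p3 : ∀ i, Y i ^ 3 = 1
  ne : ∀ n : Fin 6, (((List.finRange 6).take (n + 1)).map Y).prod ≠ 1
  cj : ∀ k i, g k * Y i * (g k)⁻¹ = Y (σ6 k i) ^ n6 k i
  b3 : g 2 ^ 3 = 1
  c3 : g 3 ^ 3 = 1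
  bc : Commute (g 2) (g 3)
  d1 : g 4 * g 2 * (g 4)⁻¹ = g 3
  d2 : g 4 * g 3 * (g 4)⁻¹ = g 2 ^ 2
  e : ∀ i, γ * ![Y 0 * Y 2 * Y 1, Y 3, Y 4, Y 5] i * γ⁻¹ = ![g 2, Y 3, Y 4, Y 5] i

/-- twelve three-cycles -/
def T12 (i : Fin 12) : Perm (Fin 18) := (![[0, 1, 2], [3, 4, 5], [6, 7, 8], [9, 10, 11],
  [12, 13, 14], [15, 16, 17], [0, 3, 6], [1, 4, 7], [2, 5, 8], [9, 12, 15], [10, 13, 16],
  [11, 14, 17]] i).formPerm

/-- inverting elements -/
def S12 : Fin 12 → Perm (Fin 18) := ![swap 0 1 * swap 3 4, swap 0 1 * swap 3 4, swap 6 7 * swap 9 10,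
  swap 6 7 * swap 9 10, swap 12 13 * swap 15 16, swap 12 13 * swap 15 16, swap 0 3 * swap 1 4,
  swap 0 3 * swap 1 4, swap 2 5 * swap 9 12, swap 2 5 * swap 9 12, swap 10 13 * swap 11 14,
  swap 10 13 * swap 11 14]

/-- generators of the normaliser -/
def G6 : Fin 6 → Perm (Fin 18) := ![swap 0 3 * List.formPerm [1, 5, 2, 4],
  List.formPerm [0, 3, 6, 9, 12, 15] * List.formPerm [1, 5, 8, 11, 14, 17, 2, 4, 7, 10, 13, 16],
  T12 6 * T12 7 * T12 8, T12 9 * T12 10 * T12 11, swap 0 9 * swap 1 10 * swap 2 11 *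
    List.formPerm [3, 12, 6, 15] * List.formPerm [4, 13, 7, 16] * List.formPerm [5, 14, 8, 17],
  List.formPerm [1, 3, 2, 6] * List.formPerm [4, 5, 8, 7]]

theorem cfg {α : Type} [Fintype α] [DecidableEq α] {π : G →* Perm α} (h : Mn π)
    (hr : 18 ≤ Fintype.card α)
    (hc : ∀ Q : Subgroup G, Q.Normal → Q ≤ π.ker → IsPGroup 3 Q → Q ≤ center G) :
    ∃ (Y : Fin 6 → G) (g : Fin 5 → G) (γ : G), Cfg Y g γ := by
  obtain ⟨e⟩ : Nonempty (Fin 18 ↪ α) := Function.Embedding.nonempty_of_card_le (by simpa)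
  obtain ⟨Q, M, _, _, h1, h2, h3, h4, h5⟩ := h.split 3
  have hv := h.cv h2 (hc Q ‹_› h1 h3) (by rw [h5, sup_comm])
  have t0 : ∀ i, sign (T12 i) = 1 ∧ sign (S12 i) = 1 ∧ S12 i * T12 i * (S12 i)⁻¹ = (T12 i)⁻¹ ∧
    T12 i ^ 3 = 1 ∧ (T12 i).support.card = 3 := by decide +kernel
  choose y hy c using fun i => hv.canJ (l := 3) (by decide) e (t0 i).1 (t0 i).2.1 (t0 i).2.2.1
    (t0 i).2.2.2.1
  have rel : ∀ {g τ}, QuotientGroup.lift M π h2 g = J e τ → ∀ i j n, τ * T12 i * τ⁻¹ = T12 j ^ n →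
      g * y i * g⁻¹ = y j ^ n := fun hg i j n =>
    hv.conjJ Nat.prime_three (by decide) (by omega) (hy i) (c i) (hy j) (c j) hg (t0 i).2.2.2.2
  have cm : ∀ i j, T12 i * T12 j * (T12 i)⁻¹ = T12 j ^ 1 → Commute (y i) (y j) := fun i j e =>
    mul_inv_eq_iff_eq_mul.1 ((rel (hy i) _ _ _ e).trans (pow_one _))
  choose g hg using fun k => hv.surj (J e (G6 k))
    (by rw [J_sign]; revert k; decide +kernel)
  let b := ![y 6 * y 7 * y 8, y 9 * y 10 * y 11]
  have hb : ∀ k : Fin 2, QuotientGroup.lift M π h2 (b k) = J e (G6 (k.castLE (by decide) + 2)) :=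
    Fin.forall_fin_two.2 ⟨by simp [b, hy, G6], by simp [b, hy, G6]⟩
  have p3 : ∀ i j k, T12 i * T12 j * (T12 i)⁻¹ = T12 j ^ 1 ∧ T12 i * T12 k * (T12 i)⁻¹ = T12 k ^ 1 ∧
      T12 j * T12 k * (T12 j)⁻¹ = T12 k ^ 1 → ∀ n, (y i * y j * y k) ^ n = y i ^ n * y j ^ n * y k ^ n :=
    fun i j k e n => by
      rw [((cm _ _ e.2.1).mul_left (cm _ _ e.2.2)).mul_pow, (cm _ _ e.1).mul_pow]
  have cj3 : ∀ {g τ}, QuotientGroup.lift M π h2 g = J e τ → ∀ i j k i' j' k' n,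
      τ * T12 i * τ⁻¹ = T12 i' ^ n ∧ τ * T12 j * τ⁻¹ = T12 j' ^ n ∧ τ * T12 k * τ⁻¹ = T12 k' ^ n →
      g * (y i * y j * y k) * g⁻¹ = y i' ^ n * y j' ^ n * y k' ^ n := fun hg i j k i' j' k' n e => by
    rw [← rel hg _ _ _ e.1, ← rel hg _ _ _ e.2.1, ← rel hg _ _ _ e.2.2]; group
  have b1 : Commute (b 0) (b 1) := mul_inv_eq_iff_eq_mul.1 
    ((cj3 (hb 0) 9 10 11 9 10 11 1 (by decide +kernel)).trans (by simp only [pow_one]; rfl))
  have b2 : ∀ k, b k ^ 3 = 1 := Fin.forall_fin_two.2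
    ⟨(p3 6 7 8 (by decide +kernel) 3).trans (by simp [(c _).1]),
      (p3 9 10 11 (by decide +kernel) 3).trans (by simp [(c _).1])⟩
  let y' : Fin 6 → G ⧸ M := fun i => y (i.castLE (by decide))
  have t1 : ∀ (k : Fin 5) (i : Fin 6), G6 k.castSucc * T12 (i.castLE (by decide)) * (G6 k.castSucc)⁻¹ =
    T12 ((σ6 k i).castLE (by decide)) ^ n6 k i := by decide +kernel
  have b3 : ∀ k i, b k * y' i * (b k)⁻¹ = y' (σ6 (k.castLE (by decide) + 2) i) := fun k i =>
    (rel (hb k) _ _ 1 (by revert k i; decide +kernel)).trans (pow_one _)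
  have b4 : ∀ i j, Commute (y' i) (y' j) := fun i j => cm _ _ (by revert i j; decide +kernel)
  have hP := (pcl (l := 3) (y := b) (by
    simpa [Fin.forall_fin_two] using ⟨b1, b1.symm⟩) b2).to_sup_of_normal_right'
    (pcl (y := y') b4 fun i => (c _).1) ((closure_le _).2 (by
      rintro _ ⟨k, rfl⟩
      exact mem_normalizer_fintype fun x hx => (closure_le (K := (closure (Set.range y')).comap
        (MulAut.conj (b k)).toMonoidHom)).2 (by
          rintro _ ⟨i, rfl⟩; exact subset_closure ⟨_, (b3 k i).symm⟩) hx))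
  obtain ⟨s, s1, s2⟩ := fus (QuotientGroup.mk' M) (QuotientGroup.mk'_surjective _)
    (by rwa [QuotientGroup.ker_mk']) _ hP
  let Y : Fin 6 → ↥(closure (Set.range b) ⊔ closure (Set.range y')) := fun i =>
    ⟨y' i, mem_sup_right (subset_closure ⟨i, rfl⟩)⟩
  let B : Fin 2 → ↥(closure (Set.range b) ⊔ closure (Set.range y')) := fun i =>
    ⟨b i, mem_sup_left (subset_closure ⟨i, rfl⟩)⟩
  choose g' hg' using fun k : Fin 5 => s2 (g k.castSucc) _ Y (fun i => Y (σ6 k i) ^ n6 k i)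
    fun i => rel (hg _) _ _ _ (t1 k i)
  obtain ⟨δ, hδ⟩ := s2 (g 4) _ (Sum.elim Y B) (Sum.elim (fun i => Y (σ6 4 i)) ![B 1, B 0 ^ 2])
    (Sum.forall.2 ⟨fun i => (rel (hg 4) _ _ _ (t1 4 i)).trans (pow_one _), Fin.forall_fin_two.2
      ⟨(cj3 (hg 4) 6 7 8 9 10 11 1 (by decide +kernel)).trans (by simp only [pow_one]; rfl),
        (cj3 (hg 4) 9 10 11 6 7 8 2 (by decide +kernel)).trans
          (by rw [← p3 6 7 8 (by decide +kernel) 2]; rfl)⟩⟩)
  obtain ⟨γ, hγ⟩ := s2 (g 5) _ ![Y 0 * Y 2 * Y 1, Y 3, Y 4, Y 5] ![B 0, Y 3, Y 4, Y 5] fun i => by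
    fin_cases i
    · exact (cj3 (hg 5) 0 2 1 6 7 8 1 (by decide +kernel)).trans (by simp only [pow_one]; rfl)
    all_goals exact (rel (hg 5) _ _ 1 (by decide +kernel)).trans (pow_one _)
  refine ⟨fun i => s (Y i), ![g' 0, g' 1, s (B 0), s (B 1), δ], γ, fun i j => ?_, fun i => ?_,
    fun n e' => ?_, fun k i => ?_, ?_, ?_, ?_, hδ (.inr 0), (hδ (.inr 1)).trans (map_pow _ _ _),
    fun i => ?_⟩
  · exact Commute.map (show Commute (Y i) (Y j) from Subtype.ext (b4 i j)) s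
  · rw [← map_pow, ← map_one s]; exact congrArg s (Subtype.ext (c _).1)
  · have := congrArg π e'
    rw [map_list_prod, map_one, List.map_map, show (π ∘ fun i => s (Y i)) = J e ∘
      fun i : Fin 6 => T12 (i.castLE (by decide)) from funext fun i => (congrArg
        (QuotientGroup.lift M π h2) (s1 (Y i))).trans (hy _), ← List.map_map, ← map_list_prod, ← map_one (J e), (J_inj e).eq_iff] at this
    clear e'; revert this n; decide +kernel
  · fin_cases k
    exacts [(hg' 0 i).trans (map_pow _ _ _), (hg' 1 i).trans (map_pow _ _ _),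
      by simpa [← map_inv, ← map_mul, n6] using congrArg s (Subtype.ext (b3 0 i) :
        B 0 * Y i * (B 0)⁻¹ = Y _),
      by simpa [← map_inv, ← map_mul, n6] using congrArg s (Subtype.ext (b3 1 i) :
        B 1 * Y i * (B 1)⁻¹ = Y _), (hδ (.inl i)).trans (pow_one _).symm]
  · exact (map_pow s _ _).symm.trans ((congrArg s (Subtype.ext (b2 0))).trans (map_one s))
  · exact (map_pow s _ _).symm.trans ((congrArg s (Subtype.ext (b2 1))).trans (map_one s))
  · exact Commute.map (show Commute (B 0) (B 1) from Subtype.ext b1) s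
  · have := hγ i
    fin_cases i <;> simpa using this

end grp

section lin
variable {k V : Type*} [Field k] [IsAlgClosed k] [AddCommGroup V] [Module k V]
  [FiniteDimensional k V] {G : Type*} [Group G] (ρ : G →* End k V) {ι : Type} {l : ℕ} (ζ : k)

/-- weight spaces -/
def Vw (Y : ι → G) (w : ι → ZMod l) : Submodule k V := ⨅ i, (ρ (Y i)).eigenspace (ζ ^ (w i).val)

variable {ρ ζ} [hl : Fact l.Prime]

theorem mem_Vw {Y : ι → G} {w : ι → ZMod l} {v : V} :
    v ∈ Vw ρ ζ Y w ↔ ∀ i, ρ (Y i) v = ζ ^ (w i).val • v := by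
  simp [Vw]

theorem Vw_conj (hζ : ζ ^ l = 1) {Y Y' : ι → G} {g : G} {σ : ι → ι} {n : ι → ℕ}
    (h : ∀ i, g * Y i * g⁻¹ = Y' (σ i) ^ n i) {w : ι → ZMod l} {v : V} (hv : v ∈ Vw ρ ζ Y' w) :
    ρ g⁻¹ v ∈ Vw ρ ζ Y fun i => (n i : ZMod l) * w (σ i) :=
  mem_Vw.2 fun i => wt_conj hζ (h i) (mem_Vw.1 hv _)

theorem dim_conj (hζ : ζ ^ l = 1) {Y Y' : ι → G} {g : G} {σ : ι → ι} {n : ι → ℕ}
    (h : ∀ i, g * Y i * g⁻¹ = Y' (σ i) ^ n i) (w : ι → ZMod l) :
    finrank k (Vw ρ ζ Y' w) ≤ finrank k (Vw ρ ζ Y fun i => (n i : ZMod l) * w (σ i)) := by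
  rw [LinearEquiv.finrank_eq (Submodule.equivMapOfInjective (ρ g⁻¹) (ρ_inj _) _)]
  apply Submodule.finrank_mono
  rintro _ ⟨v, hv, rfl⟩
  exact Vw_conj hζ h hv

theorem Vw_list (hζ : ζ ^ l = 1) {Y : ι → G} {w : ι → ZMod l} {v : V} (hv : v ∈ Vw ρ ζ Y w)
    (L : List ι) : ρ (L.map Y).prod v = ζ ^ (L.map w).sum.val • v := by
  induction L with
  | nil => simp
  | cons i L ih =>
    rw [List.map_cons, List.prod_cons, map_mul, End.mul_apply, ih, map_smul, mem_Vw.1 hv, smul_smul,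
      ← pow_add, List.map_cons, List.sum_cons, ZMod.val_add, ← pow_eq_pow_mod _ hζ, add_comm]

theorem wdim [Fintype ι] [DecidableEq ι] (hζ : IsPrimitiveRoot ζ l) {Y : ι → G}
    (hc : ∀ i j, Commute (Y i) (Y j)) (h1 : ∀ i, Y i ^ l = 1) {I : Type} [Fintype I]
    (L : I → List ι) (χ : I → ZMod l) : finrank k (Vw ρ ζ (fun j => ((L j).map Y).prod) χ) =
      ∑ w with (fun j => ((L j).map w).sum) = χ, finrank k (Vw ρ ζ Y w) := by
  have h2 : ∀ i, ρ (Y i) ^ l = 1 := fun i => by rw [← map_pow, h1, map_one]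
  have h3 : ∀ i, (ρ (Y i)).IsSemisimple := fun i => End.isSemisimple_of_squarefree_aeval_eq_zero
    (Polynomial.separable_X_pow_sub_C (1 : k) (hζ.neZero' (R := k)).ne one_ne_zero).squarefree
    (by simp [h2])
  have h4 := End.iSup_iInf_maxGenEigenspace_eq_top_of_iSup_maxGenEigenspace_eq_top_of_commute
    (fun i => ρ (Y i)) (fun i j _ => (hc i j).map ρ) fun i => End.iSup_maxGenEigenspace_eq_top _
  simp only [(h3 _).isFinitelySemisimple.maxGenEigenspace_eq_eigenspace] at h4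
  rw [Submodule.iSup_eq_span] at h4
  obtain ⟨s, a1, a2, a3⟩ := exists_linearIndependent k (⋃ χ : ι → k,
    ((⨅ i, (ρ (Y i)).eigenspace (χ i) : Submodule k V) : Set V))
  let b := Basis.mk a3 (by rw [Subtype.range_coe_subtype, Set.ofPred_mem_eq, a2, h4])
  haveI : Fintype s := a3.setFinite.fintype
  have h5 : ∀ x : s, ∃ w : ι → ZMod l, ∀ i, ρ (Y i) (b x) = ζ ^ (w i).val • b x := fun x => by
    obtain ⟨χ, hχ⟩ := Set.mem_iUnion.1 (a1 x.2)
    have hχ' : ∀ i, ρ (Y i) (b x) = χ i • b x := fun i => by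
      rw [Basis.mk_apply]; exact End.mem_eigenspace_iff.1 ((Submodule.mem_iInf _).1 hχ i)
    choose w hw using fun i => root_val hζ (eig_root (b.ne_zero x) (hχ' i) (h2 i))
    exact ⟨w, fun i => hw i ▸ hχ' i⟩
  choose w hw using h5
  have h6 : ∀ {J : Type} [Fintype J] (y : J → G) (φ : s → J → ZMod l), (∀ x j, ρ (y j) (b x) =
      ζ ^ (φ x j).val • b x) → ∀ χ, finrank k (Vw ρ ζ y χ) =
        (Finset.univ.filter fun x => φ x = χ).card := fun y φ h χ => by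
    rw [Vw, diag_dim b _ _ h, ← Set.ncard_coe_finset]
    congr 1; ext x
    simp only [Set.mem_ofPred_eq, Finset.coe_filter, Finset.mem_univ, true_and, funext_iff]
    exact forall_congr' fun i => ⟨val_inj' hζ, fun e => by rw [e]⟩
  rw [h6 _ (fun x j => ((L j).map (w x)).sum) fun x j => Vw_list hζ.pow_eq_one (mem_Vw.2 (hw x)) _]
  simp only [h6 Y w hw]
  rw [Finset.sum_card_fiberwise_eq_card_filter]
  simp

/-- an element of order four -/
def f4 (w : Fin 2 → ZMod 3) (i : Fin 2) : ZMod 3 := ((![1, 2] i : ℕ) : ZMod 3) * w (![1, 0] i)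

theorem fixv {ζ : k} (hζ : IsPrimitiveRoot ζ 3) {b b' d : G} (h1 : b ^ 3 = 1) (h2 : b' ^ 3 = 1)
    (hc : Commute b b') (e1 : d * b * d⁻¹ = b' ^ 1) (e2 : d * b' * d⁻¹ = b ^ 2) {W : Submodule k V}
    (h0 : W ≠ ⊥) (h3 : finrank k W ≤ 3) (i1 : ∀ v ∈ W, ρ b v ∈ W) (i2 : ∀ v ∈ W, ρ b' v ∈ W)
    (i3 : ∀ v ∈ W, ρ d⁻¹ v ∈ W) : ∃ v ∈ W, v ≠ 0 ∧ ρ b v = v := by
  obtain ⟨v, hv, hv0, χ, hχ⟩ := ex_joint (fun i => ρ (![b, b'] i)) (by
    simpa [Fin.forall_fin_two, ← map_mul] using ⟨congrArg ρ hc, congrArg ρ hc.symm⟩) W h0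
    (Fin.forall_fin_two.2 ⟨i1, i2⟩)
  choose w hw using fun i => root_val hζ (eig_root hv0 (hχ i) (n := 3) (by
    rw [← map_pow]; fin_cases i <;> simp [h1, h2]))
  refine ⟨v, hv, hv0, by_contra fun h => ?_⟩
  have a1 : ∀ n, ∃ v ∈ W, v ≠ 0 ∧ v ∈ Vw ρ ζ ![b, b'] (f4^[n] w) := fun n => by
    induction n with
    | zero => exact ⟨v, hv, hv0, mem_Vw.2 fun i => hw i ▸ hχ i⟩
    | succ n ih =>
      obtain ⟨v, a, a0, a'⟩ := ih
      rw [Function.iterate_succ_apply']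
      exact ⟨_, i3 v a, ρ_ne _ a0, Vw_conj hζ.pow_eq_one (Fin.forall_fin_two.2 ⟨e1, e2⟩) a'⟩
  have a2 := wt_card_sub (fun i => ρ (![b, b'] i)) (fun (n : Fin 4) i => ζ ^ (f4^[n] w i).val)
    (fun n m e => (by decide +kernel : ∀ w : Fin 2 → ZMod 3, w 0 ≠ 0 → ∀ n m : Fin 4,
      f4^[n] w = f4^[m] w → n = m) w
      (fun e => h (by simpa [hw, e] using hχ 0)) n m (funext fun i => val_inj' hζ (congrFun e i))) W
    fun n => by simpa only [mem_Vw] using a1 n
  simp at a2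
  omega

theorem three {f : End k V} {a b c : k} (hab : a ≠ b) (hac : a ≠ c) (hbc : b ≠ c) (F : Submodule k V) :
    finrank k ↥(F ⊓ f.eigenspace a) + finrank k ↥(F ⊓ f.eigenspace b) +
      finrank k ↥(F ⊓ f.eigenspace c) ≤ finrank k F := by
  refine (Nat.add_le_add_right (dsum (eig_disj hab inf_le_right inf_le_right) le_sup_left le_sup_right)
    _).trans (dsum (Disjoint.eq_bot ((f.eigenspaces_iSupIndep.disjoint_biSup (x := c) (y := {a, b})
      (by simp [hac.symm, hbc.symm])).symm.mono ?_ inf_le_right)) (by simp) inf_le_left)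
  rw [iSup_insert, iSup_singleton]
  exact sup_le_sup inf_le_right inf_le_right

/-- distances to the representatives -/
def T6 : ℕ := 0x65876797976987889876988aabb769878a9a87a9899a998a9aa9b965776986a87997aa8a656778755769878a8a87a9899a987a99bbcb87a989bab98ba9aabaa9babbaca76887a97b98aa8cb9b76788986665876887976a879a9976888a97776887a97b87a98ab9a76788986665776876787987a98865677765554665875a65876997a54566764465776986c76987aa8b6567787555466587566567687555456676444345465335456576444345445333224333222113032445456336456577698665456776446557776667678788898789899aa87899997765776986b989a7aa8c656778755767878866989989a8877787777767878798a789898998899999aa4789898a9a89a9a9aa9ababaaab57888989969aa9a9ba58869a778476987998387b98aba48759946538929a3342211303244a95bb364576887987698a98ba947658876666797878837898989947758946538929a3342211303244995ab3645682783342211303244211303200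

/-- the number of nonzero coordinates -/
def ty6 (w : Fin 6 → ZMod 3) : Fin 7 := ∑ i, if w i = 0 then 0 else 1

/-- the distance to the representative -/
def rk6 (w : Fin 6 → ZMod 3) : ℕ := dg T6 ((w 0).val + 3 * (w 1).val + 9 * (w 2).val +
  27 * (w 3).val + 81 * (w 4).val + 243 * (w 5).val)

theorem orb6 : ∀ w : Fin 6 → ZMod 3, (w = fun i => if i.val < (ty6 w).val then 1 else 0) ∨ ∃ k : Fin 2,
    rk6 (fun i => n6 (k.castLE (by decide)) i * w (σ6 (k.castLE (by decide)) i)) < rk6 w ∧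
    ty6 (fun i => n6 (k.castLE (by decide)) i * w (σ6 (k.castLE (by decide)) i)) = ty6 w := by
  decide +kernel

/-- numbers of weights with given value -/
def E6 : Fin 6 → Fin 7 → ℕ := ![![0, 1, 10, 40, 80, 80, 32], ![0, 2, 17, 56, 88, 64, 16],
  ![0, 3, 21, 57, 78, 60, 24], ![0, 4, 22, 52, 77, 68, 20], ![0, 5, 20, 50, 85, 61, 22],
  ![0, 6, 15, 60, 75, 66, 21]]

theorem sol6 : ∀ (a : Fin 21) (b : Fin 5) (c d e : Fin 2) (f : Fin 4),
    12 * a.val + 60 * b + 160 * c + 240 * d + 192 * e + 64 * f ≤ 248 → (∀ n : Fin 6, E6 n 1 * a +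
      E6 n 2 * b + E6 n 3 * c + E6 n 4 * d + E6 n 5 * e + E6 n 6 * f ∈ [84, 81, 78, 57]) →
    c.val = 0 ∧ e.val = 0 ∧ f.val = 2 := by
  decide +kernel

theorem noCfg {ζ : k} (hζ : IsPrimitiveRoot ζ 3) (hd : finrank k V = 248) (hcl : ∀ s : G, s ^ 3 = 1 →
    s ≠ 1 → finrank k ((ρ s).eigenspace ζ) ∈ [84, 81, 78, 57]) {Y : Fin 6 → G} {g : Fin 5 → G}
    {γ : G} (h : Cfg Y g γ) : False := by
  have hz := hζ.pow_eq_one
  let c := fun w : Fin 6 → ZMod 3 => finrank k (Vw ρ ζ Y w)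
  have b1 : ∀ j w, c (fun i => n6 j i * w (σ6 j i)) = c w := fun j w =>
    ((Finset.sum_eq_sum_iff_of_le (s := Finset.univ) (f := c) (g := fun w => c fun i =>
      n6 j i * w (σ6 j i)) fun w _ => dim_conj hz (h.cj j) w).1 (Equiv.sum_comp (Equiv.ofBijective
      (fun (w : Fin 6 → ZMod 3) i => (n6 j i : ZMod 3) * w (σ6 j i)) (Finite.injective_iff_bijective.1
        fun w w' e => funext fun i => by
          obtain ⟨i, rfl⟩ := (by decide : ∀ j, Function.Surjective (σ6 j)) j i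
          exact mul_left_cancel₀ ((by decide : ∀ j i, (n6 j i : ZMod 3) ≠ 0) j i) (congrFun e i)))
        c).symm w (Finset.mem_univ _)).symm
  let m := fun t : Fin 7 => c fun i => if i.val < t.val then 1 else 0
  have b3 : ∀ w, c w = m (ty6 w) := fun w => by
    induction w using (measure rk6).wf.induction with | _ w ih =>
    obtain e | ⟨k, c1, c2⟩ := orb6 w
    · exact congrArg c e
    rw [← b1 _ w, ih _ c1, c2]
  have key : ∀ {I : Type} [Fintype I] (L : I → List (Fin 6)) (χ : I → ZMod 3) (d : Fin 7 → ℕ),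
      (∀ t, ((Finset.univ.filter fun w => (fun j => ((L j).map w).sum) = χ).filter
        fun w => ty6 w = t).card = d t) →
      finrank k (Vw ρ ζ (fun j => ((L j).map Y).prod) χ) = ∑ t, d t * m t := fun L χ d hd => by
    rw [wdim hζ h.cm h.p3]
    exact (sum_ty (c := c) ty6 (fun t i => if i.val < t.val then 1 else 0) b3 _).trans
      (Finset.sum_congr rfl fun t _ => congrArg (· * m t) (hd t))
  have a1 := key (I := Fin 0) ![] ![] ![1, 12, 60, 160, 240, 192, 64] (by decide +kernel)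
  rw [Vw, iInf_of_empty, finrank_top, hd] at a1
  simp [Fin.sum_univ_seven] at a1
  obtain ⟨a2, a3, a4⟩ := sol6 ⟨m 1, by omega⟩ ⟨m 2, by omega⟩ ⟨m 3, by omega⟩ ⟨m 4, by omega⟩
    ⟨m 5, by omega⟩ ⟨m 6, by omega⟩ (by simp only; omega) fun n => by
      have := key (fun _ : Unit => (List.finRange 6).take (n + 1)) (fun _ => 1) (E6 n)
        (by revert n; decide +kernel)
      rw [Vw, iInf_const, ZMod.val_one, pow_one, Fin.sum_univ_seven,
        (by decide : ∀ n, E6 n 0 = 0), zero_mul, zero_add] at this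
      refine this ▸ hcl _ ?_ (h.ne n)
      generalize (List.finRange 6).take (n + 1) = L
      induction L with
      | nil => simp
      | cons i L ih => rw [List.map_cons, List.prod_cons, (Commute.list_prod_right _ _ (by
          simpa using fun j _ => h.cm i j)).mul_pow, h.p3, ih, one_mul]
  have a5 := key ![[0, 2, 1], [3], [4], [5]] ![0, 1, 1, 1] ![0, 0, 0, 1, 0, 6, 2] (by decide +kernel)
  rw [show (fun j => _) = ![Y 0 * Y 2 * Y 1, Y 3, Y 4, Y 5] from funext fun j => by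
    fin_cases j <;> simp [mul_assoc]] at a5
  have a6 := dim_conj (ρ := ρ) hz (σ := id) (n := 1) (fun i => (h.e i).trans (pow_one _).symm)
    ![0, 1, 1, 1]
  rw [show (fun i => _ * _) = ![(0 : ZMod 3), 1, 1, 1] by decide] at a6
  simp [Fin.sum_univ_seven] at a2 a3 a4 a5
  have hv : ∀ i j : ZMod 3, i ≠ j → ζ ^ i.val ≠ ζ ^ j.val := fun i j e e' => e (val_inj' hζ e')
  have a7 := three (f := ρ (List.map Y [0, 2, 1]).prod) (hv 0 1 (by decide)) (hv 0 2 (by decide))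
    (hv 1 2 (by decide)) (Vw ρ ζ ![g 2, Y 3, Y 4, Y 5] ![(0 : ZMod 3), 1, 1, 1])
  have hF : ∀ u, ρ (g 2) u = u →
      (∀ i : Fin 6, 3 ≤ i → ρ (Y i) u = ζ • u) → u ∈ Vw ρ ζ ![g 2, Y 3, Y 4, Y 5]
        ![(0 : ZMod 3), 1, 1, 1] := fun u a b => mem_Vw.2 fun i => by
    fin_cases i <;> simp [a, b, ZMod.val_one]
  have hβ : ∀ (x y z : ZMod 3) v, v ∈ Vw ρ ζ Y ![x, y, z, 1, 1, 1] →
      ρ (g 2)⁻¹ v ∈ Vw ρ ζ Y ![y, z, x, 1, 1, 1] := fun x y z v hv => by
    convert Vw_conj hz (h.cj 2) hv using 2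
    funext i; fin_cases i <;> simp [n6, σ6]
  have hN : ∀ x y : ZMod 3, x ≠ y → c ![x, y, y, 1, 1, 1] ≤ finrank k ↥(Vw ρ ζ ![g 2, Y 3, Y 4, Y 5]
      ![(0 : ZMod 3), 1, 1, 1] ⊓ (ρ (List.map Y [0, 2, 1]).prod).eigenspace (ζ ^ (x + y + y).val)) :=
    fun x y hxy => by
      refine (rk_le (A := ⊥) (1 + ρ (g 2)⁻¹ + ρ (g 2)⁻¹ * ρ (g 2)⁻¹) (fun v h1 e => ?_)
        fun v h1 => ?_).trans ((congrArg (· + _) (finrank_bot k V)).trans (zero_add _)).le <;> have h2 := hβ _ _ _ _ h1 <;> have h3 := hβ _ _ _ _ h2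
      · have := congrArg (ρ (Y 0)) e
        simp only [LinearMap.add_apply, End.one_apply, End.mul_apply, map_add, mem_Vw.1 h1,
          mem_Vw.1 h2, mem_Vw.1 h3, map_zero, Matrix.cons_val_zero] at this e
        refine (smul_eq_zero.1 (?_ : (ζ ^ x.val - ζ ^ y.val) • v = 0)).resolve_left
          (sub_ne_zero.2 (hv _ _ hxy))
        linear_combination (norm := module) this - ζ ^ y.val • e
      · refine ⟨hF _ ?_ fun i hi => ?_, End.mem_eigenspace_iff.2 ?_⟩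
        · have : ρ (g 2) = ρ (g 2)⁻¹ * ρ (g 2)⁻¹ := by
            rw [← map_mul, ← mul_inv_rev, inv_eq_of_mul_eq_one_right (by rw [← h.b3, pow_three'])]
          simp only [LinearMap.add_apply, End.one_apply, End.mul_apply, map_add, ρ_cancel]
          rw [this, End.mul_apply]; abel
        · simp only [LinearMap.add_apply, End.one_apply, End.mul_apply, map_add, mem_Vw.1 h1,
            mem_Vw.1 h2, mem_Vw.1 h3, smul_add]
          fin_cases i <;> simp [ZMod.val_one] at hi ⊢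
        · simp only [LinearMap.add_apply, End.one_apply, End.mul_apply, map_add, Vw_list hz h1,
            Vw_list hz h2, Vw_list hz h3, smul_add]
          simp [add_assoc, add_comm, add_left_comm]
  have hW : ∀ j : Fin 5, 2 ≤ j → ∀ v ∈ Vw ρ ζ Y ![(1 : ZMod 3), 1, 1, 1, 1, 1],
      ρ (g j)⁻¹ v ∈ Vw ρ ζ Y ![(1 : ZMod 3), 1, 1, 1, 1, 1] := fun j hj v hv => by
    convert Vw_conj hz (h.cj j) hv using 2
    revert j; decide
  have a8 : finrank k (Vw ρ ζ Y ![(1 : ZMod 3), 1, 1, 1, 1, 1]) = 2 := (b3 _).trans a4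
  obtain ⟨v, h1, h2, h3⟩ := fixv (ρ := ρ) hζ (b := (g 2)⁻¹) (b' := (g 3)⁻¹) (d := g 4)
    (by rw [inv_pow, h.b3, inv_one]) (by rw [inv_pow, h.c3, inv_one]) h.bc.inv_inv
    (by rw [pow_one, ← h.d1]; group) (by rw [inv_pow, ← h.d2]; group)
    (fun e => by rw [e, finrank_bot] at a8; omega) (by omega) (hW 2 le_rfl) (hW 3 (by decide)) (hW 4 (by decide))
  have a9 : 1 ≤ finrank k ↥(Vw ρ ζ ![g 2, Y 3, Y 4, Y 5] ![(0 : ZMod 3), 1, 1, 1] ⊓
      (ρ (List.map Y [0, 2, 1]).prod).eigenspace (ζ ^ (0 : ZMod 3).val)) :=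
    Submodule.one_le_finrank_iff.2 ((Submodule.ne_bot_iff _).2 ⟨v, ⟨hF _ (by
      rw [← h3, ρ_cancel, h3]) fun i hi => by
        rw [mem_Vw.1 h1]; fin_cases i <;> simp [ZMod.val_one], End.mem_eigenspace_iff.2
          (Vw_list hz h1 _)⟩, h2⟩)
  have b5 := hN 2 1 (by decide)
  have b6 := hN 1 2 (by decide)
  rw [b3, show ty6 _ = 6 by decide] at b5 b6
  change _ ≤ finrank k ↥(_ ⊓ End.eigenspace _ (ζ ^ (1 : ZMod 3).val)) at b5
  change _ ≤ finrank k ↥(_ ⊓ End.eigenspace _ (ζ ^ (2 : ZMod 3).val)) at b6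
  omega

end lin

end H23.Sec
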