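import Cfsg.Agent.H23.Sec1
import Cfsg.Agent.H14.Semi6
import Cfsg.Agent.H14.Poin

/-! Semisimple elements: simultaneous conjugacy, toral subgroups of small index, alcoves. -/

set_option autoImplicit false
set_option linter.unusedSectionVars false

namespace H23.Sec

open H14 H14.RootSys H14.PreSt H14.St Matrix

variable {ι κ : Type*} [Fintype κ] [DecidableEq κ] [Fintype ι] [DecidableEq ι] {R : RootSys ι κ}
  {C : Chev R} {K G : Type*} [Field K] [Group G] {S : St C K G}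

theorem chi_eq (hS : S.Sep) (hh : S.HMul) {c c' : κ → Kˣ} (e : hh.tor c = hh.tor c') (r : ι) :
    R.chi c r = R.chi c' r := by
  have h1 := hh.tor_conj c r 1
  rw [e, hh.tor_conj, eq_comm] at h1
  exact Units.ext (mul_right_cancel₀ one_ne_zero (hS.x_inj h1))

theorem simN (hS : S.Sep) (hG : S.U Set.univ = ⊤) (hh : S.HMul) (g : G) :
    ∃ n w, (n, w) ∈ S.NW ∧ ∀ k1 ∈ S.H, ∀ k2 ∈ S.H, g * k1 * g⁻¹ = k2 → n * k1 * n⁻¹ = k2 := by
  obtain ⟨w, h⟩ := exists_cell (hG.ge (Subgroup.mem_top g))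
  obtain ⟨n, hn⟩ := exists_NW_of_W (S := S.toPreSt) h.mem_W
  refine ⟨n, w, hn, fun k1 h1 k2 h2 e => ?_⟩
  obtain ⟨b, hb, u, hu, rfl⟩ := h.canonical hn
  have h3 := N_conj_mem_H (NW.mem_N hn) h1
  have h4 := (canonical_unique hS hn (mul_mem hb (H_le_B h3)) (mul_mem (H_le_B h2) hb)
    (H_conj_mem_U (inv_mem h1) hu) hu (by rw [← e]; group)).1
  obtain ⟨v, hv, k, hk, rfl⟩ := mem_B_iff.1 hb
  have h5 := hS.eq_one_of_mem_H (mul_mem (inv_mem hv) (H_conj_mem_U h2 hv)) (by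
    have : v⁻¹ * (k2 * v * k2⁻¹) = k * (n * k1 * n⁻¹) * k⁻¹ * k2⁻¹ := by
      rw [inv_mul_eq_iff_eq_mul, ← mul_assoc, ← mul_assoc, ← mul_assoc, h4]; group
    rw [this]; exact mul_mem (mul_mem (mul_mem hk h3) (inv_mem hk)) (inv_mem h2))
  have h6 : k2 * v = v * k2 := by
    rw [inv_mul_eq_one, eq_mul_inv_iff_mul_eq] at h5; exact h5.symm
  rw [← mul_assoc k2, h6, mul_assoc v, mul_assoc v, mul_right_inj, hh.comm _ hk _ h3] at h4
  exact mul_right_cancel h4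

theorem simW (hS : S.Sep) (hG : S.U Set.univ = ⊤) (hh : S.HMul) (g : G) :
    ∃ w ∈ R.W, ∀ c c', g * hh.tor c * g⁻¹ = hh.tor c' → ∀ r, R.chi c' (w r) = R.chi c r := by
  obtain ⟨n, w, hn, h⟩ := simN hS hG hh g
  refine ⟨w, NW.mem_W hn, fun c c' e r => ?_⟩
  have := h _ (hh.range_tor.le ⟨c, rfl⟩) _ (hh.range_tor.le ⟨c', rfl⟩) e
  rw [hh.conj_tor hn] at this
  rw [← chi_eq hS hh this, chi_cm (R.W_le_Aut (NW.mem_W hn))]

theorem tw_chi (T : S.Tw) (hh : S.HMul) {c c' : κ → Kˣ} (e : T.σ (hh.tor c) = hh.tor c') (r : ι) :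
    (R.chi c' (T.ρ r) : Kˣ) * T.f r 1 = T.f r (R.chi c r : Kˣ) := by
  have h1 := congrArg T.σ (hh.tor_conj c r 1)
  rw [map_mul, map_mul, map_inv, e, T.σ_x, T.σ_x, hh.tor_conj, mul_one] at h1
  exact T.sep.x_inj h1

theorem tw_chi' (T : S.Tw) (hh : S.HMul) {c c' : κ → Kˣ} (e : T.σ (hh.tor c) = hh.tor c') (r : ι) :
    R.chi c' (T.ρ r) = 1 ↔ R.chi c r = 1 := by
  have h1 := tw_chi T hh e r
  refine ⟨fun h => ?_, fun h => ?_⟩
  · rw [h, Units.val_one, one_mul] at h1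
    exact Units.ext (T.f_inj h1).symm
  · rw [h, Units.val_one, mul_eq_right₀ (T.f_ne one_ne_zero)] at h1
    exact Units.ext h1

theorem tor_idx {p : ℕ} [hp : Fact p.Prime] [CharP K p] (h : S.Alg p) [IsAlgClosed K] {l a : ℕ}
    [hl : Fact l.Prime] (hlp : l ≠ p) (hW : ¬ l ^ (a + 1) ∣ R.poin 1 Set.univ 1) {P : Type*}
    [Group P] [Finite P] (hP : IsPGroup l P) (f : P →* G) :
    ∃ g, ∃ P0 : Subgroup P, P0.index ∣ l ^ a ∧ ∀ x ∈ P0, g⁻¹ * f x * g ∈ S.H := by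
  haveI := Fintype.ofFinite P
  choose n hn h1 using fun x : P => h.exists_fix (f x)
  have h6 : 0 < (∏ x, n x) * (l - 1) * l ^ a := by
    have := hl.out.two_le; have : 0 < l - 1 := by omega
    have := Finset.prod_pos (s := Finset.univ) fun x _ => hn x
    positivity
  have h9 : p ^ ((∏ x, n x) * (l - 1) * l ^ a) ≡ 1 [MOD l ^ (a + 1)] := by
    have := dvd_sub_pow_of_dvd_sub (R := ℤ) (Nat.modEq_iff_dvd.1 ((Nat.ModEq.pow_totient
      ((Nat.coprime_primes hp.1 hl.1).2 hlp.symm)).pow (∏ x, n x))) a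
    rw [Nat.modEq_iff_dvd]
    simpa [Nat.totient_prime hl.1, ← pow_mul, mul_comm (l - 1)] using this
  have h2 : ∀ x, f x ∈ (h.tw ((∏ x, n x) * (l - 1) * l ^ a)).fix := fun x =>
    h.fix_le (((Finset.dvd_prod_of_mem _ (Finset.mem_univ x)).mul_right _).mul_right _) (h1 x)
  generalize (∏ x, n x) * (l - 1) * l ^ a = m at h6 h9 h2
  have e0 : {r | R.chi (1 : κ → Kˣ) r = 1} = Set.univ := by simp [chi]
  have e1 : R.WA Set.univ = R.W := le_antisymm (WA_le_W _) ((Subgroup.closure_le _).2 (by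
    rintro _ ⟨j, -, rfl⟩; exact refl_mem_WA trivial))
  have h8 := h.card_cent h6 (c := 1) fun n w hn _ => by rw [e0, e1]; exact NW.mem_W hn
  have := h.finite_H h6
  rw [map_one, e0, show Subgroup.centralizer {(1 : G)} = ⊤ by simp [Subgroup.centralizer_eq_top_iff_subset],
    top_inf_eq, ← Subgroup.card_mul_index (S.H.subgroupOf _), ← Subgroup.inf_subgroupOf_right,
    Nat.card_congr (Subgroup.subgroupOfEquivOfLe inf_le_right).toEquiv,
    mul_right_inj' Nat.card_pos.ne', Subgroup.inf_subgroupOf_right] at h8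
  have h10 : ¬ l ^ (a + 1) ∣ (S.H.subgroupOf (h.tw m).fix).index := fun h7 => by
    have := (Nat.ModEq.dvd_iff ((h9.pow _).mul (poinA_modEq _ h9)) dvd_rfl).1 (h7.trans h8.dvd)
    rw [one_pow, one_mul, e1] at this
    exact hW (R.card_WJ Set.univ ▸ this)
  let X := (h.tw m).fix ⧸ S.H.subgroupOf (h.tw m).fix
  letI : MulAction P X := MulAction.compHom X (f.codRestrict _ h2)
  haveI : Finite X := Nat.finite_of_card_ne_zero fun e => h10 (by
    rw [show (S.H.subgroupOf (h.tw m).fix).index = 0 from e]; exact dvd_zero _)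
  obtain ⟨x, hx⟩ : ∃ x : X, ¬ l ^ (a + 1) ∣ (MulAction.stabilizer P x).index := by
    by_contra! hc
    refine h10 ?_
    change _ ∣ Nat.card X
    haveI := Fintype.ofFinite (MulAction.orbitRel.Quotient P X)
    rw [Nat.card_congr (MulAction.selfEquivSigmaOrbits P X), Nat.card_sigma]
    refine Finset.dvd_sum fun ω _ => ?_
    have := hc ω.out
    rwa [MulAction.index_stabilizer, ← Nat.card_coe_set_eq] at this
  induction x using QuotientGroup.induction_on with | _ g => ?_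
  refine ⟨g, MulAction.stabilizer P (g : X), ?_, fun x hx => ?_⟩
  · obtain ⟨k, hk⟩ := hP.index (MulAction.stabilizer P (g : X))
    rw [hk] at hx ⊢
    exact pow_dvd_pow _ (by by_contra hc; exact hx (pow_dvd_pow _ (by omega)))
  · have : ((f.codRestrict _ h2 x * g : (h.tw m).fix) : X) = g := hx
    rw [eq_comm, QuotientGroup.eq, Subgroup.mem_subgroupOf] at this
    simpa [mul_assoc] using this

theorem tor_comm {p : ℕ} [hp : Fact p.Prime] [CharP K p] (h : S.Alg p) [IsAlgClosed K] {l : ℕ}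
    [hl : Fact l.Prime] (hlp : l ≠ p) (hW : ¬ l ∣ R.poin 1 Set.univ 1) {X : Type*}
    [Group X] [Finite X] {f : X →* G} (hf : Function.Injective f) :
    (∀ P : Subgroup X, IsPGroup l P → ∀ a ∈ P, ∀ b ∈ P, a * b = b * a) ∧
      ∀ x : X, x ^ l = 1 → ∃ g, g⁻¹ * f x * g ∈ S.H := by
  have key : ∀ P : Subgroup X, IsPGroup l P → ∃ g, ∀ a ∈ P, g⁻¹ * f a * g ∈ S.H := fun P hP => by
    obtain ⟨g, P0, h1, h2⟩ := tor_idx h (a := 0) hlp (by simpa using hW) hP (f.comp P.subtype)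
    rw [pow_zero, Nat.dvd_one, Subgroup.index_eq_one] at h1
    exact ⟨g, fun a ha => h2 ⟨a, ha⟩ (h1 ▸ Subgroup.mem_top _)⟩
  refine ⟨fun P hP a ha b hb => hf ?_, fun x hx => ?_⟩
  · obtain ⟨g, hg⟩ := key P hP
    have := h.hmul.comm _ (hg a ha) _ (hg b hb)
    rw [map_mul, map_mul]
    calc _ = g * (g⁻¹ * f a * g * (g⁻¹ * f b * g)) * g⁻¹ := by group
      _ = _ := by rw [this]; group
  · obtain ⟨g, hg⟩ := key (Subgroup.zpowers x) (by
      rintro ⟨_, k, rfl⟩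
      refine ⟨1, Subtype.ext ?_⟩
      change (x ^ k) ^ l ^ 1 = 1
      rw [pow_one, ← zpow_natCast, zpow_comm, zpow_natCast, hx, _root_.one_zpow])
    exact ⟨g, hg x (Subgroup.mem_zpowers x)⟩

theorem ex_nu (hh : S.HMul) {e l : ℕ} (he : ∀ c, hh.tor c = 1 → c ^ e = 1) (hc : e.Coprime l)
    {z : Kˣ} (hz : orderOf z = l) (hl : 0 < l) {k : G} (hk : k ∈ S.H) (hs : k ^ l = 1) :
    ∃ μ : κ → ℤ, k = hh.tor fun i => z ^ μ i := by
  obtain ⟨c, rfl⟩ := hh.exists_tor hk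
  obtain ⟨m, hm⟩ := Nat.exists_mul_mod_eq_of_coprime 1 hc hl.ne' |>.imp fun _ => And.right
  have h1 : hh.tor c = hh.tor (c ^ (e * m)) := by
    rw [map_pow, pow_eq_pow_mod _ hs, hm, ← pow_eq_pow_mod _ hs, pow_one]
  have h5 : (c ^ (e * m)) ^ orderOf z = 1 := by
    rw [hz, ← pow_mul, mul_comm, pow_mul, pow_mul, he _ (by rw [map_pow, hs]), one_pow]
  have := NeZero.mk (hz ▸ hl.ne' : orderOf z ≠ 0)
  choose μ hμ using fun i => (IsPrimitiveRoot.orderOf z).zpowers_eq.ge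
    (show (c ^ (e * m)) i ∈ rootsOfUnity _ _ from congrFun h5 i)
  exact ⟨μ, h1.trans (congrArg _ (funext fun i => (hμ i).symm))⟩

theorem alc (hh : S.HMul) {e l : ℕ} (he : ∀ c, hh.tor c = 1 → c ^ e = 1) (hc : e.Coprime l)
    {z : Kˣ} (hz : orderOf z = l) (hl : 0 < l) {s g : G} (hk : g⁻¹ * s * g ∈ S.H) (hs : s ^ l = 1) :
    ∃ g, ∃ ν : κ → ℤ, (∀ i, 0 ≤ ν ⬝ᵥ R.wt (R.simple i)) ∧ (∀ r, ν ⬝ᵥ R.wt r ≤ l) ∧
      s = g * hh.tor (fun i => z ^ ν i) * g⁻¹ := by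
  obtain ⟨μ, hμ⟩ := ex_nu hh he hc hz hl hk (by simpa [hs] using conj_pow (a := g⁻¹) (b := s) (i := l))
  obtain ⟨n, -, ν, h1, h2, h3⟩ := hh.exists_alcove hl (hz ▸ pow_orderOf_eq_one z) μ
  exact ⟨g * n⁻¹, ν, h2, h3, by rw [← h1, ← hμ]; group⟩

/-- enumeration of the points of an alcove -/
def alcB : List ℕ → ℕ → (List ℕ → Bool) → Bool
  | [], _, f => f []
  | m :: ms, b, f => (List.range (b / m + 1)).all fun a => alcB ms (b - a * m) fun L => f (a :: L)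

theorem alcB_spec {n : ℕ} : ∀ (m a : Fin n → ℕ) (b : ℕ) (f : List ℕ → Bool), (∀ i, 0 < m i) →
    alcB (List.ofFn m) b f = true → ∑ i, m i * a i ≤ b → f (List.ofFn a) = true := by
  induction n with
  | zero => intro m a b f _ h _; simpa [alcB] using h
  | succ n ih =>
    intro m a b f h0 h h1
    rw [List.ofFn_succ, alcB, List.all_eq_true] at h
    rw [Fin.sum_univ_succ] at h1
    rw [List.ofFn_succ]
    refine ih _ (fun i => a i.succ) _ (fun L => f (a 0 :: L)) (fun i => h0 _) (h (a 0) ?_) ?_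
    · rw [List.mem_range, Nat.lt_succ_iff, Nat.le_div_iff_mul_le (h0 0), mul_comm]; omega
    · rw [mul_comm (a 0)]; omega

theorem dot_wt (ν : κ → ℤ) (r : ι) :
    ν ⬝ᵥ R.wt r = ∑ j, R.cf r j * (ν ⬝ᵥ R.wt (R.simple j)) := by
  simp only [dotProduct, wt_simple, Finset.mul_sum]
  rw [Finset.sum_comm]
  refine Finset.sum_congr rfl fun i _ => ?_
  simp only [wt, mulVec, dotProduct, Finset.mul_sum]
  exact Finset.sum_congr rfl fun j _ => by ring

theorem alc_chk {n : ℕ} {R : RootSys ι (Fin n)} {P : (Fin n → ℤ) → Prop} [DecidablePred P]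
    (r0 : ι) {ms : List ℕ} {l : ℕ} (h0 : List.ofFn (fun j => (R.cf r0 j).toNat) = ms)
    (h1 : ∀ j, 0 < R.cf r0 j)
    (h : alcB ms l (fun L => decide (P fun j => (L.getD j 0 : ℕ))) = true) {ν : Fin n → ℤ}
    (h2 : ∀ i, 0 ≤ ν ⬝ᵥ R.wt (R.simple i)) (h3 : ∀ r, ν ⬝ᵥ R.wt r ≤ l) :
    P fun j => ν ⬝ᵥ R.wt (R.simple j) := by
  subst h0
  have := alcB_spec _ (fun j => (ν ⬝ᵥ R.wt (R.simple j)).toNat) l _
    (fun j => by have := h1 j; omega) h (by
      have := h3 r0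
      rw [dot_wt] at this
      zify
      simpa [Int.toNat_of_nonneg (h2 _), Int.toNat_of_nonneg (h1 _).le] using this)
  rw [decide_eq_true_iff] at this
  convert this using 2 with j
  simp [Int.toNat_of_nonneg (h2 _)]

theorem map_perm {β : Type*} (w : Equiv.Perm ι) {f g : ι → β} (h : ∀ r, f (w r) = g r) :
    Finset.univ.val.map f = Finset.univ.val.map g := by
  rw [← funext h]
  change _ = Multiset.map (f ∘ w) _
  rw [← Multiset.map_map, Multiset.map_univ_val_equiv]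

theorem cast_eq {z : Kˣ} {l : ℕ} (hz : orderOf z = l) {a b : ℤ} (h : z ^ a = z ^ b) :
    (a : ZMod l) = b := by
  rw [ZMod.intCast_eq_intCast_iff, ← hz]; exact zpow_eq_zpow_iff_modEq.1 h

theorem ex_root (K : Type*) [Field K] [IsAlgClosed K] (p : ℕ) [hp : Fact p.Prime] [CharP K p] {l : ℕ}
    (hl : l.Prime) (h : l ≠ p) : ∃ z : Kˣ, orderOf z = l := by
  haveI : NeZero (l : K) := ⟨fun e => h ((Nat.prime_dvd_prime_iff_eq hp.1 hl).1
    ((CharP.cast_eq_zero_iff K p l).1 e)).symm⟩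
  haveI := NeZero.mk hl.ne_zero
  obtain ⟨ζ, hζ⟩ := HasEnoughRootsOfUnity.exists_primitiveRoot K l
  refine ⟨(hζ.isUnit hl.ne_zero).unit, ?_⟩
  rw [← orderOf_units, IsUnit.unit_spec, ← hζ.eq_orderOf]

end H23.Sec
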