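import Cfsg.Agent.H23.Sec2
import Cfsg.Agent.H14.TwF4

/-! Alternating sections of groups of type F4. -/

set_option autoImplicit false
set_option linter.unusedSectionVars false
set_option maxRecDepth 100000

namespace H23.Sec

open H14 H14.PreSt H14.St Equiv Equiv.Perm H23.Wag Cfsg.Lie
open H14.RootSys hiding sign
open Matrix hiding J

/-- the algebraic closure of the prime field -/
abbrev Kb (p : ℕ) [Fact p.Prime] := AlgebraicClosure (ZMod p)

theorem ex_emb (F : Type*) [Field F] [Finite F] (p : ℕ) [Fact p.Prime] [CharP F p] :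
    Nonempty (F →+* Kb p) := by
  let := ZMod.algebra F p
  exact ⟨(IsAlgClosed.lift : F →ₐ[ZMod p] Kb p)⟩

theorem ex_pi {H : Type*} [Group H] {N : Subgroup H} [N.Normal] {r : ℕ}
    (h : Nonempty (H ⧸ N ≃* alternatingGroup (Fin r))) :
    ∃ π : H →* Perm (Fin r), (∀ g, sign (π g) = 1) ∧ ∀ σ, sign σ = 1 → ∃ g, π g = σ := by
  obtain ⟨e⟩ := h
  refine ⟨(alternatingGroup _).subtype.comp (e.toMonoidHom.comp (QuotientGroup.mk' N)),
    fun g => mem_alternatingGroup.1 (e g).2, fun σ hσ => ?_⟩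
  obtain ⟨g, hg⟩ := QuotientGroup.mk_surjective (e.symm ⟨σ, mem_alternatingGroup.2 hσ⟩)
  exact ⟨g, by simp [hg]⟩

theorem alt_conj {α : Type} [Fintype α] [DecidableEq α] {G : Type*} [Group G] [Finite G]
    {π : G →* Perm α} (surj : ∀ σ, sign σ = 1 → ∃ g, π g = σ) {m l u : ℕ} [Fact l.Prime]
    (hm : m ≤ Fintype.card α) (y s : Perm (Fin m))
    (h : sign y = 1 ∧ sign s = 1 ∧ y ^ l = 1 ∧ y ≠ 1 ∧ s * y * s⁻¹ = y ^ u)
    (hab : ∀ P : Subgroup G, IsPGroup l P → ∀ a ∈ P, ∀ b ∈ P, a * b = b * a) :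
    ∃ x g : G, x ≠ 1 ∧ x ^ l = 1 ∧ g * x * g⁻¹ = x ^ u := by
  obtain ⟨e⟩ : Nonempty (Fin m ↪ α) := Function.Embedding.nonempty_of_card_le (by simpa using hm)
  obtain ⟨h1, h2, h3, h4, h5⟩ := h
  obtain ⟨y', hy⟩ := surj (J e y) (by rw [J_sign, h1])
  obtain ⟨s', hs⟩ := surj (J e s) (by rw [J_sign, h2])
  refine local_conj π hab (y := y') (s := s') ?_ ?_ ?_
  · rw [hy, ← map_pow, h3, map_one]
  · rw [hy, ← map_one (J e)]; exact (J_inj e).ne h4
  · rw [hy, hs, ← map_inv, ← map_mul, ← map_mul, h5, map_pow]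

section
variable {ι κ : Type*} [Fintype κ] [DecidableEq κ] [Fintype ι] [DecidableEq ι] {R : RootSys ι κ}
  {C : Chev R} {K G : Type*} [Field K] [Group G] {S : St C K G}

theorem conj_pow_W (hS : S.Sep) (hG : S.U Set.univ = ⊤) (hh : S.HMul) {z : Kˣ} {l u : ℕ}
    (hz : orderOf z = l) {ν : κ → ℤ} {s g a : G} (h1 : s = g * hh.tor (fun i => z ^ ν i) * g⁻¹)
    (h2 : a * s * a⁻¹ = s ^ u) : ∃ w ∈ R.W, ∀ r,
      ((u * (ν ⬝ᵥ R.wt (w r)) : ℤ) : ZMod l) = (ν ⬝ᵥ R.wt r : ℤ) := by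
  obtain ⟨w, hw, h⟩ := simW hS hG hh (g⁻¹ * a * g)
  refine ⟨w, hw, fun r => cast_eq hz ?_⟩
  have := h (fun i => z ^ ν i) (fun i => z ^ (u • ν) i) (by
    rw [h1, conj_pow, ← map_pow] at h2
    rw [show (fun i => z ^ (u • ν) i) = (fun i => z ^ ν i) ^ u from funext fun i => by
      simp [mul_comm (u : ℤ), _root_.zpow_mul]]
    rw [← mul_left_inj g⁻¹, ← mul_right_inj g, ← mul_assoc g (hh.tor _), ← h2]; group) r
  rwa [chi_zpow, chi_zpow, smul_dotProduct, nsmul_eq_mul] at this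

theorem tor_cen (hS : S.Sep) (hG : S.U Set.univ = ⊤) (hh : S.HMul) {z : Kˣ} {l : ℕ}
    (hz : orderOf z = l) {ν : κ → ℤ} (h : ∀ j, ((ν ⬝ᵥ R.wt (R.simple j) : ℤ) : ZMod l) = 0) :
    hh.tor (fun i => z ^ ν i) ∈ Subgroup.center G := by
  rw [hh.tor_mem_center hS hG]
  funext j
  have := chi_zpow (R := R) z ν (R.simple j)
  rw [orderOf_dvd_iff_zpow_eq_one.1 (hz ▸ (ZMod.intCast_zmod_eq_zero_iff_dvd _ _).1 (h j))] at this
  simpa [chi, wt_simple, mpow_apply] using this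

end

variable {D : ChevalleyDatum} (G : Good D)

theorem map_tw {K K' : Type*} [Field K] [Field K'] (γ : K →+* K') {g : GrD} {hg : g.Ok D}
    {hK : g.Fits K} {hK' : g.Fits K'} {φ : K →+* K} {φ' : K' →+* K'} {hφ : Function.Surjective φ}
    {hφ' : Function.Surjective φ'} (h : ∀ t, γ (φ t) = φ' (γ t)) {x : D.group K}
    (hx : x ∈ (G.tw hg hK φ hφ).fix) : G.mapG γ x ∈ (G.tw hg hK' φ' hφ').fix := by
  have := hom_ext (G.SG_top K) (α := (G.mapG γ).comp (G.tw hg hK φ hφ).σ)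
    (β := (G.tw hg hK' φ' hφ').σ.comp (G.mapG γ)) fun r t => by
      simp only [MonoidHom.comp_apply]
      rw [G.mapG_x, Tw.σ_x, Tw.σ_x, G.mapG_x]
      congr 1
      change γ (φ _) = φ' _
      rw [h, map_mul, map_pow, map_intCast]
  rw [Tw.mem_fix] at hx ⊢
  exact (DFunLike.congr_fun this x).symm.trans (congrArg (G.mapG γ) hx)

theorem algF4 (p : ℕ) [Fact p.Prime] : (goodF4.SG (Kb p)).Alg p :=
  goodF4.alg (ZMod p) p one_ne_zero fun c h => by simpa using kerF4 c h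

theorem alcF4 {p l : ℕ} [Fact p.Prime] [hl : Fact l.Prime] (hlp : l ≠ p) (hW : ¬ l ∣ 1152)
    {X : Type*} [Group X] [Finite X] {f : X →* chevF4.group (Kb p)} (hf : Function.Injective f) :
    (∀ P : Subgroup X, IsPGroup l P → ∀ a ∈ P, ∀ b ∈ P, a * b = b * a) ∧
    ∀ x : X, x ^ l = 1 → ∃ z g, ∃ ν : Fin chevF4.rank → ℤ, orderOf z = l ∧
      (∀ i, 0 ≤ ν ⬝ᵥ goodF4.R.wt (goodF4.R.simple i)) ∧ (∀ r, ν ⬝ᵥ goodF4.R.wt r ≤ l) ∧
      f x = g * (goodF4.SG_hmul _).tor (fun i => z ^ ν i) * g⁻¹ := by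
  obtain ⟨h1, h2⟩ := tor_comm (algF4 p) hlp (by rw [poinF4]; exact hW) hf
  refine ⟨h1, fun x hx => ?_⟩
  obtain ⟨g, hg⟩ := h2 x hx
  obtain ⟨z, hz⟩ := ex_root (Kb p) p hl.1 hlp
  obtain ⟨g, ν, h⟩ := alc (goodF4.SG_hmul _) (e := 1) (fun c h => by
    simpa using kerF4 c (goodF4.SG_tor_eq_one.1 h)) (by simp) hz hl.1.pos hg (by
      rw [← map_pow, hx, map_one])
  exact ⟨z, g, ν, hz, h⟩

/-- the test for elements of order 11 -/
def PF4 (a : Fin chevF4.rank → ℤ) : Prop :=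
  (Finset.univ.val.map fun r => (((3 : ℕ) * ∑ j, goodF4.R.cf r j * a j : ℤ) : ZMod 11)) =
    (Finset.univ.val.map fun r => ((∑ j, goodF4.R.cf r j * a j : ℤ) : ZMod 11)) →
  ∀ j, (a j : ZMod 11) = 0

noncomputable instance instPF4 : DecidablePred PF4 := fun _ => by unfold PF4; infer_instance

theorem chkF4 : alcB [2, 4, 3, 2] 11 (fun L => decide (PF4 fun j => (L.getD j 0 : ℕ))) = true := by
  decide +kernel

theorem noF4 {p : ℕ} [Fact p.Prime] (hp : p ≠ 11) {X : Type*} [Group X] [Finite X]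
    {f : X →* chevF4.group (Kb p)} (hf : Function.Injective f) {r : ℕ} {π : X →* Perm (Fin r)}
    (surj : ∀ σ, sign σ = 1 → ∃ g, π g = σ) : r ≤ 10 := by
  by_contra hr
  haveI : Fact (Nat.Prime 11) := ⟨by norm_num⟩
  obtain ⟨h1, h2⟩ := alcF4 hp.symm (by norm_num) hf
  obtain ⟨x, g, h3, h4, h5⟩ := alt_conj surj (m := 11) (l := 11) (u := 3) (by simp; omega)
    (List.formPerm [0, 1, 2, 3, 4, 5, 6, 7, 8, 9, 10])
    (List.formPerm [1, 3, 9, 5, 4] * List.formPerm [2, 6, 7, 10, 8]) (by decide +kernel) h1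
  obtain ⟨z, a, ν, hz, h6, h7, h8⟩ := h2 x h4
  obtain ⟨w, -, h9⟩ := conj_pow_W (goodF4.SG_sep _) (goodF4.SG_top _) _ hz h8 (a := f g) (u := 3)
    (by rw [← map_inv, ← map_mul, ← map_mul, h5, map_pow])
  have := tor_cen (goodF4.SG_sep _) (goodF4.SG_top _) (goodF4.SG_hmul _) hz
    (alc_chk (P := PF4) (⟨47, by decide⟩ : Fin chevF4.nroots) (by decide +kernel) (by decide +kernel) chkF4 h6 h7
      (map_perm w fun r => by rw [← dot_wt, ← dot_wt]; exact h9 r))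
  rw [goodF4.center_eq_bot, Subgroup.mem_bot] at this
  exact h3 (hf (by rw [h8, this]; simp))

/-- the test for elements of order 7 -/
def PT4 (a : Fin chevF4.rank → ℤ) : Prop :=
  (Finset.univ.val.map fun r => (((2 : ℕ) * ∑ j, goodF4.R.cf r j * a j : ℤ) : ZMod 7)) =
    (Finset.univ.val.map fun r => ((∑ j, goodF4.R.cf r j * a j : ℤ) : ZMod 7)) →
  (Finset.univ.val.map fun r => (decide (((∑ j, goodF4.R.cf r j * a j : ℤ) : ZMod 7) = 0),
    goodF4.R.d (okgrF4.rho r))) = (Finset.univ.val.map fun r =>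
      (decide (((∑ j, goodF4.R.cf r j * a j : ℤ) : ZMod 7) = 0), goodF4.R.d r)) →
  ∀ j, (a j : ZMod 7) = 0

noncomputable instance instPT4 : DecidablePred PT4 := fun _ => by unfold PT4; infer_instance

theorem chkT4 : alcB [2, 4, 3, 2] 7 (fun L => decide (PT4 fun j => (L.getD j 0 : ℕ))) = true := by
  decide +kernel

theorem noTF4 {X : Type*} [Group X] [Finite X] {f : X →* chevF4.group (Kb 2)}
    (hf : Function.Injective f) (T : (goodF4.SG (Kb 2)).Tw) (hT : T.ρ = okgrF4.rho)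
    (h0 : ∀ x, f x ∈ T.fix) {r : ℕ} {π : X →* Perm (Fin r)}
    (surj : ∀ σ, sign σ = 1 → ∃ g, π g = σ) : r ≤ 6 := by
  by_contra hr
  haveI : Fact (Nat.Prime 7) := ⟨by norm_num⟩
  obtain ⟨h1, h2⟩ := alcF4 (l := 7) (by norm_num) (by norm_num) hf
  obtain ⟨x, g, h3, h4, h5⟩ := alt_conj surj (m := 7) (l := 7) (u := 2) (by simp; omega)
    (List.formPerm [0, 1, 2, 3, 4, 5, 6])
    (List.formPerm [1, 2, 4] * List.formPerm [3, 6, 5]) (by decide +kernel) h1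
  obtain ⟨z, a, ν, hz, h6, h7, h8⟩ := h2 x h4
  obtain ⟨w, -, h9⟩ := conj_pow_W (goodF4.SG_sep _) (goodF4.SG_top _) _ hz h8 (a := f g) (u := 2)
    (by rw [← map_inv, ← map_mul, ← map_mul, h5, map_pow])
  obtain ⟨c', hc⟩ := (goodF4.SG_hmul _).exists_tor (T.σ_mem_H
    ((goodF4.SG_hmul _).range_tor.le ⟨fun i => z ^ ν i, rfl⟩))
  obtain ⟨v, hv, h10⟩ := simW (goodF4.SG_sep _) (goodF4.SG_top _) (goodF4.SG_hmul _) ((T.σ a)⁻¹ * a)
  have h11 := h10 (fun i => z ^ ν i) c' (by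
    have := Tw.mem_fix.1 (h0 x)
    rw [h8, map_mul, map_mul, map_inv, hc] at this
    rw [← mul_left_inj (T.σ a)⁻¹, ← mul_right_inj (T.σ a), ← mul_assoc _ (HMul.tor _ c'), this]
    group)
  have h12 : ∀ r, goodF4.R.chi (fun i => z ^ ν i) r = 1 ↔
      ((ν ⬝ᵥ goodF4.R.wt r : ℤ) : ZMod 7) = 0 := fun r => by
    rw [chi_zpow, ← orderOf_dvd_iff_zpow_eq_one, hz, ZMod.intCast_zmod_eq_zero_iff_dvd]
  have := tor_cen (goodF4.SG_sep _) (goodF4.SG_top _) (goodF4.SG_hmul _) hz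
    (alc_chk (P := PT4) (⟨47, by decide⟩ : Fin chevF4.nroots) (by decide +kernel) (by decide +kernel) chkT4 h6 h7
      (map_perm w fun r => by rw [← dot_wt, ← dot_wt]; exact h9 r) (by
        refine map_perm (T.ρ⁻¹ * v) fun r => ?_
        have e : T.ρ ((T.ρ⁻¹ * v) r) = v r := by simp
        rw [← dot_wt, ← dot_wt, ← hT, e, Aut.d_eq (goodF4.R.W_le_Aut hv), Prod.mk.injEq,
          decide_eq_decide, ← h12, ← h12, ← tw_chi' T _ hc, e, h11]
        exact ⟨Iff.rfl, rfl⟩))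
  rw [goodF4.center_eq_bot, Subgroup.mem_bot] at this
  exact h3 (hf (by rw [h8, this]; simp))

end H23.Sec
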