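import Cfsg.Agent.H23.Sec1

/-! Covers of `A₁₂` in dimension 27: the kernel is central. -/

set_option autoImplicit false
set_option linter.unusedSectionVars false
set_option maxRecDepth 100000

namespace H23.Sec

open Equiv Equiv.Perm Module H23.Wag Subgroup

section lin
variable {k V : Type*} [Field k] [AddCommGroup V] [Module k V] [FiniteDimensional k V]
  {G : Type*} [Group G] {ρ : G →* End k V}

theorem ss {f : End k V} {m : ℕ} (hm : (m : k) ≠ 0) (h : f ^ m = 1) {v : V}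
    (h1 : v ∈ LinearMap.range (f - 1)) (h2 : f v = v) : v = 0 := by
  obtain ⟨x, rfl⟩ := h1
  have h3 : (∑ i ∈ Finset.range m, f ^ i) ((f - 1) x) = 0 := by
    rw [← End.mul_apply, geom_sum_mul, h, sub_self]; rfl
  rw [LinearMap.sum_apply, Finset.sum_congr rfl
    (fun i _ => pow_eig (h2.trans (one_smul k _).symm) i)] at h3
  simp only [one_pow, one_smul, Finset.sum_const, Finset.card_range] at h3
  rw [← Nat.cast_smul_eq_nsmul k] at h3
  exact (smul_eq_zero.1 h3).resolve_left hm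

theorem eig_dim (g y : G) (μ : k) :
    finrank k ((ρ (g * y * g⁻¹)).eigenspace μ) = finrank k ((ρ y).eigenspace μ) := by
  have key : ∀ g y y' : G, g * y * g⁻¹ = y' →
      finrank k ((ρ y').eigenspace μ) ≤ finrank k ((ρ y).eigenspace μ) := fun g y y' e => by
    rw [LinearEquiv.finrank_eq (Submodule.equivMapOfInjective (ρ g⁻¹) (ρ_inj _) _)]
    apply Submodule.finrank_mono
    rintro _ ⟨v, hv, rfl⟩
    simpa using End.mem_eigenspace_iff.2
      (eig_conj (n := 1) (by rwa [pow_one]) (End.mem_eigenspace_iff.1 hv))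
  exact le_antisymm (key g _ _ rfl) (key g⁻¹ _ _ (by group))

theorem dsum {A B C : Submodule k V} (h : A ⊓ B = ⊥) (h1 : A ≤ C) (h2 : B ≤ C) :
    finrank k A + finrank k B ≤ finrank k C := by
  rw [← Submodule.finrank_sup_add_finrank_inf_eq, h, finrank_bot, add_zero]
  exact Submodule.finrank_mono (sup_le h1 h2)

theorem heis [Nontrivial V] (A N : Subgroup G)
    (hc : ∀ a ∈ A, ∀ n ∈ N, a * n * a⁻¹ * n⁻¹ ∈ center G)
    (hs : ∀ z ∈ center G, ∃ c : k, ∀ v, ρ z v = c • v)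
    (hZ : ∀ a ∈ A, (∀ n ∈ N, ρ (a * n * a⁻¹ * n⁻¹) = 1) → a ∈ center G) :
    Nat.card (A ⧸ (center G).subgroupOf A) ≤ finrank k V * finrank k V := by
  choose c hcc using fun (a : A) (n : N) => hs _ (hc _ a.2 _ n.2)
  have hi := (wt_card (V := End k V) (ι := A ⧸ (center G).subgroupOf A)
    (fun n : N => (LinearMap.mulLeft k (ρ (n : G)⁻¹)).comp (LinearMap.mulRight k (ρ n)))
    (fun q n => c q.out n)
    (fun q q' h => by
      rw [← q.out_eq', ← q'.out_eq', QuotientGroup.eq, mem_subgroupOf]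
      refine hZ _ (Subtype.mem _) fun n hn => ?_
      have e1 : ρ (q.out * n * (q.out : G)⁻¹ * n⁻¹) = ρ (q'.out * n * (q'.out : G)⁻¹ * n⁻¹) :=
        LinearMap.ext fun v => by
          rw [hcc _ ⟨n, hn⟩, hcc _ ⟨n, hn⟩]; exact congrArg (· • v) (congrFun h ⟨n, hn⟩)
      have e2 := mem_center_iff.1 (hc _ q.out.2 _ hn)
      have e3 := mem_center_iff.1 (hc _ q'.out.2 _ hn)
      simp only [Subgroup.coe_mul, Subgroup.coe_inv]
      generalize (q.out : G) = x at e1 e2 ⊢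
      generalize (q'.out : G) = y at e1 e3 ⊢
      have : x⁻¹ * y * n * (x⁻¹ * y)⁻¹ * n⁻¹ = (y * n * y⁻¹ * n⁻¹) * (x * n * x⁻¹ * n⁻¹)⁻¹ := by
        rw [eq_mul_inv_iff_mul_eq]
        calc _ = x⁻¹ * (y * n * y⁻¹ * n⁻¹) * ((x * n * x⁻¹ * n⁻¹)⁻¹ * (x * (x * n * x⁻¹ * n⁻¹))) := by
              group
          _ = _ := by rw [e2 x, e3 x⁻¹]; group
      rw [this, map_mul, ← e1, ← map_mul, mul_inv_cancel, map_one])
    (fun q => ⟨ρ q.out, fun e => by
        obtain ⟨w, hw⟩ := exists_ne (0 : V)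
        exact ρ_ne (ρ := ρ) (q.out : G) hw (by rw [e]; rfl), fun n => LinearMap.ext fun v => by
        simp only [LinearMap.comp_apply, LinearMap.mulLeft_apply, LinearMap.mulRight_apply,
          LinearMap.smul_apply]
        rw [← hcc, ← map_mul, ← map_mul, ← End.mul_apply, ← map_mul]; congr 2
        have := mem_center_iff.1 (hc _ q.out.2 _ n.2) (n : G)⁻¹
        calc _ = (n : G)⁻¹ * (q.out * n * (q.out : G)⁻¹ * (n : G)⁻¹) * n * q.out := by group
          _ = _ := by rw [this]; group⟩)).2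
  rwa [Module.finrank_linearMap] at hi

theorem stab (A : Subgroup G) [hA : A.Normal] {v : V} (hv0 : v ≠ 0) (χ : A → k)
    (hχ : ∀ a : A, ρ a v = χ a • v) : ∃ S : Subgroup G, S.index ≠ 0 ∧ S.index ≤ finrank k V ∧
      ∀ g, g ∈ S ↔ ∀ a ∈ A, ρ (g⁻¹ * a * g) v = ρ a v := by
  have hcj : ∀ a ∈ A, ∀ g, g⁻¹ * a * g ∈ A := fun a ha g => by simpa using hA.conj_mem a ha g⁻¹
  let S : Subgroup G :=
    { carrier := {g | ∀ a ∈ A, ρ (g⁻¹ * a * g) v = ρ a v}
      one_mem' := by simp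
      mul_mem' := by
        intro x y hx hy a ha
        rw [← hx a ha, ← hy _ (hcj a ha x)]; congr 2; group
      inv_mem' := by
        intro x hx a ha
        rw [← hx _ (hcj a ha x⁻¹)]; congr 2; group }
  obtain ⟨h1, h2⟩ := wt_card (ι := G ⧸ S) (fun a : A => ρ a)
    (fun q a => χ ⟨_, hcj a a.2 q.out⟩)
    (fun q q' e => by
      rw [← q.out_eq', ← q'.out_eq', QuotientGroup.eq]
      intro a ha
      have := congrArg (· • v) (congrFun e ⟨_, hA.conj_mem a ha q.out⟩)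
      simp only [← hχ] at this
      rw [show q.out⁻¹ * (q.out * a * q.out⁻¹) * q.out = a by group] at this
      rw [this]; congr 2; group)
    (fun q => ⟨ρ q.out v, ρ_ne _ hv0, fun a => by
      rw [← map_smul, ← hχ, ← End.mul_apply, ← End.mul_apply, ← map_mul, ← map_mul]
      congr 2; group⟩)
  exact ⟨S, S.index_ne_zero_of_finite, h2, fun _ => Iff.rfl⟩

end lin

/-- four commuting three-cycles -/
def tt : Fin 4 → Perm (Fin 12) :=
  ![swap 0 1 * swap 0 2, swap 3 4 * swap 3 5, swap 6 7 * swap 6 8, swap 9 10 * swap 9 11]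

/-- interchange of two blocks -/
def sb (a b : Fin 4) : Perm (Fin 12) :=
  swap (Fin.ofNat 12 (3 * a)) (Fin.ofNat 12 (3 * b)) *
    swap (Fin.ofNat 12 (3 * a + 1)) (Fin.ofNat 12 (3 * b + 1)) *
    swap (Fin.ofNat 12 (3 * a + 2)) (Fin.ofNat 12 (3 * b + 2))

theorem pw35 {H : Type*} [Group H] {T : Subgroup H} {y c : H} (hc : Commute y c) (h1 : y ^ 7 = 1)
    (h2 : c ^ 5 = 1) {n : ℕ} (h0 : 0 < n) (h3 : n ≤ 27) (h : (y * c) ^ n ∈ T) : y ∈ T ∨ c ∈ T := by
  have key : ∀ {y c : H} {a b : ℕ}, Commute y c → y ^ a = 1 → c ^ b = 1 → (y * c) ^ n ∈ T →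
      (n * b).Coprime a → y ∈ T := fun {y c a b} hc h1 h2 h e => by
    have := T.pow_mem h b
    rw [← pow_mul, hc.mul_pow, mul_comm n b, pow_mul c, h2, one_pow, mul_one, mul_comm] at this
    obtain ⟨m, hm⟩ := exists_pow_eq_self_of_coprime
      (e.coprime_dvd_right (orderOf_dvd_of_pow_eq_one h1))
    exact hm ▸ T.pow_mem this m
  by_cases h7 : 7 ∣ n
  · refine Or.inr (key hc.symm h2 h1 (hc.eq ▸ h) ?_)
    obtain ⟨m, rfl⟩ := h7
    have : m ≤ 3 := by omega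
    interval_cases m <;> first | omega | decide
  · exact Or.inl (key hc h1 h2 h (Nat.Coprime.mul_left
      ((Nat.Prime.coprime_iff_not_dvd (by norm_num)).2 h7).symm (by decide)))

theorem perm7 {T : Subgroup (Perm (Fin 12))}
    (h : ∀ σ, sign σ = 1 → ∃ n, 0 < n ∧ n ≤ 27 ∧ σ ^ n ∈ T) {i j : Fin 4} (hij : i ≠ j) :
    tt i ∈ T ∨ tt j ∈ T := by
  have key : ∀ T : Subgroup (Perm (Fin 12)), (∀ σ, sign σ = 1 → ∃ n, 0 < n ∧ n ≤ 27 ∧ σ ^ n ∈ T) →
      tt 0 ∈ T ∨ tt 1 ∈ T := fun T h => by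
    let y : Fin 2 → Perm (Fin 12) :=
      ![List.formPerm [0, 1, 2, 6, 7, 8, 9], List.formPerm [0, 1, 9, 8, 7, 6, 2]]
    let c : Fin 2 → Perm (Fin 12) := ![List.formPerm [3, 4, 5, 10, 11], List.formPerm [3, 4, 11, 10, 5]]
    have h1 : ∀ a b, (y a * c b = c b * y a ∧ y a ^ 7 = 1 ∧ c b ^ 5 = 1) ∧ sign (y a * c b) = 1 := by
      decide +kernel
    have h2 : ∀ a b, y a ∈ T ∨ c b ∈ T := fun a b => by
      obtain ⟨n, a1, a2, a3⟩ := h _ (h1 a b).2
      exact pw35 (h1 a b).1.1 (h1 a b).1.2.1 (h1 a b).1.2.2 a1 a2 a3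
    rw [show tt 0 = y 0 * y 1 by decide +kernel, show tt 1 = c 0 * c 1 by decide +kernel]
    by_cases a : c 0 ∈ T ∧ c 1 ∈ T
    · exact Or.inr (mul_mem a.1 a.2)
    · have : ∀ a, y a ∈ T := fun i => by have := h2 i 0; have := h2 i 1; tauto
      exact Or.inl (mul_mem (this 0) (this 1))
  have := fun τ => key (T.comap (MulAut.conj τ).toMonoidHom) fun σ hσ => by
    obtain ⟨n, a1, a2, a3⟩ := h (MulAut.conj τ σ) (by simp [hσ])
    exact ⟨n, a1, a2, by rwa [← map_pow] at a3⟩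
  have h3 : ∀ i j : Fin 4, i ≠ j → sb 0 i * sb 1 (swap 0 i j) * tt 0 * (sb 0 i * sb 1 (swap 0 i j))⁻¹
      = tt i ∧ sb 0 i * sb 1 (swap 0 i j) * tt 1 * (sb 0 i * sb 1 (swap 0 i j))⁻¹ = tt j := by
    decide +kernel
  rw [← (h3 i j hij).1, ← (h3 i j hij).2]
  exact this _

/-- properties of subgroups of `E₆` on the module of dimension 27 -/
structure E6L {k V : Type} [Field k] [AddCommGroup V] [Module k V] {G : Type*} [Group G]
    (ρ : G →* End k V) : Prop where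
  dim : finrank k V = 27
  inj : Function.Injective ρ
  p1 : ∀ s, Can 3 s → s ≠ 1 → ∀ μ : k, μ ≠ 1 → μ ^ 3 = 1 →
    (finrank k ((ρ s).eigenspace 1) = 15 ∧ finrank k ((ρ s).eigenspace μ) = 6) ∨
      (finrank k ((ρ s).eigenspace 1) = 9 ∧ finrank k ((ρ s).eigenspace μ) = 9)
  p2 : ∀ (s : G) (m : ℕ), (m : k) ≠ 0 → s ^ m = 1 → 21 ≤ finrank k ((ρ s).eigenspace 1) → s = 1
  p3 : ∀ s : G, s ^ 2 = 1 → s ≠ 1 →
    (finrank k ((ρ s).eigenspace 1) = 15 ∧ finrank k ((ρ s).eigenspace (-1)) = 12) ∨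
      (finrank k ((ρ s).eigenspace 1) = 11 ∧ finrank k ((ρ s).eigenspace (-1)) = 16 ∧
        ∃ U : Submodule k V, finrank k U = 10 ∧ ∀ g, Commute s g → ∀ v ∈ U, ρ g v ∈ U)

variable {k V : Type} [Field k] [IsAlgClosed k] [AddCommGroup V] [Module k V]
  [FiniteDimensional k V] {G : Type*} [Group G] {ρ : G →* End k V}

theorem E6L.comp (h : E6L ρ) {X : Type*} [Group X] {f : X →* G} (hf : Function.Injective f) :
    E6L (ρ.comp f) where
  dim := h.dim
  inj := h.inj.comp hf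
  p1 s hs h1 := h.p1 (f s) ⟨by rw [← map_pow, hs.1, map_one], by
    obtain ⟨t, ht⟩ := hs.2
    exact ⟨f t, by rw [← map_inv, ← map_mul, ← map_mul, ht, map_inv]⟩⟩ (by simpa [hf.eq_iff' (map_one f)])
  p2 s m h1 h2 h3 := hf ((h.p2 (f s) m h1 (by rw [← map_pow, h2, map_one]) h3).trans (map_one f).symm)
  p3 s h1 h2 := (h.p3 (f s) (by rw [← map_pow, h1, map_one])
    (by simpa [hf.eq_iff' (map_one f)])).imp_right fun ⟨a, b, U, c, d⟩ =>
      ⟨a, b, U, c, fun g hg => d _ (hg.map f)⟩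

theorem E6L.cen [Finite G] (h : E6L ρ) {π : G →* Perm (Fin 12)} (hπ : Mn π) {m : ℕ}
    (hm : (m : k) ≠ 0) (hN : ∀ n ∈ π.ker, n ^ m = 1) : π.ker ≤ center G := by
  by_contra hc
  obtain ⟨A, hA, h1, h2, h3, h4, l, hl, -, -, d, τ, hd, hτ⟩ := hπ.cen (by simp) le_rfl hc
  have hN' : ∀ n ∈ π.ker, ρ n ^ m = 1 := fun n hn => by rw [← map_pow, hN n hn, map_one]
  by_cases hab : ∀ a ∈ A, ∀ n ∈ π.ker, a * n = n * a
  · have h5 : ∀ i, ∃ t a, a ∈ A ∧ π t = tt i ∧ a * (t⁻¹ * a⁻¹ * t) ≠ 1 := fun i => by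
      obtain ⟨t, ht⟩ := hπ.surj (tt i) (by revert i; decide +kernel)
      by_contra! hn
      rcases hπ.dich (by simp) (centralizer (A : Set G)) with e | e
      · refine (show ∀ i, tt i ≠ 1 by decide +kernel) i (ht ▸ e t fun a ha => ?_)
        have := hn t a ha ht
        calc a * t = t * (a * (t⁻¹ * a⁻¹ * t))⁻¹ * a := by group
          _ = _ := by rw [this]; group
      · exact h2 fun a ha => mem_center_iff.2 fun g => ((e.ge (mem_top g)) a ha).symm
    choose t a ha ht hb using h5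
    have hbA : ∀ i, a i * ((t i)⁻¹ * (a i)⁻¹ * t i) ∈ A := fun i =>
      mul_mem (ha i) (by simpa using hA.conj_mem _ (inv_mem (ha i)) (t i)⁻¹)
    let R : Fin 4 → Submodule k V := fun i =>
      LinearMap.range (ρ (a i * ((t i)⁻¹ * (a i)⁻¹ * t i)) - 1)
    have hR : ∀ i, ∀ x ∈ A, ∀ v ∈ R i, ρ x v ∈ R i := by
      rintro i x hx _ ⟨v, rfl⟩
      refine ⟨ρ x v, ?_⟩
      rw [← End.mul_apply, ← End.mul_apply, sub_mul, mul_sub, ← map_mul, ← map_mul,
        hab _ (hbA i) _ (h1 hx), one_mul, mul_one]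
    have h6 : ∀ i j, i ≠ j → R i ⊓ R j = ⊥ := fun i j hij => by
      by_contra h0
      obtain ⟨v, hv, hv0, χ, hχ⟩ := ex_joint (fun x : A => ρ x)
        (fun x y => by rw [← map_mul, hab _ x.2 _ (h1 y.2), map_mul]) _ h0
        fun x v hv => ⟨hR i _ x.2 v hv.1, hR j _ x.2 v hv.2⟩
      obtain ⟨S, s1, s2, s3⟩ := stab A hv0 χ hχ
      have s4 : π.ker ≤ S := fun n hn => (s3 n).2 fun x hx => by
        rw [mul_assoc, hab x hx n hn, inv_mul_cancel_left]
      have s5 : ∀ i, tt i ∈ S.map π → v ∈ R i → False := fun i e hv => hv0 (ss hm (hN' _ (h1 (hbA i)))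
        hv (by
          have : t i ∈ S := by rw [← comap_map_eq_self s4, mem_comap, ht]; exact e
          rw [map_mul, End.mul_apply, (s3 _).1 this _ (inv_mem (ha i)), ρ_cancel]))
      refine (perm7 (T := S.map π) (fun σ hσ => ?_) hij).elim (s5 i · hv.1) (s5 j · hv.2)
      obtain ⟨g, rfl⟩ := hπ.surj σ hσ
      obtain ⟨n, a1, a2, a3⟩ := S.exists_pow_mem_of_index_ne_zero s1 g
      exact ⟨n, a1, a2.trans (s2.trans h.dim.le), _, a3, map_pow _ _ _⟩
    let E : Fin 4 → Submodule k V := fun i =>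
      LinearMap.ker (ρ (a i * ((t i)⁻¹ * (a i)⁻¹ * t i)) - 1)
    have h7 : ∀ i W, W ≤ E i → finrank k (R i) + finrank k W ≤ finrank k ↥(R i ⊔ W) :=
      fun i W hW => dsum (eq_bot_iff.2 fun v hv => ss hm (hN' _ (h1 (hbA i))) hv.1
        (sub_eq_zero.1 (hW hv.2))) le_sup_left le_sup_right
    have h8 : ∀ i j, i ≠ j → R j ≤ E i := fun i j hij v hv =>
      (h6 i j hij).le ⟨⟨v, rfl⟩, sub_mem (hR j _ (hbA i) v hv) hv⟩
    have h9 : ∀ i, 7 ≤ finrank k (R i) := fun i => by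
      have a1 : finrank k (R i) + finrank k (E i) = _ := LinearMap.finrank_range_add_finrank_ker _
      have a2 := mt (h.p2 _ m hm (hN _ (h1 (hbA i)))) (hb i)
      rw [End.eigenspace_def, one_smul] at a2
      rw [h.dim] at a1
      change ¬ 21 ≤ finrank k (E i) at a2
      omega
    have b1 := h7 2 _ (h8 2 3 (by decide))
    have b2 := h7 1 _ (sup_le (h8 1 2 (by decide)) (h8 1 3 (by decide)))
    have b3 := h7 0 _ (sup_le (h8 0 1 (by decide)) (sup_le (h8 0 2 (by decide)) (h8 0 3 (by decide))))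
    have b4 := Submodule.finrank_le (R 0 ⊔ (R 1 ⊔ (R 2 ⊔ R 3)))
    have := h9 0; have := h9 1; have := h9 2; have := h9 3; have := h.dim
    omega
  push Not at hab
  obtain ⟨a, ha, n, hn, hab⟩ := hab
  have hz := h4 a ha n hn
  have hzN : a * n * a⁻¹ * n⁻¹ ∈ π.ker :=
    mul_mem ((MonoidHom.normal_ker π).conj_mem n hn a) (inv_mem hn)
  obtain ⟨μ, hμ, -, w, -, hw0, hw⟩ := ex_eig_ne (ρ (a * n * a⁻¹ * n⁻¹)) ⊤ (fun _ _ => trivial)
    (hN' _ hzN) hm (by
      by_contra! e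
      have := h.inj ((LinearMap.ext fun v => e v trivial).trans (map_one ρ).symm)
      exact hab (by rwa [mul_inv_eq_one, mul_inv_eq_iff_eq_mul] at this))
  have hcz : ∀ {z : G}, z ∈ center G → ∀ g v, ρ z (ρ g v) = ρ g (ρ z v) := fun hz g v => by
    rw [← End.mul_apply, ← End.mul_apply, ← map_mul, ← map_mul, mem_center_iff.1 hz]
  obtain ⟨v, hv, hv0, χ, hχ⟩ := ex_joint (fun x : center G => ρ x)
    (fun x y => LinearMap.ext fun v => hcz x.2 _ v) ((ρ (a * n * a⁻¹ * n⁻¹)).eigenspace μ)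
    (fun e => hw0 (e.le (End.mem_eigenspace_iff.2 hw))) fun x v hv => End.mem_eigenspace_iff.2 (by
      rw [hcz hz, End.mem_eigenspace_iff.1 hv, map_smul])
  let W : Submodule k V := ⨅ z : center G, (ρ z).eigenspace (χ z)
  have hW : ∀ {u}, u ∈ W ↔ ∀ z : center G, ρ z u = χ z • u := by
    simp [W, Submodule.mem_iInf, End.mem_eigenspace_iff]
  have hW' : ∀ g, ∀ u ∈ W, ρ g u ∈ W := fun g u hu => hW.2 fun z => by
    rw [hcz z.2, hW.1 hu, map_smul]
  haveI : Nontrivial W := ⟨⟨v, hW.2 hχ⟩, 0, fun e => hv0 (congrArg Subtype.val e)⟩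
  let B : Subgroup G := A ⊓ (centralizer (π.ker.map (resW ρ W hW').toHomUnits : Set (End k W)ˣ)).comap
    (resW ρ W hW').toHomUnits
  have hB : B.Normal := ⟨fun x hx g => ⟨hA.conj_mem _ hx.1 g, by
    rintro _ ⟨y, hy, rfl⟩
    have := hx.2 _ ⟨_, (MonoidHom.normal_ker π).conj_mem y hy g⁻¹, rfl⟩
    simp only [map_mul, map_inv] at this ⊢
    rw [← mul_left_inj ((resW ρ W hW').toHomUnits g), ← mul_right_inj ((resW ρ W hW').toHomUnits g)⁻¹]
    simpa [mul_assoc] using this⟩⟩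
  have hB' := (h3 B hB inf_le_left).resolve_right fun e => by
    have a1 := LinearMap.congr_fun (congrArg Units.val ((e ha).2 _ ⟨n, hn, rfl⟩))
      ⟨_, hW' (a⁻¹ * n⁻¹) v (hW.2 hχ)⟩
    have a2 : ρ n (ρ a (ρ (a⁻¹ * n⁻¹) v)) = ρ a (ρ n (ρ (a⁻¹ * n⁻¹) v)) := congrArg Subtype.val a1
    simp only [← End.mul_apply, ← map_mul, ← mul_assoc] at a2
    rw [End.mem_eigenspace_iff.1 hv, mul_inv_cancel_right, mul_inv_cancel, map_one, End.one_apply,
      ← sub_eq_zero, ← one_smul k v, smul_smul, ← sub_smul, smul_eq_zero, mul_one, sub_eq_zero] at a2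
    exact a2.elim hμ.symm hv0
  have c1 := heis (ρ := resW ρ W hW') A π.ker h4
    (fun z hz => ⟨χ ⟨z, hz⟩, fun u => Subtype.ext (hW.1 u.2 ⟨z, hz⟩)⟩) fun x hx e => hB' ⟨hx, by
      rintro _ ⟨y, hy, rfl⟩
      have : (resW ρ W hW').toHomUnits (x * y * x⁻¹ * y⁻¹) = 1 := Units.ext (e y hy)
      simp only [map_mul, map_inv] at this
      rw [mul_inv_eq_one, mul_inv_eq_iff_eq_mul] at this
      exact this.symm⟩
  have c2 := ((pp d).mat (algebraMap (ZMod l) (AlgebraicClosure (ZMod l))) (by simp) τ π hπ.even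
    hπ.surj hτ).1
  have c3 := Submodule.finrank_le W
  rw [← hd] at c1
  rw [h.dim] at c3
  rw [Fintype.card_fin] at c2
  have c4 : 2 ^ 10 ≤ l ^ d := (Nat.pow_le_pow_right (by omega) (by omega)).trans
    (Nat.pow_le_pow_left hl.out.two_le d)
  have := Nat.mul_le_mul c3 c3
  omega

end H23.Sec
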