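import Cfsg.Agent.H23.Sec6

/-! Covers of `A₁₂` in dimension 27: central extensions. -/

set_option autoImplicit false
set_option linter.unusedSectionVars false
set_option maxRecDepth 100000

namespace H23.Sec

open Equiv Equiv.Perm Module H23.Wag Subgroup

section lin
variable {k V : Type*} [Field k] [AddCommGroup V] [Module k V] [FiniteDimensional k V]

theorem rk_le (φ : End k V) {W A B : Submodule k V} (h1 : ∀ v ∈ W, φ v = 0 → v ∈ A)
    (h2 : ∀ v ∈ W, φ v ∈ B) : finrank k W ≤ finrank k A + finrank k B := by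
  rw [← (φ.domRestrict W).finrank_range_add_finrank_ker, add_comm,
    ← Submodule.finrank_map_subtype_eq W (LinearMap.ker _)]
  refine add_le_add (Submodule.finrank_mono ?_) (Submodule.finrank_mono ?_)
  · rintro _ ⟨v, hv, rfl⟩; exact h1 _ v.2 hv
  · rintro _ ⟨v, rfl⟩; exact h2 _ v.2

theorem eig_disj {f : End k V} {a b : k} (h : a ≠ b) {A B : Submodule k V} (h1 : A ≤ f.eigenspace a)
    (h2 : B ≤ f.eigenspace b) : A ⊓ B = ⊥ :=
  ((f.eigenspaces_iSupIndep.pairwiseDisjoint h).mono h1 h2).eq_bot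

theorem v4 (h2 : (2 : k) ≠ 0) {A B Y : End k V} (hA : A * A = 1) (hB : B * B = 1)
    (hAB : B * A = A * B) (h1 : Y * A = B * Y) (h3 : Y * B = A * B * Y) {μ : k} (hμ : μ ≠ 0) :
    finrank k (Y.eigenspace μ) ≤ finrank k ↥(Y.eigenspace μ ⊓ (A.eigenspace 1 ⊓ B.eigenspace 1)) +
      finrank k ↥(A.eigenspace 1 ⊓ B.eigenspace (-1)) := by
  have eA : ∀ v, A (A v) = v := LinearMap.congr_fun hA
  have eB : ∀ v, B (B v) = v := LinearMap.congr_fun hB
  have eAB : ∀ v, B (A v) = A (B v) := LinearMap.congr_fun hAB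
  have e1 : ∀ v, Y (A v) = B (Y v) := LinearMap.congr_fun h1
  have e3 : ∀ v, Y (B v) = A (B (Y v)) := LinearMap.congr_fun h3
  refine rk_le ((1 + A) * (1 - B)) (fun v hv h => ⟨hv, ?_⟩) fun v _ => ?_
  · rw [End.mem_eigenspace_iff] at hv
    have a1 := congrArg Y h
    have a2 := congrArg Y a1
    simp only [End.mul_apply, LinearMap.add_apply, LinearMap.sub_apply, End.one_apply, map_add,
      map_sub, e1, e3, hv, map_smul, eA, eB, eAB, map_zero] at h a1 a2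
    change v ∈ A.eigenspace 1 ∧ v ∈ B.eigenspace 1
    simp only [End.mem_eigenspace_iff, one_smul]
    have hc : (2 * μ * μ) ≠ 0 := by simp [h2, hμ]
    constructor <;> refine smul_right_injective V hc (?_ : _ • _ = _ • _)
    · linear_combination (norm := module) -(μ • a1) - a2
    · linear_combination (norm := module) -((μ * μ) • h) - a2
  · simp only [Submodule.mem_inf, End.mem_eigenspace_iff, End.mul_apply, LinearMap.add_apply,
      LinearMap.sub_apply, End.one_apply, map_add, map_sub, eA, eB, eAB]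
    constructor <;> module

end lin

variable {k V : Type} [Field k] [IsAlgClosed k] [AddCommGroup V] [Module k V]
  [FiniteDimensional k V] {G : Type*} [Group G] {ρ : G →* End k V} {π : G →* Perm (Fin 12)}

theorem d7 (h : Cv π) (h2 : (2 : k) ≠ 0) {X : Finset (Fin 12)} (hX : 8 ≤ X.card) {W : Submodule k V}
    (hW : ∀ g, π g ∈ Al X → ∀ v ∈ W, ρ g v ∈ W) (hd : finrank k W ≤ 6) :
    ∀ σ ∈ Al X, ∃ g, π g = σ ∧ ∀ v ∈ W, ρ g v = v :=
  (h.dich (by omega) W hW).resolve_right fun e => by have := h.seven h2 hX W hW e; omega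

theorem eig_inv {y g : G} (h : y * g = g * y) {μ : k} {v : V} (hv : v ∈ (ρ y).eigenspace μ) :
    ρ g v ∈ (ρ y).eigenspace μ := by
  rw [End.mem_eigenspace_iff] at hv ⊢
  rw [← End.mul_apply, ← map_mul, h, map_mul, End.mul_apply, hv, map_smul]

theorem cj (h : Cv π) {y y' g : G} (hy : U π y) (hy' : U π y') {n : ℕ}
    (e : π g * π y * (π g)⁻¹ = π y' ^ n) : g * y * g⁻¹ = y' ^ n := by
  obtain ⟨⟨a, b, c, h1, h2, h3, e1⟩, c1⟩ := hy.conj g
  have h4 := isThreeCycle_swap_mul_swap_same h1 h2 h3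
  rw [← e1] at h4
  exact h.uniq (by decide) h4.isCycle (by rw [Finset.card_compl, h4.card_support]; simp) c1
    (hy'.2.pow n) (by simpa using e)

/-- generators of the normaliser -/
def gen : Fin 3 → Perm (Fin 12) :=
  ![sb 0 1 * swap 1 2, sb 0 1 * sb 1 2 * sb 2 3 * swap 1 2, swap 1 2 * swap 4 5]
/-- permutation of the blocks -/
def gσ : Fin 3 → Fin 4 → Fin 4 := ![![1, 0, 2, 3], ![1, 2, 3, 0], ![0, 1, 2, 3]]
/-- exponents -/
def gn : Fin 3 → Fin 4 → ℕ := ![![2, 1, 1, 1], ![2, 1, 1, 1], ![2, 2, 1, 1]]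

theorem gen_spec : ∀ s, sign (gen s) = 1 ∧ ∀ i, gen s * tt i * (gen s)⁻¹ = tt (gσ s i) ^ gn s i := by
  decide +kernel

theorem orb12 : ∀ j : ZMod 3, j ≠ 0 → 12 ≤ ((orb (List.ofFn fun s (w : Fin 4 → ZMod 3) i =>
    (gn s i : ZMod 3) * w (gσ s i)) 4 [![1, j, 0, 0]]).toFinset.filter fun w => w 0 = 0).card := by
  decide +kernel

theorem ttc : ∀ i, (tt i).supportᶜ.card = 9 := by decide +kernel

variable {Y : Fin 4 → G} (h : Cv π) (hY : ∀ i, U π (Y i) ∧ π (Y i) = tt i)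
include h hY

theorem comY {i : Fin 4} {g : G} (hg : π g ∈ Al (tt i).supportᶜ) : Y i * g = g * Y i :=
  h.comm (by rw [ttc]; omega) (fun x hx => by rw [(hY i).2]; simpa using hx) hg

theorem w12 (h9 : finrank k ((ρ (Y 0)).eigenspace 1) = 9) {μ ν : k} (h1 : μ ≠ 1) (h2 : ν ≠ 1)
    {v : V} (hv : v ≠ 0) (a0 : ρ (Y 0) v = μ • v) (a1 : ρ (Y 1) v = ν • v) (a2 : ρ (Y 2) v = v)
    (a3 : ρ (Y 3) v = v) : False := by
  have h3 : ∀ i, ρ (Y i) ^ 3 = 1 := fun i => by rw [← map_pow, (hY i).1.2.1, map_one]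
  have hζ := prim_of Nat.prime_three h1 (eig_root hv a0 (h3 0))
  obtain ⟨j, rfl⟩ := root_val hζ (eig_root hv a1 (h3 1))
  have hj : j ≠ 0 := by rintro rfl; simp at h2
  let P : (Fin 4 → ZMod 3) → Prop := fun w => ∃ v, v ≠ 0 ∧ ∀ i, ρ (Y i) v = μ ^ (w i).val • v
  have := (orb12 j hj).trans ((Fintype.card_coe _).symm.trans_le (wt_card_sub (fun i => ρ (Y i))
    (fun w i => μ ^ (w.1 i).val) (fun w w' e => Subtype.ext (funext fun i =>
      val_inj' hζ (congrFun e i))) ((ρ (Y 0)).eigenspace 1) fun w => ?_))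
  · omega
  obtain ⟨w, hw⟩ := w
  rw [Finset.mem_filter, List.mem_toFinset] at hw
  obtain ⟨u, hu0, hu⟩ : P w := orb_cl (P := P) (by
      intro f hf x ⟨u, hu0, hu⟩
      obtain ⟨s, rfl⟩ := List.mem_ofFn.1 hf
      obtain ⟨g, hg⟩ := h.surj _ (gen_spec s).1
      exact ⟨_, ρ_ne g⁻¹ hu0, fun i => wt_conj hζ.pow_eq_one (cj h (hY i).1 (hY _).1 (by
        rw [hg, (hY i).2, (hY _).2, (gen_spec s).2])) (hu _)⟩) 4 _ (by
      intro x hx
      rw [List.mem_singleton] at hx; subst hx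
      refine ⟨v, hv, fun i => ?_⟩
      fin_cases i
      · simpa [ZMod.val_one] using a0
      · exact a1
      · simpa using a2
      · simpa using a3) _ hw.1
  exact ⟨u, End.mem_eigenspace_iff.2 (by simpa [hw.2] using hu 0), hu0, hu⟩

theorem e9 (hE : E6L ρ) (h2 : (2 : k) ≠ 0) (h3 : (3 : k) ≠ 0) (i : Fin 4) :
    finrank k ((ρ (Y i)).eigenspace 1) = 9 ∧
      ∀ μ : k, μ ≠ 1 → μ ^ 3 = 1 → finrank k ((ρ (Y i)).eigenspace μ) = 9 := by
  have h0 : ∀ i, Y i ≠ 1 := fun i e =>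
    (show ∀ i, tt i ≠ 1 by decide +kernel) i (by rw [← (hY i).2, e, map_one])
  have hd : ∀ i μ, finrank k ((ρ (Y i)).eigenspace μ) = finrank k ((ρ (Y 0)).eigenspace μ) :=
    fun i μ => by
      obtain ⟨σ, h4, h5⟩ : ∃ σ, sign σ = 1 ∧ σ * tt 0 * σ⁻¹ = tt i ^ 1 :=
        ⟨sb 0 i * (if i = 0 then 1 else swap 10 11), by revert i; decide +kernel⟩
      obtain ⟨g, rfl⟩ := h.surj σ h4
      rw [← eig_dim g (Y 0), cj h (hY 0).1 (hY i).1 (by rw [(hY 0).2, (hY i).2, h5]), pow_one]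
  haveI : NeZero ((3 : ℕ) : k) := ⟨by simpa using h3⟩
  obtain ⟨ω, hω⟩ := HasEnoughRootsOfUnity.exists_primitiveRoot k 3
  have w1 : ω ≠ 1 := hω.ne_one (by norm_num)
  have w2 : ω ^ 2 ≠ 1 := hω.pow_ne_one_of_pos_of_lt (by norm_num) (by norm_num)
  have w3 : (ω ^ 2) ^ 3 = 1 := by rw [← pow_mul, mul_comm, pow_mul, hω.pow_eq_one, one_pow]
  suffices finrank k ((ρ (Y 0)).eigenspace 1) = 9 from ⟨(hd i 1).trans this, fun μ a b => by
    have := hE.p1 _ (hY 0).1.2 (h0 0) μ a b; rw [hd]; omega⟩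
  by_contra h9
  have h6 : ∀ i μ, μ ≠ 1 → μ ^ 3 = 1 → finrank k ((ρ (Y i)).eigenspace μ) = 6 := fun i μ a b => by
    have := hE.p1 _ (hY 0).1.2 (h0 0) μ a b; rw [hd]; omega
  have h7 : ∀ i j μ, i ≠ j → μ ≠ 1 → μ ^ 3 = 1 →
      (ρ (Y i)).eigenspace μ ≤ (ρ (Y j)).eigenspace 1 := fun i j μ hij a b v hv => by
    rw [End.mem_eigenspace_iff, one_smul]
    refine h.mem_F (by simp) (Z := (tt i).supportᶜ) (by rw [ttc]; omega) (fun σ hσ => ?_) _
      (hY j).1 ?_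
    · obtain ⟨g, e, hg⟩ := d7 (ρ := ρ) h h2 (X := (tt i).supportᶜ) (by rw [ttc]; omega)
        (fun g hg v hv => eig_inv (comY h hY hg) hv) (h6 i μ a b).le σ hσ
      exact ⟨g, hg v hv, e⟩
    · rw [(hY j).2, mem_Al]; exact (by decide +kernel : ∀ i j, i ≠ j → sign (tt j) = 1 ∧
        ∀ x, x ∉ (tt i).supportᶜ → tt j x = x) i j hij
  have a1 := dsum (eig_disj (show ω ≠ ω ^ 2 from fun e => w1 (by
      rwa [sq, left_eq_mul₀ (hω.ne_zero (by norm_num))] at e)) le_rfl le_rfl)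
    (le_sup_left (b := (ρ (Y 1)).eigenspace (ω ^ 2))) le_sup_right
  have a2 := dsum (A := (ρ (Y 1)).eigenspace ω ⊔ (ρ (Y 1)).eigenspace (ω ^ 2))
    (B := (ρ (Y 2)).eigenspace ω) (C := (ρ (Y 0)).eigenspace 1) ?_
    (sup_le (h7 _ _ _ (by decide) w1 hω.pow_eq_one) (h7 _ _ _ (by decide) w2 w3))
    (h7 _ _ _ (by decide) w1 hω.pow_eq_one)
  · have := hE.p1 _ (hY 0).1.2 (h0 0) ω w1 hω.pow_eq_one
    rw [h6 _ _ w1 hω.pow_eq_one] at a1 a2
    rw [h6 _ _ w2 w3] at a1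
    omega
  · exact eig_disj w1.symm
      (sup_le (h7 _ _ _ (by decide) w1 hω.pow_eq_one) (h7 _ _ _ (by decide) w2 w3)) le_rfl

omit hY in
theorem comm_lift {u1 u2 g1 g2 : G} (e1 : π g1 = π u1) (e2 : π g2 = π u2) :
    g1 * g2 * g1⁻¹ * g2⁻¹ = u1 * u2 * u1⁻¹ * u2⁻¹ := by
  have a1 := h.cen (u1⁻¹ * g1) (by simp [e1])
  have a2 := h.cen (u2⁻¹ * g2) (by simp [e2])
  calc _ = u1 * (u1⁻¹ * g1 * g2) * (u1⁻¹ * g1)⁻¹ * u1⁻¹ * g2⁻¹ := by group
    _ = u1 * u2 * (u1⁻¹ * (u2⁻¹ * g2)) * g2⁻¹ := by rw [← a1, a2]; group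
    _ = _ := by group

theorem stepC (hE : E6L ρ) (h2 : (2 : k) ≠ 0) (h3 : (3 : k) ≠ 0) {u : G}
    (hu : π u = swap 0 1 * swap 2 3) (hc : Commute u (Y 0 * u * (Y 0)⁻¹)) : False := by
  have y3 : Y 0 ^ 3 = 1 := (hY 0).1.2.1
  have h9 := e9 h hY hE h2 h3
  obtain ⟨a, ha⟩ : ∃ a, a = u * (Y 0 * u * (Y 0)⁻¹)⁻¹ := ⟨_, rfl⟩
  obtain ⟨b, hb⟩ : ∃ b, b = Y 0 * a * (Y 0)⁻¹ := ⟨_, rfl⟩
  have pa : π a = swap 0 3 * swap 1 2 := by
    simp only [ha, map_mul, map_inv, hu, (hY 0).2]; decide +kernel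
  have pb : π b = swap 0 1 * swap 2 3 := by
    simp only [hb, map_mul, map_inv, pa, (hY 0).2]; decide +kernel
  have hcj : ∀ {x y : G}, Commute x y → Commute (Y 0 * x * (Y 0)⁻¹) (Y 0 * y * (Y 0)⁻¹) :=
    fun e => e.map (MulAut.conj (Y 0))
  have e3 : ∀ x : G, Y 0 * (Y 0 * (Y 0 * x * (Y 0)⁻¹) * (Y 0)⁻¹) * (Y 0)⁻¹ = x := fun x => by
    calc _ = Y 0 ^ 3 * x * (Y 0 ^ 3)⁻¹ := by rw [pow_three]; group
      _ = x := by rw [y3]; group
  have a2 : a * a = 1 := by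
    have := h.cen (u * u) (by rw [map_mul, hu]; decide +kernel) (Y 0)
    calc a * a = u * ((Y 0 * u * (Y 0)⁻¹)⁻¹ * u) * (Y 0 * u * (Y 0)⁻¹)⁻¹ := by rw [ha]; group
      _ = u * u * (Y 0 * (u * u) * (Y 0)⁻¹)⁻¹ := by rw [← hc.inv_right.eq]; group
      _ = 1 := by rw [this]; group
  have b2 : b * b = 1 := by rw [hb, conj_mul, a2]; group
  have c1 := hcj hc
  have c2 := hcj c1
  rw [e3] at c2
  have hb' : b = Y 0 * u * (Y 0)⁻¹ * (Y 0 * (Y 0 * u * (Y 0)⁻¹) * (Y 0)⁻¹)⁻¹ := by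
    rw [hb, ha, ← conj_mul, conj_inv (a := Y 0 * u * (Y 0)⁻¹)]
  have ab : b * a = a * b := by
    rw [hb', ha]
    exact (((hc.mul_right c2.symm.inv_right).mul_left
      ((Commute.refl _).mul_right c1.inv_right).inv_left)).symm.eq
  have yb : Y 0 * b = a * b * Y 0 := by
    have : Y 0 * b * (Y 0)⁻¹ * (a * b) = 1 := by
      rw [hb', ha, ← conj_mul, ← conj_inv (a := Y 0 * (Y 0 * u * (Y 0)⁻¹) * (Y 0)⁻¹), e3]
      simp [mul_assoc]
    rw [← mul_inv_eq_iff_eq_mul, eq_inv_of_mul_eq_one_left this, inv_eq_iff_mul_eq_one,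
      mul_assoc, ← mul_assoc b, ab, mul_assoc, b2, mul_one, a2]
  have ya : Y 0 * a = b * Y 0 := by rw [hb]; group
  have hp : ∀ s : G, s * s = 1 → π s ≠ 1 → finrank k ((ρ s).eigenspace 1) ≤ 15 ∧
      finrank k ((ρ s).eigenspace (-1)) ≤ 16 := fun s a b => by
    have := hE.p3 s (by rw [sq, a]) (by rintro rfl; simp at b); omega
  have m1 : (1 : k) ≠ -1 := fun e => h2 (by linear_combination e)
  have q : ∀ μ : k, μ ≠ 1 → μ ^ 3 = 1 → 9 ≤ finrank k ↥((ρ (Y 0)).eigenspace μ ⊓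
      ((ρ a).eigenspace 1 ⊓ (ρ b).eigenspace 1)) +
      finrank k ↥((ρ a).eigenspace 1 ⊓ (ρ b).eigenspace (-1)) := fun μ a1 a3 => by
    rw [← (h9 0).2 μ a1 a3]
    refine v4 h2 ?_ ?_ ?_ ?_ ?_ (by rintro rfl; simp at a3) <;>
      simp only [← map_mul, a2, b2, ab, ya, yb, map_one]
  set V1 := (ρ a).eigenspace 1 ⊓ (ρ b).eigenspace (-1)
  have f8 : finrank k V1 + finrank k V1 ≤ 16 := by
    have hV : ∀ v ∈ V1, ρ a v = v ∧ ρ b v = -v := fun v hv =>
      ⟨by simpa using End.mem_eigenspace_iff.1 hv.1, by simpa using End.mem_eigenspace_iff.1 hv.2⟩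
    refine le_trans ?_ (hp (a * b) (by rw [mul_assoc, ← mul_assoc b, ab, mul_assoc, b2, mul_one, a2])
      (by rw [map_mul, pa, pb]; decide +kernel)).2
    nth_rw 2 [LinearEquiv.finrank_eq (Submodule.equivMapOfInjective (ρ (Y 0)) (ρ_inj _) V1)]
    refine dsum (eig_disj (f := ρ b) m1.symm inf_le_right ?_) (fun v hv => ?_) ?_
    · rintro _ ⟨v, hv, rfl⟩
      rw [End.mem_eigenspace_iff, ← End.mul_apply, ← map_mul, ← ya, map_mul, End.mul_apply,
        (hV v hv).1, one_smul]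
    · rw [End.mem_eigenspace_iff, map_mul, End.mul_apply, (hV v hv).2, map_neg, (hV v hv).1]; simp
    · rintro _ ⟨v, hv, rfl⟩
      rw [End.mem_eigenspace_iff, ← End.mul_apply, ← map_mul, ← yb, map_mul, End.mul_apply,
        (hV v hv).2]; simp
  haveI : NeZero ((3 : ℕ) : k) := ⟨by simpa using h3⟩
  obtain ⟨ω, hω⟩ := HasEnoughRootsOfUnity.exists_primitiveRoot k 3
  have w1 : ω ≠ 1 := hω.ne_one (by norm_num)
  have q1 := q ω w1 hω.pow_eq_one
  have q2 := q (ω ^ 2) (hω.pow_ne_one_of_pos_of_lt (by norm_num) (by norm_num))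
    (by rw [← pow_mul, mul_comm, pow_mul, hω.pow_eq_one, one_pow])
  set W := (ρ (Y 0)).eigenspace ω ⊓ ((ρ a).eigenspace 1 ⊓ (ρ b).eigenspace 1)
  have q3 := dsum (A := W) (eig_disj (show ω ≠ ω ^ 2 from fun e => w1 (by
      rwa [sq, left_eq_mul₀ (hω.ne_zero (by norm_num))] at e)) inf_le_left inf_le_left)
    inf_le_right (inf_le_right (a := (ρ (Y 0)).eigenspace (ω ^ 2)))
  have q4 := dsum (A := (ρ a).eigenspace 1 ⊓ (ρ b).eigenspace 1) (B := V1)
    (eig_disj m1 inf_le_right inf_le_right) inf_le_left inf_le_left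
  have q5 := (hp a a2 (by rw [pa]; decide +kernel)).1
  obtain ⟨v, hv, hv0⟩ := W.exists_mem_ne_zero_of_ne_bot fun e => by
    rw [e, finrank_bot] at q1; omega
  let X : Finset (Fin 12) := {0, 1, 2, 3}ᶜ
  have hX : Al X ≤ (St ρ v).map π := fun σ hσ => by
    obtain ⟨g, e, hg⟩ := d7 (ρ := ρ) h h2 (X := X) (by decide) (W := W) (fun g hg v hv =>
      ⟨eig_inv (h.comm (by decide) (by rw [(hY 0).2]; decide +kernel) hg) hv.1,
        eig_inv (h.comm (by decide) (by rw [pa]; decide +kernel) hg) hv.2.1,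
        eig_inv (h.comm (by decide) (by rw [pb]; decide +kernel) hg) hv.2.2⟩) (by omega) σ hσ
    exact ⟨g, hg v hv, e⟩
  have hF := h.mem_F (by simp) (by decide) hX
  have f2 := hF _ (hY 2).1 (by rw [(hY 2).2, mem_Al]; decide +kernel)
  have f3 := hF _ (hY 3).1 (by rw [(hY 3).2, mem_Al]; decide +kernel)
  have f1 : ρ (Y 1) v = v := by
    by_contra f1
    have hc : ∀ i, i ≠ 1 → Y i * Y 1 = Y 1 * Y i := fun i hi => comY h hY (by
      rw [(hY 1).2, mem_Al]; revert i; decide +kernel)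
    obtain ⟨μ, a1, -, w, a3, a4, a5⟩ := ex_eig_ne (ρ (Y 1)) ((ρ (Y 0)).eigenspace ω ⊓
      ((ρ (Y 2)).eigenspace 1 ⊓ (ρ (Y 3)).eigenspace 1)) (fun v hv => ⟨eig_inv (hc 0 (by decide)) hv.1,
        eig_inv (hc 2 (by decide)) hv.2.1, eig_inv (hc 3 (by decide)) hv.2.2⟩) (n := 3)
      (by rw [← map_pow, (hY 1).1.2.1, map_one]) (by simpa using h3) ⟨v, ⟨hv.1,
        End.mem_eigenspace_iff.2 (by simpa using f2), End.mem_eigenspace_iff.2 (by simpa using f3)⟩, f1⟩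
    exact w12 h hY (h9 0).1 w1 a1 a4 (End.mem_eigenspace_iff.1 a3.1) a5
      (by simpa using End.mem_eigenspace_iff.1 a3.2.1) (by simpa using End.mem_eigenspace_iff.1 a3.2.2)
  have g1 : tt 1 ∈ (St ρ v).map π := ⟨_, f1, (hY 1).2⟩
  have g2 : swap 0 3 * swap 1 2 ∈ (St ρ v).map π :=
    ⟨a, by simpa [mem_St] using End.mem_eigenspace_iff.1 hv.2.1, pa⟩
  have g3 : swap 0 1 * swap 2 3 ∈ (St ρ v).map π :=
    ⟨b, by simpa [mem_St] using End.mem_eigenspace_iff.1 hv.2.2, pb⟩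
  have g4 : ∀ σ ∈ (St ρ v).map π, σ * tt 1 * σ⁻¹ ∈ (St ρ v).map π := fun σ hσ =>
    mul_mem (mul_mem hσ g1) (inv_mem hσ)
  have := h.U_mem (N := St ρ v) (by simp) (X := Finset.univ) (by simp) (Al_le (a := 4) (b := 5) (by decide)
    fun y _ a1 a3 => ?_) (hY 0).1 ⟨h.even _, by simp⟩
  · rw [mem_St, End.mem_eigenspace_iff.1 hv.1] at this
    exact w1 (smul_left_injective k hv0 (this.trans (one_smul k v).symm))
  by_cases hy : y ∈ X
  · exact hX (sw3_mem (by decide) (by decide) hy (by decide) a1.symm)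
  have : y = 0 ∨ y = 1 ∨ y = 2 ∨ y = 3 := by simp [X] at hy; tauto
  rcases this with rfl | rfl | rfl | rfl
  · convert g4 _ g2 using 1; decide +kernel
  · convert g4 _ (mul_mem g2 g3) using 1; decide +kernel
  · convert g4 _ g3 using 1; decide +kernel
  · convert g1 using 1; decide +kernel

omit h hY in
theorem noA12 [Finite G] (hE : E6L ρ) (hπ : Mn π) (h2 : (2 : k) ≠ 0) (h3 : (3 : k) ≠ 0) {m : ℕ}
    (hm : (m : k) ≠ 0) (hN : ∀ n ∈ π.ker, n ^ m = 1) : False := by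
  have h : Cv π := ⟨hπ.even, hπ.surj, fun z hz g => mem_center_iff.1 (hE.cen hπ hm hN hz) g⟩
  have : ∀ i, ∃ y, U π y ∧ π y = tt i := fun i => by
    fin_cases i <;> exact h.exU (by simp) (by decide) (by decide) (by decide)
  choose Y hY using this
  have h9 := e9 h hY hE h2 h3
  obtain ⟨u, hu⟩ := h.surj (swap 0 1 * swap 2 3) (by decide +kernel)
  obtain ⟨u', hu'⟩ : ∃ u', u' = Y 0 * u * (Y 0)⁻¹ := ⟨_, rfl⟩
  have pu : π u' = swap 0 2 * swap 1 3 := by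
    simp only [hu', map_mul, map_inv, hu, (hY 0).2]; decide +kernel
  obtain ⟨z, hz⟩ : ∃ z, z = u * u' * u⁻¹ * u'⁻¹ := ⟨_, rfl⟩
  have z1 : z ≠ 1 := fun e => stepC h hY hE h2 h3 hu (by
    rwa [hz, mul_inv_eq_one, mul_inv_eq_iff_eq_mul, hu'] at e)
  have zc := h.cen z (by simp only [hz, map_mul, map_inv, hu, pu]; decide +kernel)
  have z2 : z ^ 2 = 1 := by
    have := h.cen (u * u) (by rw [map_mul, hu]; decide +kernel) u'
    have e : u * z * u⁻¹ = z := by rw [zc u]; group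
    calc z ^ 2 = u * z * u⁻¹ * z := by rw [sq, e]
      _ = u * u * u' * (u * u)⁻¹ * u'⁻¹ := by rw [hz]; group
      _ = 1 := by rw [← this]; group
  have m1 : (1 : k) ≠ -1 := fun e => h2 (by linear_combination e)
  rcases hE.p3 z z2 z1 with ⟨-, a⟩ | ⟨-, -, W, a, hW⟩
  · have key : ∀ μ, ∀ v ∈ (ρ z).eigenspace (-1) ⊓ (ρ (Y 3)).eigenspace μ, v ≠ 0 →
        7 ≤ finrank k ↥((ρ z).eigenspace (-1) ⊓ (ρ (Y 3)).eigenspace μ) := fun μ v hv hv0 => by
      by_contra hc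
      have := d7 (ρ := ρ) h h2 (X := (tt 3).supportᶜ) (by rw [ttc]; omega)
        (W := (ρ z).eigenspace (-1) ⊓ (ρ (Y 3)).eigenspace μ)
        (fun g hg v hv => ⟨eig_inv (zc g).symm hv.1, eig_inv (comY h hY hg) hv.2⟩)
        (Nat.le_of_lt_succ (not_le.1 hc))
      obtain ⟨g, e, hg⟩ := this (π u) (by rw [hu, mem_Al]; decide +kernel)
      obtain ⟨g', e', hg'⟩ := this (π u') (by rw [pu, mem_Al]; decide +kernel)
      have a1 : z ∈ St ρ v := by
        rw [hz, ← comm_lift h e e']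
        exact mul_mem (mul_mem (mul_mem (hg v hv) (hg' v hv)) (inv_mem (hg v hv))) (inv_mem (hg' v hv))
      rw [mem_St, End.mem_eigenspace_iff.1 hv.1] at a1
      exact m1 (smul_left_injective k hv0 ((one_smul k v).trans a1.symm))
    obtain ⟨μ, a1, a2, v, a3, a4, a5⟩ := ex_eig_ne (ρ (Y 3)) ((ρ z).eigenspace (-1))
      (fun v hv => eig_inv (zc _).symm hv) (n := 3) (by rw [← map_pow, (hY 3).1.2.1, map_one])
      (by simpa using h3) (by
        by_contra! e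
        have := Submodule.finrank_mono (show (ρ z).eigenspace (-1) ≤ (ρ (Y 3)).eigenspace 1 from
          fun v hv => End.mem_eigenspace_iff.2 (by simpa using e v hv))
        rw [(h9 3).1] at this
        omega)
    obtain ⟨s, hs⟩ := (hY 3).1.2.2
    have b1 := key μ v ⟨a3, End.mem_eigenspace_iff.2 a5⟩ a4
    have b2 := key (μ ^ 2) (ρ s⁻¹ v) ⟨eig_inv (zc _).symm a3, End.mem_eigenspace_iff.2
      (eig_conj (by rw [hs, inv_eq_iff_mul_eq_one, ← pow_succ', (hY 3).1.2.1]) a5)⟩ (ρ_ne _ a4)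
    have := dsum (A := (ρ z).eigenspace (-1) ⊓ (ρ (Y 3)).eigenspace μ)
      (eig_disj (show μ ≠ μ ^ 2 from fun e => a1 (by
        rwa [sq, left_eq_mul₀ (by rintro rfl; simp at a2)] at e)) inf_le_right inf_le_right)
      inf_le_left (inf_le_left (b := (ρ (Y 3)).eigenspace (μ ^ 2)))
    omega
  have hW' : ∀ g, ∀ v ∈ W, ρ g v ∈ W := fun g => hW g (zc g).symm
  rcases hπ.dich (by simp) (resW ρ W hW').ker with e | e
  · have := (pp 10 k W a _ (by simp) G _ π h.even h.surj e).2 (by simp)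
    rw [Fintype.card_fin, show ((12 : ℕ) : k) = 2 * 2 * 3 by norm_num] at this
    simp [h2, h3] at this
  · have := Submodule.finrank_mono (show W ≤ (ρ (Y 0)).eigenspace 1 from fun v hv =>
      End.mem_eigenspace_iff.2 ((congrArg Subtype.val (LinearMap.congr_fun
        (e.ge (mem_top (Y 0))) ⟨v, hv⟩)).trans (one_smul k v).symm))
    rw [(h9 0).1] at this
    omega

end H23.Sec
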