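import Cfsg.Agent.H23.Sec3
import Cfsg.Agent.H14.MinusE

/-! The module of dimension 27 for groups of type E6. -/

set_option autoImplicit false
set_option linter.unusedSectionVars false
set_option maxRecDepth 100000

namespace H23.Sec

open H14 H14.PreSt H14.St Equiv Equiv.Perm H23.Wag Cfsg.Lie Module
open H14.RootSys hiding sign
open Matrix hiding J

/-- the weights -/
def wE (a : Fin 27) (i : ℕ) : ℤ := ((
  [[1, 0, 0, 0, 0, 0], [-1, 0, 1, 0, 0, 0], [0, 0, -1, 1, 0, 0], [0, 1, 0, -1, 1, 0], [0, -1, 0,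
    0, 1, 0], [0, 1, 0, 0, -1, 1], [0, -1, 0, 1, -1, 1], [0, 1, 0, 0, 0, -1], [0, 0, 1, -1, 0, 1],
    [0, -1, 0, 1, 0, -1], [1, 0, -1, 0, 0, 1], [0, 0, 1, -1, 1, -1], [-1, 0, 0, 0, 0, 1], [1, 0,
    -1, 0, 1, -1], [0, 0, 1, 0, -1, 0], [-1, 0, 0, 0, 1, -1], [1, 0, -1, 1, -1, 0], [-1, 0, 0, 1,
    -1, 0], [1, 1, 0, -1, 0, 0], [-1, 1, 1, -1, 0, 0], [1, -1, 0, 0, 0, 0], [-1, -1, 1, 0, 0, 0],
    [0, 1, -1, 0, 0, 0], [0, -1, -1, 1, 0, 0], [0, 0, 0, -1, 1, 0], [0, 0, 0, 0, -1, 1], [0, 0, 0,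
    0, 0, -1]] : List (List ℤ)).getD a []).getD i 0

/-- three times the weights in terms of the simple roots -/
def w3 (a : Fin 27) (i : ℕ) : ℤ := ((
  [[4, 3, 5, 6, 4, 2], [1, 3, 5, 6, 4, 2], [1, 3, 2, 6, 4, 2], [1, 3, 2, 3, 4, 2], [1, 0, 2, 3, 4,
    2], [1, 3, 2, 3, 1, 2], [1, 0, 2, 3, 1, 2], [1, 3, 2, 3, 1, -1], [1, 0, 2, 0, 1, 2], [1, 0, 2,
    3, 1, -1], [1, 0, -1, 0, 1, 2], [1, 0, 2, 0, 1, -1], [-2, 0, -1, 0, 1, 2], [1, 0, -1, 0, 1,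
    -1], [1, 0, 2, 0, -2, -1], [-2, 0, -1, 0, 1, -1], [1, 0, -1, 0, -2, -1], [-2, 0, -1, 0, -2,
    -1], [1, 0, -1, -3, -2, -1], [-2, 0, -1, -3, -2, -1], [1, -3, -1, -3, -2, -1], [-2, -3, -1,
    -3, -2, -1], [-2, 0, -4, -3, -2, -1], [-2, -3, -4, -3, -2, -1], [-2, -3, -4, -6, -2, -1], [-2,
    -3, -4, -6, -5, -1], [-2, -3, -4, -6, -5, -4]] : List (List ℤ)).getD a []).getD i 0

/-- the lines of the quadrangle -/
def pick (a : Fin 27) (k : Fin 5) (b : Bool) : Fin 27 := ((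
  [[12, 26, 15, 25, 17, 24, 19, 23, 21, 22], [10, 26, 13, 25, 16, 24, 18, 23, 20, 22], [8, 26, 11,
    25, 14, 24, 18, 21, 19, 20], [6, 26, 9, 25, 14, 23, 16, 21, 17, 20], [5, 26, 7, 25, 14, 22,
    16, 19, 17, 18], [4, 26, 9, 24, 11, 23, 13, 21, 15, 20], [3, 26, 7, 24, 11, 22, 13, 19, 15,
    18], [4, 25, 6, 24, 8, 23, 10, 21, 12, 20], [2, 26, 7, 23, 9, 22, 13, 17, 15, 16], [3, 25, 5,
    24, 8, 22, 10, 19, 12, 18], [1, 26, 7, 21, 9, 19, 11, 17, 14, 15], [2, 25, 5, 23, 6, 22, 10,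
    17, 12, 16], [0, 26, 7, 20, 9, 18, 11, 16, 13, 14], [1, 25, 5, 21, 6, 19, 8, 17, 12, 14], [2,
    24, 3, 23, 4, 22, 10, 15, 12, 13], [0, 25, 5, 20, 6, 18, 8, 16, 10, 14], [1, 24, 3, 21, 4, 19,
    8, 15, 11, 12], [0, 24, 3, 20, 4, 18, 8, 13, 10, 11], [1, 23, 2, 21, 4, 17, 6, 15, 9, 12], [0,
    23, 2, 20, 4, 16, 6, 13, 9, 10], [1, 22, 2, 19, 3, 17, 5, 15, 7, 12], [0, 22, 2, 18, 3, 16, 5,
    13, 7, 10], [0, 21, 1, 20, 4, 14, 6, 11, 8, 9], [0, 19, 1, 18, 3, 14, 5, 11, 7, 8], [0, 17, 1,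
    16, 2, 14, 5, 9, 6, 7], [0, 15, 1, 13, 2, 11, 3, 9, 4, 7], [0, 12, 1, 10, 2, 8, 3, 6, 4, 5]] : List (List (Fin 27))).getD a []).getD (2 * k + cond b 1 0) 0

theorem wE_eq : ∀ a (i : Fin chevE6.rank), repE6.wt a i = wE a i := by
  change ∀ a i, minE6.wt a i = _
  decide +kernel

theorem w3_eq : ∀ a (i : Fin chevE6.rank),
    3 * wE a i = ∑ j : Fin chevE6.rank, w3 a j * goodE6.R.wt (goodE6.R.simple j) i := by decide +kernel

theorem pick1 : ∀ a k (i : Fin chevE6.rank), wE a i + wE (pick a k true) i + wE (pick a k false) i = 0 := by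
  decide +kernel

theorem pick2 : ∀ a b0 b1 b2 b3 b4, ∃ k, ∀ b, [a, pick a 0 b0, pick a 1 b1, pick a 2 b2, pick a 3 b3,
    pick a 4 b4, pick (pick a 0 b0) k b].Nodup := by decide +kernel

/-- number of weights with given value -/
def cnt (W : Fin 27 → ℕ → ℤ) {n : ℕ} (ν : Fin 6 → ZMod n) (j : ZMod n) : ℕ :=
  (Finset.univ.filter fun a => ∑ i, ν i * W a i = j).card

/-- hexadecimal digits -/
def dg (T i : ℕ) : ℕ := (T >>> (4 * i)) % 16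

/-- encoding of the multiplicities -/
def code (n T a b c d e f : ℕ) : ℕ := ∑ x : Fin 27, 32 ^ ((a * dg T (6 * x) + b * dg T (6 * x + 1) +
  c * dg T (6 * x + 2) + d * dg T (6 * x + 3) + e * dg T (6 * x + 4) + f * dg T (6 * x + 5)) % n)

theorem code_eq {W : Fin 27 → ℕ → ℤ} {n T : ℕ} [NeZero n]
    (hT : ∀ (x : Fin 27) (i : Fin 6), ((dg T (6 * x + i) : ℕ) : ZMod n) = W x i) (ν : Fin 6 → ℕ) :
    code n T (ν 0) (ν 1) (ν 2) (ν 3) (ν 4) (ν 5) =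
      ∑ j : ZMod n, cnt W (fun i => (ν i : ZMod n)) j * 32 ^ j.val := by
  rw [code, ← Finset.sum_fiberwise _ fun a => ∑ i : Fin 6, (ν i : ZMod n) * W a i]
  refine Finset.sum_congr rfl fun j _ => Finset.sum_const_nat fun x hx => ?_
  rw [← (Finset.mem_filter.1 hx).2, ← ZMod.val_natCast]
  simp [← hT, Fin.sum_univ_six]

/-- weights modulo 3 -/
def T3 : ℕ := 0x200000120000012000001220000210000122000021002112002011021002021201210002020100210201100002212100100201201020102100200010121020120010010020012010001200000102000001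

/-- weights modulo 11 -/
def T11 : ℕ := 0x765789a65789a95789a98789a98709a98a89a98a81a98a09a98a01a90a09a90a01a10a09a90201a10a01210a09a10201210a01a13201210201a13231213201213231243201243231246231246531246534

theorem chkP1 : ∀ a b c d e f : Fin 3,
    code 3 T3 a b c d e f / 32 % 32 = code 3 T3 a b c d e f / 1024 → code 3 T3 a b c d e f = 6351 ∨
    code 3 T3 a b c d e f = 9513 ∨ code 3 T3 a b c d e f = 27 := by decide +kernel

theorem chkP3 : ∀ a b c d e f : ZMod 2,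
    (cnt wE ![a, b, c, d, e, f] 0 = 15 ∧ cnt wE ![a, b, c, d, e, f] 1 = 12) ∨
    (cnt wE ![a, b, c, d, e, f] 0 = 11 ∧ cnt wE ![a, b, c, d, e, f] 1 = 16 ∧ ∃ x,
      ∑ i : Fin 6, ![a, b, c, d, e, f] i * wE x i = 0 ∧ ∀ r,
        ∑ i : Fin 6, ![a, b, c, d, e, f] i * (goodE6.R.wt r i : ℤ) = 0 → minE6.pr r x = 0) ∨
    cnt wE ![a, b, c, d, e, f] 0 = 27 := by decide +kernel

/-- the test for elements of order 11 -/
def PE6 (a : Fin 6 → ℤ) : Prop :=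
  code 11 T11 (a 0).toNat (a 1).toNat (a 2).toNat (a 3).toNat (a 4).toNat (a 5).toNat =
    code 11 T11 (2 * (a 0).toNat) (2 * (a 1).toNat) (2 * (a 2).toNat) (2 * (a 3).toNat)
      (2 * (a 4).toNat) (2 * (a 5).toNat) → ∀ j, (a j : ZMod 11) = 0

instance instPE6 : DecidablePred PE6 := fun _ => by unfold PE6; infer_instance

theorem chkE6 : alcB [1, 2, 2, 3, 2, 1] 11 (fun L => decide (PE6 fun j => (L.getD j 0 : ℕ))) = true := by
  decide +kernel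

theorem ndE6 : ∀ r, ∃ a, minE6.pr r a = -1 := by decide +kernel

theorem chkP1' (ν : Fin 6 → ZMod 3) (h : cnt wE (2 • ν) 1 = cnt wE ν 1) :
    (cnt wE ν 0 = 15 ∧ cnt wE ν 1 = 6) ∨ (cnt wE ν 0 = 9 ∧ cnt wE ν 1 = 9) ∨ cnt wE ν 0 = 27 := by
  have h1 := code_eq (W := wE) (n := 3) (T := T3) (by decide +kernel) fun i => (ν i).val
  have h2 := chkP1 (ν 0) (ν 1) (ν 2) (ν 3) (ν 4) (ν 5)
  have h3 : cnt wE (2 • ν) 1 = cnt wE ν 2 := congrArg Finset.card (Finset.filter_congr fun x _ => by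
    simp only [Pi.smul_apply, smul_mul_assoc, ← Finset.smul_sum]
    generalize ∑ i, ν i * wE x i = t
    revert t; decide)
  have h4 : 27 = ∑ j, cnt wE ν j := Finset.card_eq_sum_card_fiberwise (s := Finset.univ)
    (f := fun a : Fin 27 => ∑ i, ν i * wE a i) fun _ _ => Finset.mem_coe.2 (Finset.mem_univ _)
  simp only [ZMod.natCast_zmod_val] at h1
  erw [h1, Fin.sum_univ_three] at h2
  erw [Fin.sum_univ_three] at h4
  change (cnt wE ν 0 * 1 + cnt wE ν 1 * 32 + cnt wE ν 2 * 1024) / 32 % 32 =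
    (cnt wE ν 0 * 1 + cnt wE ν 1 * 32 + cnt wE ν 2 * 1024) / 1024 →
    cnt wE ν 0 * 1 + cnt wE ν 1 * 32 + cnt wE ν 2 * 1024 = 6351 ∨
    cnt wE ν 0 * 1 + cnt wE ν 1 * 32 + cnt wE ν 2 * 1024 = 9513 ∨
    cnt wE ν 0 * 1 + cnt wE ν 1 * 32 + cnt wE ν 2 * 1024 = 27 at h2
  change 27 = cnt wE ν 0 + cnt wE ν 1 + cnt wE ν 2 at h4
  rw [show (cnt wE ν 0 * 1 + cnt wE ν 1 * 32 + cnt wE ν 2 * 1024) / 32 = cnt wE ν 1 + cnt wE ν 2 * 32
    by omega, show (cnt wE ν 0 * 1 + cnt wE ν 1 * 32 + cnt wE ν 2 * 1024) / 1024 = cnt wE ν 2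
    by omega] at h2
  omega

end H23.Sec
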