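import Cfsg.Agent.H23.Sec7
import Cfsg.Agent.H23.Sec8
import Cfsg.Agent.H14.Fold2
import Cfsg.Agent.H14.TwBT

/-! Alternating sections of groups of type E6. -/

set_option autoImplicit false
set_option linter.unusedSectionVars false
set_option maxRecDepth 100000

namespace H23.Sec

open H14 H14.PreSt H14.St Equiv Equiv.Perm H23.Wag Cfsg.Lie Module
open H14.RootSys hiding sign
open Matrix hiding J

variable (K : Type) [Field K]

/-- the universal group -/
abbrev ΓE := chevE6.SteinbergGroup K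

/-- the torus of the universal group -/
noncomputable abbrev torE : (Fin chevE6.rank → Kˣ) →* ΓE K := (goodE6.stb_hmul K).tor

/-- the matrices of the module -/
noncomputable def θE : ΓE K →* GL (Fin 27) K := (goodE6.stb_lift (repE6.hmul K)).choose

theorem θE_hom : (goodE6.stb K).toPreSt.IsHom (repE6.st K).toPreSt (θE K) :=
  (goodE6.stb_lift (repE6.hmul K)).choose_spec

/-- the module -/
noncomputable def ρE : ΓE K →* End K (Fin 27 → K) :=
  (Matrix.toLinAlgEquiv' (R := K) (n := Fin 27)).toMonoidHom.comp ((Units.coeHom _).comp (θE K))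

variable {K}

theorem ρE_app (g : ΓE K) (v : Fin 27 → K) : ρE K g v = (θE K g : Matrix _ _ K) *ᵥ v := rfl

theorem ρE_tor (c : Fin chevE6.rank → Kˣ) (v : Fin 27 → K) (a : Fin 27) :
    ρE K (torE K c) v a = (∏ i, c i ^ wE a i : Kˣ) * v a := by
  rw [ρE_app, (goodE6.stb_hmul K).map (repE6.hmul K) (θE_hom K), Rep.coe_tor, mulVec_diagonal]
  simp only [wE_eq]

theorem ρE_eig (c : Fin chevE6.rank → Kˣ) (μ : Kˣ) : (ρE K (torE K c)).eigenspace μ =
    Pi.spanSubset K {a | ∏ i, c i ^ wE a i = μ} := by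
  ext v
  rw [End.mem_eigenspace_iff, Pi.mem_spanSubset_iff, funext_iff]
  refine forall_congr' fun a => ?_
  rw [ρE_tor, Pi.smul_apply, smul_eq_mul, mul_eq_mul_right_iff, Units.val_inj, Set.mem_ofPred_eq]
  tauto

theorem tor_one {c : Fin chevE6.rank → Kˣ} (h : ∀ a, ∏ i, c i ^ wE a i = 1) : c = 1 :=
  (mpow_ker_eq_bot Kˣ (A := Matrix.of fun i j : Fin chevE6.rank =>
    wE (([2, 3, 4, 8, 18, 24] : List (Fin 27)).getD j 0) i) (B := lmat _ [[0, 0, -1, 0, 0, 1],
      [0, 1, 1, 1, 1, 0], [1, 0, 1, 1, 1, 0], [0, 0, 0, 0, 0, 1], [1, 0, 0, 0, 0, 0],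
      [-1, -1, -2, -2, -1, 0]]) (by decide +kernel)).le (funext fun j => h _)

theorem ρE_inj : Function.Injective (ρE K) := by
  refine (injective_iff_map_eq_one _).2 fun g hg => ?_
  have h1 : θE K g = 1 := Units.ext ((Matrix.toLinAlgEquiv' (R := K) (n := Fin 27)).injective
    (by rw [Units.val_one, map_one]; exact hg))
  obtain ⟨c, rfl⟩ := (goodE6.stb_hmul K).exists_tor (mem_H_of_map_eq_one (repE6.model K fun r => by
    obtain ⟨a, ha⟩ := ndE6 r
    refine ⟨minE6.up r a, a, fun e => ?_⟩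
    change ((if _ then _ else _ : ℤ) : K) = 0 at e
    rw [if_pos (Minus.γ_up ha)] at e
    have := congrArg (Int.cast (R := K)) (congrArg₂ (· * ·) ((okE6.epsData ok3E6 okEE6).c_sq r)
      (minE6.eps_sq (okE6.epsData ok3E6 okEE6) r a))
    rw [mul_mul_mul_comm, Int.cast_mul, e] at this
    simp at this).sep (θE_hom K) ((goodE6.pres_top _).ge trivial) h1)
  rw [tor_one (c := c) fun a => Units.ext (by simpa [hg] using (ρE_tor c 1 a).symm), map_one]

theorem ρE_dim {z : Kˣ} {n : ℕ} (hz : orderOf z = n) (ν : Fin chevE6.rank → ℤ) (g : ΓE K) (j : ℤ) :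
    finrank K ((ρE K (g * torE K (fun i => z ^ ν i) * g⁻¹)).eigenspace (z ^ j : Kˣ)) =
      cnt wE (fun i => (ν i : ZMod n)) j := by
  rw [eig_dim, ρE_eig, Pi.dim_spanSubset, cnt, ← Set.ncard_coe_finset]
  congr 1
  ext a
  rw [Set.mem_ofPred_eq, prod_zpow_dot, zpow_eq_zpow_iff_modEq, hz, ← ZMod.intCast_eq_intCast_iff]
  simp [dotProduct]; rfl

theorem ρE_real {z : Kˣ} {n u : ℕ} (hz : orderOf z = n) {ν : Fin chevE6.rank → ℤ} {g s a : ΓE K}
    (h : s = g * torE K (fun i => z ^ ν i) * g⁻¹) (ha : a * s * a⁻¹ = s ^ u) (j : ℤ) :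
    cnt wE (u • fun i => (ν i : ZMod n)) j = cnt wE (fun i => (ν i : ZMod n)) j := by
  have h1 := ρE_dim hz (u • ν) g j
  rw [show (fun i => z ^ (u • ν) i) = (fun i => z ^ ν i) ^ u from funext fun i => by
      simp [mul_comm (u : ℤ), _root_.zpow_mul], map_pow, ← conj_pow, ← h, ← ha, eig_dim] at h1
  rw [← ρE_dim hz ν g j, ← h, h1]
  congr 1; funext i; simp

theorem ρE_p2 (c : Fin chevE6.rank → Kˣ) (h : 21 ≤ finrank K ((ρE K (torE K c)).eigenspace 1)) :
    c = 1 := by
  classical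
  refine tor_one fun a => by_contra fun ha => ?_
  have h1 : ∀ a, ∏ i, c i ^ wE a i ≠ 1 → ∀ k, ∃ b, ∏ i, c i ^ wE (pick a k b) i ≠ 1 := fun a ha k => by
    by_contra! hb
    refine ha ?_
    have : (∏ i, c i ^ wE a i) * (∏ i, c i ^ wE (pick a k true) i) *
        ∏ i, c i ^ wE (pick a k false) i = 1 := by
      simp only [← Finset.prod_mul_distrib, ← _root_.zpow_add, pick1, zpow_zero, Finset.prod_const_one]
    rwa [hb, hb, mul_one, mul_one] at this
  choose f hf using h1 a ha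
  obtain ⟨k, hk⟩ := pick2 a (f 0) (f 1) (f 2) (f 3) (f 4)
  obtain ⟨b, hb⟩ := h1 _ (hf 0) k
  have h2 := List.toFinset_card_of_nodup (hk b)
  rw [← Units.val_one, ρE_eig, Pi.dim_spanSubset] at h
  have h3 := Set.ncard_add_ncard_compl {a | ∏ i, c i ^ wE a i = 1}
  have h4 := Set.ncard_le_ncard (t := {a | ∏ i, c i ^ wE a i = 1}ᶜ) (s := ↑[a, pick a 0 (f 0),
    pick a 1 (f 1), pick a 2 (f 2), pick a 3 (f 3), pick a 4 (f 4), pick (pick a 0 (f 0)) k b].toFinset)
    (by simp [Set.insert_subset_iff, ha, hf, hb])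
  rw [Set.ncard_coe_finset, h2] at h4
  simp at h3 h4
  omega

theorem algE (p : ℕ) [Fact p.Prime] : (goodE6.stb (Kb p)).Alg p where
  sep := goodE6.stb_sep _
  top := goodE6.pres_top _
  hmul := goodE6.stb_hmul _
  fin := (goodE6.alg (ZMod p) p three_ne_zero kerE6).fin
  lift φ := goodE6.stb_lift ((goodE6.stb_hmul _).base φ)
  ker := ⟨1, one_ne_zero, fun c h => by
    rw [pow_one]; exact stb_tor_injectiveE6 _ (h.trans (map_one _).symm)⟩

theorem eta6 {M : Type*} (a : Fin 6 → M) : a = ![a 0, a 1, a 2, a 3, a 4, a 5] := by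
  funext j; fin_cases j <;> rfl

theorem ρE_U {c : Fin chevE6.rank → Kˣ} (hc : (goodE6.stb_hmul K).Cn c) {x : Fin 27}
    (h : ∀ r, goodE6.R.chi c r = 1 → minE6.pr r x = 0) {g : ΓE K} (hg : Commute (torE K c) g)
    (v : Fin 27 → K) : ρE K g v x = 0 ↔ v x = 0 := by
  let T : Subgroup (ΓE K) :=
    { carrier := {g | ∀ v, ρE K g v x = 0 ↔ v x = 0}
      one_mem' := by simp
      mul_mem' := fun ha hb v => by rw [map_mul, End.mul_apply, ha, hb]
      inv_mem' := fun {a} ha v => by rw [← ha, ρ_cancel] }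
  refine (sup_le (U_le.2 fun r hr t v => ?_) ?_ : _ ≤ T)
    ((hc.commute_iff (goodE6.stb_sep K) (goodE6.pres_top _)).1 hg) v
  · rw [ρE_app, θE_hom K r t]
    have : ∀ b, repE6.E1 r x b = 0 := fun b => by_contra fun e => by
      have a1 := congrArg (goodE6.R.co r ⬝ᵥ ·) (repE6.grade r x b e)
      have a2 := (minE6.pr_spec r b).1.1
      have a3 := goodE6.R.pair_self r
      change minE6.pr r x = goodE6.R.co r ⬝ᵥ (minE6.wt b + _) at a1
      rw [h r hr, dotProduct_add] at a1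
      change 0 = minE6.pr r b + goodE6.R.pair r r at a1
      omega
    change (repE6.X r t *ᵥ v) x = 0 ↔ _
    have e2 : repE6.E2 r = 0 := rfl
    have e3 : repE6.E3 r = 0 := rfl
    simp only [Rep.X, xexp, e2, e3, add_mulVec, smul_mulVec, one_mulVec, map_zero, smul_zero, add_zero]
    simp [mulVec, dotProduct, this]
  · rw [← (goodE6.stb_hmul K).range_tor]
    rintro _ ⟨d, rfl⟩ v
    rw [ρE_tor, Units.mul_right_eq_zero]

theorem e6l {p : ℕ} [hp : Fact p.Prime] (h2 : p ≠ 2) : E6L (ρE (Kb p)) := by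
  have hi := stb_tor_injectiveE6 (Kb p)
  have p2 : ∀ {s g c}, s = g * torE (Kb p) c * g⁻¹ →
      21 ≤ finrank (Kb p) ((ρE _ s).eigenspace 1) → s = 1 := fun e h => by
    rw [e, eig_dim] at h; rw [e, ρE_p2 _ h]; simp
  refine ⟨by simp, ρE_inj, fun s hs h1 μ a b => ?_, fun s m a b => ?_, fun s a b => ?_⟩
  · have h0 : μ ≠ 0 := by rintro rfl; simp at b
    have hz : orderOf (Units.mk0 μ h0) = 3 := orderOf_eq_prime (Units.ext b) fun e =>
      a (congrArg Units.val e)
    obtain ⟨g, ν, -, -, e⟩ := (algE p).exists_alcove hi (z := Units.mk0 μ h0) (by omega)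
      (hz ▸ hs.1)
    obtain ⟨t, ht⟩ := hs.2
    have a1 := ρE_dim hz ν g 0
    have a2 := ρE_dim hz ν g 1
    have a3 := chkP1' _ (ρE_real hz e (a := t) (u := 2) (by
      rw [ht, inv_eq_iff_mul_eq_one, ← pow_succ', hs.1]) 1)
    erw [← e, _root_.zpow_zero, Units.val_one, Int.cast_zero] at a1
    erw [← e, _root_.zpow_one, Units.val_mk0, Int.cast_one] at a2
    have := mt (p2 e) h1
    erw [← a1, ← a2] at a3
    omega
  · obtain ⟨g, c, e⟩ := (algE p).exists_conj (m := m) (fun e => a ((CharP.cast_eq_zero_iff _ p m).2 e))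
      (fun c _ => HMul.cn_of_inj _ hi ((algE p).finOrder c)) b
    exact p2 e
  haveI := NeZero.mk (show (2 : Kb p) ≠ 0 from fun e => h2 ((Nat.prime_dvd_prime_iff_eq hp.1
    Nat.prime_two).1 ((CharP.cast_eq_zero_iff _ p 2).1 e)))
  have hz : orderOf (-1 : (Kb p)ˣ) = 2 := orderOf_eq_prime (by simp) fun e =>
    NeZero.ne (2 : Kb p) (by have := congrArg Units.val e; simp at this; linear_combination -this)
  obtain ⟨g, ν, -, -, e⟩ := (algE p).exists_alcove hi (z := -1) (by omega) (hz ▸ a)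
  have a1 := ρE_dim hz ν g 0
  have a2 := ρE_dim hz ν g 1
  have a3 := chkP3 (ν ⟨0, by decide⟩) (ν ⟨1, by decide⟩) (ν ⟨2, by decide⟩) (ν ⟨3, by decide⟩)
    (ν ⟨4, by decide⟩) (ν ⟨5, by decide⟩)
  erw [← e, _root_.zpow_zero, Units.val_one, Int.cast_zero] at a1
  erw [← e, _root_.zpow_one, Units.val_neg, Units.val_one, Int.cast_one] at a2
  have := mt (p2 e) b
  erw [← eta6 fun i => (ν i : ZMod 2), ← a1, ← a2] at a3
  rcases a3 with a3 | ⟨a3, a4, x, a5, a6⟩ | a3
  · exact Or.inl a3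
  · refine Or.inr ⟨a3, a4, (Pi.spanSubset _ ({a | ∏ i, ((-1 : (Kb p)ˣ) ^ ν i) ^ wE a i = 1} \ {x})).map
      (ρE _ g), ?_, ?_⟩
    · rw [← LinearEquiv.finrank_eq (Submodule.equivMapOfInjective _ (ρ_inj _) _), Pi.dim_spanSubset,
        Set.ncard_sdiff_singleton_of_mem, ← Pi.dim_spanSubset (R := Kb p), ← ρE_eig, ← eig_dim g,
        ← e, Units.val_one, a3]
      rw [Set.mem_ofPred_eq, prod_zpow_dot, ← orderOf_dvd_iff_zpow_eq_one, hz,
        ← ZMod.intCast_zmod_eq_zero_iff_dvd, ← a5]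
      simp [dotProduct]; rfl
    rintro y hy _ ⟨v, hv, rfl⟩
    have hy' : Commute (torE _ fun i => (-1 : (Kb p)ˣ) ^ ν i) (g⁻¹ * y * g) := by
      have := hy.map (MulAut.conj g⁻¹)
      simpa [e, mul_assoc] using this
    refine ⟨ρE _ (g⁻¹ * y * g) v, ?_, by simp only [← End.mul_apply, ← map_mul]; congr 2; group⟩
    simp only [SetLike.mem_coe, Pi.mem_spanSubset_iff, Set.mem_sdiff, not_and_or, not_not,
      or_imp, forall_and, Set.mem_singleton_iff, forall_eq] at hv ⊢
    refine ⟨?_, (ρE_U (HMul.cn_of_inj _ hi ((algE p).finOrder _)) (fun r hr => a6 r ?_) hy' v).2 hv.2⟩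
    · rw [← Pi.mem_spanSubset_iff, ← ρE_eig] at hv ⊢
      exact eig_inv hy' hv.1
    · rw [chi_zpow, ← orderOf_dvd_iff_zpow_eq_one, hz, ← ZMod.intCast_zmod_eq_zero_iff_dvd] at hr
      rw [← hr]
      simp [dotProduct]; rfl
  · omega

theorem z11 : ∀ t j : ZMod 11, 3 * t = j ↔ t = 4 * j := by decide +kernel

theorem noE6a {p : ℕ} [Fact p.Prime] (hp : p ≠ 11) {X : Type*} [Group X] [Finite X]
    {f : X →* ΓE (Kb p)} (hf : Function.Injective f) {r : ℕ} {π : X →* Perm (Fin r)}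
    (surj : ∀ σ, sign σ = 1 → ∃ g, π g = σ) : r ≤ 12 := by
  by_contra hr
  haveI : Fact (Nat.Prime 11) := ⟨by norm_num⟩
  obtain ⟨x, g, h3, h4, h5⟩ := alt_conj surj (m := 13) (l := 11) (u := 2) (by simp; omega)
    (List.formPerm [0, 1, 2, 3, 4, 5, 6, 7, 8, 9, 10])
    (List.formPerm [1, 2, 4, 8, 5, 10, 9, 7, 3, 6] * swap 11 12) (by decide +kernel)
    (tor_comm (algE p) hp.symm (by rw [poinE6]; decide) hf).1
  obtain ⟨z, hz⟩ := ex_root (Kb p) p (l := 11) Fact.out hp.symm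
  obtain ⟨a, ν, h6, h7, h8⟩ := (algE p).exists_alcove (stb_tor_injectiveE6 _) (z := z) (s := f x)
    (by omega) (by rw [hz, ← map_pow, h4, map_one])
  have h9 := ρE_real hz h8 (a := f g) (u := 2) (by rw [← map_inv, ← map_mul, ← map_mul, h5, map_pow])
  have h10 : ∀ (u : ℕ) (j : ZMod 11), cnt w3 (fun i => ((u * (ν ⬝ᵥ goodE6.R.wt
      (goodE6.R.simple i)).toNat : ℕ) : ZMod 11)) j = cnt wE (u • fun i => (ν i : ZMod 11)) (4 * j) :=
    fun u j => congrArg Finset.card (Finset.filter_congr fun x _ => by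
      have : ∑ i : Fin 6, (((u * (ν ⬝ᵥ goodE6.R.wt (goodE6.R.simple i)).toNat : ℕ) : ZMod 11)) * w3 x i
          = 3 * ∑ i : Fin 6, (u • fun i => (ν i : ZMod 11)) i * wE x i := by
        have : ∑ j : Fin chevE6.rank, w3 x j * (ν ⬝ᵥ goodE6.R.wt (goodE6.R.simple j)) =
            ∑ i, ν i * (3 * wE x i) := by
          simp only [w3_eq, dotProduct, Finset.mul_sum]
          rw [Finset.sum_comm]
          exact Finset.sum_congr rfl fun i _ => Finset.sum_congr rfl fun j _ => by ring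
        have := congrArg (fun t : ℤ => (u : ZMod 11) * t) this
        simp only [Int.cast_sum, Int.cast_mul, Finset.mul_sum] at this ⊢
        refine Eq.trans (Finset.sum_congr rfl fun i _ => ?_) (this.trans
          (Finset.sum_congr rfl fun i _ => ?_))
        · have := congrArg (Int.cast (R := ZMod 11)) (Int.toNat_of_nonneg (h6 i))
          rw [Int.cast_natCast] at this
          erw [Nat.cast_mul, this]; ring
        · simp; ring
      rw [this]
      exact z11 _ _)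
  have := tor_cen (algE p).sep (algE p).top (algE p).hmul hz
    (alc_chk (P := PE6) (⟨71, by decide⟩ : Fin chevE6.nroots) (by decide +kernel) (by decide +kernel)
      chkE6 h6 (hz ▸ h7) (by
        have := fun u => code_eq (W := w3) (n := 11) (T := T11) (by decide +kernel)
          fun i => u * (ν ⬝ᵥ goodE6.R.wt (goodE6.R.simple i)).toNat
        have a1 := this 1
        simp only [one_mul] at a1
        refine a1.trans (Eq.trans ?_ (this 2).symm)
        refine Finset.sum_congr rfl fun j _ => ?_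
        obtain ⟨j, rfl⟩ := ZMod.intCast_surjective j
        have a2 := h10 1 j
        simp only [one_mul, one_smul] at a2
        rw [a2, h10, show (4 * j : ZMod 11) = (4 * j : ℤ) by simp]
        exact congrArg (· * _) (h9 _).symm))
  rw [goodE6.stb_center] at this
  obtain ⟨c, hc, e⟩ := this
  have a1 : f x ^ 3 = 1 := by
    rw [h8, conj_pow]; erw [← e]; rw [← map_pow, kerE6 c hc]; simp
  rw [← map_pow, ← map_one f, hf.eq_iff] at a1
  exact h3 (orderOf_eq_one_iff.1 (Nat.eq_one_of_dvd_coprimes (show Nat.Coprime 3 11 by decide)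
    (orderOf_dvd_of_pow_eq_one a1) (orderOf_dvd_of_pow_eq_one h4)))

theorem red {ι κ : Type*} [Fintype κ] [DecidableEq κ] [Fintype ι] [DecidableEq ι] {R : RootSys ι κ}
    {C : Chev R} {F G : Type*} [Field F] [Group G] {S : St C F G} [Finite F] [Finite G] (p : ℕ)
    [Fact p.Prime] [CharP F p] (hS : S.Sep) (hh : S.HMul) (hG : S.U Set.univ = ⊤) {α : Type}
    [Fintype α] [DecidableEq α] (h5 : 5 ≤ Fintype.card α) {X : Type*} [Group X] {f : X →* G}
    (hf : Function.Injective f) {π : X →* Perm α} (even : ∀ g, sign (π g) = 1)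
    (surj : ∀ σ, sign σ = 1 → ∃ g, π g = σ) : ∃ (H : Subgroup G) (π : H →* Perm α),
      (∀ g, sign (π g) = 1) ∧ (∀ σ, sign σ = 1 → ∃ g, π g = σ) ∧ (Nat.card π.ker).Coprime p := by
  let P : Set (Subgroup G) := {H | ∃ π : H →* Perm α, (∀ g, sign (π g) = 1) ∧
    ∀ σ, sign σ = 1 → ∃ g, π g = σ}
  have key : ∀ {H : Subgroup G} (ψ : H →* G) (π : H →* Perm α), (∀ g, sign (π g) = 1) →
      (∀ σ, sign σ = 1 → ∃ g, π g = σ) → ψ.ker ≤ π.ker → ψ.range ∈ P := fun ψ π a b c => by
    refine ⟨(QuotientGroup.lift _ π c).comp (QuotientGroup.quotientKerEquivRange ψ).symm.toMonoidHom,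
      fun g => ?_, fun σ hσ => ?_⟩
    · obtain ⟨x, rfl⟩ := (QuotientGroup.quotientKerEquivRange ψ).surjective g
      induction x using QuotientGroup.induction_on with | _ x => simpa using a x
    · obtain ⟨g, e⟩ := b σ hσ
      exact ⟨QuotientGroup.quotientKerEquivRange ψ g, by simpa using e⟩
  obtain ⟨H, ⟨π, h1, h2⟩, hm⟩ := Set.exists_min_image P (fun H => Nat.card H) (Set.toFinite _)
    ⟨f.range, π.comp (MonoidHom.ofInjective hf).symm.toMonoidHom, fun g => even _, fun σ hσ => by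
      obtain ⟨g, e⟩ := surj σ hσ
      exact ⟨MonoidHom.ofInjective hf g, by simpa using e⟩⟩
  have h : Mn π := ⟨h1, h2, fun K hK => Subgroup.eq_top_of_le_card K (by
    refine (hm (K.map H.subtype) ⟨(π.comp K.subtype).comp
      (K.equivMapOfInjective _ H.subtype_injective).symm.toMonoidHom, fun g => h1 _,
      fun σ hσ => ?_⟩).trans (Subgroup.card_map_of_injective H.subtype_injective).le
    obtain ⟨g, hg, e⟩ := hK σ hσ
    exact ⟨K.equivMapOfInjective _ H.subtype_injective ⟨g, hg⟩, by simpa using e⟩)⟩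
  obtain ⟨Q, M, _, _, a1, -, a2, a3, a4⟩ := h.split p
  refine ⟨H, π, h1, h2, ?_⟩
  by_cases hQ : Q = ⊥
  · rwa [a4, hQ, bot_sup_eq]
  exfalso
  obtain ⟨g, J, -, b1, b2⟩ := St.borel_tits hS hG (exists_conj_U p hS hh hG (a2.map H.subtype))
    (mt (Subgroup.map_eq_bot_iff_of_injective _ H.subtype_injective).1 hQ)
  let c : H →* S.P J := ((MulAut.conj g⁻¹).toMonoidHom.comp H.subtype).codRestrict _ fun k => by
    simpa using b1 _ (Subgroup.le_normalizer_map _ ⟨k, Subgroup.normalizer_eq_top Q ▸ trivial, rfl⟩)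
  have hc : Function.Injective c := fun x y e =>
    Subtype.ext ((MulAut.conj g⁻¹).injective (congrArg Subtype.val e))
  haveI := (Subgroup.normal_subgroupOf_iff_le_normalizer ((le_sup_left.trans
    (radical_sup_levi (S := S) J).le))).2 (P_le_normalizer J)
  have hU : ((S.H ⊔ S.U {r | R.InJ J r}).subgroupOf (S.P J)).IsComplement'
      ((S.U {r | R.pos r ∧ ¬ R.InJ J r}).subgroupOf (S.P J)) :=
    Subgroup.isComplement'_of_disjoint_and_mul_eq_univ (by
      rw [disjoint_iff, Subgroup.subgroupOf, Subgroup.subgroupOf, ← Subgroup.comap_inf, inf_comm,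
        radical_inf_levi hS, MonoidHom.comap_bot, Subgroup.ker_subtype]) (by
      rw [← Subgroup.mul_normal, ← Subgroup.subgroupOf_sup (le_sup_right.trans
        (radical_sup_levi J).le) (le_sup_left.trans (radical_sup_levi J).le), sup_comm,
        radical_sup_levi, Subgroup.subgroupOf_self, Subgroup.coe_top])
  let ψ : H →* G := ((S.P J).subtype.comp (Subgroup.subtype _)).comp
    (hU.QuotientMulEquiv.toMonoidHom.comp ((QuotientGroup.mk' _).comp c))
  have hψ : ψ.ker = ((S.U {r | R.pos r ∧ ¬ R.InJ J r}).subgroupOf (S.P J)).comap c := by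
    ext x
    exact (Subtype.ext_iff.trans Subtype.ext_iff).symm.trans
      (hU.QuotientMulEquiv.map_eq_one_iff.trans (QuotientGroup.eq_one_iff _))
  have b3 : IsPGroup p ψ.ker := hψ ▸ (((isPGroup_U p hS).to_le
    (U_mono fun _ h => h.1)).comap_subtype.comap_of_injective c hc)
  rcases h.dich h5 ψ.ker with e | e
  · have b4 := hm _ (key ψ π h1 h2 e)
    have b5 := ψ.ker.card_mul_index
    have b6 := (Subgroup.one_lt_card_iff_ne_bot _).2 (ne_bot_of_le_ne_bot hQ (show Q ≤ ψ.ker from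
      fun x hx => hψ ▸ by simpa [c, Subgroup.mem_subgroupOf] using b2 _ ⟨x, hx, rfl⟩))
    rw [Subgroup.index_ker] at b5
    have : 0 < Nat.card ψ.range := Nat.card_pos
    nlinarith
  · obtain ⟨s, t, hst⟩ := ex_comm h5 h2
    haveI : Nontrivial H := ⟨_, 1, fun e => hst ((congrArg π e).trans (map_one π))⟩
    haveI : Group.IsNilpotent H := ((e ▸ b3).of_equiv Subgroup.topEquiv : IsPGroup p H).isNilpotent
    exact (Group.IsSolvable.commutator_lt_top_of_nontrivial H).ne (h.perf h5)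

theorem pullE {X : Type*} [Group X] [Finite X] {f : X →* chevE6.group K} (hf : Function.Injective f) :
    ∃ (Y : Subgroup (ΓE K)) (q : Y →* X), Finite Y ∧ Function.Surjective q ∧ ∀ y ∈ q.ker, y ^ 3 = 1 := by
  obtain ⟨θ, hθ⟩ := goodE6.stb_lift (goodE6.SG_hmul K)
  have h1 : Function.Surjective θ := by
    rw [← MonoidHom.range_eq_top, MonoidHom.range_eq_map, ← goodE6.pres_top (Good.relsAB_subset _ _), hθ.map_U, goodE6.SG_top]
  have h2 : θ.ker ≤ (mpow Kˣ goodE6.R.A).ker.map (torE K) := fun y hy => by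
    obtain ⟨c, rfl⟩ := (goodE6.stb_hmul K).exists_tor (mem_H_of_map_eq_one (goodE6.SG_sep K) hθ
      ((goodE6.pres_top _).ge trivial) hy)
    exact ⟨c, goodE6.SG_tor_eq_one.1 (((goodE6.stb_hmul K).map _ hθ c).symm.trans hy), rfl⟩
  let q : f.range.comap θ →* X := (MonoidHom.ofInjective hf).symm.toMonoidHom.comp
    ((θ.comp (Subgroup.subtype _)).codRestrict _ fun y => y.2)
  have h3 : ∀ y ∈ q.ker, y.1 ∈ θ.ker := fun y hy =>
    congrArg Subtype.val ((MonoidHom.ofInjective hf).symm.map_eq_one_iff.1 hy)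
  refine ⟨_, q, ?_, fun x => ?_, fun y hy => ?_⟩
  · haveI := finite_of_pow (M := (mpow Kˣ goodE6.R.A).ker) three_ne_zero kerE6
    haveI := Finite.of_surjective _ ((torE K).subgroupMap_surjective (mpow Kˣ goodE6.R.A).ker)
    haveI : Finite θ.ker := Finite.of_injective _ (Subgroup.inclusion_injective h2)
    haveI : Finite q.ker := Finite.of_injective (fun y => (⟨_, h3 _ y.2⟩ : θ.ker))
      fun x y e => Subtype.ext (Subtype.ext (Subtype.ext_iff.1 e :))
    exact q.finite_iff_finite_ker_range.2 ⟨inferInstance, inferInstance⟩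
  · obtain ⟨y, hy⟩ := h1 (f x)
    exact ⟨⟨y, x, hy.symm⟩, (MonoidHom.ofInjective hf).symm_apply_eq.2 (Subtype.ext hy)⟩
  · obtain ⟨c, hc, e⟩ := h2 (h3 y hy)
    exact Subtype.ext (by rw [Subgroup.coe_pow, ← e, ← map_pow, kerE6 c hc, map_one]; rfl)

theorem mainE6 {F : Type*} [Field F] [Finite F] (p : ℕ) [hp : Fact p.Prime] [CharP F p] {X : Type*}
    [Group X] {f : X →* chevE6.group F} (hf : Function.Injective f) {N : Subgroup X} [N.Normal]
    {r : ℕ} (h : Nonempty (X ⧸ N ≃* alternatingGroup (Fin r))) :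
    r ≤ 11 + (if p = 2 ∨ p = 3 then 1 else 0) := by
  obtain ⟨π, even, surj⟩ := ex_pi h
  obtain ⟨γ⟩ := ex_emb F p
  haveI := Finite.of_injective _ hf
  split_ifs with h0
  · obtain ⟨Y, q, _, h1, -⟩ := pullE (f := (goodE6.mapG γ).comp f) ((goodE6.mapG_inj γ).comp hf)
    refine noE6a (by omega) Y.subtype_injective (π := π.comp q) fun σ hσ => ?_
    obtain ⟨g, rfl⟩ := surj σ hσ
    obtain ⟨y, rfl⟩ := h1 g
    exact ⟨y, rfl⟩
  by_contra hr
  obtain ⟨e⟩ : Nonempty (Fin 12 ↪ Fin r) :=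
    Function.Embedding.nonempty_of_card_le (by simp; omega)
  let π' : (J e).range.comap π →* Perm (Fin 12) := (MonoidHom.ofInjective (J_inj e)).symm.toMonoidHom.comp
    ((π.comp (Subgroup.subtype _)).codRestrict _ fun y => y.2)
  have h1 : ∀ g, J e (π' g) = π g := fun g =>
    congrArg Subtype.val ((MonoidHom.ofInjective (J_inj e)).apply_symm_apply _)
  obtain ⟨H, π1, a1, a2, a3⟩ := red p (goodE6.SG_sep F) (goodE6.SG_hmul F) (goodE6.SG_top F) (by simp)
    (f := f.comp (Subgroup.subtype _)) (hf.comp (Subgroup.subtype_injective _)) (π := π')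
    (fun g => by rw [← J_sign e, h1, even]) fun σ hσ => by
      obtain ⟨g, hg⟩ := surj (J e σ) (by rw [J_sign, hσ])
      exact ⟨⟨g, σ, hg.symm⟩, J_inj e ((h1 _).trans hg)⟩
  obtain ⟨Y, q, _, h2, h3⟩ := pullE (f := (goodE6.mapG γ).comp H.subtype)
    ((goodE6.mapG_inj γ).comp H.subtype_injective)
  obtain ⟨Z, hZ⟩ := exists_mn (π := π1.comp q) (fun g => a1 _) fun σ hσ => by
    obtain ⟨g, rfl⟩ := a2 σ hσ
    obtain ⟨y, rfl⟩ := h2 g
    exact ⟨y, rfl⟩
  have h4 : ∀ l : ℕ, l.Coprime p → (l : Kb p) ≠ 0 := fun l a b =>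
    hp.1.coprime_iff_not_dvd.1 a.symm ((CharP.cast_eq_zero_iff _ p l).1 b)
  have h5 := (Nat.coprime_primes Nat.prime_three hp.1).2 (by omega)
  refine noA12 ((e6l (by omega)).comp (f := Y.subtype.comp Z.subtype)
    (Y.subtype_injective.comp Z.subtype_injective)) hZ
    (h4 2 ((Nat.coprime_primes Nat.prime_two hp.1).2 (by omega))) (h4 3 h5)
    (h4 _ (a3.mul_left h5)) fun n hn => Subtype.ext ?_
  rw [Subgroup.coe_pow, pow_mul]
  refine h3 _ ?_
  rw [MonoidHom.mem_ker, map_pow]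
  exact congrArg Subtype.val (pow_card_eq_one' (x := (⟨q n, hn⟩ : π1.ker)))

end H23.Sec
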