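import Cfsg.Agent.H4.Centralizer
import Cfsg.Agent.H1.Basic

/-!
# Soft subgroups of `p`-groups (Héthelyi)
-/

open Subgroup
open scoped Pointwise commutatorElement

namespace H23

variable {G : Type*} [Group G]

/-- The upper central series of a subgroup, as ambient subgroups. -/
def Zc (H : Subgroup G) (j : ℕ) : Subgroup G := (Subgroup.upperCentralSeries H j).map H.subtype

theorem Zc_le (H : Subgroup G) (j : ℕ) : Zc H j ≤ H := map_subtype_le _

theorem Zc_zero (H : Subgroup G) : Zc H 0 = ⊥ := by simp [Zc]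

theorem mem_Zc_succ {H : Subgroup G} {j : ℕ} {z : G} :
    z ∈ Zc H (j + 1) ↔ z ∈ H ∧ ∀ h ∈ H, ⁅z, h⁆ ∈ Zc H j := by
  constructor
  · rintro ⟨z, hz, rfl⟩
    exact ⟨z.2, fun h hh => ⟨_, hz ⟨h, hh⟩, rfl⟩⟩
  · rintro ⟨hz, h⟩
    refine ⟨⟨z, hz⟩, fun y => ?_, rfl⟩
    obtain ⟨w, hw, e⟩ := h y y.2
    rwa [show w = ⁅(⟨z, hz⟩ : H), y⁆ from Subtype.ext e] at hw

theorem Zc_conj {H : Subgroup G} {g : G} (hg : g ∈ normalizer (H : Set G)) (j : ℕ) :
    ∀ z ∈ Zc H j, g * z * g⁻¹ ∈ Zc H j := by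
  induction j with
  | zero => intro z hz; rw [Zc_zero, mem_bot] at *; simp [hz]
  | succ j ih =>
    intro z hz
    rw [mem_Zc_succ] at hz ⊢
    refine ⟨(mem_normalizer_iff.1 hg z).1 hz.1, fun h hh => ?_⟩
    have := ih _ (hz.2 _ ((mem_normalizer_iff.1 (inv_mem hg) h).1 hh))
    convert this using 1
    simp only [commutatorElement_def]; group

theorem Zc_mono (H : Subgroup G) : Monotone (Zc H) := fun _ _ h =>
  map_mono (Subgroup.upperCentralSeries_mono H h)

theorem Zc_eq_iff {H : Subgroup G} [Group.IsNilpotent H] {j : ℕ} :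
    Zc H j = H ↔ Group.nilpotencyClass H ≤ j := by
  rw [← Subgroup.upperCentralSeries_eq_top_iff_nilpotencyClass_le]
  refine ⟨fun h => map_injective H.subtype_injective ?_, fun h => ?_⟩
  · rw [← MonoidHom.range_eq_map, range_subtype]; exact h
  · rw [Zc, h, ← MonoidHom.range_eq_map, range_subtype]

theorem Zc_stable {H : Subgroup G} {j : ℕ} (h : Zc H (j + 1) ≤ Zc H j) (k : ℕ) :
    Zc H (j + k) ≤ Zc H j := by
  induction k with
  | zero => exact le_rfl
  | succ k ih =>
    intro z hz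
    rw [← add_assoc, mem_Zc_succ] at hz
    exact h (mem_Zc_succ.2 ⟨hz.1, fun y hy => ih (hz.2 y hy)⟩)

variable [Finite G]

theorem le_normalizer_Zc (H : Subgroup G) (j : ℕ) :
    normalizer (H : Set G) ≤ normalizer (Zc H j : Set G) := fun _ hg =>
  mem_normalizer_fintype (Zc_conj hg j)

theorem comm_mem_Zc {H E : Subgroup G} (hE : IsMulCommutative E) (hEH : E ≤ H) {j : ℕ} {z e : G}
    (hz : z ∈ E ⊔ Zc H (j + 1)) (he : e ∈ E) : ⁅z, e⁆ ∈ Zc H j := by
  obtain ⟨a, ha, w, hw, rfl⟩ := (H1.mem_sup_of_le_normalizer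
    ((hEH.trans le_normalizer).trans (le_normalizer_Zc H _))).1 hz
  have h1 : ⁅a, e⁆ = 1 := commutatorElement_eq_one_iff_mul_comm.2
    (congrArg Subtype.val (hE.is_comm.comm ⟨a, ha⟩ ⟨e, he⟩))
  have : ⁅a * w, e⁆ = a * ⁅w, e⁆ * a⁻¹ * ⁅a, e⁆ := by simp only [commutatorElement_def]; group
  rw [this, h1, mul_one]
  exact Zc_conj (le_normalizer (hEH ha)) j _ ((mem_Zc_succ.1 hw).2 e (hEH he))

theorem inf_le_Zc {H E F : Subgroup G} (hE : IsMulCommutative E) (hF : IsMulCommutative F)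
    (h : E ⊔ F = H) (j : ℕ) : (E ⊔ Zc H (j + 1)) ⊓ (F ⊔ Zc H (j + 1)) ≤ Zc H (j + 1) := by
  intro z hz
  have hEH : E ≤ H := h ▸ le_sup_left
  have hFH : F ≤ H := h ▸ le_sup_right
  refine mem_Zc_succ.2 ⟨sup_le hEH (Zc_le H _) hz.1, fun y hy => ?_⟩
  have hy' : y ∈ closure ((E : Set G) ∪ F) := by rwa [← sup_eq_closure, h]
  suffices y ∈ H ∧ ⁅z, y⁆ ∈ Zc H j from this.2
  clear hy
  induction hy' using closure_induction with
  | mem y hy =>
    rcases hy with hy | hy
    exacts [⟨hEH hy, comm_mem_Zc hE hEH hz.1 hy⟩, ⟨hFH hy, comm_mem_Zc hF hFH hz.2 hy⟩]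
  | one => exact ⟨one_mem _, by simp⟩
  | mul a b _ _ ha hb =>
    refine ⟨mul_mem ha.1 hb.1, ?_⟩
    have : ⁅z, a * b⁆ = ⁅z, a⁆ * (a * ⁅z, b⁆ * a⁻¹) := by simp only [commutatorElement_def]; group
    rw [this]
    exact mul_mem ha.2 (Zc_conj (le_normalizer ha.1) j _ hb.2)
  | inv a _ ha =>
    refine ⟨inv_mem ha.1, ?_⟩
    have : ⁅z, a⁻¹⁆ = a⁻¹ * ⁅z, a⁆⁻¹ * a⁻¹⁻¹ := by simp only [commutatorElement_def]; group
    rw [this]
    exact Zc_conj (le_normalizer (inv_mem ha.1)) j _ (inv_mem ha.2)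

variable {p : ℕ} [hp : Fact p.Prime]

theorem lt_normalizer_inf (hG : IsPGroup p G) {M K : Subgroup G} (h : M < K) :
    M < normalizer (M : Set G) ⊓ K := by
  haveI := (hG.to_subgroup K).isNilpotent
  obtain ⟨g, hg, hg'⟩ := SetLike.exists_of_lt (Group.normalizerCondition_of_isNilpotent
    (M.subgroupOf K) (lt_top_iff_ne_top.2 fun e => h.not_ge (subgroupOf_eq_top.1 e)))
  rw [← subgroupOf_normalizer_eq h.le] at hg
  exact lt_of_le_of_ne (le_inf le_normalizer h.le) fun e => hg' (e.ge ⟨hg, g.2⟩)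

omit hp [Finite G] in
theorem card_of_relIndex {M K : Subgroup G} (h : M ≤ K) :
    Nat.card M * M.relIndex K = Nat.card K := by
  simpa only [relIndex_bot_left] using relIndex_mul_relIndex ⊥ M K bot_le h

theorem normalizer_le_of_lt (hG : IsPGroup p G) {M K : Subgroup G} (h : M < K)
    (hM : M.relIndex (normalizer (M : Set G)) = p) : normalizer (M : Set G) ≤ K := by
  refine inf_eq_left.1 (eq_of_le_of_card_ge inf_le_left ?_)
  rw [← card_of_relIndex le_normalizer, hM]
  exact H4.card_mul_le_of_lt hG (lt_normalizer_inf hG h)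

/-- Overgroups of `E` of order less than `n` have normalizer index `p`. -/
def SoftUpTo (p : ℕ) (E : Subgroup G) (n : ℕ) : Prop :=
  ∀ K : Subgroup G, E ≤ K → Nat.card K < n → K ≠ ⊤ → K.relIndex (normalizer (K : Set G)) = p

theorem SoftUpTo.chain (hG : IsPGroup p G) {E : Subgroup G} {n : ℕ} (h : SoftUpTo p E n)
    {K L : Subgroup G} (hK : E ≤ K) (hL : E ≤ L) (hn : Nat.card K ≤ n) : K ≤ L ∨ L ≤ K := by
  by_contra hc
  push Not at hc
  have h1 : K ⊓ L < K := inf_lt_left.2 hc.1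
  have h2 : K ⊓ L < L := inf_lt_right.2 hc.2
  have h3 := h _ (le_inf hK hL) ((H4.card_lt_of_lt h1).trans_le hn) h1.ne_top
  have h4 := relIndex_eq_one.2 (le_inf (normalizer_le_of_lt hG h1 h3) (normalizer_le_of_lt hG h2 h3))
  exact hp.out.one_lt.ne (h4.symm.trans h3)

theorem SoftUpTo.sup_conj (hG : IsPGroup p G) {E H : Subgroup G} (h : SoftUpTo p E (Nat.card H))
    (hE : E ≤ H) {g : G} (hg : g ∈ normalizer (H : Set G)) (hg' : g ∉ H) :
    E ⊔ MulAut.conj g • E = H := by
  have h1 : E ⊔ MulAut.conj g • E ≤ H := sup_le hE (by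
    rintro _ ⟨e, he, rfl⟩; exact (mem_normalizer_iff.1 hg e).1 (hE he))
  by_contra hne
  have h2 := lt_of_le_of_ne h1 hne
  set L := E ⊔ MulAut.conj g • E
  have h3 : E ≤ (MulAut.conj g)⁻¹ • L := fun e he => by
    rw [mem_pointwise_smul_iff_inv_smul_mem, inv_inv]; exact mem_sup_right ⟨e, he, rfl⟩
  have h4 : Nat.card ((MulAut.conj g)⁻¹ • L : Subgroup G) = Nat.card L :=
    (Nat.card_congr (equivSMul _ L).toEquiv).symm
  have h5 : (MulAut.conj g)⁻¹ • L = L := by
    rcases h.chain hG le_sup_left h3 (card_le_of_le h1) with e | e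
    · exact (eq_of_le_of_card_ge e h4.le).symm
    · exact eq_of_le_of_card_ge e h4.ge
  refine hg' (normalizer_le_of_lt hG h2 (h L le_sup_left (H4.card_lt_of_lt h2) h2.ne_top) ?_)
  refine mem_normalizer_fintype fun x hx => ?_
  rw [SetLike.mem_coe, ← h5, mem_pointwise_smul_iff_inv_smul_mem, inv_inv] at hx
  exact hx

omit [Finite G] hp in
theorem comm_conj {E : Subgroup G} (hE : IsMulCommutative E) (g : G) :
    IsMulCommutative (MulAut.conj g • E : Subgroup G) :=
  ⟨⟨fun a b => (equivSMul (MulAut.conj g) E).symm.injective (by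
    rw [map_mul, map_mul]; exact hE.is_comm.comm _ _)⟩⟩

theorem SoftUpTo.card_tower (hG : IsPGroup p G) {E H : Subgroup G}
    (h : SoftUpTo p E (Nat.card H)) (hc : IsMulCommutative E) (hC : centralizer (E : Set G) ≤ E)
    (hE : E ≤ H) {g : G} (hg : g ∈ normalizer (H : Set G)) (hg' : g ∉ H) [Group.IsNilpotent H]
    (j : ℕ) (hj : j + 1 ≤ Group.nilpotencyClass H) :
    Nat.card (E ⊔ Zc H (j + 1) : Subgroup G) = Nat.card E * p ^ j := by
  induction j with
  | zero =>
    rw [sup_eq_left.2, pow_zero, mul_one]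
    intro z hz
    refine hC (mem_centralizer_iff.2 fun e he => ?_)
    have := (mem_Zc_succ.1 hz).2 e (hE he)
    rw [Zc_zero, mem_bot, commutatorElement_eq_one_iff_mul_comm] at this
    exact this.symm
  | succ j ih =>
    have h1 : E ⊔ Zc H (j + 1) < E ⊔ Zc H (j + 1 + 1) := by
      refine lt_of_le_of_ne (sup_le_sup_left (Zc_mono H (Nat.le_succ _)) E) fun e => ?_
      have h2 : Zc H (j + 1 + 1) ≤ Zc H (j + 1) := by
        refine le_trans (le_inf (e ▸ le_sup_right) fun z hz => ?_)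
          (inf_le_Zc hc (comm_conj hc g) (h.sup_conj hG hE hg hg') j)
        obtain ⟨a, ha, w, hw, e'⟩ := (H1.mem_sup_of_le_normalizer
          ((hE.trans le_normalizer).trans (le_normalizer_Zc H _))).1
          (e.ge (mem_sup_right (Zc_conj (inv_mem hg) _ z hz)))
        have : z = g * a * g⁻¹ * (g * w * g⁻¹) := by rw [conj_mul, e']; group
        rw [this]
        exact mul_mem_sup ⟨a, ha, rfl⟩ (Zc_conj hg _ w hw)
      have h3 := Zc_stable h2 (Group.nilpotencyClass H)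
      rw [Zc_eq_iff.2 (Nat.le_add_left _ _)] at h3
      have := Zc_eq_iff.1 (le_antisymm (Zc_le H _) h3)
      omega
    have h2 : E ⊔ Zc H (j + 1 + 1) ≤ H := sup_le hE (Zc_le H _)
    have h3 := h _ le_sup_left (H4.card_lt_of_lt (h1.trans_le h2)) h1.ne_top
    have h4 : E ⊔ Zc H (j + 1 + 1) ≤ normalizer ((E ⊔ Zc H (j + 1) : Subgroup G) : Set G) := by
      refine sup_le (le_sup_left.trans le_normalizer) fun z hz =>
        mem_normalizer_fintype fun y hy => ?_
      have hz' := mem_Zc_succ.1 hz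
      rw [show z * y * z⁻¹ = ⁅z, y⁆ * y by rw [commutatorElement_def]; group]
      exact mul_mem (mem_sup_right (hz'.2 y (h2 (h1.le hy)))) hy
    rw [le_antisymm h4 (normalizer_le_of_lt hG h1 h3), ← card_of_relIndex le_normalizer, h3,
      ih (by omega), pow_succ, mul_assoc]

theorem SoftUpTo.card_eq (hG : IsPGroup p G) {E H : Subgroup G}
    (h : SoftUpTo p E (Nat.card H)) (hc : IsMulCommutative E) (hC : centralizer (E : Set G) ≤ E)
    (hE : E ≤ H) (hH : H ≠ ⊤) [Group.IsNilpotent H] :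
    ∃ j, Group.nilpotencyClass H = j + 1 ∧ Nat.card H = Nat.card E * p ^ j := by
  obtain ⟨g, hg, hg'⟩ := SetLike.exists_of_lt (lt_normalizer_inf hG (lt_top_iff_ne_top.2 hH))
  obtain ⟨j, hj⟩ : ∃ j, Group.nilpotencyClass H = j + 1 := by
    refine Nat.exists_eq_succ_of_ne_zero fun e => hg' (hE (hC ?_))
    have h1 := Zc_eq_iff.2 e.le
    rw [Zc_zero] at h1
    rw [eq_bot_iff.2 (h1 ▸ hE : E ≤ ⊥)]
    simp [mem_centralizer_iff]
  refine ⟨j, hj, ?_⟩
  rw [← h.card_tower hG hc hC hE hg.1 hg' j hj.ge, Zc_eq_iff.2 hj.le, sup_eq_right.2 hE]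

theorem SoftUpTo.step (hG : IsPGroup p G) {E H : Subgroup G}
    (h : SoftUpTo p E (Nat.card H)) (hc : IsMulCommutative E) (hC : centralizer (E : Set G) ≤ E)
    (hE : E < H) (hH : H ≠ ⊤) : H.relIndex (normalizer (H : Set G)) = p := by
  haveI := (hG.to_subgroup H).isNilpotent
  have hlt := lt_normalizer_inf hG (lt_top_iff_ne_top.2 hH)
  rw [inf_top_eq] at hlt
  obtain ⟨g, hg, hg'⟩ := SetLike.exists_of_lt hlt
  obtain ⟨j, hj, hj'⟩ := h.card_eq hG hc hC hE.le hH
  obtain ⟨j, rfl⟩ : ∃ i, j = i + 1 := Nat.exists_eq_succ_of_ne_zero fun e => by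
    rw [e, pow_zero, mul_one] at hj'
    exact (H4.card_lt_of_lt hE).ne' hj'
  have hA := h.card_tower hG hc hC hE.le hg hg' j (by omega)
  set D := Zc H (j + 1)
  set A := E ⊔ D
  have hAH : A ≤ H := sup_le hE.le (Zc_le H _)
  have hAi : A.relIndex H = p := by
    have := card_of_relIndex hAH
    rw [hj', hA, pow_succ, ← mul_assoc] at this
    exact Nat.eq_of_mul_eq_mul_left (hA ▸ Nat.card_pos) this
  have hAlt : A < H := lt_of_le_of_ne hAH fun e => hp.out.one_lt.ne (by rw [← hAi, e, relIndex_self])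
  have hNA := normalizer_le_of_lt hG hAlt (h A le_sup_left (H4.card_lt_of_lt hAlt) hAlt.ne_top)
  have hBi : (MulAut.conj g • E ⊔ D).relIndex H ≤ p := by
    have e1 : MulAut.conj g • D = D := H1.mem_normalizer_iff_conj_smul_eq.1 (le_normalizer_Zc H _ hg)
    have e2 : MulAut.conj g • H = H := H1.mem_normalizer_iff_conj_smul_eq.1 hg
    rw [← e1, ← Subgroup.smul_sup, ← e2, relIndex_pointwise_smul, hAi]
  have hD : D.relIndex H ≤ p ^ 2 := by
    refine (relIndex_le_of_le_left (inf_le_Zc hc (comm_conj hc g) (h.sup_conj hG hE.le hg hg') j)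
      index_ne_zero_of_finite).trans (relIndex_inf_le.trans ?_)
    rw [sq]
    exact Nat.mul_le_mul hAi.le hBi
  set N := normalizer (H : Set G)
  haveI : (D.subgroupOf N).Normal :=
    (normal_subgroupOf_iff_le_normalizer ((Zc_le H _).trans le_normalizer)).2 (le_normalizer_Zc H _)
  haveI : (H.subgroupOf N).Normal := normal_in_normalizer
  haveI := Normal.map this _ (QuotientGroup.mk'_surjective (D.subgroupOf N))
  have h1 := H4.index_centralizer_le_prime ((hG.to_subgroup N).to_quotient (D.subgroupOf N))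
    ((H.subgroupOf N).map (QuotientGroup.mk' (D.subgroupOf N)))
    (by rwa [H4.card_map_mk, relIndex_subgroupOf le_normalizer])
  rw [← index_comap_of_surjective _ (QuotientGroup.mk'_surjective _)] at h1
  have h2 : H.relIndex N ≤ p := by
    refine le_trans (index_antitone fun x hx => hNA (mem_normalizer_fintype fun a ha => ?_)) h1
    have h3 := mem_centralizer_iff.1 hx _ ⟨⟨a, le_normalizer (hAH ha)⟩, hAH ha, rfl⟩
    rw [← map_mul, ← map_mul, QuotientGroup.mk'_apply, QuotientGroup.mk'_apply,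
      QuotientGroup.eq, mem_subgroupOf] at h3
    have h4 := Zc_conj x.2 _ _ h3
    have : (x : G) * a * (x : G)⁻¹ = a * (x * ((a * x)⁻¹ * (x * a)) * (x : G)⁻¹) := by group
    rw [coe_subtype, this]
    exact mul_mem ha (mem_sup_right h4)
  refine le_antisymm h2 (Nat.le_of_mul_le_mul_left ?_ (Nat.card_pos (α := H)))
  rw [card_of_relIndex le_normalizer]
  exact H4.card_mul_le_of_lt hG hlt

theorem soft_all (hG : IsPGroup p G) {E : Subgroup G} (hc : IsMulCommutative E)
    (hC : centralizer (E : Set G) ≤ E) (hN : E.relIndex (normalizer (E : Set G)) = p) (n : ℕ) :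
    SoftUpTo p E n := by
  induction n with
  | zero => exact fun _ _ h => absurd h (Nat.not_lt_zero _)
  | succ n ih =>
    intro K hK hn hKt
    rcases hK.eq_or_lt with rfl | hK'
    · exact hN
    · exact SoftUpTo.step hG (fun L h1 h2 h3 => ih L h1 (by omega) h3) hc hC hK' hKt

end H23
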