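import Mathlib

/-!
Gauss decomposition with respect to the Siegel parabolic subgroup of a symplectic group.
-/

namespace H23.SO

open Matrix SymplecticGroup

variable {n F : Type*} [Fintype n] [DecidableEq n] [Field F]

/-- the Levi subgroup -/
def lev : GL n F →* symplecticGroup n F where
  toFun P := ⟨fromBlocks P 0 0 (P⁻¹ : GL n F)ᵀ, fromBlocks_mem_iff.2 ⟨by simp, by simp, by
    rw [← transpose_mul, Units.inv_mul]; simp⟩⟩
  map_one' := Subtype.ext (by simp)
  map_mul' P Q := Subtype.ext (by simp [fromBlocks_multiply, -coe_units_inv])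

theorem coe_lev (P : GL n F) : (lev P).1 = fromBlocks P.1 0 0 (P⁻¹ : GL n F).1ᵀ := rfl

/-- the unipotent radical -/
def upp (S : Matrix n n F) (h : Sᵀ = S) : symplecticGroup n F :=
  ⟨fromBlocks 1 S 0 1, fromBlocks_mem_iff.2 ⟨by simp, by simp [h], by simp⟩⟩

/-- the opposite unipotent radical -/
def low (S : Matrix n n F) (h : Sᵀ = S) : symplecticGroup n F :=
  ⟨fromBlocks 1 0 S 1, fromBlocks_mem_iff.2 ⟨by simp [h], by simp, by simp⟩⟩

/-- transposition -/
def trG (P : GL n F) : GL n F := ⟨P.1ᵀ, (P⁻¹ : GL n F).1ᵀ, by rw [← transpose_mul, Units.inv_mul, transpose_one],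
  by rw [← transpose_mul, Units.mul_inv, transpose_one]⟩

theorem isConj_of {G : Type*} [Group G] {a b : G} (c : G) (h : c * a = b * c) : IsConj a b :=
  isConj_iff.2 ⟨c, mul_inv_eq_iff_eq_mul.2 h⟩

theorem lev_conj {P Q : GL n F} (h : IsConj P Q) : IsConj (lev P) (lev Q) := lev.map_isConj h

theorem lev_trG (P : GL n F) : IsConj (lev P)⁻¹ (lev (trG P)) :=
  isConj_of (symJ n F) (Subtype.ext (by
    rw [← map_inv]
    change J n F * fromBlocks _ _ _ P.1ᵀ = fromBlocks P.1ᵀ _ _ (P⁻¹ : GL n F).1 * J n F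
    simp [J, fromBlocks_multiply]))

/-- fixed-point-freeness on symmetric matrices -/
def Fpf (P : Matrix n n F) : Prop := ∀ S : Matrix n n F, Sᵀ = S → P * S * Pᵀ = S → S = 0

theorem Fpf.surj [Finite F] {P : Matrix n n F} (h : Fpf P) {S : Matrix n n F} (hS : Sᵀ = S) :
    ∃ R : Matrix n n F, Rᵀ = R ∧ R - P * R * Pᵀ = S := by
  obtain ⟨R, e⟩ := Finite.surjective_of_injective (f := fun R : {R : Matrix n n F // Rᵀ = R} =>
    (⟨R - P * R * Pᵀ, by simp [R.2, Matrix.mul_assoc]⟩ : {R : Matrix n n F // Rᵀ = R})) (fun a b e => Subtype.ext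
      (sub_eq_zero.1 (h _ (by simp [a.2, b.2]) (by
        have e : a.1 - P * a * Pᵀ = b - P * b * Pᵀ := congrArg Subtype.val e
        rw [Matrix.mul_sub, Matrix.sub_mul]; linear_combination (norm := abel) -e)))) ⟨S, hS⟩
  exact ⟨R, R.2, congrArg Subtype.val e⟩

theorem tr_cancel (A : GL n F) (X : Matrix n n F) : (A⁻¹ : GL n F).1ᵀ * (A.1ᵀ * X) = X := by
  rw [← Matrix.mul_assoc, ← transpose_mul, Units.mul_inv, transpose_one, Matrix.one_mul]

theorem low_conj [Finite F] {P : GL n F} (hP : Fpf P.1ᵀ) {S : Matrix n n F} (h : Sᵀ = S) :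
    IsConj (lev P) (low S h * lev P) := by
  obtain ⟨R, r1, r2⟩ := hP.surj (S := P.1ᵀ * S * P.1) (by simp [h, Matrix.mul_assoc])
  refine (isConj_of (low R r1) (Subtype.ext ?_)).symm
  simp only [low, Submonoid.coe_mul, coe_lev, fromBlocks_multiply, Matrix.mul_one, Matrix.one_mul, Matrix.mul_zero,
    Matrix.zero_mul, add_zero, zero_add, fromBlocks_inj, true_and, and_true]
  rw [← tr_cancel P (_ + _), Matrix.mul_add, ← Matrix.mul_assoc _ S, ← r2, Matrix.mul_assoc, transpose_transpose,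
    add_sub_cancel]

theorem upp_conj [Finite F] {Q : GL n F} (hQ : Fpf Q.1) {S : Matrix n n F} (h : Sᵀ = S) :
    IsConj (lev Q) (lev Q * upp S h) := by
  obtain ⟨T, t1, t2⟩ := hQ.surj (S := Q.1 * S * Q.1ᵀ) (by simp [h, Matrix.mul_assoc])
  refine isConj_of (upp T t1) (Subtype.ext ?_)
  simp only [upp, Submonoid.coe_mul, coe_lev, fromBlocks_multiply, Matrix.mul_one, Matrix.one_mul, Matrix.mul_zero,
    Matrix.zero_mul, add_zero, zero_add, fromBlocks_inj, true_and, and_true]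
  refine (congrArg (· * _) (sub_eq_iff_eq_add.1 t2)).trans ?_
  simp only [Matrix.add_mul, Matrix.mul_add, Matrix.mul_assoc, ← transpose_mul, Units.inv_mul, transpose_one,
    Matrix.mul_one, add_comm]

theorem gauss [Finite F] {P Q : GL n F} (hP : Fpf P.1ᵀ) (hQ : Fpf Q.1) {g : symplecticGroup n F}
    (h : g.1.toBlocks₁₁ = P.1 * Q.1) : ∃ a b, IsConj (lev P) a ∧ IsConj (lev Q) b ∧ a * b = g := by
  obtain ⟨g, hg⟩ := g
  have hg' := hg
  rw [← fromBlocks_toBlocks g] at hg'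
  have h1 := fromBlocks_mem_iff.1 hg'
  have h2 := fromBlocks_mem_iff.1 (fromBlocks_transpose .. ▸ transpose_mem hg')
  simp only [transpose_transpose] at h h2
  rw [h, ← Units.val_mul] at h1 h2
  have s0 : ((P * Q)⁻¹ : GL n F).1ᵀ * g.toBlocks₂₁ᵀ = g.toBlocks₂₁ * ((P * Q)⁻¹ : GL n F).1 := by
    rw [← tr_cancel (P * Q) (g.toBlocks₂₁ * _), ← Matrix.mul_assoc _ g.toBlocks₂₁, h1.1, Matrix.mul_assoc, Units.mul_inv,
      Matrix.mul_one]
  have s2 : (((P * Q)⁻¹ : GL n F).1 * g.toBlocks₁₂)ᵀ = ((P * Q)⁻¹ : GL n F).1 * g.toBlocks₁₂ := by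
    rw [transpose_mul, ← Units.inv_mul_cancel_left (P * Q) (_ * _), ← Matrix.mul_assoc (P * Q).1, h2.1, Matrix.mul_assoc,
      ← transpose_mul, Units.inv_mul, transpose_one, Matrix.mul_one]
  refine ⟨_, _, low_conj hP ((transpose_mul ..).trans s0), upp_conj hQ s2, Subtype.ext ?_⟩
  rw [mul_assoc, ← mul_assoc (lev P), ← map_mul]
  simp only [low, upp, Submonoid.coe_mul, coe_lev, fromBlocks_multiply, Matrix.mul_one, Matrix.one_mul, Matrix.mul_zero,
    Matrix.zero_mul, add_zero, zero_add, Units.mul_inv_cancel_left]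
  rw [Units.inv_mul_cancel_right, ← s0, Matrix.mul_assoc, ← mul_add_one, ← h1.2.2, add_sub_cancel, tr_cancel,
    Units.val_mul, ← h, fromBlocks_toBlocks]

end H23.SO
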