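import Cfsg.Agent.H23.TICount
import Cfsg.Agent.H5.FrobChar

/-! Characters induced from an abelian self-centralizing TI-subgroup. -/

set_option autoImplicit false

namespace H23
open Subgroup Cfsg H5
open scoped ComplexConjugate

variable {G : Type*} [Group G] [Fintype G] {U : Subgroup G}

theorem indFun_eq_zero_of_notMem (θ : U → ℂ) {g : G} (h1 : g ≠ 1) (h : g ∉ tiCls U) : indFun U θ g = 0 :=
  indFun_eq_zero_of_not_conj U θ fun x hx => h (mem_tiCls.2 ⟨h1, x⁻¹, by simpa using hx⟩)

theorem classInner_of_supp {φ ψ : G → ℂ} (h : ∀ g, g ≠ 1 → φ g = 0 ∨ ψ g = 0) :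
    classInner φ ψ = φ 1 * conj (ψ 1) / Nat.card G := by
  rw [classInner_def, Finset.sum_eq_single 1 (fun g _ hg => by rcases h g hg with h | h <;> simp [h]) (by simp)]
  ring

theorem IsTI.indFun_one (hTI : IsTI U) {g : G} (h : g ∈ tiCls U) :
    indFun U (fun _ => 1) g = U.relIndex (normalizer (U : Set G)) := by
  classical
  obtain ⟨u, hu, u1, e⟩ := h
  rw [← (isClassFunction_indFun U _).eq_of_isConj e, indFun_apply', Finset.sum_congr rfl
    (g := fun x => if x ∈ normalizer (U : Set G) then 1 else 0) fun x _ => by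
      split_ifs with h
      · exact extendByZero_of_mem U _ ((mem_normalizer_iff.1 h u).1 hu)
      · exact extendByZero_of_not_mem U _ fun e => h (hTI x u hu u1 e)]
  rw [Finset.sum_boole, ← Fintype.card_subtype, ← Nat.card_eq_fintype_card, relIndex,
    ← (U.subgroupOf (normalizer (U : Set G))).card_mul_index, Nat.card_congr (subgroupOfEquivOfLe le_normalizer).toEquiv]
  have := card_ne_zero_complex U
  push_cast; field_simp

theorem IsTI.classInner_indFun (hTI : IsTI U) (hC : ∀ u ∈ U, u ≠ 1 → centralizer ({u} : Set G) ≤ U)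
    {τ : U → ℂ} (hτ : IsIrrCharacter U τ) (h1 : τ ≠ fun _ => 1) (h2 : τ 1 = 1) :
    classInner (indFun U τ) (indFun U τ) =
      1 - (U.relIndex (normalizer (U : Set G)) : ℂ) / Nat.card U + (U.index : ℂ) / Nat.card U := by
  classical
  set N := normalizer (U : Set G)
  let e := subgroupOfEquivOfLe (le_normalizer : U ≤ N)
  have hτ' := hτ.comp_equiv e
  have hne : (fun x => τ (e x)) ≠ fun _ => 1 := fun h => h1 (funext fun x => by simpa using congrFun h (e.symm x))
  have h3 := isIrr_indFun_of_frob (frob_subgroupOf hC N) hτ' hne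
  have h4 : indFun N (indFun (U.subgroupOf N) fun x => τ (e x)) = indFun U τ := indFun_indFun U N le_normalizer τ
  set η := indFun (U.subgroupOf N) fun x => τ (e x)
  have h5 : η 1 = U.relIndex N := by simp only [η]; rw [indFun_apply_one, map_one, h2, mul_one, relIndex]
  have h6 : ∀ x : N, (x : G) ∉ U → η x = 0 := fun x hx => indFun_eq_zero_of_normal _ _ hx
  have n0 := card_ne_zero_complex N
  have u0 := card_ne_zero_complex U
  have h7 := classInner_indFun_of_TIset N (A := U) (fun g hg t ht h => by_contra fun e => hg (hTI g t ht e h))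
    (ψ := η - (η 1 / Nat.card N) • regChar N) h3.isClassFunction (fun x hx => by
      simp [h6 x hx, regChar_of_ne_one (show x ≠ 1 by rintro rfl; exact hx (one_mem _))]) h6
    (by simp [regChar_one])
  rw [indFun_sub, indFun_smul, indFun_regChar, h4, classInner_sub_left, classInner_sub_left, classInner_smul_left,
    classInner_smul_left, classInner_regChar_left, classInner_regChar_left, h3.classInner_self, indFun_apply_one,
    h2, h5] at h7
  have h8 : (Nat.card N : ℂ) = Nat.card U * U.relIndex N := by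
    rw [relIndex, ← (U.subgroupOf N).card_mul_index, Nat.card_congr e.toEquiv]; push_cast; rfl
  have h9 : (U.relIndex N : ℂ) ≠ 0 := by rw [h8] at n0; exact right_ne_zero_of_mul n0
  simp only [mul_one, map_natCast, h8] at h7
  field_simp at h7 ⊢
  linear_combination h7

theorem sum_indFun_irr (hab : ∀ a b : U, a * b = b * a) :
    ∑ τ : IrrCharacter U, indFun U τ = regChar G := by
  rw [← indFun_sum, ← indFun_regChar U, regChar_eq_sum]
  congr 1
  exact Finset.sum_congr rfl fun τ _ => by rw [τ.2.apply_one_of_comm hab, one_smul]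

/-- the family of irreducible characters attached to a TI-subgroup -/
theorem IsTI.family (hTI : IsTI U) (hC : ∀ u ∈ U, u ≠ 1 → centralizer ({u} : Set G) ≤ U)
    (hab : ∀ a b : U, a * b = b * a) (hU : 1 < Nat.card U) {A : G → ℂ} (hA : IsGeneralizedCharacter G A)
    (h0 : ∀ g ∈ tiCls U, A g = 0) {n : ℤ} (h1 : A 1 = n)
    (hn : classInner A A - 2 * n / Nat.card U + (U.index : ℂ) / Nat.card U =
      (U.relIndex (normalizer (U : Set G)) : ℂ) / Nat.card U) :
    (∃ χ, IsIrrCharacter G χ ∧ χ 1 = (n - U.index).natAbs) ∧ ∀ χ, IsIrrCharacter G χ →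
      (χ 1 = (n - U.index).natAbs ∧ ∃ ε : ℂ, ∀ g, g ≠ 1 → g ∉ tiCls U → χ g = ε * A g) ∨
      classInner (regChar G - indFun U (fun _ => 1) - ((Nat.card U : ℂ) - 1) • A) χ = 0 := by
  classical
  have key : ∀ τ : IrrCharacter U, τ ≠ irrOne U → ∃ (ε : ℤ) (χ : G → ℂ), (ε = 1 ∨ ε = -1) ∧ IsIrrCharacter G χ ∧
      A - indFun U τ = (ε : ℂ) • χ ∧ χ 1 = (n - U.index).natAbs := fun τ hτ => by
    have t1 := τ.2.apply_one_of_comm hab
    have e1 : classInner A (indFun U τ) = n / Nat.card U := by
      rw [classInner_of_supp fun g hg => by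
        by_cases h : g ∈ tiCls U
        · exact Or.inl (h0 g h)
        · exact Or.inr (indFun_eq_zero_of_notMem _ hg h), indFun_apply_one, t1, h1, ← U.card_mul_index]
      have := card_ne_zero_complex U
      have : (U.index : ℂ) ≠ 0 := Nat.cast_ne_zero.2 index_ne_zero_of_finite
      simp only [mul_one, map_natCast, Nat.cast_mul]; field_simp
    have e2 := τ.2.isGeneralizedCharacter.ind
    obtain ⟨ε, χ, h2, h3, h4⟩ := (hA.sub e2).exists_sign_smul_irr (by
      rw [classInner_sub_left, classInner_sub_right, classInner_sub_right, e2.classInner_comm hA, e1,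
        hTI.classInner_indFun hC τ.2 (fun e => hτ (Subtype.ext e)) t1]
      linear_combination hn)
    refine ⟨ε, χ, h2, h3, h4, ?_⟩
    obtain ⟨d, -, hd⟩ := h3.exists_apply_one
    have h5 := congrFun h4 1
    simp only [Pi.sub_apply, Pi.smul_apply, smul_eq_mul, indFun_apply_one, t1, h1, hd, mul_one] at h5
    have h6 : n - U.index = ε * d := by exact_mod_cast h5
    rw [hd, h6]
    rcases h2 with rfl | rfl <;> simp
  constructor
  · have : Nontrivial (IrrCharacter U) := Finite.one_lt_card_iff_nontrivial.1 (by rwa [card_irr_of_comm hab])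
    obtain ⟨τ, hτ⟩ := exists_ne (irrOne U)
    obtain ⟨ε, χ, -, h3, -, h5⟩ := key τ hτ
    exact ⟨χ, h3, h5⟩
  intro χ hχ
  by_cases h : ∀ τ : IrrCharacter U, τ ≠ irrOne U → classInner (A - indFun U τ) χ = 0
  · right
    have e := Finset.sum_eq_zero (s := Finset.univ.erase (irrOne U)) fun τ hτ => h τ (Finset.mem_erase.1 hτ).1
    rw [← classInner_sum_left, Finset.sum_sub_distrib, Finset.sum_const, Finset.sum_erase_eq_sub (Finset.mem_univ _),
      sum_indFun_irr hab, Finset.card_erase_of_mem (Finset.mem_univ _), Finset.card_univ,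
      ← Nat.card_eq_fintype_card, card_irr_of_comm hab, ← Nat.cast_smul_eq_nsmul ℂ, Nat.cast_pred (by omega)] at e
    rw [← neg_sub, classInner_neg_left, neg_eq_zero]
    exact e
  · left
    push Not at h
    obtain ⟨τ, hτ, h⟩ := h
    obtain ⟨ε, χ', h2, h3, h4, h5⟩ := key τ hτ
    rw [h4, classInner_smul_left] at h
    obtain rfl := h3.eq_of_classInner_ne_zero hχ (right_ne_zero_of_mul h)
    refine ⟨h5, ε, fun g g1 hg => ?_⟩
    have := congrFun h4 g
    simp only [Pi.sub_apply, indFun_eq_zero_of_notMem _ g1 hg, sub_zero, Pi.smul_apply, smul_eq_mul] at this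
    rw [this]
    rcases h2 with rfl | rfl <;> simp

end H23
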