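import Cfsg.Agent.H23.SzMult
import Cfsg.Agent.H23.SzTrace
import Cfsg.Agent.H23.TIChar

/-! Suzuki groups, part 17: the irreducible character degrees. -/

set_option autoImplicit false

namespace H23.Sz
open Subgroup MulAction Ov Cfsg H5
open scoped ComplexConjugate

variable {F : Type*} [Field F] [Tits F] {G : Type*} [Group G] [Model F G]

/-- functions on `Q` in coordinates -/
noncomputable def qf (f : F → F → ℂ) : Q F G → ℂ := fun x => f (Qequiv.symm x).1 (Qequiv.symm x).2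

theorem qf_T (f : F → F → ℂ) (a b : F) (h : (T a b : G) ∈ Q F G) : qf f ⟨T a b, h⟩ = f a b := by
  have : Qequiv.symm (⟨T a b, h⟩ : Q F G) = (a, b) := Qequiv.symm_apply_eq.2 rfl
  simp [qf, this]

/-- `T a b` as an element of `Q` -/
noncomputable def TQ (a b : F) : Q F G := ⟨T a b, T_mem_Q a b⟩

theorem TQ_surj (x : Q F G) : ∃ a b, x = TQ a b := by
  obtain ⟨_, a, b, rfl⟩ := x
  exact ⟨a, b, rfl⟩

theorem qf_TQ (f : F → F → ℂ) (a b : F) : qf f (TQ a b : Q F G) = f a b := qf_T f a b _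

theorem TQ_mul (a b c d : F) : (TQ a b : Q F G) * TQ c d = TQ (a + c) (b + d + θ a * c) :=
  Subtype.ext (T_mul a b c d)

theorem TQ_conj (a b c d : F) : (TQ a b : Q F G) * TQ c d * (TQ a b)⁻¹ = TQ c (d + θ a * c + a * θ c) :=
  Subtype.ext (T_conj a b c d)

theorem TQ_zero : (TQ 0 0 : Q F G) = 1 := Subtype.ext T_zero

variable [Fintype F]

theorem sum_Q [Fintype (Q F G)] (f : Q F G → ℂ) : ∑ x, f x = ∑ a : F, ∑ b : F, f (TQ a b) := by
  rw [← Qequiv.sum_comp, Fintype.sum_prod_type]; rfl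

theorem conj_ψ (x : F) : conj (ψ F x) = ψ F x := by rcases ψ_cases x with h | h <;> simp [h]

theorem sum_ψ {l : F} (h : l ≠ 0) : ∑ x, ψ F (l * x) = 0 := by
  simpa using AddChar.sum_eq_zero_iff_ne_zero.2 (ψ_primitive (F := F) h)

theorem sum_units [Fintype Fˣ] (φ : Fˣ → F) (h1 : Function.Injective φ) (h2 : ∀ k, φ k ≠ 0)
    (h3 : ∀ x, x ≠ 0 → ∃ k, φ k = x) : ∑ k, ψ F (φ k) = -1 := by
  classical
  rw [Fintype.sum_of_injective φ h1 _ (fun x => ψ F x - if x = 0 then 1 else 0) (fun x hx => by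
    rw [show x = 0 from by_contra fun e => hx (h3 x e)]; simp) (fun k => by simp [h2 k]), Finset.sum_sub_distrib]
  have := sum_ψ (F := F) one_ne_zero
  simp only [one_mul] at this
  simp [this]

theorem isChar_μ : IsCharacter (Q F G) (qf fun a _ => ψ F a) :=
  (isIrrCharacter_monoidHom ⟨⟨qf fun a _ => ψ F a, by rw [← TQ_zero, qf_TQ]; simp⟩, fun x y => by
    obtain ⟨a, b, rfl⟩ := TQ_surj x
    obtain ⟨c, d, rfl⟩ := TQ_surj y
    simp only [TQ_mul, qf_TQ, AddChar.map_add_eq_mul]⟩).isCharacter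

open Classical in
theorem isGen_Φ {m : ℕ} (hq : Nat.card F = 2 ^ (2 * m + 1)) :
    IsGeneralizedCharacter (Q F G) (qf fun a b => if a = 0 then 2 * 2 ^ m * ψ F b else 0) := by
  have := finite_G F G
  have := Fintype.ofFinite (Q F G)
  refine (?_ : IsClassFunction _ _).isGeneralizedCharacter_of_classInner fun χ hχ => ?_
  · intro x y
    obtain ⟨a, b, rfl⟩ := TQ_surj x
    obtain ⟨c, d, rfl⟩ := TQ_surj y
    rw [TQ_conj, qf_TQ, qf_TQ]
    split_ifs with h <;> simp [h]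
  have hz : ∀ b : F, (TQ 0 b : Q F G) ∈ charCenter χ := fun b =>
    hχ.center_le_charCenter (mem_center_iff.2 fun y => by
      obtain ⟨c, d, rfl⟩ := TQ_surj y
      exact Subtype.ext (T_commute.2 (Or.inr (Or.inl rfl))).eq)
  have h0 := hχ.apply_one_ne_zero
  obtain ⟨l, hl⟩ := exists_mulShift (F := F) ⟨fun b => χ (TQ 0 b) / χ 1, by rw [TQ_zero, div_self h0],
    fun b d => by
      rw [show (TQ 0 (b + d) : Q F G) = TQ 0 b * TQ 0 d by simp [TQ_mul], hχ.apply_mul_of_mem_charCenter (hz b)]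
      ring⟩
  have h1 : ∀ b, χ (TQ 0 b) = ψ F (l * b) * χ 1 := fun b => by
    rw [← hl]; exact (div_mul_cancel₀ _ h0).symm
  obtain ⟨n, -, h2, h3⟩ := hχ.exists_apply_one_dvd
  rw [classInner_def, sum_Q, Finset.sum_eq_single 0 (fun a _ ha => by simp [qf_TQ, ha]) (by simp)]
  simp only [qf_TQ, if_true, h1, h3, map_mul, conj_ψ, map_natCast]
  rw [Finset.sum_congr rfl (g := fun b => 2 * 2 ^ m * n * ψ F ((1 + l) * b)) fun b _ => by
    rw [add_mul, one_mul, AddChar.map_add_eq_mul]; ring, ← Finset.mul_sum]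
  by_cases h4 : 1 + l = 0
  swap
  · exact ⟨0, by rw [sum_ψ h4]; simp⟩
  obtain rfl : l = 1 := by grind
  have h5 : ∀ a b : F, a ≠ 0 → a ≠ 1 → χ (TQ a b) = 0 := fun a b a0 a1 => by
    obtain ⟨c, hc⟩ := exists_cross a0 a1
    have := hχ.isClassFunction (TQ a b) (TQ c 0)
    rw [show (TQ c 0 * TQ a b * (TQ c 0)⁻¹ : Q F G) = TQ 0 (θ c * a + c * θ a) * TQ a b by
      rw [TQ_conj, TQ_mul]; congr 1 <;> simp; ring, hχ.apply_mul_of_mem_charCenter (hz _), h1, one_mul, hc] at this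
    field_simp at this
    linear_combination -this / 2
  have h6 := hχ.sum_norm_sq
  rw [← Qequiv.sum_comp, Fintype.sum_prod_type, card_Q] at h6
  have h7 : ((Nat.card F ^ 2 : ℕ) : ℝ) ≤ 2 * (Nat.card F * n ^ 2) := by
    rw [← h6, ← Finset.sum_subset (Finset.subset_univ {0, 1}) fun a _ ha => Finset.sum_eq_zero fun b _ => by
      simp only [Finset.mem_insert, Finset.mem_singleton, not_or] at ha
      rw [show Qequiv (a, b) = TQ a b from rfl, h5 a b ha.1 ha.2]; simp]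
    refine (Finset.sum_le_card_nsmul _ _ ((Nat.card F : ℝ) * n ^ 2) fun a _ => ?_).trans (by simp)
    refine (Finset.sum_le_card_nsmul _ _ ((n : ℝ) ^ 2) fun b _ => ?_).trans (by simp)
    have := hχ.isCharacter.norm_apply_le (Qequiv (a, b))
    rw [h3, Complex.natCast_re] at this
    exact pow_le_pow_left₀ (norm_nonneg _) this 2
  rw [card_Q, hq, ← pow_mul] at h2
  obtain ⟨j, -, rfl⟩ := (Nat.dvd_prime_pow Nat.prime_two).1 h2
  have h8 : m ≤ j := by
    have h9 : Nat.card F ^ 2 ≤ 2 * (Nat.card F * (2 ^ j) ^ 2) := by exact_mod_cast h7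
    rw [hq, ← pow_mul, ← pow_mul, ← pow_add, ← pow_succ', Nat.pow_le_pow_iff_right one_lt_two] at h9
    omega
  obtain ⟨i, rfl⟩ := Nat.exists_eq_add_of_le h8
  refine ⟨2 ^ i, ?_⟩
  simp only [h4, zero_mul, AddChar.map_zero_eq_one, Finset.sum_const, Finset.card_univ, card_Q,
    ← Nat.card_eq_fintype_card, hq]
  push_cast
  field_simp
  ring

variable [Fintype G]

theorem indFun_Q [Fintype Fˣ] (f : F → F → ℂ) {c d : F} (h : (T c d : G) ≠ 1) :
    indFun (Q F G) (qf f) (T c d) = ((Nat.card F : ℂ) ^ 2)⁻¹ * ∑ a : F, ∑ b : F, ∑ k : Fˣ,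
      f (dl k * c) (θ (k : F) * d + θ a * (dl k * c) + a * θ (dl k * c)) := by
  rw [indFun_apply', card_Q, ← Fintype.sum_of_injective (fun t : F × F × Fˣ => (T t.1 t.2.1 * M t.2.2 : G))
    (fun t t' e => Prod.ext (TM_inj.1 e).1 (Prod.ext (TM_inj.1 e).2.1 (TM_inj.1 e).2.2))
    (fun t => f (dl t.2.2 * c) (θ (t.2.2 : F) * d + θ t.1 * (dl t.2.2 * c) + t.1 * θ (dl t.2.2 * c))) _
    (fun x hx => extendByZero_of_not_mem _ _ fun e => hx (by
      obtain ⟨a, b, k, rfl⟩ := mem_B.1 (mem_B_of_conj (T_mem_Q c d) h (Q_le_B e))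
      exact ⟨(a, b, k), rfl⟩))
    (fun t => by rw [TM_conj_T, extendByZero_of_mem _ _ (T_mem_Q _ _), qf_T])]
  simp only [Fintype.sum_prod_type, Nat.cast_pow]

open Classical in
/-- the unipotent part of the families of characters -/
noncomputable def Au (F : Type*) [Field F] [Tits F] [Fintype F] (G : Type*) [Group G] [Model F G] [Fintype G]
    (s c : ℤ) : G → ℂ :=
  indFun (Q F G) (qf fun a b => ψ F a + c * if a = 0 then 2 * s * ψ F b else 0)

theorem Au_gen {m : ℕ} (hq : Nat.card F = 2 ^ (2 * m + 1)) (c : ℤ) :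
    IsGeneralizedCharacter G (Au F G (2 ^ m) c) := by
  refine (?_ : IsGeneralizedCharacter _ _).ind
  convert isChar_μ.isGeneralizedCharacter.add ((isGen_Φ (G := G) hq).intCast_smul c) using 1
  funext x; simp [qf]

theorem Au_one (s c : ℤ) : Au F G s c 1 = (Nat.card F - 1) * (Nat.card F ^ 2 + 1) * (1 + c * (2 * s)) := by
  rw [Au, indFun_apply_one, index_Q, ← TQ_zero, qf_TQ]
  simp [Nat.cast_pred (Fintype.card_pos (α := F))]

theorem Au_invol (s c : ℤ) {g : G} (h1 : g ≠ 1) (h : g * g = 1) : Au F G s c g = Nat.card F - 1 - c * (2 * s) := by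
  classical
  obtain ⟨x, d, e⟩ := exists_conj_mem_Z (F := F) h
  have h2 := conj_ne_one (x := x) h1
  rw [e] at h2
  have hd : d ≠ 0 := by rintro rfl; exact h2 T_zero
  have := sum_units (fun k => θ (k : F) * d) (fun k l e => Units.ext ((θ : F →+* F).injective (mul_right_cancel₀ hd e)))
    (fun k => mul_ne_zero (θ_ne_zero k.ne_zero) hd) fun x hx => by
      obtain ⟨k, hk⟩ := exists_units_θ (div_ne_zero hx hd)
      exact ⟨k, by simp only [hk, div_mul_cancel₀ _ hd]⟩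
  rw [Au, ← (isClassFunction_indFun _ _).conj_apply' x, e, indFun_Q _ h2]
  simp only [mul_zero, map_zero, add_zero, if_true, AddChar.map_zero_eq_one, Finset.sum_add_distrib,
    ← Finset.mul_sum, this, Finset.sum_const, Finset.card_univ, Fintype.card_units, ← Nat.card_eq_fintype_card]
  have : (Nat.card F : ℂ) ≠ 0 := Nat.cast_ne_zero.2 Nat.card_pos.ne'
  simp only [nsmul_eq_mul, Nat.card_units, Nat.cast_pred (Nat.card_pos (α := F))]
  field_simp; ring

theorem Au_T (s c : ℤ) {a : F} (ha : a ≠ 0) (b : F) : Au F G s c (T a b) = -1 := by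
  classical
  have := sum_units (fun k => dl k * a) (fun k l e => dl_inj (mul_right_cancel₀ ha e))
    (fun k => mul_ne_zero (dl_ne_zero k) ha) fun x hx => by
      obtain ⟨k, hk⟩ := exists_dl (div_ne_zero hx ha)
      exact ⟨k, by simp only [hk, div_mul_cancel₀ _ ha]⟩
  rw [Au, indFun_Q _ (by simp [T_eq_one, ha])]
  simp only [mul_eq_zero, dl_ne_zero, ha, or_self, if_false, mul_zero, add_zero, this, Finset.sum_const,
    Finset.card_univ, ← Nat.card_eq_fintype_card]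
  have : (Nat.card F : ℂ) ≠ 0 := Nat.cast_ne_zero.2 Nat.card_pos.ne'
  simp only [nsmul_eq_mul]
  field_simp

theorem Au_four (s c : ℤ) {g : G} (h1 : g ∈ tiCls (Q F G)) (h : g * g ≠ 1) : Au F G s c g = -1 := by
  obtain ⟨-, x, a, b, e⟩ := mem_tiCls.1 h1
  rw [Au, ← (isClassFunction_indFun _ _).conj_apply' x, e]
  refine Au_T s c (fun e' => h ?_) b
  rw [show g = x * T a b * x⁻¹ by rw [← e]; group, conj_mul, e', T0_sq]; simp

theorem Au_zero (s c : ℤ) {g : G} (h1 : g ≠ 1) (h : g ∉ tiCls (Q F G)) : Au F G s c g = 0 :=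
  indFun_eq_zero_of_notMem _ h1 h

omit [Fintype F] [Model F G] in
theorem sum_ind (S : Set G) (c : ℂ) : ∑ g, S.indicator (fun _ => c) g = S.ncard * c := by
  classical
  rw [Finset.sum_indicator_eq_sum_filter, Finset.sum_const, nsmul_eq_mul, Set.ncard_eq_toFinset_card']
  simp

theorem sum_types [Big F] {s : ℕ} (hq : Nat.card F = 2 * s ^ 2) {u v : G} (hu : Free F u) (hv : Free F v)
    (huv : v ∉ tiCls (centralizer ({u} : Set G)))
    (hall : ∀ g, Free F g → g ∈ tiCls (centralizer ({u} : Set G)) ∨ g ∈ tiCls (centralizer ({v} : Set G)))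
    (cu : Nat.card (centralizer ({u} : Set G)) = Nat.card F + 2 * s + 1)
    (cv : Nat.card (centralizer ({v} : Set G)) = Nat.card F - 2 * s + 1) (f : G → ℂ) {a b c d e₁ e₂ : ℂ}
    (h1 : f 1 = a) (hz : ∀ g, g ≠ 1 → g * g = 1 → g ∈ tiCls (Q F G) → f g = b)
    (h4 : ∀ g ∈ tiCls (Q F G), g * g ≠ 1 → f g = c) (hH : ∀ g ∈ tiCls (H F G), f g = d)
    (hU : ∀ g ∈ tiCls (centralizer ({u} : Set G)), f g = e₁) (hV : ∀ g ∈ tiCls (centralizer ({v} : Set G)), f g = e₂) :
    ∑ g, f g = a + (4 * s ^ 4 + 1) * (2 * s ^ 2 - 1) * (b + 2 * s ^ 2 * c) +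
      4 * s ^ 4 * (4 * s ^ 4 + 1) * (s ^ 2 - 1) * d +
      2 * s ^ 5 * (2 * s ^ 2 - 1) * ((2 * s ^ 2 - 2 * s + 1) * (s + 1) * e₁ + (2 * s ^ 2 + 2 * s + 1) * (s - 1) * e₂) := by
  have n1 : ∀ U : Subgroup G, (1 : G) ∉ tiCls U := fun U h => (mem_tiCls.1 h).1 rfl
  have key : ∀ g, f g = ({1} : Set G).indicator (fun _ => a) g +
      {t : G | t ≠ 1 ∧ t * t = 1}.indicator (fun _ => b - c) g + (tiCls (Q F G)).indicator (fun _ => c) g +
      (tiCls (H F G)).indicator (fun _ => d) g + (tiCls (centralizer ({u} : Set G))).indicator (fun _ => e₁) g +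
      (tiCls (centralizer ({v} : Set G))).indicator (fun _ => e₂) g := fun g => by
    by_cases g1 : g = 1
    · simp [g1, n1, h1]
    have i1 : g * g = 1 → g ∈ tiCls (Q F G) := fun h =>
      mem_tiCls.2 ⟨g1, (exists_conj_mem_Z (F := F) h).imp fun x hx => Z_le_Q hx⟩
    rcases mem_tiCls_cases (F := F) g1 with h | h | h
    · have a1 := Set.disjoint_left.1 disjoint_tiCls_Q_H h
      have a2 := mt (free_of_mem_tiCls hu) (not_free_of_tiCls_Q h)
      have a3 := mt (free_of_mem_tiCls hv) (not_free_of_tiCls_Q h)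
      by_cases h2 : g * g = 1
      · simp [g1, h, a1, a2, a3, h2, hz g g1 h2 h]
      · simp [g1, h, a1, a2, a3, h2, h4 g h h2]
    · have a1 := Set.disjoint_right.1 disjoint_tiCls_Q_H h
      have a2 := mt (free_of_mem_tiCls hu) (not_free_of_tiCls_H h)
      have a3 := mt (free_of_mem_tiCls hv) (not_free_of_tiCls_H h)
      simp [g1, h, a1, a2, a3, mt i1 a1, hH g h]
    · have a1 : g ∉ tiCls (Q F G) := fun e => not_free_of_tiCls_Q e h
      have a2 : g ∉ tiCls (H F G) := fun e => not_free_of_tiCls_H e h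
      rcases hall g h with h' | h'
      · simp [g1, h', a1, a2, mt i1 a1, hU g h', Set.disjoint_left.1 (hu.disjoint hv huv) h']
      · simp [g1, h', a1, a2, mt i1 a1, hV g h', Set.disjoint_right.1 (hu.disjoint hv huv) h']
  have q8 := eight_le_q (F := F)
  have s2 : 2 ≤ s := by nlinarith
  have c1 := ncard_invol (F := F) (G := G)
  have c2 := ncard_tiCls_Q (F := F) (G := G)
  have c3 := ncard_tiCls_H (F := F) (G := G)
  have c4 := ncard_tiCls_mul hu.isTI
  have c5 := ncard_tiCls_mul hv.isTI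
  rw [hu.card_normalizer, cu, card_G F G] at c4
  rw [hv.card_normalizer, cv, card_G F G] at c5
  simp only [hq, add_tsub_cancel_right] at c1 c2 c3 c4 c5
  have l1 : 1 ≤ 2 * s ^ 2 := by omega
  have l2 : 2 ≤ 2 * s ^ 2 := by omega
  have l3 : 1 ≤ (2 * s ^ 2) ^ 2 := by nlinarith
  have l4 : 2 * s ≤ 2 * s ^ 2 := by nlinarith
  zify [l1, l2, l3, l4] at c1 c2 c3 c4 c5
  have d3 : ((tiCls (H F G)).ncard : ℤ) = 4 * s ^ 4 * (4 * s ^ 4 + 1) * (s ^ 2 - 1) := by linarith
  have d4 : ((tiCls (centralizer ({u} : Set G))).ncard : ℤ) =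
      2 * s ^ 5 * (2 * s ^ 2 - 1) * ((2 * s ^ 2 - 2 * s + 1) * (s + 1)) :=
    mul_right_cancel₀ (b := (4 * (2 * s ^ 2 + 2 * s + 1) : ℤ)) (by positivity) (by rw [c4]; ring)
  have d5 : ((tiCls (centralizer ({v} : Set G))).ncard : ℤ) =
      2 * s ^ 5 * (2 * s ^ 2 - 1) * ((2 * s ^ 2 + 2 * s + 1) * (s - 1)) :=
    mul_right_cancel₀ (b := (4 * (2 * s ^ 2 - 2 * s + 1) : ℤ)) (by nlinarith) (by rw [c5]; ring)
  have z : ∀ {n : ℕ} {k : ℤ}, (n : ℤ) = k → (n : ℂ) = k := fun h => by rw [← h]; simp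
  simp only [key, Finset.sum_add_distrib, sum_ind, Set.ncard_singleton, z c1, z c2, z d3, z d4, z d5]
  push_cast; ring

/-- the Steinberg character -/
noncomputable def St (F : Type*) [Field F] [Tits F] (G : Type*) [Group G] [Model F G] : G → ℂ :=
  (fun g => (Nat.card (fixedBy (Ov F) g) : ℂ)) - fun _ => 1

omit [Fintype G] in
theorem St_gen : IsGeneralizedCharacter G (St F G) :=
  (isCharacter_perm (Ov F)).isGeneralizedCharacter.sub isGeneralizedCharacter_one

omit [Fintype G] in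
theorem St_one : St F G 1 = Nat.card F ^ 2 := by
  simp only [St, Pi.sub_apply, fixedBy_one_eq_univ, Nat.card_univ, card_Ov]; push_cast; ring

omit [Fintype G] [Fintype F] in
theorem St_Q {g : G} (h : g ∈ tiCls (Q F G)) : St F G g = 0 := by
  obtain ⟨h1, x, h⟩ := mem_tiCls.1 h
  have : fixedBy (Ov F) g = {x • inf} := Set.ext fun p => fix_unique h1 h
  simp [St, this]

omit [Fintype G] in
theorem St_H {g : G} (h : g ∈ tiCls (H F G)) : St F G g = 1 := by
  obtain ⟨h1, x, k, h⟩ := mem_tiCls.1 h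
  have := card_fixedBy_of_conj_M (k := k) (by rintro rfl; exact conj_ne_one h1 (h.symm.trans (map_one _))) h.symm
  simp only [St, Pi.sub_apply, Nat.card_coe_set_eq, this]; norm_num

omit [Fintype G] [Fintype F] in
theorem St_free {g : G} (h : Free F g) : St F G g = -1 := by
  have : fixedBy (Ov F) g = ∅ := Set.eq_empty_of_forall_notMem h
  simp [St, this]

set_option maxHeartbeats 1000000 in
theorem degrees (F : Type*) [Field F] [Tits F] [Fintype F] (G : Type*) [Group G] [Model F G] [Big F] {m : ℕ}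
    (hq : Nat.card F = 2 ^ (2 * m + 1)) (d : ℕ) : (∃ χ, IsIrrCharacter G χ ∧ χ 1 = d) ↔
      d = 1 ∨ d = Nat.card F ^ 2 ∨ d = Nat.card F ^ 2 + 1 ∨ d = (Nat.card F - 1) * (Nat.card F - 2 ^ (m + 1) + 1) ∨
      d = (Nat.card F - 1) * (Nat.card F + 2 ^ (m + 1) + 1) ∨ d = (Nat.card F - 1) * 2 ^ m := by
  classical
  have := finite_G F G
  have := Fintype.ofFinite G
  have := isSimpleGroup F G
  have hA := fun c => Au_gen (G := G) hq c
  have hD : ∀ χ, IsIrrCharacter G χ → χ ≠ (fun _ => 1) → ((2 ^ m * (Nat.card F - 1) : ℕ) : ℝ) ≤ (χ 1).re := by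
    rintro _ ⟨n, R, hR, rfl⟩ h1
    have h2 := (isIrrCharacter_character R).charKer_eq_bot_of_simple h1
    rw [charKer_character] at h2
    have := le_finrank R hq fun e => T01_ne_one (F := F) (mem_bot.1 (h2 ▸ MonoidHom.mem_ker.2 e))
    rw [Representation.char_one, Complex.natCast_re]
    exact_mod_cast this
  obtain ⟨u, v, hu, hv, huv, hall, cu, cv⟩ := tori' F G (r_sq hq)
  have e0 : ((2 : ℤ) ^ m) = ((2 ^ m : ℕ) : ℤ) := by push_cast; rfl
  rw [pow_succ'] at cu cv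
  rw [pow_succ', pow_mul'] at hq
  rw [pow_succ' 2 m]
  simp only [e0] at hA
  generalize 2 ^ m = s at *
  have q8 := eight_le_q (F := F)
  have s2 : 2 ≤ s := by nlinarith
  have l1 : 1 ≤ 2 * s ^ 2 := by omega
  have l4 : 2 * s ≤ 2 * s ^ 2 := by nlinarith
  have S := fun f a b c d e₁ e₂ => sum_types hq hu hv huv hall cu cv f (a := a) (b := b) (c := c) (d := d) (e₁ := e₁)
    (e₂ := e₂)
  have cG : (Nat.card G : ℂ) = 4 * s ^ 4 * (2 * s ^ 2 - 1) * (4 * s ^ 4 + 1) := by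
    rw [card_G F G, hq]; push_cast [l1]; ring
  have cq : (Nat.card F : ℂ) = 2 * s ^ 2 := by rw [hq]; push_cast; ring
  have n1 : (s : ℂ) ≠ 0 := by norm_cast; omega
  have n2 : (2 * s ^ 2 - 1 : ℂ) ≠ 0 := by norm_cast; zify [l1]; nlinarith
  have n3 : (4 * s ^ 4 + 1 : ℂ) ≠ 0 := by norm_cast
  have n4 : (2 * s ^ 2 + 2 * s + 1 : ℂ) ≠ 0 := by norm_cast
  have n5 : (2 * s ^ 2 - 2 * s + 1 : ℂ) ≠ 0 := by norm_cast
  have n2' : (-1 + s ^ 2 * 2 : ℂ) ≠ 0 := by convert n2 using 1; ring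
  have n2'' : (s ^ 2 * 2 - 1 : ℂ) ≠ 0 := by convert n2 using 1; ring
  have n4' : (1 + s * 2 + s ^ 2 * 2 : ℂ) ≠ 0 := by convert n4 using 1; ring
  have n5' : (1 - s * 2 + s ^ 2 * 2 : ℂ) ≠ 0 := by convert n5 using 1; ring
  have t1 : ∀ {U : Subgroup G} {g : G}, g ∈ tiCls U → g ≠ 1 := fun h => (mem_tiCls.1 h).1
  have dH : ∀ g ∈ tiCls (H F G), g ∉ tiCls (Q F G) := fun g h => Set.disjoint_right.1 disjoint_tiCls_Q_H h
  have dF : ∀ {w : G}, Free F w → ∀ g ∈ tiCls (centralizer ({w} : Set G)), g ∉ tiCls (Q F G) := fun hw g h e =>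
    not_free_of_tiCls_Q e (free_of_mem_tiCls hw h)
  have dF' : ∀ {w : G}, Free F w → ∀ g ∈ tiCls (centralizer ({w} : Set G)), g ∉ tiCls (H F G) := fun hw g h e =>
    not_free_of_tiCls_H e (free_of_mem_tiCls hw h)
  have nA : ∀ c : ℤ, classInner (Au F G s c) (Au F G s c) = (Nat.card G : ℂ)⁻¹ *
      (((2 * s ^ 2 - 1) * (4 * s ^ 4 + 1) * (1 + c * (2 * s))) ^ 2 +
        (4 * s ^ 4 + 1) * (2 * s ^ 2 - 1) * ((2 * s ^ 2 - 1 - c * (2 * s)) ^ 2 + 2 * s ^ 2)) := fun c => by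
    rw [classInner_def, S _ (((2 * s ^ 2 - 1) * (4 * s ^ 4 + 1) * (1 + c * (2 * s))) ^ 2)
      ((2 * s ^ 2 - 1 - c * (2 * s)) ^ 2) 1 0 0 0 (by rw [Au_one, cq]; simp [map_ofNat]; ring)
      (fun g g1 h _ => by rw [Au_invol _ _ g1 h, cq]; simp [map_ofNat]; ring) (fun g h h' => by simp [Au_four _ _ h h'])
      (fun g h => by simp [Au_zero _ _ (t1 h) (dH g h)]) (fun g h => by simp [Au_zero _ _ (t1 h) (dF hu g h)])
      (fun g h => by simp [Au_zero _ _ (t1 h) (dF hv g h)])]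
    ring
  have A1 : ∀ c : ℤ, Au F G s c 1 = (((2 * s ^ 2 - 1) * (4 * s ^ 4 + 1) * (1 + c * (2 * s)) : ℤ) : ℂ) := fun c => by
    rw [Au_one, cq]; push_cast; ring
  have idx : ∀ (U : Subgroup G) (k : ℤ), (Nat.card U : ℂ) * k = Nat.card G → (U.index : ℤ) = k := fun U k h => by
    rw [← U.card_mul_index, Nat.cast_mul] at h
    exact_mod_cast (mul_left_cancel₀ (card_ne_zero_complex U) h).symm
  have rel : ∀ (U : Subgroup G) (k : ℕ), Nat.card (normalizer (U : Set G)) = k * Nat.card U →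
      U.relIndex (normalizer (U : Set G)) = k := fun U k h => by
    rw [← (U.subgroupOf (normalizer (U : Set G))).card_mul_index,
      Nat.card_congr (subgroupOfEquivOfLe le_normalizer).toEquiv, mul_comm] at h
    exact Nat.eq_of_mul_eq_mul_right Nat.card_pos h
  have cH : (Nat.card (H F G) : ℂ) = 2 * s ^ 2 - 1 := by rw [card_H, hq]; push_cast [l1]; ring
  have cU : (Nat.card (centralizer ({u} : Set G)) : ℂ) = 2 * s ^ 2 + 2 * s + 1 := by rw [cu, hq]; push_cast; ring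
  have cV : (Nat.card (centralizer ({v} : Set G)) : ℂ) = 2 * s ^ 2 - 2 * s + 1 := by rw [cv, hq]; push_cast [l4]; ring
  have iH := idx _ (4 * s ^ 4 * (4 * s ^ 4 + 1)) (by rw [cH, cG]; push_cast; ring)
  have iU := idx _ (4 * s ^ 4 * (2 * s ^ 2 - 1) * (2 * s ^ 2 - 2 * s + 1)) (by rw [cU, cG]; push_cast; ring)
  have iV := idx _ (4 * s ^ 4 * (2 * s ^ 2 - 1) * (2 * s ^ 2 + 2 * s + 1)) (by rw [cV, cG]; push_cast; ring)
  have rH := rel (H F G) 2 (by rw [card_normalizer_H, card_H])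
  have rU := rel _ 4 hu.card_normalizer
  have rV := rel _ 4 hv.card_normalizer
  have z : ∀ {n : ℕ} {k : ℤ}, (n : ℤ) = k → (n : ℂ) = k := fun h => by rw [← h]; simp
  have cyc : ∀ {U : Subgroup G}, IsCyclic U → ∀ a b : U, a * b = b * a := fun h a b => by
    letI := h.commGroup; exact mul_comm a b
  obtain ⟨x1, y1⟩ := (isTI_H (F := F) (G := G)).family (fun w hw w1 => by
      obtain ⟨k, rfl⟩ := hw
      exact (centralizer_M (by rintro rfl; exact w1 (map_one _))).le) (cyc isCyclic_H) (by rw [card_H]; omega)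
    (hA s) (fun g h => Au_zero _ _ (t1 h) (dH g h)) (A1 s) (by
      rw [nA, z iH, rH, cH, cG]; push_cast; field_simp; ring)
  obtain ⟨x2, y2⟩ := hu.isTI.family (fun w hw w1 => (hu.cent_eq hw w1).le) (cyc hu.isCyclic_cent) (by omega)
    (hA (s - 1)) (fun g h => Au_zero _ _ (t1 h) (dF hu g h)) (A1 _) (by
      rw [nA, z iU, rU, cU, cG]; push_cast
      rw [sub_add, ← sub_div, sub_eq_iff_eq_add, ← add_div, eq_div_iff n4]; field_simp; ring)
  obtain ⟨x3, y3⟩ := hv.isTI.family (fun w hw w1 => (hv.cent_eq hw w1).le) (cyc hv.isCyclic_cent)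
    (by have := hv.five_le; omega)
    (hA (s + 1)) (fun g h => Au_zero _ _ (t1 h) (dF hv g h)) (A1 _) (by
      rw [nA, z iV, rV, cV, cG]; push_cast
      rw [sub_add, ← sub_div, sub_eq_iff_eq_add, ← add_div, eq_div_iff n5]; field_simp; ring)
  have d1 : ((2 * s ^ 2 - 1) * (4 * s ^ 4 + 1) * (1 + s * (2 * s)) - (H F G).index : ℤ).natAbs =
      Nat.card F ^ 2 + 1 := by
    rw [iH, hq, ← Int.natAbs_neg, ← Int.natAbs_natCast (_ + 1)]; congr 1; push_cast; ring
  have d2 : ((2 * s ^ 2 - 1) * (4 * s ^ 4 + 1) * (1 + (s - 1) * (2 * s)) - (centralizer ({u} : Set G)).index : ℤ).natAbs =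
      (Nat.card F - 1) * (Nat.card F - 2 * s + 1) := by
    rw [iU, hq, ← Int.natAbs_natCast (_ * _)]; congr 1; push_cast [l1, l4]; ring
  have d3 : ((2 * s ^ 2 - 1) * (4 * s ^ 4 + 1) * (1 + (s + 1) * (2 * s)) - (centralizer ({v} : Set G)).index : ℤ).natAbs =
      (Nat.card F - 1) * (Nat.card F + 2 * s + 1) := by
    rw [iV, hq, ← Int.natAbs_natCast (_ * _)]; congr 1; push_cast [l1]; ring
  simp only [d1, d2, d3, cH, cU, cV] at x1 x2 x3 y1 y2 y3
  have hS : IsIrrCharacter G (St F G) := St_gen.isIrr_of_re_nonneg (by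
    rw [classInner_def, S _ (16 * s ^ 8) 0 0 1 1 1 (by rw [St_one, cq]; simp [map_ofNat]; ring) (fun g _ _ h => by simp [St_Q h])
      (fun g h _ => by simp [St_Q h]) (fun g h => by simp [St_H h])
      (fun g h => by simp [St_free (free_of_mem_tiCls hu h)]) (fun g h => by simp [St_free (free_of_mem_tiCls hv h)]),
      cG]
    field_simp; ring) (by rw [St_one]; norm_cast; positivity)
  let ξ : G → ℂ := regChar G - (fun _ => 1) - (4 * s ^ 4 : ℂ) • St F G -
    ((4 * s ^ 4 + 1) / 2 : ℂ) • (regChar G - indFun (H F G) (fun _ => 1) - (2 * s ^ 2 - 1 - 1 : ℂ) • Au F G s s) +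
    ((2 * s ^ 2 - 1) * (2 * s ^ 2 - 2 * s + 1) / 4 : ℂ) • (regChar G - indFun (centralizer ({u} : Set G)) (fun _ => 1) -
      (2 * s ^ 2 + 2 * s + 1 - 1 : ℂ) • Au F G s (s - 1)) +
    ((2 * s ^ 2 - 1) * (2 * s ^ 2 + 2 * s + 1) / 4 : ℂ) • (regChar G - indFun (centralizer ({v} : Set G)) (fun _ => 1) -
      (2 * s ^ 2 - 2 * s + 1 - 1 : ℂ) • Au F G s (s + 1))
  have c0 := (isCharacter_regChar (G := G)).isClassFunction
  have c1 : IsClassFunction G ξ := ((((c0.sub (isClassFunction_const 1)).sub (hS.isClassFunction.smul _)).sub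
    (((c0.sub (isClassFunction_indFun _ _)).sub ((hA _).isClassFunction.smul _)).smul _)).add
    (((c0.sub (isClassFunction_indFun _ _)).sub ((hA _).isClassFunction.smul _)).smul _)).add
    (((c0.sub (isClassFunction_indFun _ _)).sub ((hA _).isClassFunction.smul _)).smul _)
  have c2 : classInner ξ ξ = 2 * (s * (2 * s ^ 2 - 1)) ^ 2 := by
    have w : ∀ (g : G) (k : ℤ), ξ g = k * (s * (2 * s ^ 2 - 1)) → ξ g * conj (ξ g) = (k * (s * (2 * s ^ 2 - 1))) ^ 2 :=
      fun g k h => by rw [h]; simp [map_ofNat]; ring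
    have dUV := Set.disjoint_left.1 (hu.disjoint hv huv)
    rw [classInner_def, S _ _ _ _ _ _ _ (w 1 (2 * s * (2 * s ^ 2 - 1)) ?_) (fun g g1 h h' => w g (-2 * s) ?_)
      (fun g h h' => w g 0 ?_) (fun g h => w g 0 ?_) (fun g h => w g 2 ?_) (fun g h => w g (-2) ?_), cG]
    · push_cast; field_simp; ring
    all_goals simp only [ξ, Pi.add_apply, Pi.sub_apply, Pi.smul_apply, smul_eq_mul]
    · simp only [regChar_one, St_one, indFun_apply_one, A1, z iH, z iU, z iV, cq, cG]; push_cast; ring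
    · rw [regChar_of_ne_one g1, St_Q h', Au_invol _ _ g1 h, Au_invol _ _ g1 h, Au_invol _ _ g1 h,
        indFun_eq_zero_of_notMem _ g1 fun e => dH g e h', indFun_eq_zero_of_notMem _ g1 fun e => dF hu g e h',
        indFun_eq_zero_of_notMem _ g1 fun e => dF hv g e h', cq]
      push_cast; ring
    · have g1 := t1 h
      rw [regChar_of_ne_one g1, St_Q h, Au_four _ _ h h', Au_four _ _ h h', Au_four _ _ h h',
        indFun_eq_zero_of_notMem _ g1 fun e => dH g e h, indFun_eq_zero_of_notMem _ g1 fun e => dF hu g e h,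
        indFun_eq_zero_of_notMem _ g1 fun e => dF hv g e h]
      push_cast; ring
    · have g1 := t1 h
      have := dH g h
      rw [regChar_of_ne_one g1, St_H h, Au_zero _ _ g1 this, Au_zero _ _ g1 this, Au_zero _ _ g1 this,
        isTI_H.indFun_one h, indFun_eq_zero_of_notMem _ g1 fun e => dF' hu g e h,
        indFun_eq_zero_of_notMem _ g1 fun e => dF' hv g e h, rH]
      push_cast; ring
    · have g1 := t1 h
      have := dF hu g h
      rw [regChar_of_ne_one g1, St_free (free_of_mem_tiCls hu h), Au_zero _ _ g1 this, Au_zero _ _ g1 this,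
        Au_zero _ _ g1 this, hu.isTI.indFun_one h, indFun_eq_zero_of_notMem _ g1 (dF' hu g h),
        indFun_eq_zero_of_notMem _ g1 (dUV h), rU]
      push_cast; ring
    · have g1 := t1 h
      have := dF hv g h
      rw [regChar_of_ne_one g1, St_free (free_of_mem_tiCls hv h), Au_zero _ _ g1 this, Au_zero _ _ g1 this,
        Au_zero _ _ g1 this, hv.isTI.indFun_one h, indFun_eq_zero_of_notMem _ g1 (dF' hv g h),
        indFun_eq_zero_of_notMem _ g1 (fun e => dUV e h), rV]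
      push_cast; ring
  have x0 : (T (1 : F) 0 : G) ∈ tiCls (Q F G) := mem_tiCls.2 ⟨by simp [T_eq_one], 1, by simp [T_mem_Q]⟩
  have x0' : (T (1 : F) 1 : G) ∈ tiCls (Q F G) := mem_tiCls.2 ⟨by simp [T_eq_one], 1, by simp [T_mem_Q]⟩
  have key : ∀ χ, IsIrrCharacter G χ → (χ (T (1 : F) 0) = χ (T (1 : F) 1) ∧ (χ 1 = (1 : ℕ) ∨ χ 1 = (Nat.card F ^ 2 : ℕ) ∨
      χ 1 = (Nat.card F ^ 2 + 1 : ℕ) ∨ χ 1 = ((Nat.card F - 1) * (Nat.card F - 2 * s + 1) : ℕ) ∨
      χ 1 = ((Nat.card F - 1) * (Nat.card F + 2 * s + 1) : ℕ))) ∨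
      (χ ≠ (fun _ => 1) ∧ classInner ξ χ = conj (χ 1)) := fun χ hχ => by
    by_cases k1 : χ = fun _ => 1
    · simp [k1]
    by_cases k2 : χ = St F G
    · simp [k2, St_Q x0, St_Q x0', St_one]
    rcases y1 χ hχ with ⟨k, ε, k'⟩ | k3
    · exact Or.inl ⟨by rw [k' _ (t1 x0) fun e => dH _ e x0, k' _ (t1 x0') fun e => dH _ e x0', Au_T _ _ one_ne_zero,
        Au_T _ _ one_ne_zero], by simp [k]⟩
    rcases y2 χ hχ with ⟨k, ε, k'⟩ | k4
    · exact Or.inl ⟨by rw [k' _ (t1 x0) fun e => dF hu _ e x0, k' _ (t1 x0') fun e => dF hu _ e x0',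
        Au_T _ _ one_ne_zero, Au_T _ _ one_ne_zero], by simp [k]⟩
    rcases y3 χ hχ with ⟨k, ε, k'⟩ | k5
    · exact Or.inl ⟨by rw [k' _ (t1 x0) fun e => dF hv _ e x0, k' _ (t1 x0') fun e => dF hv _ e x0',
        Au_T _ _ one_ne_zero, Au_T _ _ one_ne_zero], by simp [k]⟩
    refine Or.inr ⟨k1, ?_⟩
    simp only [ξ]
    rw [classInner_add_left, classInner_add_left, classInner_sub_left, classInner_sub_left, classInner_sub_left,
      classInner_smul_left, classInner_smul_left, classInner_smul_left, classInner_smul_left, k3, k4, k5,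
      classInner_regChar_left, isIrrCharacter_one.classInner_of_ne hχ (Ne.symm k1), hS.classInner_of_ne hχ (Ne.symm k2)]
    simp
  have e1 : (T (1 : F) 1 : G) = (T (1 : F) 0)⁻¹ := by simp [T_inv]
  obtain ⟨χ₀, h0⟩ : ∃ χ : IrrCharacter G, χ.1 (T (1 : F) 0) ≠ χ.1 (T (1 : F) 1) := by
    by_contra h
    push Not at h
    obtain ⟨g, hg⟩ := isConj_iff.1 ((isConj_iff_forall_irr _ _).2 h)
    exact one_ne_zero (T_mem_Z_iff.1 (mem_Z_of_real (T_mem_Q (1 : F) 0) (hg.trans e1)))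
  let χ₁ : IrrCharacter G := ⟨_, χ₀.2.comp_inv⟩
  have h1 : χ₁.1 (T (1 : F) 0) ≠ χ₁.1 (T (1 : F) 1) := by
    simp only [χ₁, e1, inv_inv] at h0 ⊢; exact h0.symm
  have h2 : χ₀ ≠ χ₁ := fun e => h0 (by
    have := congrArg (fun χ : IrrCharacter G => χ.1 (T (1 : F) 0)) e
    simpa only [χ₁, e1] using this)
  have h3 : χ₁.1 1 = χ₀.1 1 := by simp [χ₁]
  obtain ⟨a1, a2⟩ := (key _ χ₀.2).resolve_left fun h => h0 h.1
  obtain ⟨-, a3⟩ := (key _ χ₁.2).resolve_left fun h => h1 h.1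
  obtain ⟨n, -, hn⟩ := χ₀.2.exists_apply_one
  have b1 := hD _ χ₀.2 a1
  have b2 : ∑ χ : IrrCharacter G, Complex.normSq (classInner ξ χ) = 2 * ((s * (Nat.card F - 1) : ℕ) : ℝ) ^ 2 := by
    apply Complex.ofReal_injective
    rw [← c1.classInner_self_eq_sum_normSq, c2, hq]; push_cast [l1]; ring
  have b3 := fun t : Finset (IrrCharacter G) => (Finset.sum_le_univ_sum_of_nonneg (s := t)
    fun χ : IrrCharacter G => Complex.normSq_nonneg (classInner ξ χ)).trans b2.le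
  have b4 := b3 {χ₀, χ₁}
  rw [Finset.sum_pair h2, a2, a3, h3, hn] at b4
  simp only [map_natCast, Complex.normSq_natCast, hn, Complex.natCast_re] at b1 b4
  have b5 : n = s * (Nat.card F - 1) := by
    have : (n : ℝ) = (s * (Nat.card F - 1) : ℕ) := le_antisymm (by nlinarith) b1
    exact_mod_cast this
  constructor
  · rintro ⟨χ, hχ, e⟩
    rcases key χ hχ with ⟨-, h⟩ | ⟨-, h⟩
    · simp only [e, Nat.cast_inj] at h; tauto
    by_cases k0 : χ₀ = ⟨χ, hχ⟩
    · rw [k0] at hn; simp [Nat.cast_inj.1 (e.symm.trans hn), b5, mul_comm]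
    by_cases k1 : χ₁ = ⟨χ, hχ⟩
    · rw [← h3, k1] at hn; simp [Nat.cast_inj.1 (e.symm.trans hn), b5, mul_comm]
    have b6 := b3 {⟨χ, hχ⟩, χ₀, χ₁}
    rw [Finset.sum_insert (by simp [Ne.symm k0, Ne.symm k1]), Finset.sum_pair h2, a2, a3, h3, hn, h, e, ← b5] at b6
    obtain ⟨d', p, e'⟩ := hχ.exists_apply_one
    obtain rfl : d' = d := by exact_mod_cast e'.symm.trans e
    simp only [map_natCast, Complex.normSq_natCast] at b6
    have : (0 : ℝ) < d' := by exact_mod_cast p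
    nlinarith
  · rintro (rfl | rfl | rfl | rfl | rfl | rfl)
    · exact ⟨_, isIrrCharacter_one, by simp⟩
    · exact ⟨_, hS, by simp [St_one]⟩
    · exact x1
    · exact x2
    · exact x3
    · exact ⟨_, χ₀.2, by rw [hn, b5, mul_comm]⟩

end H23.Sz
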