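import Cfsg.Agent.H23.UOre2

/-!
Finite checks over the field with four elements.
-/

namespace H23.UO

open Module Matrix

/-- a fast model of the field with four elements -/
inductive G4 | c0 | c1 | c2 | c3 deriving DecidableEq

namespace G4

instance decAll (P : G4 → Prop) [DecidablePred P] : Decidable (∀ a, P a) :=
  decidable_of_iff ((decide (P c0) && decide (P c1) && decide (P c2) && decide (P c3)) = true)
    ⟨fun h a => by cases a <;> simp_all, fun h => by simp [h]⟩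

instance decEx (P : G4 → Prop) [DecidablePred P] : Decidable (∃ a, P a) :=
  decidable_of_iff ((decide (P c0) || decide (P c1) || decide (P c2) || decide (P c3)) = true)
    ⟨fun h => by simp only [Bool.or_eq_true, decide_eq_true_eq] at h; rcases h with ((h | h) | h) | h <;> exact ⟨_, h⟩,
      fun ⟨a, h⟩ => by cases a <;> simp [h]⟩

instance : Zero G4 := ⟨c0⟩
instance : One G4 := ⟨c1⟩
instance : Neg G4 := ⟨id⟩
instance : Add G4 := ⟨fun a b => a.casesOn b (b.casesOn c1 c0 c3 c2) (b.casesOn c2 c3 c0 c1) (b.casesOn c3 c2 c1 c0)⟩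
instance : Mul G4 := ⟨fun a b => a.casesOn c0 b (b.casesOn c0 c2 c3 c1) (b.casesOn c0 c3 c1 c2)⟩

theorem add_def (a b : G4) : a + b = a.casesOn b (b.casesOn c1 c0 c3 c2) (b.casesOn c2 c3 c0 c1) (b.casesOn c3 c2 c1 c0) := rfl

theorem mul_def (a b : G4) : a * b = a.casesOn c0 b (b.casesOn c0 c2 c3 c1) (b.casesOn c0 c3 c1 c2) := rfl

instance : CommRing G4 := .ofMinimalAxioms (by decide) (by decide) (by decide) (by decide) (by decide) (by decide) (by decide)

/-- decoding of matrices -/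
def dm (c : ℕ) : Matrix (Fin 3) (Fin 3) G4 := of fun i j => match (c >>> (2 * (3 * i.1 + j.1))) % 4 with
  | 0 => c0 | 1 => c1 | 2 => c2 | _ => c3

/-- commutators in `SU₃(2)` -/
def tab (k j : ℕ) : Matrix (Fin 3) (Fin 3) G4 := dm (0xd66a7a599401125ad99a9d48c015fbd56ba504442a6f9ad994c80177ed5e6d50c483dde5da755008c66b95b795084c2e5a56de54cc03b96967d95403237f659f6548802d66a79b55048c26d69e6d56004c66b979b5580313dde5e6d5700cc5ae979b551200ee5a5e6d548403dfd979b550ccc2b665e6d543210bfba6de551100759a9b795700489b5a6de5504c819ae5b79570084f7796de55130096ba5b79560088b9696de55088837f65b7954c402ad996de5508c41dfb51014302019a9d4405040c099ae5101420301dfd9440504080c80d0101420202302404050c0c0c2c0408c4034080e01023100e010140408c403c0c20340231030180c09008c4040e0101402310202802c040c8402c040e01032100903014040c8402808203403210102c0c0900c8408070101403210303c02c0404440180c0e010111007020140404440140420340111020340c09004440c0901014011101014023100444301020c84011108040c1110044410101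 >>> (54 * k + 18 * j))

theorem tab_spec : ∀ k < 54, tab k 0 * tab k 2 * tab k 1 = tab k 1 * tab k 2 ∧ ∀ j ∈ [1, 2],
    ((tab k j).map fun a => a * a)ᵀ * tab k j = 1 ∧ let A := tab k j
      A 0 0 * A 1 1 * A 2 2 - A 0 0 * A 1 2 * A 2 1 - A 0 1 * A 1 0 * A 2 2 + A 0 1 * A 1 2 * A 2 0 + A 0 2 * A 1 0 * A 2 1 -
        A 0 2 * A 1 1 * A 2 0 = 1 := by
  decide +kernel

set_option synthInstance.maxSize 4000 in
set_option synthInstance.maxHeartbeats 200000 in
theorem su_three : ∀ a d g : G4, a * a * a + d * d * d + g * g * g = 1 → ∀ b e h : G4, b * b * b + e * e * e + h * h * h = 1 →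
    a * a * b + d * d * e + g * g * h = 0 → ∀ c f i : G4, a * a * c + d * d * f + g * g * i = 0 →
    b * b * c + e * e * f + h * h * i = 0 → a * e * i - a * f * h - b * d * i + b * f * g + c * d * h - c * e * g = 1 → ∀ l : G4,
    (∃ k < 54, tab k 0 0 0 = a ∧ tab k 0 0 1 = b ∧ tab k 0 0 2 = c ∧ tab k 0 1 0 = d ∧ tab k 0 1 1 = e ∧ tab k 0 1 2 = f ∧
      tab k 0 2 0 = g ∧ tab k 0 2 1 = h ∧ tab k 0 2 2 = i) ∨
    ∃ x y z : G4, x * x * (a * x + b * y + c * z - l * x) + y * y * (d * x + e * y + f * z - l * y) +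
      z * z * (g * x + h * y + i * z - l * z) = 0 ∧
      ¬(a * x + b * y + c * z = l * x ∧ d * x + e * y + f * z = l * y ∧ g * x + h * y + i * z = l * z) := by
  decide +kernel

set_option synthInstance.maxSize 2000 in
theorem sl_two : ∀ a b c d : G4, a * d - b * c = 1 → ∃ x y z w : G4, x * w - y * z = 1 ∧ (x + w) * (x + w) + (x + w) + 1 = 0 ∧
    ∃ x' y' z' w' : G4, (x' = x ∧ y' = y ∧ z' = z ∧ w' = w ∨ x' = w * w ∧ y' = z * z ∧ z' = y * y ∧ w' = x * x) ∧
    a * x + b * z + (c * y + d * w) = x' + w' ∧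
    ∃ r s u v : G4, r * v - s * u = 1 ∧ (a * x + b * z) * r + (a * y + b * w) * u = r * x' + s * z' ∧
      (a * x + b * z) * s + (a * y + b * w) * v = r * y' + s * w' ∧ (c * x + d * z) * r + (c * y + d * w) * u = u * x' + v * z' ∧
      (c * x + d * z) * s + (c * y + d * w) * v = u * y' + v * w' := by
  decide +kernel

theorem cw : ∀ a b c d e f : G4, ∃ x y z : G4, ¬(x = 0 ∧ y = 0 ∧ z = 0) ∧
    x * x * x * a + y * y * y * b + z * z * z * c + y * y * x * d + z * z * x * e + z * z * y * f = 0 := by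
  decide +kernel

end G4

variable {F V : Type*} [Field F] [AddCommGroup V] [Module F V] {σ : F →+* F} (hσ : σ ≠ RingHom.id F) (h2 : (2 : F) = 0)
  (h4 : ∀ x : F, x ≠ 0 → x * σ x = 1)
include hσ h2 h4

theorem exists_model : ∃ ι : G4 →+* F, Function.Bijective ι ∧ ∀ a, σ (ι a) = ι (a * a) := by
  have k : ∀ x, σ x ≠ x → σ x = x + 1 ∧ x * x = x + 1 := fun x hx => by
    have e1 := h4 x (by rintro rfl; simp at hx)
    have e2 := h4 (x + 1) fun e => hx (by rw [eq_neg_of_add_eq_zero_left e]; simp)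
    rw [map_add, map_one] at e2
    grind
  obtain ⟨c, hc⟩ := H12.exists_ne_of_ne_id hσ
  obtain ⟨c1, c2⟩ := k c hc
  let ι : G4 →+* F := ⟨⟨⟨fun a => a.casesOn 0 1 c (c + 1), rfl⟩, fun a b => by cases a <;> cases b <;> simp only [G4.mul_def] <;> grind⟩,
    rfl, fun a b => by cases a <;> cases b <;> simp only [G4.add_def] <;> grind⟩
  refine ⟨ι, ⟨(injective_iff_map_eq_zero ι).2 fun a h => ?_, fun x => ?_⟩, fun a => ?_⟩
  · cases a
    exacts [rfl, absurd h one_ne_zero, absurd (by rw [show c = 0 from h]; simp) hc, absurd (by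
      rw [eq_neg_of_add_eq_zero_left (show c + 1 = 0 from h)]; simp) hc]
  · by_cases hx : σ x = x
    · by_cases x0 : x = 0
      exacts [⟨.c0, x0.symm⟩, ⟨.c1, show 1 = x by have := h4 x x0; grind⟩]
    · rcases (by have := (k x hx).2; grind : c = x ∨ c + 1 = x) with h | h
      exacts [⟨.c2, h⟩, ⟨.c3, h⟩]
  · cases a
    exacts [map_zero σ, map_one σ, c1, show σ (c + 1) = c by grind]

theorem cw_two (β : V →ₛₗ[σ] V →ₗ[F] F) [FiniteDimensional F V] {T : Submodule F V} (h : 3 ≤ finrank F T) :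
    ∃ x ∈ T, x ≠ 0 ∧ β x x = 0 := by
  obtain ⟨ι, ⟨i1, i2⟩, i3⟩ := exists_model hσ h2 h4
  by_contra! H
  obtain ⟨u, u1, u2⟩ := Submodule.exists_mem_ne_zero_of_ne_bot (p := T) (by rintro rfl; simp at h)
  obtain ⟨v, v1, v2, v3⟩ := H12.exists_mem_ker_not_mem (W := T) ![β u] ⊥ (by simp; omega)
  obtain ⟨w, w1, w2, w3⟩ := H12.exists_mem_ker_not_mem (W := T) ![β u, β v] ⊥ (by simp; omega)
  replace v3 : β u v = 0 := v3 0
  have w4 : β u w = 0 := w3 0
  replace w3 : β v w = 0 := w3 1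
  choose f hf using i2
  obtain ⟨x, y, z, e1, e2⟩ := G4.cw (f (β u u)) (f (β v v)) (f (β w w)) (f (β v u)) (f (β w u)) (f (β w v))
  refine H (ι x • u + ι y • v + ι z • w) (add_mem (add_mem (T.smul_mem _ u1) (T.smul_mem _ v1)) (T.smul_mem _ w1)) (fun e => e1 ?_) ?_
  · have a1 : x = 0 := by simpa [v3, w4, H u u1 u2, i1.eq_iff' (map_zero ι)] using congrArg (β u) e
    have a2 : y = 0 := by simpa [a1, w3, H v v1 v2, i1.eq_iff' (map_zero ι)] using congrArg (β v) e
    exact ⟨a1, a2, by simpa [a1, a2, show w ≠ 0 from w2, i1.eq_iff' (map_zero ι)] using e⟩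
  · have := congrArg ι e2
    simp [hf, i3, v3, w3, w4] at this ⊢
    linear_combination this

theorem sl_two (A : GL (Fin 2) F) (hA : A.1.det = 1) : ∃ (D T : GL (Fin 2) F) (t : F), t * t + t + 1 = 0 ∧
    D.1 * D.1 + t • D.1 + 1 = 0 ∧ D.1.det = 1 ∧ T.1.det = 1 ∧ (A * D * T = T * D ∨ A * D * T = T * dual σ D) := by
  obtain ⟨ι, ⟨i1, i2⟩, i3⟩ := exists_model hσ h2 h4
  choose f hf using i2
  obtain ⟨x, y, z, w, e1, e2, x', y', z', w', e3, -, r, s, u, v, e4, e5⟩ := G4.sl_two (f (A 0 0)) (f (A 0 1)) (f (A 1 0)) (f (A 1 1))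
    (i1 (by simpa [hf, det_fin_two] using hA))
  simp only [← i1.eq_iff, map_add, map_mul, map_sub, map_one, map_zero, hf] at e1 e2 e4 e5
  have d1 : !![ι x, ι y; ι z, ι w].det = 1 := by simpa using e1
  have d2 : !![ι r, ι s; ι u, ι v].det = 1 := by simpa using e4
  have e6 : A.1 * !![ι x, ι y; ι z, ι w] * !![ι r, ι s; ι u, ι v] = !![ι r, ι s; ι u, ι v] * !![ι x', ι y'; ι z', ι w'] := by
    rw [eta_fin_two A.1]; simpa using ⟨⟨e5.1, e5.2.1⟩, e5.2.2⟩
  refine ⟨.mkOfDetNeZero _ (d1.trans_ne one_ne_zero), .mkOfDetNeZero _ (d2.trans_ne one_ne_zero), _, e2, ?_, d1, d2,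
    e3.imp (by rintro ⟨rfl, rfl, rfl, rfl⟩; exact Units.ext e6) ?_⟩
  · change _ * !![ι x, ι y; ι z, ι w] + _ • !![ι x, ι y; ι z, ι w] + 1 = 0
    ext i j; fin_cases i <;> fin_cases j <;> simp <;> grind
  · rintro ⟨rfl, rfl, rfl, rfl⟩
    refine Units.ext (e6.trans (congrArg _ ?_))
    rw [coe_dual, coe_units_inv, inv_eq_left_inv (B := !![ι w, ι y; ι z, ι x]) (by
      change _ * !![ι x, ι y; ι z, ι w] = 1
      ext i j; fin_cases i <;> fin_cases j <;> simp <;> grind)]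
    ext i j; fin_cases i <;> fin_cases j <;> simp [i3]

theorem su_three {G : Matrix (Fin 3) (Fin 3) F} (h1 : (G.map σ)ᵀ * G = 1) (hG : G.det = 1) {l : F}
    (h : ∀ x, sd σ x (G *ᵥ x - l • x) = 0 → G *ᵥ x = l • x) : ∃ a b : Matrix (Fin 3) (Fin 3) F,
      (a.map σ)ᵀ * a = 1 ∧ (b.map σ)ᵀ * b = 1 ∧ a.det = 1 ∧ b.det = 1 ∧ G * b * a = a * b := by
  obtain ⟨ι, ⟨i1, i2⟩, i3⟩ := exists_model hσ h2 h4
  obtain ⟨l, rfl⟩ := i2 l
  obtain ⟨G, rfl⟩ : ∃ G' : Matrix (Fin 3) (Fin 3) G4, G'.map ι = G :=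
    ⟨G.map (Function.surjInv i2), by ext; exact Function.surjInv_eq i2 _⟩
  have k : ∀ A : Matrix (Fin 3) (Fin 3) G4, ((A.map ι).map σ)ᵀ * A.map ι = ((A.map fun a => a * a)ᵀ * A).map ι := fun A => by
    rw [Matrix.map_mul]; congr 1; ext; exact i3 _
  have k' : ∀ i j, G 0 i * G 0 i * G 0 j + G 1 i * G 1 i * G 1 j + G 2 i * G 2 i * G 2 j = (1 : Matrix _ _ G4) i j := fun i j =>
    i1 (by simpa [mul_apply, Fin.sum_univ_three, one_apply, apply_ite ι] using congrFun₂ ((k G).symm.trans h1) i j)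
  rcases G4.su_three _ _ _ (k' 0 0) _ _ _ (k' 1 1) (k' 0 1) _ _ _ (k' 0 2) (k' 1 2) (by
    rw [← det_fin_three]; exact i1 ((ι.map_det G).trans (hG.trans (map_one ι).symm))) l with ⟨m, hm, e⟩ | ⟨x, y, z, e1, e2⟩
  · obtain rfl : G4.tab m 0 = G := by ext i j; fin_cases i <;> fin_cases j <;> simp [e]
    obtain ⟨e1, e2⟩ := G4.tab_spec m hm
    have d : ∀ j ∈ [1, 2], ((G4.tab m j).map ι).det = 1 := fun j hj =>
      (ι.map_det _).symm.trans ((congrArg ι ((det_fin_three _).trans (e2 j hj).2)).trans (map_one ι))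
    exact ⟨_, _, (k _).trans (by simp [(e2 1 (by simp)).1]), (k _).trans (by simp [(e2 2 (by simp)).1]), d 1 (by simp),
      d 2 (by simp), by simp only [← Matrix.map_mul, e1]⟩
  · have := h ![ι x, ι y, ι z] (by simpa [sd_apply, dotProduct, mulVec, Fin.sum_univ_three, i3, vecHead, vecTail] using congrArg ι e1)
    simp only [← i1.eq_iff, map_add, map_mul] at e2
    exact absurd ⟨by simpa [mulVec, dotProduct, Fin.sum_univ_three] using congrFun this 0,
      by simpa [mulVec, dotProduct, Fin.sum_univ_three] using congrFun this 1,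
      by simpa [mulVec, dotProduct, Fin.sum_univ_three] using congrFun this 2⟩ e2

end H23.UO
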