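import Cfsg.Agent.H23.UW1

/-! S5855 part 7: chunks `NH2` and `BM2` (adapted from `H4.WL.no_odd` and `H20.WL.bm`). -/

set_option autoImplicit false
set_option linter.unusedSectionVars false
set_option linter.style.haveILetI false

namespace H23.UW
open Matrix Cfsg.Geo H27.Asch H12.D5 H20.WL H20.WU H11 Subgroup H6.UW
open H4.WL (up sm up_pow up_mem up_inv up_ne hom_mem ch_mem dot_sm sm_one sm_up sm_ch sm_ch' hp three cinj3 nz χ_pow χ_nat)
universe u

variable {F : Type u} [Field F] [Fintype F]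

theorem two0 (hF : Fintype.card F = 32 ^ 2) : (2 : F) = 0 := by
  have := FiniteField.cast_card_eq_zero F
  rw [hF, show 32 ^ 2 = 2 ^ 10 by norm_num, Nat.cast_pow] at this
  exact pow_eq_zero_iff (by norm_num) |>.1 this

theorem no_odd2 {C : Cx 11 F} {G : Subgroup (GL (ZMod 11) F)} {ζ : Fˣ} (S : St C G) (h2 : (2 : F) = 0) (hN : NT G) {l : ℕ}
    (hl : l.Prime) (l3 : l = 3 ∨ 5 < l) (hζ : orderOf ζ = l) (h : dg (up 0 ζ) ∈ G) : False := by
  have h7 : 7 ≤ 11 := by norm_num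
  have l2 : l ≠ 2 := by omega
  have z0 := ζ.ne_zero
  have z1 : (ζ : F) - 1 ≠ 0 := sub_ne_zero.2 fun e => hl.ne_one (by rw [← hζ, Units.val_eq_one.1 e, orderOf_one])
  obtain ⟨δ, hδ⟩ : ∃ δ, δ = 2 - (ζ : F) - (ζ⁻¹ : Fˣ) := ⟨_, rfl⟩
  have δ0 : δ ≠ 0 := fun e => z1 (pow_eq_zero_iff two_ne_zero |>.1 (by
    rw [hδ, Units.val_inv_eq_inv_val] at e; field_simp at e; linear_combination -e))
  have r0 := pow_ne_zero 2 (inv_ne_zero C.r_ne)
  have key : ∀ (k : ZMod 11) (v : F), k ≠ 0 → v = C.χ k → ∀ a τ, a = δ * ((11 : ℕ) : F)⁻¹ ^ 2 * (2 + (v + v⁻¹)) →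
      τ = 2 - δ * (1 - a) → a = 0 ∨ a = 1 ∨ (l ≤ 5 ∧ τ * (τ ^ 2 - 1) * (τ ^ 4 - 3 * τ ^ 2 + 1) = 0) := fun k v k0 hv a τ ha hτ => by
    subst hv
    obtain ⟨x, hx, ex⟩ := hom_mem S h (d := 1) (by rw [dg_one]; exact one_mem G)
    obtain ⟨y, hy, ey⟩ := hom_mem S h (d := H4.WL.ch C * up 0 ζ * up k ζ) (by
      rw [← dg_mul, ← dg_mul]; exact mul_mem (mul_mem (ch_mem S) h) (up_mem S h k))
    have v0 : (C.χ k : F) ≠ 0 := Units.ne_zero _
    refine hp _ F G l ζ _ _ _ _ x y hN hl l2 hζ (by rw [dot_sm, inv_mul_cancel, sm_one, inv_mul_cancel₀ C.r_ne])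
      (by rw [dot_sm, inv_mul_cancel, sm_one, inv_mul_cancel₀ C.r_ne]) hx hy ex ey a τ ?_ (hδ ▸ hτ)
    rw [dot_sm, dot_sm]
    simp only [inv_one, one_mul, mul_one, mul_inv, up_inv, sm_up, sm_ch, sm_ch']
    simp only [H4.WL.ch, Pi.mul_apply, Pi.inv_apply, up_ne k0, one_mul, mul_one, AddChar.map_zero_eq_one, Units.val_one, Units.val_inv_eq_inv_val,
      inv_one, ha, hδ]
    generalize ((11 : ℕ) : F)⁻¹ = R
    field_simp; ring
  have inj : ∀ {x y : F}, δ * ((11 : ℕ) : F)⁻¹ ^ 2 * (2 + x) = δ * ((11 : ℕ) : F)⁻¹ ^ 2 * (2 + y) → x = y := fun e =>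
    add_left_cancel (mul_left_cancel₀ (mul_ne_zero δ0 r0) e)
  rcases l3 with rfl | l5
  swap
  · exact three (fun i j e => cinj3 (C := C) h7 (inj e)) fun i =>
      (key _ _ (nz (n := i + 1) h7 (by omega) (by omega)) rfl _ _ rfl rfl).imp_right fun e => e.resolve_right fun e => by omega
  have zl : (ζ : F) ^ 3 = 1 := by rw [← Units.val_pow_eq_pow_val, ← hζ, pow_orderOf_eq_one, Units.val_one]
  have z2 : (ζ : F) ^ 2 + ζ + 1 = 0 := mul_left_cancel₀ z1 (by linear_combination zl)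
  have δ1 : δ = 1 := by
    rw [hδ, Units.val_inv_eq_inv_val, inv_eq_of_mul_eq_one_right (show (ζ : F) * ζ ^ 2 = 1 by linear_combination zl)]
    linear_combination h2 - z2
  have e11 : ((11 : ℕ) : F) = 1 := by push_cast; linear_combination 5 * h2
  have w := fun n h0 h => χ_pow C (n := n) h0 h (one_ne_zero (α := ZMod 11))
  have k := key 1 _ one_ne_zero rfl _ _ rfl rfl
  rw [δ1, e11] at k
  have w2 := w 2 (by norm_num) (by norm_num)
  have w3 := w 3 (by norm_num) (by norm_num)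
  have w5 := w 5 (by norm_num) (by norm_num)
  have v0 : (C.χ 1 : F) ≠ 0 := Units.ne_zero _
  generalize (C.χ 1 : F) = v at *
  obtain ⟨a, ha⟩ : ∃ a, a = v + v⁻¹ := ⟨_, rfl⟩
  rw [← ha, inv_one, one_pow, one_mul, one_mul, h2, zero_add, zero_sub, one_mul] at k
  have ha' : a * v = v ^ 2 + 1 := by rw [ha]; field_simp
  have a0 : a ≠ 0 := fun e => w2 (by rw [e] at ha'; linear_combination -ha' - h2)
  have a1 : a ≠ 1 := fun e => w3 (by grind)
  have a2 : a ^ 2 + a + 1 ≠ 0 := fun e => w5 (by grind)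
  rcases k with k | k | ⟨-, k⟩
  exacts [a0 k, a1 k, by grind]

theorem nh2 : NH2.{u} := fun F _ _ C G hF S hN ζ h => by
  by_contra n
  obtain ⟨l, hl, m, e⟩ := Nat.exists_prime_and_dvd (mt orderOf_eq_one_iff.1 n)
  have h1 : dg (up 0 (ζ ^ m)) ∈ G := by rw [← up_pow, ← dg_pow]; exact pow_mem h m
  have m0 : 0 < m := Nat.pos_of_mul_pos_left (e ▸ orderOf_pos ζ)
  have h3 : orderOf (ζ ^ m) = l := by rw [orderOf_pow_of_dvd m0.ne' (e ▸ dvd_mul_left _ _), e, Nat.mul_div_cancel _ m0]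
  have h4 : l ∣ 1023 := by
    classical
    have := orderOf_dvd_card (x := ζ ^ m)
    rwa [h3, Fintype.card_units, hF] at this
  refine no_odd2 S (two0 hF) hN hl ?_ h3 h1
  by_contra! k
  have := hl.two_le
  obtain ⟨k1, k2⟩ := k
  interval_cases l <;> simp_all (decide := true)

theorem minor {C : Cx 11 F} (h2 : (2 : F) = 0) {A : Matrix (Fin 5) (Fin 5) F}
    (h : ∀ j k, A j k = C.χ (![1, 5, 3, 4, 9] j * ![1, 5, 3, 4, 9] k) - C.χ (![1, 5, 3, 4, 9] j * -![1, 5, 3, 4, 9] k))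
    (v φ : Fin 5 → F) : A ≠ 1 - vecMulVec v φ := fun e => by
  have k : A 0 1 * A 2 3 = A 0 3 * A 2 1 := by
    simp only [e, Matrix.sub_apply, vecMulVec_apply, one_apply]; simp; ring
  have n : ∀ i : ZMod 11, (C.χ i : F) = (C.χ 1 : F) ^ i.val := fun i => by
    rw [← Units.val_pow_eq_pow_val, ← χ_nat, ZMod.natCast_zmod_val]
  have x1 : (C.χ 1 : F) ≠ 1 := by simpa using χ_pow C (n := 1) one_pos (by norm_num) (one_ne_zero (α := ZMod 11))
  have x2 : (C.χ 1 : F) ^ 11 = 1 := by rw [← Units.val_pow_eq_pow_val, C.pow_r, Units.val_one]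
  rw [h, h, h, h, n (_ * _), n (_ * -_), n (_ * _), n (_ * -_), n (_ * _), n (_ * -_), n (_ * _), n (_ * -_)] at k
  generalize (C.χ 1 : F) = x at *
  change (x ^ 5 - x ^ 6) * (x ^ 1 - x ^ 10) = (x ^ 4 - x ^ 7) * (x ^ 4 - x ^ 7) at k
  have p : x ^ 10 + x ^ 9 + x ^ 8 + x ^ 7 + x ^ 6 + x ^ 5 + x ^ 4 + x ^ 3 + x ^ 2 + x + 1 = 0 :=
    mul_left_cancel₀ (sub_ne_zero.2 x1) (by linear_combination x2)
  grind

theorem bm2 : BM2.{u} := by
  intro F _ _ hF C X G S2 hG dx cz kz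
  have h := hG ▸ S2.st
  have h2 := two0 hF
  have D := dat11
  set a : Fin 5 → ZMod 11 := ![1, 5, 3, 4, 9] with ha
  let M := G ⊓ centralizer {zz 11 F}
  let m : M →* GL (Fin 5) F := dat11.mM.toHomUnits.comp (inclusion inf_le_right)
  have sz : ∀ c, sc _ c ∈ centralizer {zz 11 F} := fun c => mem_centralizer_singleton_iff.2 (sc_cm ..).symm
  let s : Fˣ →* M := (sc _).codRestrict _ fun c => ⟨h.sc (sc_mem c), sz c⟩
  let T : ZMod 11 → M := fun k => ⟨C.T k, h.T k, dg_cz.2 fun i => by rw [neg_sq]⟩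
  let P : (ZMod 11)ˣ → M := fun u => ⟨pm F (af u 0), h.af u 0, pm_cz u⟩
  let w : M := ⟨C.fo, h.fo, mem_cz.2 fun i j => by simp [C.fo_val]⟩
  let ζ : M := P (-1)
  have hs : ∀ c, (s c).1 = sc _ c := fun _ => rfl
  have hζ : ζ.1 = zz 11 F := rfl
  have md : ∀ {x : M} {d}, x.1 = dg d → m x = dg fun j => d (a j) := fun e => Units.ext (D.mM_dg e)
  have mv : ∀ (x : M) j k, (m x).val j k = x.1.val (a j) (a k) - x.1.val (a j) (-a k) := fun _ _ _ => rfl
  let N := normalClosure {T 1}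
  have tN : ∀ k, T k ∈ N := fun k => by
    convert pow_mem (subset_normalClosure rfl : T 1 ∈ N) k.val
    exact Subtype.ext (by simp [T, C.T_pow])
  have wN : ∀ k b, T k * (w * T b * w⁻¹) * T k ∈ N := fun k b =>
    mul_mem (mul_mem (tN k) (Normal.conj_mem inferInstance _ (tN b) w)) (tN k)
  have key : ∀ x y : M, y ∈ N ⊔ s.range → (∀ i j, C.Ac (y⁻¹ * x).1 i j i j) → x ∈ N ⊔ s.range := fun x y hy e => by
    obtain ⟨c, e⟩ := exists_sc (Cx.ac_sc D.r2 e (y⁻¹ * x).2.2)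
    exact (mul_mem_cancel_left (inv_mem hy)).1 (mem_sup_right ⟨c, Subtype.ext e.symm⟩)
  have two := two_ne D.r2
  have wK : w ∈ N ⊔ s.range := key _ _ (mem_sup_left (wN 2⁻¹ 2⁻¹)) fun i j => C.ac_fo.mul
    ((C.ac_W (by field_simp; norm_num)).of_eq (by field_simp) (by field_simp)).inv
  have PK : ∀ u, P u ∈ N ⊔ s.range := fun u => key _ _ (mul_mem (mem_sup_left (wN (2⁻¹ * (u⁻¹ : (ZMod 11)ˣ)) (2⁻¹ * u))) (inv_mem wK))
    fun i j => Cx.Ac.mul ⟨1, by rw [map_one, one_mul]; exact C.pm_cj u i j⟩ (((C.ac_fo (i := -j) (j := i)).of_eq rfl (neg_neg j)).inv.mul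
      ((C.ac_W (by rw [Units.val_inv_eq_inv_val]; field_simp; norm_num)).of_eq
        (by rw [← mul_assoc, mul_inv_cancel₀ two, one_mul, mul_comm]) (by field_simp))).inv
  have θi : Function.Injective fun j => C.χ (1 * a j ^ 2) := fun j k e =>
    D.inj j k (sq_eq_sq_iff_eq_or_eq_neg.1 (by simpa using C.inj e))
  have θ1 : ∀ j, (1 * a j ^ 2) ≠ 0 := fun j => by simp [D.ne]
  have ms : ∀ c, m (s c) = sc _ c := fun c => (md (dg_const c).symm).trans (dg_const c)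
  have mt : m (T 1) = dg fun j => C.χ (1 * a j ^ 2) := md (d := fun i => C.χ (1 * i ^ 2)) rfl
  have n1 : (-1 : F) = 1 := by linear_combination -h2
  have mζ : m ζ = 1 := by
    ext j k; simp [mv, hζ, zz_val, D.iff, D.ne', one_apply, neg_ite, n1]
  have ww : w * w = ζ := Subtype.ext (C.fo_sq.trans (by
    rw [show Units.mk0 ((11 : ℕ) : F) C.r_ne = 1 from Units.ext (by push_cast; simp; linear_combination 5 * h2), map_one, one_mul]; rfl))
  refine ⟨fun j => C.χ (1 * a j ^ 2), _, m, s, ζ, T 1, P (Units.mk0 5 (by decide)), w, ⟨Fact.out, D.card, D.three, D.nm, D.pri,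
    fun j => C.ord (θ1 j), θi, fun x e => (kz ⟨x.1, x.2.2⟩ x.2.1 (congrArg Units.val e)).imp Subtype.ext Subtype.ext,
    fun x => Subtype.ext (mem_centralizer_singleton_iff.1 x.2.2), fun x c => Subtype.ext (sc_cm c x.1), Subtype.ext zz_sq,
    fun e => C.zz_ne D.r2 (by rw [← hζ, e]; exact one_mem _), Subtype.ext ?_, ms, mζ, mt, ?_, fun k i j e => ?_, fun x e => ?_, PK _, wK,
    ⟨1, by rw [map_one, one_mul, ww]⟩, ?_, ?_⟩, fun _ => rfl, hζ, ww, ?_, minor (C := C) h2 fun j k => ?_⟩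
  · change C.T 1 ^ 11 = 1
    rw [C.T_pow, show ((11 : ℕ) : ZMod 11) * 1 = 0 by decide, C.T_zero]
  · ext j k; simp only [mv, P, H20.WL.pm, mu_val, af_apply, add_zero, mul_neg, ← D.rot]; simp [D.iff, D.ne']
  · refine ⟨P (Units.mk0 (a i / a j) (div_ne_zero (D.ne i) (D.ne j))), PK _, Subtype.ext ?_⟩
    rw [← AddChar.map_nsmul_eq_pow] at e
    have := C.inj e
    have := D.ne i
    simp only [P, T, coe_mul, coe_inv, coe_pow, C.pm_T, C.T_pow]
    congr 1
    simp at *; field_simp; linear_combination -‹_ = a j ^ 2›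
  · obtain ⟨d, e1 | e1⟩ := cz x x.2.1 x.2.2 (congrArg Subtype.val e)
    · exact ⟨_, fun i j => dx d (e1 ▸ x.2.1) _ _, md e1⟩
    · have e2 : (x * ζ).1 = dg d := by rw [coe_mul, e1, hζ, mul_assoc, zz_sq, mul_one]
      exact ⟨_, fun i j => dx d (e2 ▸ (x * ζ).2.1) _ _, by rw [← md e2, map_mul, mζ, mul_one]⟩
  · obtain ⟨n, hn, _, ⟨c, rfl⟩, e⟩ := mem_sup_of_normal_left.1 wK
    refine alg_top_of θi (mt ▸ mem_alg ⟨_, tN 1, rfl⟩) (w := (m w).val) ?_ fun j k z => ?_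
    · rw [← e, map_mul, ms, sc_cm, Units.val_mul, sc_val, smul_mul_assoc, one_mul]
      exact Subalgebra.smul_mem _ (mem_alg (mem_map_of_mem m hn)) _
    · exact mul_ne_zero two (mul_ne_zero (D.ne j) (D.ne k)) (by linear_combination C.inj (Units.ext (sub_eq_zero.1 z)))
  · rw [map_inv, mt, dg_inv]
    simpa [dg_val] using D.gauss C
  · let H : Subgroup M := (U _ (frob hF)).comap M.subtype
    haveI : H.Normal := ⟨fun y hy g => by
      haveI := scalars_normal (ι := ZMod 11) (F := F)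
      obtain ⟨x, hx, z, hz, e⟩ := mem_sup_of_normal_right.1 (hG ▸ g.2.1 : g.1 ∈ X ⊔ scalars _ F)
      obtain ⟨c, rfl⟩ := exists_sc hz
      change g.1 * y.1 * g.1⁻¹ ∈ U _ (frob hF)
      rw [← e, show x * sc _ c * y.1 * (x * sc _ c)⁻¹ = x * (sc _ c * y.1 * (sc _ c)⁻¹) * x⁻¹ by group, sc_cj]
      exact mul_mem (mul_mem (S2.un hx) hy) (inv_mem (S2.un hx))⟩
    have tH : T 1 ∈ H := by
      change tt _ (C.T 1) = C.T 1
      rw [← _root_.inv_inj]
      refine Units.ext ?_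
      rw [tt_inv_val, Cx.T, dg_inv, dg_val, dg_val, diagonal_map (map_zero _), diagonal_transpose]
      congr 1; ext i
      rw [frob_apply, ← Units.val_pow_eq_pow_val, Pi.inv_apply, eq_inv_of_mul_eq_one_left (show C.χ (1 * i ^ 2) ^ 32 * C.χ (1 * i ^ 2) = 1 by
        rw [← pow_succ, show 32 + 1 = 11 * 3 by norm_num, pow_mul, C.pow_r, one_pow])]
    rintro _ ⟨y, hy, rfl⟩
    have hy' : tt (frob hF) y.1 = y.1 := normalClosure_le_normal (N := H) (Set.singleton_subset_iff.2 tH) hy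
    have e : ∀ i j, (y⁻¹).1.val i j = frob hF (y.1.val j i) := fun i j => by
      rw [coe_inv, ← hy', tt_inv_val, hy']; rfl
    rw [mem_U, ← _root_.inv_inj, ← map_inv m]
    refine Units.ext (Matrix.ext fun j k => ?_)
    rw [tt_inv_val, mv, e, e, transpose_apply, map_apply, mv, map_sub, ← mem_cz.1 y.2.2 (-a k), neg_neg]
  · rw [mv]; rfl

end H23.UW
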