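import Cfsg.Agent.H7.Quot
import Cfsg.Agent.H7.PPart
import Cfsg.Agent.H2.Action
import Cfsg.Agent.H1.Fitting
import Mathlib.GroupTheory.FiniteAbelian.Duality

/-! Vanishing elements: a criterion, and regular orbits on duals of abelian groups. -/

set_option autoImplicit false
set_option linter.unusedSectionVars false

namespace H23.VE
open Cfsg H5 H7 Subgroup
open scoped ComplexConjugate commutatorElement

variable {G : Type*} [Group G] [Finite G]

/-- `x` is a zero of some irreducible character. -/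
def Van (x : G) : Prop := ∃ χ : IrrCharacter G, (χ : G → ℂ) x = 0

theorem Van.ne_one {x : G} (h : Van x) : x ≠ 1 := by
  rintro rfl
  obtain ⟨χ, h⟩ := h
  exact χ.2.apply_one_ne_zero h

theorem Van.lift {Q : Type*} [Group Q] [Finite Q] (f : G →* Q) (hf : Function.Surjective f) {x : G}
    (h : Van (f x)) : Van x := by
  obtain ⟨χ, h⟩ := h
  exact ⟨infl f hf χ, h⟩

theorem Van.conj {x y : G} (h : Van x) (c : IsConj x y) : Van y := by
  obtain ⟨χ, h⟩ := h
  exact ⟨χ, (χ.2.isClassFunction.eq_of_isConj c).symm.trans h⟩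

theorem van_of (V : Subgroup G) [hV : V.Normal] (l : V →* ℂˣ) (x : G)
    (h : ∀ g : G, ∃ u ∈ centralizer (V : Set G), ∃ hw : g * ⁅u, x⁆ * g⁻¹ ∈ V, l ⟨_, hw⟩ ≠ 1) :
    Van x := by
  classical
  have := Fintype.ofFinite G
  obtain ⟨χ, hχ, h0⟩ := (isIrrCharacter_unitsHom l).exists_irr_above (H := V)
  refine ⟨⟨χ, hχ⟩, ?_⟩
  let θ : V → ℂ := fun v => conj (l v : ℂ)
  have e := hχ.sum_mul_apply_mul (isClassFunction_indFun V θ) x
  rw [sum_indFun_mul V θ hχ.isClassFunction] at e
  have n : ∑ v : V, θ v * χ v ≠ 0 := fun e => h0 (by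
    rw [classInner_def, ← mul_zero ((Nat.card V : ℂ)⁻¹), ← e]
    exact congrArg _ (Finset.sum_congr rfl fun v _ => mul_comm _ _))
  have z : ∑ g, indFun V θ g * χ (g * x) = 0 := by
    simp only [indFun, mul_assoc, ← Finset.mul_sum, Finset.sum_mul]
    rw [Finset.sum_comm, Finset.sum_eq_zero, mul_zero]
    intro g _
    obtain ⟨u, hu, hw, hl⟩ := h g⁻¹
    have hw' : ⁅u, x⁆ ∈ V := by simpa [mul_assoc] using hV.conj_mem _ hw g
    set S := ∑ y, extendByZero V θ (g⁻¹ * (y * g)) * χ (y * x) with hS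
    have : S = conj (l ⟨_, hw⟩ : ℂ) * S := by
      conv_lhs => rw [hS, ← Equiv.sum_comp (Equiv.mulRight ⁅u, x⁆)]
      rw [hS, Finset.mul_sum]
      refine Finset.sum_congr rfl fun y _ => ?_
      by_cases hy : y ∈ V
      · have a : g⁻¹ * (y * g) ∈ V := by simpa [mul_assoc] using hV.conj_mem _ hy g⁻¹
        have b : g⁻¹ * (y * ⁅u, x⁆ * g) = g⁻¹ * (y * g) * (g⁻¹ * ⁅u, x⁆ * g⁻¹⁻¹) := by group
        have c : y * ⁅u, x⁆ * x = u * (y * x) * u⁻¹ := by
          rw [commutatorElement_def, ← mul_assoc u, ← hu y hy]; group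
        simp only [Equiv.coe_mulRight]
        rw [c, hχ.isClassFunction.conj_apply, b, extendByZero_of_mem V θ (mul_mem a hw),
          extendByZero_of_mem V θ a]
        have : l ⟨_, mul_mem a hw⟩ = l ⟨_, a⟩ * l ⟨_, hw⟩ := by rw [← map_mul]; rfl
        simp only [θ, this, Units.val_mul, map_mul]; ring
      · have a : g⁻¹ * (y * g) ∉ V := fun a => hy (by simpa [mul_assoc] using hV.conj_mem _ a g)
        have b : g⁻¹ * (y * ⁅u, x⁆ * g) ∉ V := fun b => hy <| (V.mul_mem_cancel_right hw').1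
          (by simpa [mul_assoc] using hV.conj_mem _ b g)
        simp only [Equiv.coe_mulRight]
        rw [extendByZero_of_not_mem V θ a, extendByZero_of_not_mem V θ b]; simp
    by_contra s
    refine hl (Units.ext ?_)
    have := (mul_right_cancel₀ s ((one_mul S).trans this)).symm
    simpa using congrArg conj this
  rw [z] at e
  have i : (V.index : ℂ) ≠ 0 := Nat.cast_ne_zero.2 index_ne_zero_of_finite
  simpa [n, i, hχ.apply_one_ne_zero] using e.symm

theorem exists_char {W : Type*} [CommGroup W] [Finite W] (K : Subgroup W) {w : W} (h : w ∉ K) :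
    ∃ μ : W →* ℂˣ, (∀ y ∈ K, μ y = 1) ∧ μ w ≠ 1 := by
  have : NeZero (Monoid.exponent W) := ⟨Monoid.exponent_ne_zero_of_finite⟩
  have := mt (CommGroup.forall_monoidHom_apply_eq_one_iff (M := ℂ) K w).1 h
  push Not at this
  exact this

/-- An abelian group acting coprimely on an abelian group has a regular orbit on the dual. -/
theorem reg {W B : Type*} [CommGroup W] [Finite W] [Group B] [Finite B] (ρ : B →* MulAut W)
    (hc : ∀ a b : B, a * b = b * a) (hcop : (Nat.card B).Coprime (Nat.card W)) :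
    ∃ l : W →* ℂˣ, ∀ b, (∀ u, l (ρ b u) = l u) → ρ b = 1 := by
  let St : (W →* ℂˣ) → Set B := fun l => {b | ∀ u, l (ρ b u) = l u}
  obtain ⟨_, ⟨l, rfl⟩, hm⟩ := (wellFounded_lt (α := Set B)).has_min (Set.range St) ⟨_, 1, rfl⟩
  refine ⟨l, fun b hb => ?_⟩
  by_contra n
  let φ : W →* W := (ρ b).toMonoidHom * (MonoidHom.id W)⁻¹
  have hφ : ∀ u, φ u = ρ b u * u⁻¹ := fun u => rfl
  have inj : ∀ v, φ (φ v) = 1 → φ v = 1 := fun v hv => by
    have a : ρ b (φ v) = φ v := by rwa [hφ, mul_inv_eq_one] at hv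
    have c : ∀ k : ℕ, ρ (b ^ k) v = φ v ^ k * v := fun k => by
      induction k with
      | zero => simp
      | succ k ih =>
        rw [pow_succ', map_mul, MulAut.mul_apply, ih, map_mul, map_pow, a, pow_succ, mul_assoc, hφ,
          inv_mul_cancel_right]
    have d := c (Nat.card B)
    rw [pow_card_eq_one', map_one, MulAut.one_apply, right_eq_mul] at d
    exact orderOf_eq_one_iff.1 (Nat.eq_one_of_dvd_coprimes hcop (orderOf_dvd_of_pow_eq_one d)
      (orderOf_dvd_natCard _))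
  have dec : ∀ u, ∃ c v, φ c = 1 ∧ u = c * φ v := fun u => by
    let ψ : φ.range → φ.range := fun w => ⟨φ w, w, rfl⟩
    have : Function.Injective ψ := by
      rintro ⟨_, v, rfl⟩ ⟨_, v', rfl⟩ e
      have e : φ (φ v) = φ (φ v') := congrArg Subtype.val e
      have := inj (v * v'⁻¹) (by simp [e])
      exact Subtype.ext (by simpa [mul_inv_eq_one] using this)
    obtain ⟨⟨_, v, rfl⟩, e⟩ := Finite.surjective_of_injective this ⟨φ u, u, rfl⟩
    have e : φ (φ v) = φ u := congrArg Subtype.val e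
    exact ⟨u * (φ v)⁻¹, v, by simp [e], by simp⟩
  obtain ⟨v, hv⟩ : ∃ v, φ v ≠ 1 := by
    by_contra! a
    exact n (MulEquiv.ext fun u => by simpa [hφ, mul_inv_eq_one] using a u)
  obtain ⟨μ, h1, h2⟩ := exists_char φ.ker (w := φ v) fun e => hv (inj v e)
  have lφ : ∀ u, l (φ u) = 1 := fun u => by rw [hφ, map_mul, hb, map_inv, mul_inv_cancel]
  have cφ : ∀ a u, ρ a (φ u) = φ (ρ a u) := fun a u => by
    rw [hφ, hφ, map_mul, map_inv, ← MulAut.mul_apply, ← MulAut.mul_apply, ← map_mul, ← map_mul, hc]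
  refine hm _ ⟨l * μ, rfl⟩ ⟨fun a ha u => ?_, fun e => h2 ?_⟩
  · obtain ⟨c, w, hc', rfl⟩ := dec u
    have := ha c
    rw [MonoidHom.mul_apply, MonoidHom.mul_apply, h1 c hc', h1 (ρ a c) (by
      rw [MonoidHom.mem_ker, ← cφ, hc', map_one]), mul_one, mul_one] at this
    rw [map_mul, map_mul, map_mul, this, cφ, lφ, lφ]
  · have := e hb v
    rw [MonoidHom.mul_apply, MonoidHom.mul_apply, hb, mul_right_inj] at this
    rw [hφ, map_mul, this, map_inv, mul_inv_cancel]

end H23.VE
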