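import Cfsg.Agent.H23.Van1

/-! Solvable groups whose vanishing `p`-singular elements all have the same order. -/

set_option autoImplicit false
set_option linter.unusedSectionVars false

namespace H23.VE
open Cfsg H5 H7 Subgroup
open scoped commutatorElement

section abs
variable {H W : Type*} [Group H] [Finite H] [CommGroup W] [Finite W] {p q : ℕ} [hp : Fact p.Prime]

/-- Abstract data: `H` acts faithfully and irreducibly on `W`; `S` = "all lifts vanish". -/
structure Abs (p q : ℕ) (ρ : H →* MulAut W) (S : H → Prop) : Prop where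
  inj : Function.Injective ρ
  hq : q.Prime
  ne : p ≠ q
  pg : IsPGroup q W
  nt : Nontrivial W
  irr : ∀ K : Subgroup W, (∀ h, ∀ w ∈ K, ρ h w ∈ K) → K = ⊥ ∨ K = ⊤
  s1 : ∀ (l : W →* ℂˣ) h, (∀ g, ∃ u, l (ρ (g * h * g⁻¹) u) ≠ l u) → S h
  s2 : ∀ h, Van h → S h
  s3 : ∀ a h, S a → IsPElt p a → S h → p ∣ orderOf h → IsPElt p h ∧ ∀ w, ρ h w = w → w = 1
  s4 : ∀ h, S h → IsPElt p h → h ≠ 1 → h ^ p ≠ 1 → ¬ S (h ^ p)

variable {ρ : H →* MulAut W} {S : H → Prop}

theorem Abs.ab (h : Abs p q ρ S) (B : Subgroup H) [hB : B.Normal] [IsMulCommutative B] :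
    ∀ b ∈ B, b ≠ 1 → S b := by
  have c : ∀ a ∈ B, ∀ b ∈ B, a * b = b * a := fun a ha b hb => setLike_mul_comm ha hb
  have := Fact.mk h.hq
  have hcop : ¬ q ∣ Nat.card B := fun hd => by
    let N : Subgroup H :=
      { carrier := {x | x ∈ B ∧ x ^ q = 1}
        mul_mem' := fun {x y} hx hy => ⟨mul_mem hx.1 hy.1, by
          rw [Commute.mul_pow (c x hx.1 y hy.1), hx.2, hy.2, mul_one]⟩
        one_mem' := ⟨one_mem _, one_pow _⟩
        inv_mem' := fun {x} hx => ⟨inv_mem hx.1, by rw [inv_pow, hx.2, inv_one]⟩ }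
    have hN : IsPGroup q N := H1.isPGroup_of_pow_eq_one fun x hx => hx.2
    letI : MulAction N W := MulAction.compHom W (ρ.comp N.subtype)
    have := h.nt
    obtain ⟨n, hn, e⟩ := h.pg.nontrivial_iff_card.1 this
    obtain ⟨w, hw, w1⟩ := hN.exists_fixed_point_of_prime_dvd_card_of_fixed_point W
      (e ▸ dvd_pow_self q hn.ne') (a := (1 : W)) fun x => map_one (ρ x)
    rcases h.irr (H2.autFixed (ρ.comp N.subtype)) (fun g u hu x => by
      have := hu ⟨g⁻¹ * x * g⁻¹⁻¹, hB.conj_mem _ x.2.1 _, by rw [conj_pow, x.2.2]; simp⟩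
      have := congrArg (ρ g) this
      change ρ g (ρ (g⁻¹ * x * g⁻¹⁻¹) u) = _ at this
      change ρ x (ρ g u) = _
      refine Eq.trans ?_ this
      rw [← MulAut.mul_apply, ← MulAut.mul_apply, ← map_mul, ← map_mul]
      congr 2; group) with e | e
    · exact w1 (mem_bot.1 (e ▸ show w ∈ H2.autFixed (ρ.comp N.subtype) from fun x => hw x)).symm
    · obtain ⟨x, hx⟩ := exists_prime_orderOf_dvd_card' q hd
      have : ρ x = ρ 1 := MulEquiv.ext fun u => by
        simpa using (e ▸ mem_top u : u ∈ H2.autFixed (ρ.comp N.subtype))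
          ⟨x, x.2, by rw [← coe_pow, ← hx, pow_orderOf_eq_one, coe_one]⟩
      have : x = 1 := Subtype.ext (h.inj this)
      exact h.hq.one_lt.ne (by simpa [this] using hx)
  obtain ⟨n, e⟩ := h.pg.exists_card_eq
  obtain ⟨l, hl⟩ := reg (ρ.comp B.subtype) (fun a b => Subtype.ext (c _ a.2 _ b.2))
    (e ▸ ((Nat.Prime.coprime_iff_not_dvd h.hq).2 hcop).symm.pow_right n)
  refine fun b hb b1 => h.s1 l b fun g => ?_
  by_contra! a
  have := hl ⟨_, hB.conj_mem b hb g⟩ a
  exact b1 (by simpa using h.inj (this.trans (map_one ρ).symm))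

theorem Abs.card (h : Abs p q ρ S) (B : Subgroup H) [IsMulCommutative B]
    (hS : ∀ b ∈ B, b ≠ 1 → S b ∧ IsPElt p b) : Nat.card B ∣ p := by
  have hP : IsPGroup p B := fun b => by
    by_cases e : (b : H) = 1
    · exact ⟨0, Subtype.ext (by simpa using e)⟩
    · obtain ⟨k, hk⟩ := (hS b b.2 e).2.exists_pow
      exact ⟨k, Subtype.ext hk⟩
  have := Fact.mk h.hq
  have hc : IsCyclic B := by
    by_contra n
    have := h.nt
    refine top_ne_bot (le_bot_iff.1 (H2.aut_le_of_fixed_le (φ := ρ.comp B.subtype) n (K := ⊤)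
      (fun _ _ _ => trivial) ?_ fun a a1 k _ e => ?_))
    · obtain ⟨m, e⟩ := hP.exists_card_eq
      obtain ⟨n, e'⟩ := h.pg.exists_card_eq
      rw [card_top, e, e']
      exact Nat.Coprime.pow _ _ ((Nat.coprime_primes hp.out h.hq).2 h.ne)
    · have a1 : (a : H) ≠ 1 := fun e => a1 (Subtype.ext e)
      obtain ⟨s, t⟩ := hS a a.2 a1
      exact (h.s3 a a s t s (t.dvd_orderOf a1)).2 k e
  rw [← hc.exponent_eq_card]
  refine Monoid.exponent_dvd_of_forall_pow_eq_one fun b => Subtype.ext ?_
  by_contra n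
  have b1 : (b : H) ≠ 1 := fun e => n (by simp [e])
  exact h.s4 b (hS b b.2 b1).1 (hS b b.2 b1).2 b1 n (hS _ (b ^ p).2 n).1

theorem Abs.main [Group.IsSolvable H] (h : Abs p q ρ S) (R : Subgroup H) [R.Normal] (h1 : R ≠ ⊥)
    (hR : IsPGroup p R) : (∃ a ∈ R, a ≠ 1 ∧ S a) ∧ ¬ p ^ 2 ∣ Nat.card H := by
  obtain ⟨A, hAR, hA, A1, Ac⟩ := H1.exists_abelian_normal_le R h1 inferInstance
  have sA := h.ab A
  have pA : ∀ a ∈ A, IsPElt p a := fun a ha => isPElt_of_mem hR (hAR ha)
  have cA : Nat.card A = p := ((Nat.dvd_prime hp.out).1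
    (h.card A fun b hb b1 => ⟨sA b hb b1, pA b hb⟩)).resolve_left (mt card_eq_one.1 A1)
  obtain ⟨⟨a, ha⟩, a1⟩ := ne_bot_iff_exists_ne_one.1 A1
  replace a1 : a ≠ 1 := fun e => a1 (Subtype.ext e)
  refine ⟨⟨a, hAR ha, a1, sA a ha a1⟩, fun hd => ?_⟩
  let C := centralizer (A : Set H)
  have hC : ¬ C ≤ A := fun hle => by
    have := isCyclic_of_prime_card cA
    have k : (MulAut.conjNormal (H := A)).ker ≤ C := fun g hg x hx => by
      have := congrArg (fun f : MulAut A => (f ⟨x, hx⟩ : H)) (MonoidHom.mem_ker.1 hg)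
      simp only [MulAut.conjNormal_apply, MulAut.one_apply] at this
      exact (mul_inv_eq_iff_eq_mul.1 this).symm
    have a := card_subgroup_dvd_card (MulAut.conjNormal (H := A)).range
    rw [← index_ker, IsCyclic.card_mulAut, cA, Nat.totient_prime hp.out] at a
    have b := card_dvd_of_le (k.trans hle)
    rw [← card_mul_index (MulAut.conjNormal (H := A)).ker] at hd
    have c := hd.trans (mul_dvd_mul (cA ▸ b) a)
    rw [sq, Nat.mul_dvd_mul_iff_left hp.out.pos] at c
    have := hp.out.two_le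
    have := Nat.le_of_dvd (by omega) c
    omega
  obtain ⟨M, hMC, hM, M1, Mc⟩ := H1.exists_abelian_normal_le (C.map (QuotientGroup.mk' A))
    (fun e => hC (by simpa using (Subgroup.map_eq_bot_iff _).1 e)) inferInstance
  let E := M.comap (QuotientGroup.mk' A)
  have hAC : A ≤ C := fun x hx y hy => setLike_mul_comm hy hx
  have hAE : A ≤ E := fun x hx => by simp [E, (QuotientGroup.eq_one_iff x).2 hx]
  have hEC : E ≤ C := (comap_mono hMC).trans (by rw [comap_map_eq]; simpa using hAC)
  have cm : ∀ x ∈ E, ∀ y ∈ E, ⁅x, y⁆ ∈ A := fun x hx y hy => by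
    rw [← QuotientGroup.eq_one_iff, ← QuotientGroup.mk'_apply, map_commutatorElement,
      commutatorElement_eq_one_iff_mul_comm]
    exact setLike_mul_comm (s := M) hx hy
  have sE : ∀ x ∈ E, x ≠ 1 → S x := fun x hx x1 => by
    by_cases z : x ∈ centralizer (E : Set H)
    · have : IsMulCommutative ↥(E ⊓ centralizer (E : Set H)) :=
        ⟨⟨fun a b => Subtype.ext (b.2.2 _ a.2.1)⟩⟩
      exact h.ab (E ⊓ centralizer (E : Set H)) x ⟨hx, z⟩ x1
    · obtain ⟨u, hu, n⟩ : ∃ u ∈ E, u * x ≠ x * u := by simpa [mem_centralizer_iff] using z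
      letI : CommGroup A := { mul_comm := fun a b => Subtype.ext (setLike_mul_comm a.2 b.2) }
      obtain ⟨l, -, hl⟩ := exists_char (⊥ : Subgroup A) (w := ⟨a, ha⟩) (by simpa using a1)
      have : Fact (Nat.card A).Prime := cA ▸ hp
      have k : l.ker = ⊥ := (l.ker.eq_bot_or_eq_top_of_prime_card).resolve_right fun e =>
        hl (MonoidHom.mem_ker.1 (e ▸ mem_top _))
      refine h.s2 x (van_of A l x fun g => ⟨u, hEC hu, hA.conj_mem _ (cm u hu x hx) g, fun e => n ?_⟩)
      have := mem_bot.1 (k ▸ MonoidHom.mem_ker.2 e)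
      simpa [commutatorElement_eq_one_iff_mul_comm] using this
  have pE : ∀ x ∈ E, IsPElt p x := fun x hx => by
    have c : Commute a x := hEC hx a ha
    have f : ∀ y ∈ E, p ∣ orderOf y → IsPElt p y := fun y hy d =>
      (h.s3 a y (sA a ha a1) (pA a ha) (sE y hy (by
        rintro rfl; exact hp.out.one_lt.ne' (by simpa using d))) d).1
    by_cases d : p ∣ orderOf x
    · exact f x hx d
    have : p ∣ orderOf (a * x) := by
      by_contra n
      have := not_dvd_orderOf_mul n (y := x⁻¹) (by simpa using d) ((c.mul_left (.refl x)).inv_right)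
      exact this (by simpa using (pA a ha).dvd_orderOf a1)
    simpa using (pA a ha).inv.mul (f _ (mul_mem (hAE ha) hx) this) ((Commute.refl a).mul_right c).inv_left
  obtain ⟨⟨m, hm⟩, m1⟩ := ne_bot_iff_exists_ne_one.1 M1
  obtain ⟨x, rfl⟩ := QuotientGroup.mk'_surjective A m
  have le : A ⊔ zpowers x ≤ E := sup_le hAE (zpowers_le_of_mem hm)
  have : IsMulCommutative ↥(A ⊔ zpowers x) := by
    rw [← le_centralizer_iff_isMulCommutative]
    refine sup_le (le_centralizer_iff.1 (le.trans hEC)) (zpowers_le_of_mem ?_)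
    rw [← zpowers_le, le_centralizer_iff]
    exact sup_le (le_centralizer_iff.1 (zpowers_le_of_mem (hEC hm))) (le_centralizer _)
  have d := h.card (A ⊔ zpowers x) fun b hb b1 => ⟨sE b (le hb) b1, pE b (le hb)⟩
  have := eq_of_le_of_card_ge (le_sup_left (b := zpowers x)) (cA ▸ Nat.le_of_dvd hp.out.pos d)
  exact m1 (Subtype.ext ((QuotientGroup.eq_one_iff x).2 (this ▸ mem_sup_right (mem_zpowers x))))

end abs

variable {G : Type*} [Group G] [Finite G] {p : ℕ} [hp : Fact p.Prime]

structure Hyp (p : ℕ) (G : Type*) [Group G] [Finite G] : Prop where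
  h1 : ∀ x y : G, Van x → IsPElt p x → Van y → p ∣ orderOf y → IsPElt p y
  h2 : ∀ x : G, Van x → IsPElt p x → ¬ Van (x ^ p)

theorem exists_pElt_lift {Q : Type*} [Group Q] (f : G →* Q) (hf : Function.Surjective f) {y : Q}
    (h : IsPElt p y) : ∃ x, IsPElt p x ∧ f x = y := by
  obtain ⟨g, rfl⟩ := hf y
  obtain ⟨x, hx⟩ := exists_isPPart (p := p) g
  exact ⟨x, isPPart_isPElt hx, isPPart_unique (isPPart_map f hx) (isPPart_self hp.out.ne_one h)⟩

theorem Hyp.map (h : Hyp p G) {Q : Type*} [Group Q] [Finite Q] (f : G →* Q)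
    (hf : Function.Surjective f) : Hyp p Q where
  h1 x y vx px vy d := by
    obtain ⟨x, px', rfl⟩ := exists_pElt_lift f hf px
    obtain ⟨y, rfl⟩ := hf y
    exact (h.h1 x y (vx.lift f hf) px' (vy.lift f hf) (d.trans (orderOf_map_dvd f y))).map f
  h2 x vx px v := by
    obtain ⟨x, px', rfl⟩ := exists_pElt_lift f hf px
    exact h.h2 x (vx.lift f hf) px' (Van.lift f hf (by rwa [map_pow]))

theorem hyp_of (h : ∀ x y : G, Van x → Van y → p ∣ orderOf x → p ∣ orderOf y → orderOf x = orderOf y) :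
    Hyp p G where
  h1 x y vx px vy d := by
    obtain ⟨k, e⟩ := px
    exact ⟨k, (h x y vx vy (IsPElt.dvd_orderOf ⟨k, e⟩ vx.ne_one) d).symm.trans e⟩
  h2 x vx px v := by
    have d := px.dvd_orderOf vx.ne_one
    have := h x _ vx v d ((px.pow p).dvd_orderOf v.ne_one)
    rw [orderOf_pow_of_dvd hp.out.ne_zero d] at this
    exact (Nat.div_lt_self (orderOf_pos x) hp.out.one_lt).ne' this

universe u

theorem core_aux (n : ℕ) : ∀ (G : Type u) [Group G] [Finite G] [Group.IsSolvable G], Nat.card G = n →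
    Hyp p G → pCore p G = ⊥ → ¬ p ^ 2 ∣ Nat.card G := by
  induction n using Nat.strong_induction_on with | _ n ih
  intro G _ _ _ hn h h0 hd
  have : Nontrivial G := by
    by_contra! a
    rw [Nat.card_of_subsingleton (1 : G), Nat.dvd_one, Nat.pow_eq_one] at hd
    exact hp.out.ne_one (by simpa using hd)
  obtain ⟨V, q, hq, -, hV, V1, ⟨Vc, Vq⟩, Vm⟩ :=
    H1.exists_minimal_normal_elementary_le (⊤ : Subgroup G) top_ne_bot inferInstance
  have pV : IsPGroup q V := H1.isPGroup_of_pow_eq_one Vq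
  have nb := H1.pCore_eq_bot_iff.1 h0
  have ne : p ≠ q := by rintro rfl; exact V1 (nb V hV pV)
  have := Fact.mk hq
  have cV : (p ^ 2).Coprime (Nat.card V) := by
    obtain ⟨k, e⟩ := pV.exists_card_eq
    exact e ▸ Nat.Coprime.pow _ _ ((Nat.coprime_primes hp.out hq).2 ne)
  let π := QuotientGroup.mk' V
  have sπ := QuotientGroup.mk'_surjective V
  by_cases hL : pCore p (G ⧸ V) = ⊥
  · refine ih _ (hn ▸ ?_) (G ⧸ V) rfl (h.map π sπ) hL
      (cV.dvd_of_dvd_mul_right (card_eq_card_quotient_mul_card_subgroup V ▸ hd))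
    rw [card_eq_card_quotient_mul_card_subgroup V]
    exact lt_mul_of_one_lt_right Nat.card_pos (one_lt_card_iff_ne_bot V |>.2 V1)
  let L := (pCore p (G ⧸ V)).comap π
  let C := centralizer (V : Set G)
  have VC : V ≤ C := le_centralizer V
  have pL : ∀ x ∈ L, IsPElt p (π x) := fun x hx => isPElt_of_mem H1.pCore_isPGroup hx
  have LC : L ⊓ C ≤ V := by
    intro x hx
    obtain ⟨Q⟩ : Nonempty (Sylow p ↥(L ⊓ C)) := inferInstance
    have VL : V ≤ L ⊓ C := le_inf (fun v hv => by
      simp [L, π, (QuotientGroup.eq_one_iff v).2 hv]) VC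
    have t : V.subgroupOf (L ⊓ C) ⊔ Q = ⊤ := by
      let g : ↥(L ⊓ C) →* pCore p (G ⧸ V) := (π.comp (L ⊓ C).subtype).codRestrict _ fun x => x.2.1
      have pr : IsPGroup p g.range := H1.pCore_isPGroup.to_subgroup _
      have := (Q.mapSurjective g.rangeRestrict_surjective).is_maximal' (pr.to_subgroup ⊤) le_top
      have := congrArg (comap g.rangeRestrict) this
      rw [comap_top, Sylow.coe_mapSurjective, comap_map_eq, sup_comm] at this
      rw [this]
      congr 1
      ext y
      rw [mem_subgroupOf, MonoidHom.mem_ker, Subtype.ext_iff, Subtype.ext_iff, ← QuotientGroup.eq_one_iff]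
      rfl
    have qn : (Q : Subgroup ↥(L ⊓ C)).Normal := by
      rw [← normalizer_eq_top_iff, eq_top_iff, ← t]
      refine sup_le (le_trans (fun v hv => ?_) (centralizer_le_normalizer _)) le_normalizer
      exact fun y _ => Subtype.ext (y.2.2 v hv).symm
    have := Q.characteristic_of_normal qn
    have b := nb ((Q : Subgroup ↥(L ⊓ C)).map (L ⊓ C).subtype) inferInstance (Q.2.map _)
    rw [map_eq_bot_iff_of_injective _ (subtype_injective _)] at b
    rw [b, sup_bot_eq] at t
    exact (t ▸ mem_top (⟨x, hx⟩ : ↥(L ⊓ C)) : _ ∈ V.subgroupOf (L ⊓ C))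
  letI : CommGroup V := { mul_comm := fun a b => Subtype.ext (setLike_mul_comm a.2 b.2) }
  let c : G →* MulAut V := MulAut.conjNormal
  let f := c.rangeRestrict
  have sf : Function.Surjective f := c.rangeRestrict_surjective
  have kf : ∀ g, f g = 1 ↔ g ∈ C := fun g => by
    simp only [f, c, C, Subtype.ext_iff, MonoidHom.coe_rangeRestrict, coe_one, MulEquiv.ext_iff,
      MulAut.conjNormal_apply, MulAut.one_apply, mem_centralizer_iff, mul_inv_eq_iff_eq_mul]
    exact ⟨fun a v hv => (a ⟨v, hv⟩).symm, fun a v => (a v v.2).symm⟩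
  have : Group.IsSolvable c.range := Group.isSolvable_of_surjective sf
  have pd : ∀ g, p ∣ orderOf (f g) → p ∣ orderOf g := fun g d => d.trans (orderOf_map_dvd f g)
  have A : Abs p q c.range.subtype fun y => ∀ g, f g = y → Van g :=
    { inj := subtype_injective _, hq := hq, ne := ne, pg := pV
      nt := (nontrivial_iff_ne_bot V).2 V1
      irr := fun K hK => by
        rcases Vm (K.map V.subtype) ⟨by
          rintro _ ⟨w, hw, rfl⟩ g
          exact ⟨_, hK (f g) w hw, rfl⟩⟩ (map_subtype_le _) with e | e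
        · exact .inl ((map_eq_bot_iff_of_injective _ (subtype_injective _)).1 e)
        · exact .inr (map_injective (subtype_injective _) (by rw [e, ← MonoidHom.range_eq_map, range_subtype]))
      s1 := by
        rintro l _ a x rfl
        refine van_of V l x fun g => ?_
        obtain ⟨u, hu⟩ := a (f g)
        have m : g⁻¹ * u * g ∈ V := by simpa using hV.conj_mem _ u.2 g⁻¹
        have e : g * ⁅g⁻¹ * u * g, x⁆ * g⁻¹ = (u * (c.range.subtype (f g * f x * (f g)⁻¹) u)⁻¹ : V) := by
          rw [← map_inv f, ← map_mul f, ← map_mul f]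
          simp only [f, c, commutatorElement_def, subtype_apply, MonoidHom.coe_rangeRestrict, coe_mul,
            coe_inv, MulAut.conjNormal_apply]
          group
        refine ⟨_, VC m, e ▸ Subtype.prop _, fun z => hu ?_⟩
        simp only [e, Subtype.coe_eta, map_mul l, map_inv l, mul_inv_eq_one] at z
        exact z.symm
      s2 := by rintro _ a x rfl; exact a.lift f sf
      s3 := by
        intro a y sa pa sy d
        obtain ⟨a, pa', rfl⟩ := exists_pElt_lift f sf pa
        have k : ∀ g, f g = y → IsPElt p g := fun g e => h.h1 a g (sa a rfl) pa' (sy g e) (pd g (e ▸ d))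
        obtain ⟨g, rfl⟩ := sf y
        refine ⟨(k g rfl).map f, fun w hw => Subtype.ext ?_⟩
        have cw : Commute g w := mul_inv_eq_iff_eq_mul.1 (congrArg Subtype.val hw)
        have := (k g rfl).inv.mul (k (g * w) (by rw [map_mul, (kf _).2 (VC w.2), mul_one]))
          ((Commute.refl g).mul_right cw).inv_left
        rw [inv_mul_cancel_left] at this
        exact this.eq_one_of_not_dvd fun d => ne ((Nat.prime_dvd_prime_iff_eq hp.out hq).1
          (d.trans (orderOf_dvd_of_pow_eq_one (Vq _ w.2))))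
      s4 := by
        intro y sy py _ _ s
        obtain ⟨a, pa, rfl⟩ := exists_pElt_lift f sf py
        exact h.h2 a (sy a rfl) pa (s _ (map_pow f a p)) }
  have fL : ∀ x ∈ L, IsPElt p (f x) := fun x hx => by
    obtain ⟨k, e⟩ := (pL x hx).exists_pow
    exact isPElt_iff.2 ⟨k, by
      rw [← map_pow, kf]; exact VC ((QuotientGroup.eq_one_iff _).1 (by rw [← e]; rfl))⟩
  have := (inferInstance : L.Normal).map f sf
  obtain ⟨⟨_, ⟨a, aL, rfl⟩, a1, sa⟩, nd⟩ := A.main (L.map f) (fun e => hL (by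
      rw [eq_bot_iff]
      intro y hy
      obtain ⟨x, rfl⟩ := sπ y
      exact (QuotientGroup.eq_one_iff _).2 (LC ⟨hy, (kf x).1 (mem_bot.1 (e ▸ mem_map_of_mem f hy))⟩)))
    (by rintro ⟨_, x, hx, rfl⟩; obtain ⟨k, e⟩ := (fL x hx).exists_pow; exact ⟨k, Subtype.ext e⟩)
  have CL : C ≤ L := by
    rw [← map_le_iff_le_comap]
    refine H1.le_pCore ((inferInstance : C.Normal).map π sπ) ?_
    rintro ⟨_, y, hy, rfl⟩
    obtain ⟨b, pb, e⟩ := exists_pElt_lift f sf (fL a aL)
    have e' : f (a * y) = f a := by rw [map_mul, (kf y).2 hy, mul_one]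
    have p1 := (h.h1 b _ (sa b e) pb (sa _ e') (pd _ (e' ▸ (fL a aL).dvd_orderOf a1))).map π
    have cm : Commute (π a) (π y) := by
      rw [← commutatorElement_eq_one_iff_commute, ← map_commutatorElement]
      exact (QuotientGroup.eq_one_iff _).2 (LC (commutator_le_inf L C (commutator_mem_commutator aL hy)))
    have := (pL a aL).inv.mul p1 (by rw [map_mul]; exact ((Commute.refl _).mul_right cm).inv_left)
    rw [map_mul, inv_mul_cancel_left] at this
    obtain ⟨k, e⟩ := this.exists_pow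
    exact ⟨k, Subtype.ext e⟩
  have k : c.ker = V := le_antisymm (fun g hg => by
    have := (kf g).1 (Subtype.ext hg); exact LC ⟨CL this, this⟩)
    fun g hg => congrArg Subtype.val ((kf g).2 (VC hg))
  rw [← card_mul_index c.ker, index_ker, k] at hd
  exact nd (cV.dvd_of_dvd_mul_left hd)

/-- If all vanishing `p`-singular elements have the same order then `|P : O_p(G)| ≤ p`. -/
theorem core [Group.IsSolvable G]
    (h : ∀ x y : G, Van x → Van y → p ∣ orderOf x → p ∣ orderOf y → orderOf x = orderOf y)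
    (P : Sylow p G) : Nat.card ((P : Subgroup G).map (QuotientGroup.mk' (pCore p G))) ∣ p := by
  have := core_aux _ (G ⧸ pCore p G) rfl ((hyp_of h).map _ (QuotientGroup.mk'_surjective _))
    H1.pCore_quotient_pCore
  obtain ⟨k, e⟩ := (P.2.map (QuotientGroup.mk' (pCore p G))).exists_card_eq
  have d := card_subgroup_dvd_card ((P : Subgroup G).map (QuotientGroup.mk' (pCore p G)))
  rw [e] at d ⊢
  have : k ≤ 1 := by
    by_contra n
    exact this ((pow_dvd_pow p (by omega)).trans d)
  exact (pow_dvd_pow p this).trans (pow_one p).dvd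

end H23.VE
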