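import Cfsg.Agent.H23.Wag1

set_option autoImplicit false

namespace H23.Wag

open Equiv Equiv.Perm Module

variable {α : Type} [Fintype α] [DecidableEq α] {G : Type*} [Group G] {π : G →* Perm α}

/-- central extension of the alternating group -/
structure Cv (π : G →* Perm α) : Prop where
  even : ∀ g, sign (π g) = 1
  surj : ∀ σ, sign σ = 1 → ∃ g, π g = σ
  cen : ∀ z, π z = 1 → ∀ g, g * z = z * g

theorem Cv.comm (h : Cv π) {X : Finset α} (hX : 5 ≤ X.card) {y g : G} (hy : ∀ x ∈ X, π y x = x)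
    (hg : π g ∈ Al X) : y * g = g * y := by
  let φ : (Al X).comap π →* Subgroup.center G :=
    { toFun := fun a => ⟨y⁻¹ * a * y * (a : G)⁻¹, Subgroup.mem_center_iff.2 (h.cen _ (by
        have := Al.disj a.2 hy
        simp only [map_mul, map_inv]
        rw [mul_assoc (π y)⁻¹, this]; group))⟩
      map_one' := by ext; simp
      map_mul' := by
        intro a b
        ext
        have hb : π (y⁻¹ * b * y * (b : G)⁻¹) = 1 := by
          have := Al.disj b.2 hy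
          simp only [map_mul, map_inv]
          rw [mul_assoc (π y)⁻¹, this]; group
        have := h.cen _ hb (a : G)⁻¹
        simp only [Subgroup.coe_mul]
        calc y⁻¹ * (a * b) * y * ((a : G) * b)⁻¹
            = y⁻¹ * a * y * ((y⁻¹ * b * y * (b : G)⁻¹) * (a : G)⁻¹) := by group
          _ = _ := by rw [← this]; group }
  obtain ⟨a, ha, b, hb, hab⟩ := Finset.one_lt_card.1 (by omega : 1 < X.card)
  have hle : Al X ≤ (Subgroup.centralizer {y}).map π := by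
    refine Al_le hab fun c hc hca hcb => ?_
    obtain ⟨s, hs, hst⟩ := inv3 hX hb hc hab (Ne.symm hca) (Ne.symm hcb)
    have ht := sw3_mem ha hb hc hab (Ne.symm hca)
    obtain ⟨s', rfl⟩ := h.surj s hs.1
    obtain ⟨t', ht'⟩ := h.surj _ ht.1
    refine ⟨s' * t' * s'⁻¹ * t'⁻¹, ?_, ?_⟩
    · have h1 : φ (⟨s', hs⟩ * ⟨t', by rw [Subgroup.mem_comap, ht']; exact ht⟩ * (⟨s', hs⟩)⁻¹ *
          (⟨t', by rw [Subgroup.mem_comap, ht']; exact ht⟩)⁻¹) = 1 := by
        simp only [map_mul, map_inv]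
        have hcm : ∀ x y : Subgroup.center G, x * y = y * x := fun x y =>
          Subtype.ext (Subgroup.mem_center_iff.1 y.2 x)
        rw [hcm (φ _) (φ _)]; group
      have h2 := congrArg Subtype.val h1
      rw [SetLike.mem_coe, Subgroup.mem_centralizer_singleton_iff]
      change y⁻¹ * (s' * t' * s'⁻¹ * t'⁻¹) * y * (s' * t' * s'⁻¹ * t'⁻¹)⁻¹ = 1 at h2
      rw [mul_inv_eq_one, mul_assoc, inv_mul_eq_iff_eq_mul] at h2
      exact h2
    · simp only [map_mul, map_inv, ht', hst]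
      have := sw3_cube hab (Ne.symm hca) (Ne.symm hcb)
      rw [← mul_inv_rev, inv_eq_iff_mul_eq_one, ← this, pow_three, mul_assoc]
  obtain ⟨c, hc, hcg⟩ := hle hg
  rw [SetLike.mem_coe, Subgroup.mem_centralizer_singleton_iff] at hc
  have hz : π (c⁻¹ * g) = 1 := by simp [hcg]
  have := h.cen _ hz y
  calc y * g = (y * c) * (c⁻¹ * g) := by group
    _ = c * (y * (c⁻¹ * g)) := by rw [← hc]; group
    _ = _ := by rw [this]; group

theorem Cv.cl (h : Cv π) {g c : G} (hg : (π g).IsCycle) (h5 : 5 ≤ (π g).supportᶜ.card)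
    (hc : π c * π g = π g * π c) : c * g = g * c := by
  obtain ⟨a, ha, hall⟩ := hg
  have h1 : π g (π c a) ≠ π c a := by
    rw [← Perm.mul_apply, ← hc, Perm.mul_apply]; exact fun e => ha ((π c).injective e)
  obtain ⟨i, hi⟩ := hall h1
  have hcm : Commute (π (g ^ (-i) * c)) (π g) := by
    rw [map_mul, map_zpow]
    exact Commute.mul_left ((Commute.refl _).zpow_left _) hc
  have hfa : π (g ^ (-i) * c) a = a := by
    rw [map_mul, map_zpow, Perm.mul_apply, ← hi, ← Perm.mul_apply]; simp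
  have hm : π (g ^ (-i) * c) ∈ Al (π g).supportᶜ := by
    refine ⟨h.even _, fun x hx => ?_⟩
    rw [Finset.mem_compl, not_not, mem_support] at hx
    obtain ⟨j, rfl⟩ := hall hx
    rw [← Perm.mul_apply, (hcm.zpow_right j).eq, Perm.mul_apply, hfa]
  have := h.comm h5 (y := g) (fun x hx => by simpa using hx) hm
  have h2 : g ^ i * g = g * g ^ i := ((Commute.refl g).zpow_left i).eq
  calc c * g = g ^ i * ((g ^ (-i) * c) * g) := by group
    _ = _ := by rw [← this]; group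

/-- canonical lifts -/
def Can (l : ℕ) (g : G) : Prop := g ^ l = 1 ∧ ∃ s, s * g * s⁻¹ = g⁻¹

theorem Can.conj {l : ℕ} {g : G} (h : Can l g) (x : G) : Can l (x * g * x⁻¹) := by
  obtain ⟨h1, s, hs⟩ := h
  refine ⟨by rw [conj_pow, h1]; simp, x * s * x⁻¹, ?_⟩
  calc x * s * x⁻¹ * (x * g * x⁻¹) * (x * s * x⁻¹)⁻¹ = x * (s * g * s⁻¹) * x⁻¹ := by group
    _ = _ := by rw [hs]; group

theorem Can.pow {l : ℕ} {g : G} (h : Can l g) (n : ℕ) : Can l (g ^ n) := by
  obtain ⟨h1, s, hs⟩ := h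
  exact ⟨by rw [← pow_mul, mul_comm, pow_mul, h1, one_pow], s, by rw [← conj_pow, hs, inv_pow]⟩

theorem Cv.uniq (h : Cv π) {l : ℕ} (hl : Odd l) {g g' : G} (hg : (π g).IsCycle)
    (h5 : 5 ≤ (π g).supportᶜ.card) (c1 : Can l g) (c2 : Can l g') (e : π g = π g') : g = g' := by
  obtain ⟨h1, s, hs⟩ := c1
  obtain ⟨h2, t, ht⟩ := c2
  obtain ⟨z, rfl⟩ : ∃ z, g' = g * z := ⟨g⁻¹ * g', by group⟩
  have hz : π z = 1 := by simpa using e
  have hc := h.cen z hz
  have hzl : z ^ l = 1 := by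
    rw [(show Commute g z from hc g).mul_pow, h1, one_mul] at h2; exact h2
  have h3 : t * g * t⁻¹ = g⁻¹ * (z⁻¹ * z⁻¹) := by
    have : t * (g * z) * t⁻¹ = t * g * t⁻¹ * z := by rw [mul_assoc (t * g), hc t⁻¹]; group
    rw [this] at ht
    have h4 : z⁻¹ * g⁻¹ = g⁻¹ * z⁻¹ := by rw [← mul_inv_rev, ← mul_inv_rev, hc g]
    calc t * g * t⁻¹ = (g * z)⁻¹ * z⁻¹ := by rw [← ht]; group
      _ = _ := by rw [mul_inv_rev, h4]; group
  have h4 : (s⁻¹ * t) * g = g * (s⁻¹ * t) := by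
    refine h.cl hg h5 ?_
    have a1 := congrArg π hs
    have a2 := congrArg π h3
    simp only [map_mul, map_inv, hz, inv_one, mul_one] at a1 a2 ⊢
    calc (π s)⁻¹ * π t * π g = (π s)⁻¹ * (π t * π g * (π t)⁻¹) * π t := by group
      _ = _ := by rw [a2, ← a1]; group
  have h5 : z⁻¹ * z⁻¹ = 1 := by
    have : t * g * t⁻¹ = s * g * s⁻¹ := by
      calc t * g * t⁻¹ = s * ((s⁻¹ * t) * g) * t⁻¹ := by group
        _ = _ := by rw [h4]; group
    rw [this, hs] at h3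
    simpa using h3
  obtain ⟨m, rfl⟩ := hl
  have h6 : z ^ 2 = 1 := by rw [← mul_inv_rev, inv_eq_one] at h5; rw [pow_two, h5]
  rw [pow_succ, pow_mul, h6, one_pow, one_mul] at hzl
  rw [hzl, mul_one]

theorem Cv.ex_can (h : Cv π) {l : ℕ} (hl : Odd l) {N : Subgroup G} {g s : G} (hg : g ∈ N)
    (hs : s ∈ N) (hi : π s * π g * (π s)⁻¹ = (π g)⁻¹) (hp : π g ^ l = 1) :
    ∃ u ∈ N, π u = π g ∧ Can l u := by
  obtain ⟨m, rfl⟩ := hl
  set z := g * (s * g * s⁻¹) with hzd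
  have hz : π z = 1 := by simp only [hzd, map_mul, map_inv, hi]; group
  have hc := h.cen z hz
  have h1 : s * g * s⁻¹ = g⁻¹ * z := by rw [hzd]; group
  set u := s * g * s⁻¹ * g⁻¹ with hu
  have hu1 : s * u * s⁻¹ = u⁻¹ := by
    have e1 : u = g⁻¹ * g⁻¹ * z := by rw [hu, h1, mul_assoc, ← hc g⁻¹]; group
    have e2 : s * z * s⁻¹ = z := by rw [hc s]; group
    calc s * u * s⁻¹ = (s * g * s⁻¹)⁻¹ * (s * g * s⁻¹)⁻¹ * (s * z * s⁻¹) := by rw [e1]; group
      _ = z⁻¹ * g * (z⁻¹ * (g * z)) := by rw [h1, e2]; group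
      _ = _ := by rw [hc g, e1]; simp [mul_assoc]
  have hπu : π u = (π g)⁻¹ * (π g)⁻¹ := by simp only [hu, map_mul, map_inv, hi]
  have hul : π (u ^ (2 * m + 1)) = 1 := by
    rw [map_pow, hπu, ← pow_two, ← pow_mul, mul_comm, pow_mul, inv_pow, hp]; simp
  have hu2 : u ^ (2 * (2 * m + 1)) = 1 := by
    have e1 : s * u ^ (2 * m + 1) * s⁻¹ = u ^ (2 * m + 1) := by rw [h.cen _ hul s]; group
    rw [← conj_pow, hu1, inv_pow, inv_eq_iff_mul_eq_one] at e1
    rw [two_mul, pow_add, e1]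
  refine ⟨u ^ (m * (2 * m + 2)), N.pow_mem (N.mul_mem (N.mul_mem (N.mul_mem hs hg) (N.inv_mem hs))
    (N.inv_mem hg)) _, ?_, ?_, s, ?_⟩
  · rw [map_pow, hπu, ← pow_two, ← pow_mul, inv_pow, inv_eq_iff_mul_eq_one, ← pow_succ,
      show 2 * (m * (2 * m + 2)) + 1 = (2 * m + 1) * (2 * m + 1) by ring, pow_mul, hp, one_pow]
  · rw [← pow_mul, show m * (2 * m + 2) * (2 * m + 1) = 2 * (2 * m + 1) * (m * (m + 1)) by ring,
      pow_mul, hu2, one_pow]
  · rw [← conj_pow, hu1, inv_pow]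

theorem Cv.mem_can (h : Cv π) {l : ℕ} (hl : Odd l) {N : Subgroup G} {g : G} (hg : (π g).IsCycle)
    (h5 : 5 ≤ (π g).supportᶜ.card) (c : Can l g) (h1 : π g ∈ N.map π) {σ : Perm α}
    (h2 : σ ∈ N.map π) (hi : σ * π g * σ⁻¹ = (π g)⁻¹) : g ∈ N := by
  obtain ⟨g0, hg0, e⟩ := h1
  obtain ⟨s, hs, rfl⟩ := h2
  obtain ⟨u, hu, e1, c1⟩ := h.ex_can hl hg0 hs (by rw [e, hi]) (by rw [e, ← map_pow, c.1, map_one])
  rw [h.uniq hl hg h5 c c1 (by rw [e1, e])]; exact hu

/-- canonical lifts of three-cycles -/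
def U (π : G →* Perm α) (g : G) : Prop :=
  (∃ a b c : α, a ≠ b ∧ a ≠ c ∧ b ≠ c ∧ π g = swap a b * swap a c) ∧ Can 3 g

theorem U.conj {g : G} (h : U π g) (x : G) : U π (x * g * x⁻¹) := by
  obtain ⟨⟨a, b, c, h1, h2, h3, e⟩, hc⟩ := h
  refine ⟨⟨π x a, π x b, π x c, (π x).injective.ne h1, (π x).injective.ne h2,
    (π x).injective.ne h3, ?_⟩, hc.conj x⟩
  rw [swap_apply_apply, swap_apply_apply, map_mul, map_mul, map_inv, e]; group

theorem Cv.exU (h : Cv π) (h5 : 5 ≤ Fintype.card α) {a b c : α} (hab : a ≠ b) (hac : a ≠ c)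
    (hbc : b ≠ c) : ∃ u, U π u ∧ π u = swap a b * swap a c := by
  obtain ⟨s, hs, hi⟩ := inv3 (X := Finset.univ) (by simpa using h5) (Finset.mem_univ b)
    (Finset.mem_univ c) hab hac hbc
  obtain ⟨s', rfl⟩ := h.surj s hs.1
  obtain ⟨g, hg⟩ := h.surj (swap a b * swap a c) (by simp [hab, hac])
  obtain ⟨u, -, e, c⟩ := h.ex_can (l := 3) (by decide) (Subgroup.mem_top g) (Subgroup.mem_top s')
    (by rw [hg, hi]) (by rw [hg, sw3_cube hab hac hbc])
  exact ⟨u, ⟨⟨a, b, _, hab, hac, hbc, by rw [e, hg]⟩, c⟩, by rw [e, hg]⟩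

theorem sw3_supp {X : Finset α} {a b c : α} (hab : a ≠ b) (hac : a ≠ c) (hbc : b ≠ c)
    (h : swap a b * swap a c ∈ Al X) : a ∈ X ∧ b ∈ X ∧ c ∈ X := by
  refine ⟨?_, ?_, ?_⟩ <;> by_contra hn <;> have := h.2 _ hn
  · simp [Perm.mul_apply, swap_apply_of_ne_of_ne (Ne.symm hac) (Ne.symm hbc)] at this
    exact hac this.symm
  · simp [Perm.mul_apply, swap_apply_of_ne_of_ne (Ne.symm hab) hbc] at this
    exact hab this
  · simp [Perm.mul_apply] at this
    exact hbc this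

theorem Cv.U_mem (h : Cv π) (h8 : 8 ≤ Fintype.card α) {N : Subgroup G} {X : Finset α}
    (hX : 5 ≤ X.card) (hN : Al X ≤ N.map π) {u : G} (hu : U π u) (huX : π u ∈ Al X) : u ∈ N := by
  obtain ⟨⟨a, b, c, hab, hac, hbc, e⟩, hc⟩ := hu
  have h3 := isThreeCycle_swap_mul_swap_same hab hac hbc
  rw [← e] at h3
  obtain ⟨-, hb, hc'⟩ := sw3_supp hab hac hbc (e ▸ huX)
  obtain ⟨s, hs, hi⟩ := inv3 hX hb hc' hab hac hbc
  refine h.mem_can (by decide) h3.isCycle ?_ hc (hN huX) (hN hs) (by rw [e, hi])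
  rw [Finset.card_compl, h3.card_support]; omega

variable {k V : Type*} [Field k] [AddCommGroup V] [Module k V] {ρ : G →* End k V}

/-- stabilizer of a vector -/
def St (ρ : G →* End k V) (v : V) : Subgroup G where
  carrier := {g | ρ g v = v}
  one_mem' := by simp
  mul_mem' := by
    intro a b ha hb
    change ρ a v = v at ha; change ρ b v = v at hb
    change ρ (a * b) v = v
    rw [map_mul, End.mul_apply, hb, ha]
  inv_mem' := by
    intro a ha
    change ρ a v = v at ha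
    change ρ a⁻¹ v = v
    conv_lhs => rw [← ha, ← End.mul_apply, ← map_mul, inv_mul_cancel, map_one, End.one_apply]

theorem mem_St {v : V} {g : G} : g ∈ St ρ v ↔ ρ g v = v := Iff.rfl

/-- fixed space of the canonical three-cycles inside `X` -/
def F (π : G →* Perm α) (ρ : G →* End k V) (X : Finset α) : Submodule k V where
  carrier := {v | ∀ g, U π g → π g ∈ Al X → ρ g v = v}
  zero_mem' := fun _ _ _ => map_zero _
  add_mem' := fun ha hb g h1 h2 => by rw [map_add, ha g h1 h2, hb g h1 h2]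
  smul_mem' := fun c _ ha g h1 h2 => by rw [map_smul, ha g h1 h2]

theorem F_anti {X Y : Finset α} (h : X ⊆ Y) : F π ρ Y ≤ F π ρ X :=
  fun _ hv g h1 h2 => hv g h1 (Al_mono h h2)

theorem ρ_cancel (g : G) (v : V) : ρ g (ρ g⁻¹ v) = v := by
  rw [← End.mul_apply, ← map_mul, mul_inv_cancel, map_one, End.one_apply]

theorem ρ_cancel' (g : G) (v : V) : ρ g⁻¹ (ρ g v) = v := by
  rw [← End.mul_apply, ← map_mul, inv_mul_cancel, map_one, End.one_apply]

theorem ρ_inj (g : G) : Function.Injective (ρ g) := fun a b e => by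
  rw [← ρ_cancel' (ρ := ρ) g a, e, ρ_cancel']

theorem F_map {X : Finset α} {v : V} (hv : v ∈ F π ρ X) (g : G) :
    ρ g v ∈ F π ρ (X.map (π g).toEmbedding) := by
  intro u hu hX
  have h1 := hu.conj g⁻¹
  have h2 : π (g⁻¹ * u * g⁻¹⁻¹) ∈ Al X := by
    have := Al.conj hX (π g)⁻¹
    rw [Finset.map_map] at this
    have e : (π g).toEmbedding.trans (π g)⁻¹.toEmbedding = Function.Embedding.refl _ := by
      ext x; simp
    rw [e, Finset.map_refl] at this
    simpa using this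
  have := hv _ h1 h2
  rw [inv_inv, map_mul, map_mul, End.mul_apply, End.mul_apply] at this
  conv_rhs => rw [← this, ρ_cancel]

theorem Cv.St_Al (h : Cv π) (h5 : 5 ≤ Fintype.card α) {Z : Finset α} {v : V} {a b : α}
    (hab : a ≠ b) (hv : ∀ y ∈ Z, y ≠ a → y ≠ b → ∃ X, v ∈ F π ρ X ∧ a ∈ X ∧ b ∈ X ∧ y ∈ X) :
    Al Z ≤ (St ρ v).map π := by
  refine Al_le hab fun y hy h1 h2 => ?_
  obtain ⟨X, hX, ha, hb, hy⟩ := hv y hy h1 h2
  obtain ⟨u, hu, e⟩ := h.exU h5 hab (Ne.symm h1) (Ne.symm h2)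
  exact ⟨u, hX u hu (e ▸ sw3_mem ha hb hy hab (Ne.symm h1)), e⟩

theorem Cv.mem_F (h : Cv π) (h8 : 8 ≤ Fintype.card α) {Z : Finset α} (hZ : 5 ≤ Z.card) {v : V}
    (hv : Al Z ≤ (St ρ v).map π) : v ∈ F π ρ Z :=
  fun _ hu hZ' => h.U_mem h8 hZ hv hu hZ'

theorem Cv.F_inf (h : Cv π) (h8 : 8 ≤ Fintype.card α) {X Y : Finset α} (hZ : 5 ≤ (X ∪ Y).card)
    (h2 : 2 ≤ (X ∩ Y).card) {v : V} (hX : v ∈ F π ρ X) (hY : v ∈ F π ρ Y) : v ∈ F π ρ (X ∪ Y) := by
  obtain ⟨a, ha, b, hb, hab⟩ := Finset.one_lt_card.1 (by omega : 1 < (X ∩ Y).card)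
  rw [Finset.mem_inter] at ha hb
  refine h.mem_F h8 hZ (h.St_Al (by omega) hab fun y hy _ _ => ?_)
  rcases Finset.mem_union.1 hy with hy | hy
  · exact ⟨X, hX, ha.1, hb.1, hy⟩
  · exact ⟨Y, hY, ha.2, hb.2, hy⟩

theorem Cv.F_dim [FiniteDimensional k V] (h : Cv π) (h3 : 3 ≤ Fintype.card α) {X Y : Finset α}
    (e : X.card = Y.card) : finrank k (F π ρ X) = finrank k (F π ρ Y) := by
  have key : ∀ X Y : Finset α, X.card = Y.card → finrank k (F π ρ X) ≤ finrank k (F π ρ Y) := by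
    intro X Y e
    obtain ⟨σ, hσ, rfl⟩ := ex_even e h3
    obtain ⟨g, rfl⟩ := h.surj σ hσ
    rw [LinearEquiv.finrank_eq (Submodule.equivMapOfInjective (ρ g) (ρ_inj g) (F π ρ X))]
    apply Submodule.finrank_mono
    rintro _ ⟨v, hv, rfl⟩
    exact F_map hv g
  exact le_antisymm (key _ _ e) (key _ _ e.symm)

end H23.Wag
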