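import Cfsg.Agent.H23.Wag2

set_option autoImplicit false

namespace H23.Wag

open Equiv Equiv.Perm Module

variable {α : Type} [Fintype α] [DecidableEq α] {G : Type*} [Group G] {π : G →* Perm α}
variable {k V : Type*} [Field k] [AddCommGroup V] [Module k V] {ρ : G →* End k V}

/-- irreducible projective representation of the alternating group -/
structure Cov (π : G →* Perm α) (ρ : G →* End k V) : Prop extends Cv π where
  scal : ∀ z, π z = 1 → ∃ c : k, ∀ v, ρ z v = c • v
  irr : ∀ W : Submodule k V, (∀ g, ∀ v ∈ W, ρ g v ∈ W) → W = ⊥ ∨ W = ⊤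
  ker : ∀ g, ρ g = 1 → π g = 1

theorem map_eq_of {X : Finset α} {σ : Perm α} (h : ∀ z, z ∈ X → σ z ∈ X) :
    X.map σ.toEmbedding = X := by
  refine Finset.eq_of_subset_of_card_le ?_ (by simp)
  intro y hy
  obtain ⟨x, hx, rfl⟩ := Finset.mem_map.1 hy
  exact h x hx

theorem F_pres {X : Finset α} {g : G} (h : ∀ z, π g z ∈ X ↔ z ∈ X) (v : V) :
    v ∈ F π ρ X ↔ ρ g v ∈ F π ρ X := by
  constructor
  · intro hv
    have := F_map hv g
    rwa [map_eq_of fun z hz => (h z).2 hz] at this
  · intro hv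
    have := F_map hv g⁻¹
    rwa [map_eq_of fun z hz => (h _).1 (by simpa using hz), ρ_cancel'] at this

theorem Cov.strict [FiniteDimensional k V] (h : Cov π ρ) {X : Finset α} (hX : 2 ≤ X.card) {x : α}
    (hx : x ∉ X) (h0 : F π ρ X ≠ ⊥) (h1 : F π ρ X ≠ ⊤) :
    finrank k (F π ρ (insert x X)) < finrank k (F π ρ X) := by
  by_contra hc
  have he : F π ρ (insert x X) = F π ρ X :=
    Submodule.eq_of_le_of_finrank_le (F_anti (Finset.subset_insert _ _)) (not_lt.1 hc)
  let N : Subgroup G :=
    { carrier := {g | ∀ v, v ∈ F π ρ X ↔ ρ g v ∈ F π ρ X}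
      one_mem' := by simp
      mul_mem' := by
        intro a b ha hb v
        rw [map_mul, End.mul_apply, ← ha, ← hb]
      inv_mem' := by
        intro a ha v
        rw [ha (ρ a⁻¹ v), ρ_cancel] }
  have hA : ∀ σ ∈ Al (insert x X), σ ∈ N.map π := by
    intro σ hσ
    obtain ⟨g, rfl⟩ := h.surj σ hσ.1
    refine ⟨g, fun v => ?_, rfl⟩
    rw [← he]; exact F_pres (Al.maps hσ) v
  obtain ⟨a, ha, b, hb, hab⟩ := Finset.one_lt_card.1 (by omega : 1 < X.card)
  have ha' := Finset.mem_insert_of_mem (b := x) ha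
  have hb' := Finset.mem_insert_of_mem (b := x) hb
  have hle : Al Finset.univ ≤ N.map π := by
    refine Al_le hab fun y _ hya hyb => ?_
    by_cases hy : y ∈ insert x X
    · exact hA _ (sw3_mem ha' hb' hy hab (Ne.symm hya))
    rw [Finset.mem_insert, not_or] at hy
    have hxa : a ≠ x := fun e => hx (e ▸ ha)
    have hxb : b ≠ x := fun e => hx (e ▸ hb)
    have h2 : swap x y * swap a b ∈ N.map π := by
      obtain ⟨g, hg⟩ := h.surj (swap x y * swap a b) (by simp [hab, Ne.symm hy.1])
      refine ⟨g, fun v => F_pres (fun z => ?_) v, hg⟩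
      rw [hg, Perm.mul_apply]
      have e1 : ∀ w, swap x y w ∈ X ↔ w ∈ X := fun w => by
        rw [swap_apply_def]; split_ifs with c1 c2
        · simp [c1, hx, hy.2]
        · simp [c2, hx, hy.2]
        · rfl
      have e2 : ∀ w, swap a b w ∈ X ↔ w ∈ X := fun w => by
        rw [swap_apply_def]; split_ifs with c1 c2
        · simp [c1, ha, hb]
        · simp [c2, ha, hb]
        · rfl
      rw [e1, e2]
    have h3 := hA _ (sw3_mem hb' ha' (Finset.mem_insert_self x X) hab.symm hxb)
    have h4 := (N.map π).mul_mem ((N.map π).mul_mem h2 h3) ((N.map π).inv_mem h2)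
    have : ∀ s x y : Perm α, s * (x * y) * s⁻¹ = (s * x * s⁻¹) * (s * y * s⁻¹) := by intros; group
    rw [this, ← swap_apply_apply, ← swap_apply_apply] at h4
    have e1 : (swap x y * swap a b) b = a := by
      simp [Perm.mul_apply, swap_apply_of_ne_of_ne hxa (Ne.symm hya)]
    have e2 : (swap x y * swap a b) a = b := by
      simp [Perm.mul_apply, swap_apply_of_ne_of_ne hxb (Ne.symm hyb)]
    have e3 : (swap x y * swap a b) x = y := by
      simp [Perm.mul_apply, swap_apply_of_ne_of_ne hxa.symm hxb.symm]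
    rwa [e1, e2, e3] at h4
  refine (h.irr _ fun g v hv => ?_).elim h0 h1
  obtain ⟨n, hn, e⟩ := hle (show π g ∈ Al Finset.univ from ⟨h.even g, by simp⟩)
  obtain ⟨c, hc⟩ := h.scal (n⁻¹ * g) (by simp [e])
  have : ρ g v = ρ n (ρ (n⁻¹ * g) v) := by rw [← End.mul_apply, ← map_mul]; congr 2; group
  rw [this, hc]
  exact (hn _).1 (Submodule.smul_mem _ _ hv)

theorem Cov.dims [FiniteDimensional k V] (h : Cov π ρ) (h8 : 8 ≤ Fintype.card α) {j : ℕ}
    (hj : 2 ≤ j) (hjr : j + 4 ≤ Fintype.card α)
    (h1 : ∃ X : Finset α, X.card + j = Fintype.card α ∧ j ≤ finrank k (F π ρ X) + 1)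
    (h2 : ∃ T : Finset α, T.card = 3 ∧ finrank k (F π ρ T) + 2 ≤ finrank k V) :
    Fintype.card α ≤ finrank k V + 2 ∧ (Fintype.card α = finrank k V + 2 →
      ∀ X : Finset α, 3 ≤ X.card → X.card < Fintype.card α →
        finrank k (F π ρ X) + X.card + 1 = Fintype.card α) := by
  classical
  set r := Fintype.card α with hr
  let d : ℕ → ℕ := fun m => if hm : ∃ X : Finset α, X.card = m then finrank k (F π ρ hm.choose) else 0
  have hd : ∀ X : Finset α, finrank k (F π ρ X) = d X.card := by
    intro X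
    have hm : ∃ Y : Finset α, Y.card = X.card := ⟨X, rfl⟩
    simp only [d, dif_pos hm]
    exact h.F_dim (by omega) hm.choose_spec.symm
  have hex : ∀ m, m ≤ r → ∃ X : Finset α, X.card = m := fun m hm => by
    obtain ⟨X, -, hX⟩ := Finset.exists_subset_card_eq (s := (Finset.univ : Finset α)) (n := m)
      (by simpa using hm)
    exact ⟨X, hX⟩
  obtain ⟨X0, hX0, hX0'⟩ := h1
  obtain ⟨T, hT, hT'⟩ := h2
  rw [hd, show X0.card = r - j by omega] at hX0'
  rw [hd, hT] at hT'
  have hmono : ∀ m, m < r → d (m + 1) ≤ d m := by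
    intro m hm
    obtain ⟨X, rfl⟩ := hex m hm.le
    obtain ⟨x, -, hx⟩ := ex_one (X := Finset.univ) X (by simpa using hm)
    rw [← Finset.card_insert_of_notMem hx, ← hd, ← hd]
    exact Submodule.finrank_mono (F_anti (Finset.subset_insert _ _))
  have hle3 : ∀ m, 3 ≤ m → m ≤ r → d m ≤ d 3 := by
    intro m hm
    induction m, hm using Nat.le_induction with
    | base => intro _; exact le_rfl
    | succ m _ ih => intro hm; exact (hmono m hm).trans (ih (by omega))
  have hstr : ∀ m, 3 ≤ m → m < r → 0 < d m → d (m + 1) < d m := by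
    intro m h3 hm h0
    obtain ⟨X, rfl⟩ := hex m hm.le
    obtain ⟨x, -, hx⟩ := ex_one (X := Finset.univ) X (by simpa using hm)
    have := hle3 _ h3 hm.le
    rw [← Finset.card_insert_of_notMem hx, ← hd, ← hd]
    rw [← hd] at h0 this
    refine h.strict (by omega) hx (fun e => ?_) (fun e => ?_)
    · rw [e, finrank_bot] at h0; omega
    · rw [e, finrank_top] at this; omega
  have hlow : ∀ i m, m + i + j = r → 3 ≤ m → r ≤ d m + m + 1 := by
    intro i
    induction i with
    | zero => intro m e _; rw [show m = r - j by omega]; omega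
    | succ i ih =>
      intro m e h3
      have a1 := ih (m + 1) (by omega) (by omega)
      have a2 := hmono m (by omega)
      have a3 := hstr m h3 (by omega) (by omega)
      omega
  have h3 := hlow (r - j - 3) 3 (by omega) le_rfl
  refine ⟨by omega, fun hn => ?_⟩
  have hup : ∀ m, 3 ≤ m → m < r → d m + m + 1 ≤ r := by
    intro m hm
    induction m, hm using Nat.le_induction with
    | base => intro _; omega
    | succ m h3 ih =>
      intro hm
      have a1 := ih (by omega)
      rcases Nat.eq_zero_or_pos (d m) with h0 | h0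
      · have := hmono m (by omega); omega
      · have := hstr m h3 (by omega) h0; omega
  have hconv : ∀ m, 3 ≤ m → m + 2 ≤ r → 2 * d (m + 1) ≤ d (m + 2) + d m := by
    intro m h3 hm
    obtain ⟨X, rfl⟩ := hex m (by omega)
    obtain ⟨x, -, y, -, hxy, hx, hy⟩ := ex_two (X := Finset.univ) X (by simpa using hm)
    have e1 : (insert x X).card = X.card + 1 := Finset.card_insert_of_notMem hx
    have e2 : (insert y X).card = X.card + 1 := Finset.card_insert_of_notMem hy
    have e3 : (insert x X ∪ insert y X).card = X.card + 2 := by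
      have : insert x X ∪ insert y X = insert x (insert y X) := by ext z; simp; tauto
      rw [this, Finset.card_insert_of_notMem (by simp [hxy, hx]), e2]
    have e4 : 2 ≤ (insert x X ∩ insert y X).card :=
      le_trans (by omega) (Finset.card_le_card (s := X) (by intro z hz; simp [hz]))
    have a1 := Submodule.finrank_sup_add_finrank_inf_eq (F π ρ (insert x X)) (F π ρ (insert y X))
    have a2 : finrank k ↥(F π ρ (insert x X) ⊔ F π ρ (insert y X)) ≤ finrank k (F π ρ X) :=
      Submodule.finrank_mono (sup_le (F_anti (Finset.subset_insert _ _))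
        (F_anti (Finset.subset_insert _ _)))
    have a3 : finrank k ↥(F π ρ (insert x X) ⊓ F π ρ (insert y X)) ≤
        finrank k (F π ρ (insert x X ∪ insert y X)) :=
      Submodule.finrank_mono fun v hv => h.F_inf h8 (by omega) e4 hv.1 hv.2
    rw [hd (insert x X), hd (insert y X), e1, e2] at a1
    rw [hd X] at a2
    rw [hd (_ ∪ _), e3] at a3
    omega
  have hall : ∀ m, 3 ≤ m → m + 1 < r → r ≤ d m + m + 1 ∧ r ≤ d (m + 1) + m + 2 := by
    intro m hm
    induction m, hm using Nat.le_induction with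
    | base =>
      intro _
      have := hlow (r - j - 4) 4 (by omega) (by omega)
      exact ⟨by omega, by omega⟩
    | succ m h3 ih =>
      intro hm
      obtain ⟨a1, a2⟩ := ih (by omega)
      have a3 := hconv m h3 (by omega)
      have a4 := hup m h3 (by omega)
      exact ⟨by omega, by rw [show m + 1 + 1 = m + 2 from rfl]; omega⟩
  intro X h3 hX
  rw [hd]
  have a1 := hup _ h3 hX
  by_cases hc : X.card + 1 < r
  · have := (hall _ h3 hc).1; omega
  · omega

theorem Cov.chain [FiniteDimensional k V] (h : Cov π ρ) (h8 : 8 ≤ Fintype.card α) {j : ℕ}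
    (hj : 2 ≤ j) (hjr : j + 4 ≤ Fintype.card α)
    (h1 : ∃ X : Finset α, X.card + j = Fintype.card α ∧ j ≤ finrank k (F π ρ X) + 1)
    (h2 : ∃ T : Finset α, T.card = 3 ∧ finrank k (F π ρ T) + 2 ≤ finrank k V) :
    Fintype.card α ≤ finrank k V + 2 ∧
      (Fintype.card α = finrank k V + 2 → (Fintype.card α : k) = 0) := by
  obtain ⟨hle, ht⟩ := h.dims h8 hj hjr h1 h2
  refine ⟨hle, fun hn => ?_⟩
  have ht := ht hn
  set r := Fintype.card α with hr
  let l : α → α → Submodule k V := fun a b => F π ρ ({a, b} : Finset α)ᶜ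
  let P : α → α → α → Submodule k V := fun a b c => F π ρ ({a, b, c} : Finset α)ᶜ
  have c2 : ∀ a b : α, a ≠ b → ({a, b} : Finset α)ᶜ.card + 2 = r := fun a b hab => by
    rw [Finset.card_compl, Finset.card_pair hab]; omega
  have c3 : ∀ a b c : α, a ≠ b → a ≠ c → b ≠ c → ({a, b, c} : Finset α)ᶜ.card + 3 = r := by
    intro a b c h1 h2 h3
    rw [Finset.card_compl, Finset.card_eq_three.2 ⟨a, b, c, h1, h2, h3, rfl⟩]; omega
  have dl : ∀ a b, a ≠ b → finrank k (l a b) = 1 := fun a b hab => by
    have := c2 a b hab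
    have := ht ({a, b} : Finset α)ᶜ (by omega) (by omega); simp only [l]; omega
  have dP : ∀ a b c, a ≠ b → a ≠ c → b ≠ c → finrank k (P a b c) = 2 := fun a b c h1 h2 h3 => by
    have := c3 a b c h1 h2 h3
    have := ht ({a, b, c} : Finset α)ᶜ (by omega) (by omega); simp only [P]; omega
  have lsym : ∀ a b, l a b = l b a := fun a b => by simp only [l, Finset.pair_comm]
  have hinf : ∀ {S S' Z : Finset α} {v : V}, v ∈ F π ρ Sᶜ → v ∈ F π ρ S'ᶜ → S.card ≤ 3 →
      S'.card ≤ 3 → S ∩ S' ⊆ Z → v ∈ F π ρ Zᶜ := by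
    intro S S' Z v h1 h2 a1 a2 hZ
    have b1 := Finset.card_le_card (Finset.inter_subset_left (s₁ := S) (s₂ := S'))
    have b2 := Finset.card_union_le S S'
    refine F_anti ?_ (h.F_inf h8 ?_ ?_ h1 h2)
    · rw [← Finset.compl_inter]; exact Finset.compl_subset_compl.2 hZ
    · rw [← Finset.compl_inter, Finset.card_compl]; omega
    · rw [← Finset.compl_union, Finset.card_compl]; omega
  have ind : ∀ {a b c : α} {v : V}, a ≠ b → a ≠ c → b ≠ c → v ∈ l a b → v ∈ l a c → v = 0 := by
    intro a b c v hab hac hbc h1 h2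
    have h3 : v ∈ F π ρ ({a} : Finset α)ᶜ := hinf h1 h2 (Finset.card_le_two.trans (by omega))
      (Finset.card_le_two.trans (by omega)) (by intro z; simp; grind)
    have := ht ({a} : Finset α)ᶜ (by rw [Finset.card_compl]; simp; omega)
      (by rw [Finset.card_compl]; simp; omega)
    rw [Finset.card_compl, Finset.card_singleton] at this
    have h0 : F π ρ ({a} : Finset α)ᶜ = ⊥ := Submodule.finrank_eq_zero.1 (by omega)
    rwa [h0] at h3
  have ind2 : ∀ {a b c : α} {v w : V}, a ≠ b → a ≠ c → b ≠ c → v ∈ l a b → w ∈ l a c →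
      v + w = 0 → v = 0 := by
    intro a b c v w hab hac hbc h1 h2 e
    exact ind hab hac hbc h1 (by rw [eq_neg_of_add_eq_zero_left e]; exact neg_mem h2)
  have lP : ∀ {a b : α} {S : Finset α}, a ∈ S → b ∈ S → l a b ≤ F π ρ Sᶜ := by
    intro a b S ha hb
    exact F_anti (Finset.compl_subset_compl.2 (by intro z; simp; grind))
  have line : ∀ {a b : α} {v w : V}, a ≠ b → v ∈ l a b → v ≠ 0 → w ∈ l a b → ∃ c : k, w = c • v := by
    intro a b v w hab hv hv0 hw
    obtain ⟨c, hc⟩ := (finrank_eq_one_iff_of_nonzero' (⟨v, hv⟩ : l a b)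
      (fun e => hv0 (congrArg Subtype.val e))).1 (dl a b hab) ⟨w, hw⟩
    exact ⟨c, (congrArg Subtype.val hc).symm⟩
  obtain ⟨o, o', hoo⟩ : ∃ o o' : α, o ≠ o' := Fintype.exists_pair_of_one_lt_card (by omega)
  obtain ⟨x0, hx0, hx00⟩ : ∃ v ∈ l o o', v ≠ 0 := by
    by_contra hc; push Not at hc
    have : l o o' = ⊥ := (Submodule.eq_bot_iff _).2 hc
    have h1 := dl o o' hoo
    rw [this, finrank_bot] at h1; omega
  have dec : ∀ a, ∃ v, a ≠ o → a ≠ o' → v ∈ l o a ∧ x0 - v ∈ l o' a := by
    intro a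
    by_cases h1 : a = o
    · exact ⟨0, fun e => absurd h1 e⟩
    by_cases h2 : a = o'
    · exact ⟨0, fun _ e => absurd h2 e⟩
    have hs : l o a ⊔ l o' a = P o o' a := by
      refine Submodule.eq_of_le_of_finrank_le (sup_le (lP (by simp) (by simp)) (lP (by simp) (by simp))) ?_
      have e1 := Submodule.finrank_sup_add_finrank_inf_eq (l o a) (l o' a)
      have e2 : l o a ⊓ l o' a = ⊥ := (Submodule.eq_bot_iff _).2 fun v hv =>
        ind h1 h2 hoo (lsym o a ▸ hv.1) (lsym o' a ▸ hv.2)
      rw [e2, finrank_bot, dl _ _ (Ne.symm h1), dl _ _ (Ne.symm h2)] at e1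
      rw [dP _ _ _ hoo (Ne.symm h1) (Ne.symm h2)]; omega
    have : x0 ∈ l o a ⊔ l o' a := hs ▸ lP (by simp) (by simp) hx0
    obtain ⟨v, hv, w, hw, e⟩ := Submodule.mem_sup.1 this
    exact ⟨v, fun _ _ => ⟨hv, by rw [← e]; simpa using hw⟩⟩
  choose y hy using dec
  obtain ⟨x, hx⟩ : ∃ x : α → V, ∀ a b, a ≠ b → x a - x b ∈ l a b ∧ x a - x b ≠ 0 := by
    let x : α → V := fun a => if a = o then 0 else if a = o' then x0 else y a
    have xo : x o = 0 := by simp [x]
    have xo' : x o' = x0 := by simp [x, hoo.symm]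
    have xa : ∀ a, a ≠ o → a ≠ o' → x a = y a := fun a h1 h2 => by simp [x, h1, h2]
    have k1 : ∀ a, a ≠ o → x a ∈ l o a ∧ x a ≠ 0 := by
      intro a h1
      by_cases h2 : a = o'
      · subst h2; rw [xo']; exact ⟨hx0, hx00⟩
      rw [xa a h1 h2]
      refine ⟨(hy a h1 h2).1, fun e => hx00 ?_⟩
      have := (hy a h1 h2).2
      rw [e, sub_zero] at this
      exact ind hoo.symm (Ne.symm h2) (Ne.symm h1) (lsym o o' ▸ hx0) this
    have k2 : ∀ a, a ≠ o' → x o' - x a ∈ l o' a := by
      intro a h2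
      by_cases h1 : a = o
      · subst h1; rw [xo, xo', sub_zero]; exact lsym _ _ ▸ hx0
      rw [xo', xa a h1 h2]; exact (hy a h1 h2).2
    have k3 : ∀ a b, a ≠ b → a ≠ o → x a - x b ∈ l a b ∧ x a - x b ≠ 0 := by
      intro a b hab h1
      by_cases h2 : b = o
      · subst h2; rw [xo, sub_zero, lsym]; exact k1 a h1
      refine ⟨?_, fun e => (k1 a h1).2 (ind (Ne.symm h1) (Ne.symm h2) hab (k1 a h1).1
        (by rw [sub_eq_zero.1 e]; exact (k1 b h2).1))⟩
      by_cases h3 : a = o'
      · subst h3; exact k2 b hab.symm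
      by_cases h4 : b = o'
      · subst h4; rw [← neg_sub, lsym]; exact neg_mem (k2 a hab)
      have m1 : x a - x b ∈ P o a b :=
        sub_mem (lP (by simp) (by simp) (k1 a h1).1) (lP (by simp) (by simp) (k1 b h2).1)
      have m2 : x a - x b ∈ P o' a b := by
        have : x a - x b = (x o' - x b) - (x o' - x a) := by abel
        rw [this]
        exact sub_mem (lP (by simp) (by simp) (k2 b h4)) (lP (by simp) (by simp) (k2 a h3))
      exact hinf m1 m2 (card3 _ _ _) (card3 _ _ _) (by intro z; simp; grind)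
    refine ⟨x, fun a b hab => ?_⟩
    by_cases h1 : a = o
    · have := k3 b a hab.symm (fun e => hab (h1.trans e.symm))
      rw [← neg_sub, lsym]; exact ⟨neg_mem this.1, neg_ne_zero.2 this.2⟩
    · exact k3 a b hab h1
  -- a relation
  let Φ : (α → k) →ₗ[k] V × k :=
    (Fintype.linearCombination k x).prod (Fintype.linearCombination k fun _ => (1 : k))
  obtain ⟨c, hc, hc0⟩ : ∃ c ∈ LinearMap.ker Φ, c ≠ 0 := by
    refine Submodule.exists_mem_ne_zero_of_ne_bot (LinearMap.ker_ne_bot_of_finrank_lt ?_)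
    rw [finrank_prod, finrank_self, finrank_fintype_fun_eq_card]; omega
  rw [LinearMap.mem_ker, Prod.ext_iff] at hc
  simp only [Φ, LinearMap.prod_apply, Function.prod, Fintype.linearCombination_apply,
    smul_eq_mul, mul_one, Prod.fst_zero, Prod.snd_zero] at hc
  obtain ⟨hc1, hc2⟩ := hc
  have hconst : ∀ a b, c a = c b := by
    intro a b
    by_contra hne
    have hab : a ≠ b := fun e => hne (e ▸ rfl)
    obtain ⟨e, -, he⟩ := ex_one (X := Finset.univ) {a, b} (by
      have : ({a, b} : Finset α).card ≤ 2 := Finset.card_le_two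
      simp; omega)
    obtain ⟨f, -, f', -, hff, hf, hf'⟩ := ex_two (X := Finset.univ) {a, b, e} (by
      have := card3 a b e; simp; omega)
    simp only [Finset.mem_insert, Finset.mem_singleton, not_or] at he hf hf'
    obtain ⟨u, hu, hπ⟩ := h.exU (by omega) hab (Ne.symm he.1) (Ne.symm he.2)
    have hfix : ∀ i j, i ≠ a → i ≠ b → i ≠ e → j ≠ a → j ≠ b → j ≠ e →
        ρ u (x i - x j) = x i - x j := by
      intro i j h1 h2 h3 h4 h5 h6
      by_cases hij : i = j
      · simp [hij]
      refine (hx i j hij).1 u hu (hπ ▸ sw3_mem ?_ ?_ ?_ hab (Ne.symm he.1)) <;> simp <;> grind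
    have hπf : ∀ j, j ≠ a → j ≠ b → j ≠ e → π u j = j := fun j h4 h5 h6 => by
      simp [hπ, Perm.mul_apply, swap_apply_of_ne_of_ne h4 h6, swap_apply_of_ne_of_ne h4 h5]
    have hmv : ∀ i j, i ≠ j → j ≠ a → j ≠ b → j ≠ e →
        ∃ s : k, ρ u (x i - x j) = s • (x (π u i) - x j) := by
      intro i j hij h4 h5 h6
      have hij' : π u i ≠ j := by rw [← hπf j h4 h5 h6]; exact (π u).injective.ne hij
      refine line hij' (hx _ _ hij').1 (hx _ _ hij').2 ?_
      have := F_map (hx i j hij).1 u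
      refine F_anti (le_of_eq ?_) this
      ext z
      simp only [Finset.mem_compl, Finset.mem_insert, Finset.mem_singleton, Finset.mem_map_equiv]
      rw [Equiv.symm_apply_eq, Equiv.symm_apply_eq, hπf j h4 h5 h6]
    have hmv' : ∀ i, i ≠ f → i ≠ f' → ρ u (x i - x f) = x (π u i) - x f := by
      intro i h1 h2
      obtain ⟨s, hs⟩ := hmv i f h1 hf.1 hf.2.1 hf.2.2
      obtain ⟨s', hs'⟩ := hmv i f' h2 hf'.1 hf'.2.1 hf'.2.2
      have h3 := hfix f' f hf'.1 hf'.2.1 hf'.2.2 hf.1 hf.2.1 hf.2.2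
      have a1 : π u i ≠ f := by rw [← hπf f hf.1 hf.2.1 hf.2.2]; exact (π u).injective.ne h1
      have a2 : π u i ≠ f' := by rw [← hπf f' hf'.1 hf'.2.1 hf'.2.2]; exact (π u).injective.ne h2
      have h4 : (s - 1) • (x (π u i) - x f) + (1 - s') • (x (π u i) - x f') = 0 := by
        have : x f' - x f = (x i - x f) - (x i - x f') := by abel
        conv_lhs at h3 => rw [this, map_sub, hs, hs']
        rw [sub_smul, sub_smul, one_smul, one_smul]
        rw [← sub_eq_zero] at h3
        rw [← h3]; abel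
      have h5 := ind2 a1 a2 hff (Submodule.smul_mem _ _ (hx _ _ a1).1)
        (Submodule.smul_mem _ _ (hx _ _ a2).1) h4
      have h6 := (smul_eq_zero.1 h5).resolve_right (hx _ _ a1).2
      rw [hs, sub_eq_zero.1 h6, one_smul]
    have h7 : ∑ i, c i • (x i - x f) = 0 := by
      simp only [smul_sub, Finset.sum_sub_distrib, hc1, ← Finset.sum_smul, hc2, zero_smul, sub_zero]
    have h8' : ∑ i, c i • (ρ u (x i - x f) - (x i - x f)) = 0 := by
      simp only [smul_sub (c _) (ρ u _), Finset.sum_sub_distrib, h7, ← map_smul, ← map_sum,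
        map_zero, sub_zero]
    rw [← Finset.sum_subset (Finset.subset_univ {a, b, e}) (fun i _ hi => by
      simp only [Finset.mem_insert, Finset.mem_singleton, not_or] at hi
      rw [hfix i f hi.1 hi.2.1 hi.2.2 hf.1 hf.2.1 hf.2.2, sub_self, smul_zero]),
      Finset.sum_insert (by simp [hab, Ne.symm he.1]), Finset.sum_pair (Ne.symm he.2),
      hmv' a (Ne.symm hf.1) (Ne.symm hf'.1), hmv' b (Ne.symm hf.2.1) (Ne.symm hf'.2.1),
      hmv' e (Ne.symm hf.2.2) (Ne.symm hf'.2.2)] at h8'
    have p1 : π u a = e := by simp [hπ, Perm.mul_apply, swap_apply_of_ne_of_ne he.1 he.2]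
    have p2 : π u b = a := by
      simp [hπ, Perm.mul_apply, swap_apply_of_ne_of_ne hab.symm (Ne.symm he.2)]
    have p3 : π u e = b := by simp [hπ, Perm.mul_apply]
    rw [p1, p2, p3] at h8'
    have h9 : (c a - c b) • (x b - x a) + (c e - c a) • (x b - x e) = 0 := by
      rw [← h8']; module
    have := ind2 hab.symm (Ne.symm he.2) (Ne.symm he.1) (Submodule.smul_mem _ _ (hx _ _ hab.symm).1)
      (Submodule.smul_mem _ _ (hx _ _ (Ne.symm he.2)).1) h9
    exact hne (sub_eq_zero.1 ((smul_eq_zero.1 this).resolve_right (hx _ _ hab.symm).2))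
  rw [Finset.sum_congr rfl fun i _ => hconst i o, Finset.sum_const, Finset.card_univ,
    nsmul_eq_mul] at hc2
  refine (mul_eq_zero.1 hc2).resolve_right fun e => hc0 (funext fun i => ?_)
  rw [hconst i o, e]; rfl

end H23.Wag
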