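import Cfsg.Agent.H23.Wag3

set_option autoImplicit false

namespace H23.Wag

open Equiv Equiv.Perm Module

variable {α : Type} [Fintype α] [DecidableEq α] {G : Type*} [Group G] {π : G →* Perm α}
variable {k V : Type*} [Field k] [AddCommGroup V] [Module k V] {ρ : G →* End k V}

open Classical in
/-- transport of permutations along an embedding -/
noncomputable def J {m : ℕ} (e : Fin m ↪ α) : Perm (Fin m) →* Perm α :=
  extendDomainHom (Equiv.ofInjective e e.injective)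

theorem J_app {m : ℕ} (e : Fin m ↪ α) (σ : Perm (Fin m)) (i : Fin m) : J e σ (e i) = e (σ i) := by
  classical
  exact Perm.extendDomain_apply_image σ (Equiv.ofInjective e e.injective) i

theorem J_out {m : ℕ} (e : Fin m ↪ α) (σ : Perm (Fin m)) {x : α} (hx : ∀ i, e i ≠ x) :
    J e σ x = x := by
  classical
  exact Perm.extendDomain_apply_not_subtype σ (Equiv.ofInjective e e.injective)
    (fun ⟨i, hi⟩ => hx i hi)

theorem J_sign {m : ℕ} (e : Fin m ↪ α) (σ : Perm (Fin m)) : sign (J e σ) = sign σ := by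
  classical
  exact sign_extendDomain σ (Equiv.ofInjective e e.injective)

theorem J_inj {m : ℕ} (e : Fin m ↪ α) : Function.Injective (J e) := by
  classical
  exact extendDomainHom_injective _

theorem J_supp {m : ℕ} (e : Fin m ↪ α) (σ : Perm (Fin m)) : (J e σ).support = σ.support.map e := by
  ext x
  rw [mem_support, Finset.mem_map]
  by_cases hx : ∃ i, e i = x
  · obtain ⟨i, rfl⟩ := hx
    rw [J_app]; simp
  · push Not at hx
    rw [J_out e σ hx]; simp [hx]

theorem J_swap {m : ℕ} (e : Fin m ↪ α) (i j : Fin m) : J e (swap i j) = swap (e i) (e j) := by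
  ext x
  by_cases hx : ∃ i, e i = x
  · obtain ⟨a, rfl⟩ := hx
    rw [J_app, Function.Embedding.swap_apply]
  · push Not at hx
    rw [J_out e _ hx, swap_apply_of_ne_of_ne (hx i).symm (hx j).symm]

theorem J_mem {m : ℕ} (e : Fin m ↪ α) {σ : Perm (Fin m)} (h : sign σ = 1) {X : Finset α}
    (hX : σ.support.map e ⊆ X) : J e σ ∈ Al X :=
  ⟨by rw [J_sign, h], fun x hx => by
    by_contra hn
    exact hx (hX (J_supp e σ ▸ mem_support.2 hn))⟩

theorem J_mem' {m : ℕ} (e : Fin m ↪ α) {σ τ : Perm (Fin m)} (h : sign σ = 1)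
    (hd : _root_.Disjoint σ.support τ.support) : J e σ ∈ Al (J e τ).supportᶜ := by
  refine J_mem e h ?_
  rw [J_supp]
  intro x hx
  rw [Finset.mem_compl]
  exact Finset.disjoint_left.1 ((Finset.disjoint_map e).2 hd) hx

theorem cyc_of {σ : Perm α} {l : ℕ} (hl : l.Prime) (h1 : σ ^ l = 1) (h2 : σ.support.card = l) :
    σ.IsCycle := by
  haveI := Fact.mk hl
  have h0 : σ ≠ 1 := by rintro rfl; simp at h2; exact hl.ne_zero h2.symm
  have := orderOf_eq_prime h1 h0
  exact isCycle_of_prime_order (this ▸ hl) (by rw [this, h2]; have := hl.pos; omega)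

theorem Cv.canJ (h : Cv π) {l : ℕ} (hl : Odd l) {m : ℕ} (e : Fin m ↪ α) {σ s : Perm (Fin m)}
    (h1 : sign σ = 1) (h2 : sign s = 1) (h3 : s * σ * s⁻¹ = σ⁻¹) (h4 : σ ^ l = 1) :
    ∃ y, π y = J e σ ∧ Can l y := by
  obtain ⟨g, hg⟩ := h.surj (J e σ) (by rw [J_sign, h1])
  obtain ⟨t, ht⟩ := h.surj (J e s) (by rw [J_sign, h2])
  obtain ⟨u, -, e1, c⟩ := h.ex_can hl (Subgroup.mem_top g) (Subgroup.mem_top t)
    (by rw [hg, ht, ← map_inv, ← map_inv, ← map_mul, ← map_mul, h3]) (by rw [hg, ← map_pow, h4, map_one])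
  exact ⟨u, e1.trans hg, c⟩

theorem Cv.conjJ (h : Cv π) {l : ℕ} (hl : l.Prime) (ho : Odd l) (hr : l + 5 ≤ Fintype.card α)
    {m : ℕ} {e : Fin m ↪ α} {σ σ' τ : Perm (Fin m)} {y y' g : G} (hy : π y = J e σ) (c : Can l y)
    (hy' : π y' = J e σ') (c' : Can l y') (hg : π g = J e τ) (hs : σ.support.card = l) {n : ℕ}
    (hn : τ * σ * τ⁻¹ = σ' ^ n) : g * y * g⁻¹ = y' ^ n := by
  have h1 : (π y).support.card = l := by rw [hy, J_supp, Finset.card_map, hs]
  have := h.uniq ho (cyc_of hl (by rw [← map_pow, c.1, map_one]) h1)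
    (by rw [Finset.card_compl, h1]; omega) c ((c'.pow n).conj g⁻¹) (by
      simp only [map_mul, map_inv, map_pow, hy, hy', hg]
      rw [← map_pow, ← hn]; simp only [map_mul, map_inv]; group)
  rw [this]; group

theorem Cv.dich (h : Cv π) {X : Finset α} (hX : 5 ≤ X.card) (W : Submodule k V)
    (hW : ∀ g, π g ∈ Al X → ∀ v ∈ W, ρ g v ∈ W) :
    (∀ σ ∈ Al X, ∃ g, π g = σ ∧ ∀ v ∈ W, ρ g v = v) ∨
      (∀ g, π g ∈ Al X → (∀ v ∈ W, ρ g v = v) → π g = 1) := by
  let M : Subgroup (alternatingGroup X) :=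
    { carrier := {τ | ∃ g, π g = ofSubtype τ.1 ∧ ∀ v ∈ W, ρ g v = v}
      one_mem' := ⟨1, by simp, by simp⟩
      mul_mem' := by
        rintro a b ⟨g, hg, hg'⟩ ⟨g', hh, hh'⟩
        exact ⟨g * g', by simp [hg, hh], fun v hv => by
          rw [map_mul, End.mul_apply, hh' v hv, hg' v hv]⟩
      inv_mem' := by
        rintro a ⟨g, hg, hg'⟩
        exact ⟨g⁻¹, by simp [hg], fun v hv => (St ρ v).inv_mem (hg' v hv)⟩ }
  haveI : M.Normal := ⟨by
    rintro a ⟨g, hg, hg'⟩ b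
    have hb := Al.ofSub b.1 (mem_alternatingGroup.1 b.2)
    obtain ⟨x, hx⟩ := h.surj _ hb.1
    refine ⟨x * g * x⁻¹, by simp [hg, hx], fun v hv => ?_⟩
    rw [map_mul, map_mul, End.mul_apply, End.mul_apply,
      hg' _ (hW x⁻¹ (by rw [map_inv, hx]; exact (Al X).inv_mem hb) v hv), ρ_cancel]⟩
  rcases alternatingGroup.normal_subgroup_eq_bot_or_eq_top (N := M) (by simpa using hX) with hM | hM
  · right
    intro g hg hv
    obtain ⟨τ, hτ⟩ := Al.ex hg.2
    have hs : sign τ = 1 := by rw [← sign_ofSubtype, hτ]; exact hg.1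
    have : (⟨τ, mem_alternatingGroup.2 hs⟩ : alternatingGroup X) ∈ M := ⟨g, hτ.symm, hv⟩
    rw [hM, Subgroup.mem_bot] at this
    have : τ = 1 := congrArg Subtype.val this
    rw [← hτ, this, map_one]
  · left
    intro σ hσ
    obtain ⟨τ, hτ⟩ := Al.ex hσ.2
    have hs : sign τ = 1 := by rw [← sign_ofSubtype, hτ]; exact hσ.1
    obtain ⟨g, hg, hv⟩ : (⟨τ, mem_alternatingGroup.2 hs⟩ : alternatingGroup X) ∈ M := by
      rw [hM]; trivial
    exact ⟨g, hg.trans hτ, hv⟩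

theorem eig_conj {g y y' : G} {n : ℕ} (e : g * y * g⁻¹ = y' ^ n) {μ : k} {v : V}
    (hv : ρ y' v = μ • v) : ρ y (ρ g⁻¹ v) = μ ^ n • ρ g⁻¹ v := by
  have : y * g⁻¹ = g⁻¹ * y' ^ n := by rw [← e]; group
  rw [← End.mul_apply, ← map_mul, this, map_mul, End.mul_apply, map_pow, pow_eig hv, map_smul]

theorem ρ_ne (g : G) {v : V} (hv : v ≠ 0) : ρ g v ≠ 0 := fun e => hv (ρ_inj g (by rw [e, map_zero]))

theorem prim_of {ζ : k} {l : ℕ} (hl : l.Prime) (h1 : ζ ≠ 1) (h2 : ζ ^ l = 1) :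
    IsPrimitiveRoot ζ l := by
  haveI := Fact.mk hl
  exact IsPrimitiveRoot.iff_orderOf.2 (orderOf_eq_prime h2 h1)

theorem eig_bound [FiniteDimensional k V] {y : G} {l : ℕ} {ζ : k} (hζ : IsPrimitiveRoot ζ l)
    (hl : 0 < l) (hg : ∀ i, 1 ≤ i → i < l → ∃ g : G, g * y * g⁻¹ = y ^ i) :
    finrank k ((ρ y).eigenspace 1) + (l - 1) * finrank k ((ρ y).eigenspace ζ) ≤ finrank k V := by
  classical
  have h1 := eig_sum (ρ y) ((Finset.range l).image fun i => ζ ^ i)
  rw [Finset.sum_image fun i hi j hj e =>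
    hζ.pow_inj (Finset.mem_range.1 hi) (Finset.mem_range.1 hj) e] at h1
  obtain ⟨m, rfl⟩ : ∃ m, l = m + 1 := ⟨l - 1, by omega⟩
  rw [Finset.sum_range_succ', pow_zero] at h1
  have h2 : ∀ i ∈ Finset.range m, finrank k ((ρ y).eigenspace ζ) ≤
      finrank k ((ρ y).eigenspace (ζ ^ (i + 1))) := by
    intro i hi
    obtain ⟨g, hg⟩ := hg (i + 1) (by omega) (by simpa using hi)
    rw [LinearEquiv.finrank_eq (Submodule.equivMapOfInjective (ρ g⁻¹) (ρ_inj _) _)]
    apply Submodule.finrank_mono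
    rintro _ ⟨v, hv, rfl⟩
    exact End.mem_eigenspace_iff.2 (eig_conj hg (End.mem_eigenspace_iff.1 hv))
  have h3 := Finset.card_nsmul_le_sum _ _ _ h2
  simp only [Finset.card_range, smul_eq_mul, add_tsub_cancel_right] at h3 ⊢
  omega

theorem wt_card_sub [FiniteDimensional k V] {ι E : Type*} [Fintype ι] (f : E → End k V)
    (χ : ι → E → k) (hχ : Function.Injective χ) (W : Submodule k V)
    (h : ∀ i, ∃ v ∈ W, v ≠ 0 ∧ ∀ e, f e v = χ i e • v) : Fintype.card ι ≤ finrank k W := by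
  choose v hW hv0 hv using h
  have hl := wt_indep f χ hχ v hv0 hv
  have : LinearIndependent k (fun i => (⟨v i, hW i⟩ : W)) := LinearIndependent.of_comp W.subtype hl
  exact this.fintype_card_le_finrank

theorem ex_joint [IsAlgClosed k] [FiniteDimensional k V] {ι : Type*} [Finite ι] (f : ι → End k V)
    (hc : ∀ i j, f i * f j = f j * f i) (W : Submodule k V) (hW : W ≠ ⊥)
    (hf : ∀ i, ∀ v ∈ W, f i v ∈ W) : ∃ v ∈ W, v ≠ 0 ∧ ∃ χ : ι → k, ∀ i, f i v = χ i • v := by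
  classical
  haveI := Fintype.ofFinite ι
  have key : ∀ s : Finset ι, ∃ W' : Submodule k V, W' ≤ W ∧ W' ≠ ⊥ ∧ (∀ i, ∀ v ∈ W', f i v ∈ W') ∧
      ∀ i ∈ s, ∃ μ : k, ∀ v ∈ W', f i v = μ • v := by
    intro s
    induction s using Finset.induction_on with
    | empty => exact ⟨W, le_rfl, hW, hf, by simp⟩
    | insert a s _ ih =>
      obtain ⟨W', h1, h2, h3, h4⟩ := ih
      obtain ⟨μ, v, hv, hv0, hμ⟩ := ex_eig (f a) W' h2 (h3 a)
      refine ⟨W' ⊓ (f a).eigenspace μ, inf_le_left.trans h1, fun e => hv0 ?_, ?_, ?_⟩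
      · have : v ∈ W' ⊓ (f a).eigenspace μ := ⟨hv, End.mem_eigenspace_iff.2 hμ⟩
        rwa [e] at this
      · intro i w hw
        refine ⟨h3 i w hw.1, End.mem_eigenspace_iff.2 ?_⟩
        rw [← End.mul_apply, hc, End.mul_apply, End.mem_eigenspace_iff.1 hw.2, map_smul]
      · intro i hi
        rcases Finset.mem_insert.1 hi with rfl | hi
        · exact ⟨μ, fun w hw => End.mem_eigenspace_iff.1 hw.2⟩
        · obtain ⟨ν, hν⟩ := h4 i hi
          exact ⟨ν, fun w hw => hν w hw.1⟩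
  obtain ⟨W', h1, h2, -, h4⟩ := key Finset.univ
  obtain ⟨v, hv, hv0⟩ := Submodule.exists_mem_ne_zero_of_ne_bot h2
  choose χ hχ using h4
  exact ⟨v, h1 hv, hv0, fun i => χ i (Finset.mem_univ i), fun i => hχ i _ v hv⟩

def τ8 : Perm (Fin 8) := swap 0 1 * swap 2 3 * swap 4 5 * swap 6 7
def γ8 : Perm (Fin 8) := swap 1 5 * swap 1 7 * swap 1 6 * swap 1 3 * swap 1 4 * swap 1 2
def T8 (i : ℕ) : Perm (Fin 8) := γ8 ^ i * τ8 * (γ8 ^ i)⁻¹
theorem γ8_pow : γ8 ^ 7 = 1 := by decide +kernel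
theorem T8_comm : ∀ d < 8, T8 0 * T8 d * (T8 0)⁻¹ * (T8 d)⁻¹ = 1 := by decide +kernel
theorem T8_rel : (T8 3)⁻¹ * (T8 0 * T8 1) = 1 := by decide +kernel
theorem T8_sq : T8 0 * T8 0 = 1 := by decide +kernel
theorem T8_ne : T8 0 * (T8 1)⁻¹ ≠ 1 := by decide +kernel

/-- the regular `2^3 : 7` in `A₈` forces dimension at least seven -/
theorem Cv.seven [IsAlgClosed k] [FiniteDimensional k V] (h : Cv π) (h2 : (2 : k) ≠ 0)
    {X : Finset α} (hX : 8 ≤ X.card) (W : Submodule k V)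
    (hW : ∀ g, π g ∈ Al X → ∀ v ∈ W, ρ g v ∈ W)
    (hk : ∀ g, π g ∈ Al X → (∀ v ∈ W, ρ g v = v) → π g = 1) : 7 ≤ finrank k W := by
  obtain ⟨e0⟩ : Nonempty (Fin 8 ↪ X) := Function.Embedding.nonempty_of_card_le (by simpa using hX)
  let e : Fin 8 ↪ α := e0.trans (Function.Embedding.subtype _)
  have hJ : ∀ σ : Perm (Fin 8), sign σ = 1 → J e σ ∈ Al X := fun σ hσ => J_mem e hσ (by
    intro x hx
    obtain ⟨i, -, rfl⟩ := Finset.mem_map.1 hx
    exact (e0 i).2)
  have hτ := hJ τ8 (by simp [τ8])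
  have hγ := hJ γ8 (by simp [γ8])
  obtain ⟨t0, ht0⟩ := h.surj _ hτ.1
  obtain ⟨g, hg⟩ := h.surj _ hγ.1
  let t : ℕ → G := fun i => g ^ i * t0 * (g ^ i)⁻¹
  have hπt : ∀ i, π (t i) = J e (T8 i) := fun i => by simp [t, ht0, hg, T8]
  have htX : ∀ i, π (t i) ∈ Al X := fun i => by
    simp only [t, map_mul, map_inv, map_pow, ht0, hg]
    exact (Al X).mul_mem ((Al X).mul_mem ((Al X).pow_mem hγ i) hτ) ((Al X).inv_mem ((Al X).pow_mem hγ i))
  have hsh : ∀ i j, g ^ j * t i * (g ^ j)⁻¹ = t (i + j) := fun i j => by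
    simp only [t]; rw [add_comm, pow_add]; group
  have hg7 : π (g ^ 7) = 1 := by
    rw [map_pow, hg, ← map_pow, γ8_pow, map_one]
  have hper : ∀ i, t (i + 7) = t i := fun i => by rw [← hsh, ← h.cen _ hg7]; group
  have cj : ∀ z, π z = 1 → ∀ x : G, x * z * x⁻¹ = z := fun z hz x => by rw [h.cen z hz]; group
  -- commutation
  let f : ℕ → G := fun d => t 0 * t d * (t 0)⁻¹ * (t d)⁻¹
  have hf : ∀ d, d < 8 → π (f d) = 1 := fun d hd => by
    simp only [f, map_mul, map_inv, hπt]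
    rw [← map_inv, ← map_inv, ← map_mul, ← map_mul, ← map_mul, T8_comm d hd, map_one]
  have hz : π ((t 3)⁻¹ * (t 0 * t 1)) = 1 := by
    simp only [map_mul, map_inv, hπt]
    rw [← map_inv, ← map_mul, ← map_mul, T8_rel, map_one]
  set z := (t 3)⁻¹ * (t 0 * t 1) with hzd
  have hrel : ∀ d, t d * t (1 + d) = t (3 + d) * z := fun d => by
    have : t 0 * t 1 = t 3 * z := by rw [hzd]; group
    have h3 := congrArg (fun x => g ^ d * x * (g ^ d)⁻¹) this
    simp only [← hsh 1, ← hsh 3]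
    rw [← cj z hz (g ^ d), ← zero_add d, ← hsh 0, zero_add]
    calc _ = g ^ d * (t 0 * t 1) * (g ^ d)⁻¹ := by group
      _ = _ := by rw [this]; group
  have hft : ∀ d, t 0 * t d * (t 0)⁻¹ = f d * t d := fun d => by simp only [f]; group
  have hfm : ∀ d, d < 7 → f d * f (1 + d) = f (3 + d) := fun d hd => by
    have h3 : t 0 * (t d * t (1 + d)) * (t 0)⁻¹ = t 0 * (t (3 + d) * z) * (t 0)⁻¹ := by rw [hrel]
    have e1 : t 0 * (t d * t (1 + d)) * (t 0)⁻¹ = f d * f (1 + d) * (t d * t (1 + d)) := by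
      calc _ = (t 0 * t d * (t 0)⁻¹) * (t 0 * t (1 + d) * (t 0)⁻¹) := by group
        _ = f d * (t d * f (1 + d)) * t (1 + d) := by rw [hft, hft]; group
        _ = _ := by rw [h.cen _ (hf (1 + d) (by omega))]; group
    have e2 : t 0 * (t (3 + d) * z) * (t 0)⁻¹ = f (3 + d) * (t d * t (1 + d)) := by
      calc _ = (t 0 * t (3 + d) * (t 0)⁻¹) * (t 0 * z * (t 0)⁻¹) := by group
        _ = _ := by rw [hft, cj z hz, hrel]; group
    rw [e1, e2] at h3
    exact mul_right_cancel h3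
  have hfi : ∀ d d', d + d' = 7 → f d' = (f d)⁻¹ := fun d d' e => by
    have := cj _ (hf d' (by omega)) (g ^ d)
    rw [← this]
    calc _ = (g ^ d * t 0 * (g ^ d)⁻¹) * (g ^ d * t d' * (g ^ d)⁻¹) * (g ^ d * t 0 * (g ^ d)⁻¹)⁻¹ *
        (g ^ d * t d' * (g ^ d)⁻¹)⁻¹ := by simp only [f]; group
      _ = _ := by rw [hsh, hsh, zero_add, add_comm d', e, ← zero_add 7, hper]; simp only [f]; group
  have f0 : f 0 = 1 := by simp [f]
  have f7 : f 7 = 1 := by rw [hfi 0 7 rfl, f0, inv_one]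
  have f9 : f 9 = f 2 := by simp only [f]; rw [← hper 2]
  have a0 := hfm 0 (by omega)
  have a1 := hfm 1 (by omega)
  have a6 := hfm 6 (by omega)
  have b1 := hfi 1 6 rfl
  have b4 := hfi 4 3 rfl
  norm_num at a0 a1 a6
  rw [f0, one_mul] at a0
  rw [f7, mul_one, f9, b1] at a6
  rw [← a6, mul_inv_cancel] at a1
  rw [← a1, inv_one] at b4
  have f1 : f 1 = 1 := a0.trans b4
  have fall : ∀ d, d < 7 → f d = 1 := fun d hd => by
    have b2 := hfi 2 5 rfl
    interval_cases d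
    · exact f0
    · exact f1
    · rw [← a6, f1, inv_one]
    · exact b4
    · exact a1.symm
    · rw [b2, ← a6, f1]; simp
    · rw [b1, f1, inv_one]
  have hcm' : ∀ i d, d < 7 → t i * t (d + i) = t (d + i) * t i := fun i d hd => by
    have := hft d
    rw [fall d hd, one_mul, mul_inv_eq_iff_eq_mul] at this
    rw [← hsh d i, ← zero_add i, ← hsh 0, zero_add]
    calc _ = g ^ i * (t 0 * t d) * (g ^ i)⁻¹ := by group
      _ = _ := by rw [this]; group
  have hcm : ∀ i j : Fin 7, t i * t j = t j * t i := fun i j => by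
    rcases le_total i.1 j.1 with hij | hij
    · have := hcm' i (j - i) (by omega); rwa [Nat.sub_add_cancel hij] at this
    · have := hcm' j (i - j) (by omega); rw [Nat.sub_add_cancel hij] at this; exact this.symm
  have hsq : π (t 0 * t 0) = 1 := by
    simp only [map_mul, hπt]; rw [← map_mul, T8_sq, map_one]
  have hs2 : (t 0 * (t 1)⁻¹) ^ 2 = 1 := by
    have e1 : t 1 * t 1 = t 0 * t 0 := by
      rw [← cj _ hsq (g ^ 1), ← zero_add 1, ← hsh 0, zero_add]; group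
    have e2 : t 0 * t 1 = t 1 * t 0 := hcm 0 1
    have e3 : (t 1)⁻¹ * t 0 = t 0 * (t 1)⁻¹ := by
      rw [inv_mul_eq_iff_eq_mul, ← mul_assoc, ← e2]; group
    calc _ = t 0 * ((t 1)⁻¹ * t 0) * (t 1)⁻¹ := by rw [pow_two]; group
      _ = t 0 * t 0 * (t 1 * t 1)⁻¹ := by rw [e3]; group
      _ = 1 := by rw [e1]; group
  have hsX : π (t 0 * (t 1)⁻¹) ∈ Al X := by
    rw [map_mul, map_inv]; exact (Al X).mul_mem (htX 0) ((Al X).inv_mem (htX 1))
  obtain ⟨μ, hμ1, -, w, hw, hw0, hwμ⟩ := ex_eig_ne (ρ (t 0 * (t 1)⁻¹)) W (hW _ hsX) (n := 2)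
    (by rw [← map_pow, hs2, map_one]) (by simpa using h2) (by
      by_contra hc; push Not at hc
      have := hk _ hsX hc
      simp only [map_mul, map_inv, hπt] at this
      rw [← map_inv, ← map_mul, ← map_one (J e)] at this
      exact T8_ne (J_inj e this))
  obtain ⟨v, hv, hv0, χ, hχ⟩ := ex_joint (fun i : Fin 7 => ρ (t i))
    (fun i j => by rw [← map_mul, hcm, map_mul]) (W ⊓ (ρ (t 0 * (t 1)⁻¹)).eigenspace μ)
    (fun e => hw0 (by
      have : w ∈ W ⊓ (ρ (t 0 * (t 1)⁻¹)).eigenspace μ := ⟨hw, End.mem_eigenspace_iff.2 hwμ⟩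
      rwa [e] at this))
    (fun i v hv => ⟨hW _ (htX i) v hv.1, End.mem_eigenspace_iff.2 (by
      have c : Commute (t 0 * (t 1)⁻¹) (t i) :=
        Commute.mul_left (hcm 0 i) (Commute.inv_left (hcm 1 i))
      rw [← End.mul_apply, ← map_mul, c.eq, map_mul, End.mul_apply,
        End.mem_eigenspace_iff.1 hv.2, map_smul])⟩)
  have hne : χ 0 ≠ χ 1 := by
    intro e
    have a : ρ (t 0) v = ρ (t 1) v := (hχ 0).trans (e ▸ (hχ 1).symm)
    have c : Commute (t 0) (t 1)⁻¹ := Commute.inv_right (hcm 0 1)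
    have b := End.mem_eigenspace_iff.1 hv.2
    rw [c.eq, map_mul, End.mul_apply, a, ρ_cancel'] at b
    have : (μ - 1) • v = 0 := by rw [sub_smul, ← b, one_smul, sub_self]
    exact hμ1 (sub_eq_zero.1 ((smul_eq_zero.1 this).resolve_right hv0))
  have hmod : ∀ i, t i = t (i % 7) := fun i => by
    induction i using Nat.strong_induction_on with
    | _ i ih =>
      by_cases hi : i < 7
      · rw [Nat.mod_eq_of_lt hi]
      · rw [show i = (i - 7) + 7 by omega, hper, ih _ (by omega), Nat.add_mod_right]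
  refine (Fintype.card_fin 7).symm.trans_le (wt_card_sub (fun i : Fin 7 => ρ (t i))
    (fun j i => χ (i + j)) ?_ W fun j => ⟨ρ (g ^ j.1)⁻¹ v, hW _ ?_ v hv.1, ρ_ne _ hv0, fun i => ?_⟩)
  · intro j j' e
    by_contra hjj
    have e1 : ∀ x, χ (x + (j - j')) = χ x := fun x => by
      have := congrFun e (x - j')
      simp only at this
      rw [sub_add_cancel] at this
      rw [← this]; congr 1; abel
    have e2 : ∀ n : ℕ, χ (n • (j - j')) = χ 0 := fun n => by
      induction n with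
      | zero => simp
      | succ n ih => rw [succ_nsmul, e1, ih]
    obtain ⟨n, hn⟩ : ∃ n : Fin 7, n.1 • (j - j') = 1 := by
      have : ∀ d : Fin 7, d ≠ 0 → ∃ n : Fin 7, n.1 • d = 1 := by decide
      exact this _ (sub_ne_zero.2 hjj)
    exact hne (by rw [← e2 n, hn])
  · rw [map_inv, map_pow, hg]; exact (Al X).inv_mem ((Al X).pow_mem hγ _)
  · have := eig_conj (ρ := ρ) (n := 1) (g := g ^ j.1) (y := t i) (y' := t (i + j : Fin 7))
      (by rw [hsh, pow_one, hmod, Fin.val_add]) (hχ (i + j))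
    rwa [pow_one] at this

end H23.Wag
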