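import Cfsg.Agent.H23.Wag4

set_option autoImplicit false

namespace H23.Wag

open Equiv Equiv.Perm Module

variable {α : Type} [Fintype α] [DecidableEq α] {G : Type*} [Group G] {π : G →* Perm α}
variable {k V : Type*} [Field k] [AddCommGroup V] [Module k V] {ρ : G →* End k V}

/-- the bound -/
def Bd (k : Type*) [Field k] (r n : ℕ) : Prop := r ≤ n + 2 ∧ (r = n + 2 → (r : k) = 0)

theorem Cov.step [IsAlgClosed k] [FiniteDimensional k V] (h : Cov π ρ) {l : ℕ} (hl : l.Prime)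
    (hl3 : 3 ≤ l) (hlk : (l : k) ≠ 0) (hr : l + 5 ≤ Fintype.card α) {y : G} (hy : y ^ l = 1)
    (hs : (π y).support.card = l) (hg : ∀ i, 1 ≤ i → i < l → ∃ g : G, g * y * g⁻¹ = y ^ i)
    (h2 : finrank k ((ρ y).eigenspace 1) + (l - 1) ≤ finrank k V →
      ∃ T : Finset α, T.card = 3 ∧ finrank k (F π ρ T) + 2 ≤ finrank k V) :
    Bd k (Fintype.card α) (finrank k V) ∨ ∃ ζ : k, IsPrimitiveRoot ζ l ∧
      (l - 1) * finrank k ((ρ y).eigenspace ζ) ≤ finrank k V ∧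
      0 < finrank k ((ρ y).eigenspace ζ) ∧
      (∀ g, π g ∈ Al (π y).supportᶜ → ∀ v ∈ (ρ y).eigenspace ζ, ρ g v ∈ (ρ y).eigenspace ζ) ∧
      (∀ g, π g ∈ Al (π y).supportᶜ → (∀ v ∈ (ρ y).eigenspace ζ, ρ g v = v) → π g = 1) := by
  obtain ⟨ζ, hζ1, hζl, v, -, hv0, hv⟩ := ex_eig_ne (ρ y) ⊤ (fun _ _ => trivial) (n := l)
    (by rw [← map_pow, hy, map_one]) hlk (by
      by_contra hc; push Not at hc
      have := h.ker y (LinearMap.ext fun v => hc v trivial)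
      rw [this] at hs; simp at hs; omega)
  have hζ := prim_of hl hζ1 hζl
  have hb := eig_bound (ρ := ρ) hζ (by omega) hg
  have hvW : v ∈ (ρ y).eigenspace ζ := End.mem_eigenspace_iff.2 hv
  have hpos : 0 < finrank k ((ρ y).eigenspace ζ) := by
    rw [Nat.pos_iff_ne_zero, Ne, Submodule.finrank_eq_zero]
    intro e; rw [e] at hvW; exact hv0 hvW
  have hX : (π y).supportᶜ.card + l = Fintype.card α := by rw [Finset.card_compl, hs]; omega
  have hW : ∀ g, π g ∈ Al (π y).supportᶜ → ∀ v ∈ (ρ y).eigenspace ζ,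
      ρ g v ∈ (ρ y).eigenspace ζ := by
    intro g hgX w hw
    have := h.comm (X := (π y).supportᶜ) (by omega) (y := y) (fun x hx => by simpa using hx) hgX
    rw [End.mem_eigenspace_iff, ← End.mul_apply, ← map_mul, this, map_mul, End.mul_apply,
      End.mem_eigenspace_iff.1 hw, map_smul]
  rcases h.dich (by omega) _ hW with hd | hd
  · left
    refine h.chain (by omega) (j := l) (by omega) (by omega) ⟨_, hX, ?_⟩ (h2 ?_)
    · have hvF : v ∈ F π ρ (π y).supportᶜ := h.mem_F (by omega) (by omega) fun σ hσ => by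
        obtain ⟨g, hg, hg'⟩ := hd σ hσ
        exact ⟨g, hg' v hvW, hg⟩
      have := wt_card_sub (ι := Fin (l - 1)) (fun _ : Unit => ρ y) (fun i _ => ζ ^ (i.1 + 1))
        (fun i j e => by
          have := hζ.pow_inj (by omega) (by omega) (congrFun e ())
          exact Fin.ext (by omega)) (F π ρ (π y).supportᶜ) fun i => by
        obtain ⟨g, hg⟩ := hg (i.1 + 1) (by omega) (by omega)
        refine ⟨ρ g⁻¹ v, ?_, ρ_ne _ hv0, fun _ => eig_conj hg hv⟩
        have e1 : (π y).support.map (π g).toEmbedding = (π y).support := by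
          refine map_eq_of fun z hz => ?_
          have e2 := support_conj (σ := π g) (τ := π y)
          rw [← map_inv, ← map_mul, ← map_mul, hg, map_pow] at e2
          exact support_pow_le _ _ (e2 ▸ Finset.mem_map_of_mem _ hz)
        rw [F_pres (g := g) fun z => ?_, ρ_cancel]; exact hvF
        rw [Finset.mem_compl, Finset.mem_compl]
        conv_lhs => rw [← e1]
        exact not_congr (Finset.mem_map' (π g).toEmbedding)
      rw [Fintype.card_fin] at this; omega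
    · have : l - 1 ≤ (l - 1) * finrank k ((ρ y).eigenspace ζ) := Nat.le_mul_of_pos_right _ hpos
      omega
  · exact Or.inr ⟨ζ, hζ, by omega, hpos, hW, hd⟩

/-- iterated closure of a list -/
def orb {β : Type} [DecidableEq β] (fs : List (β → β)) : ℕ → List β → List β
  | 0, l => l
  | n + 1, l => orb fs n (l ++ fs.flatMap fun f => l.map f).dedup

theorem orb_cl {β : Type} [DecidableEq β] {fs : List (β → β)} {P : β → Prop}
    (h : ∀ f ∈ fs, ∀ x, P x → P (f x)) (n : ℕ) : ∀ l : List β, (∀ x ∈ l, P x) →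
      ∀ x ∈ orb fs n l, P x := by
  induction n with
  | zero => exact fun l hl => hl
  | succ n ih =>
    intro l hl
    refine ih _ fun x hx => ?_
    rw [List.mem_dedup, List.mem_append, List.mem_flatMap] at hx
    rcases hx with hx | ⟨f, hf, hx⟩
    · exact hl x hx
    · obtain ⟨y, hy, rfl⟩ := List.mem_map.1 hx
      exact h f hf y (hl y hy)

theorem wt_conj {l : ℕ} [NeZero l] {ζ : k} (hζ : ζ ^ l = 1) {g y y' : G} {n : ℕ}
    (e : g * y * g⁻¹ = y' ^ n) {b : ZMod l} {v : V} (hv : ρ y' v = ζ ^ b.val • v) :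
    ρ y (ρ g⁻¹ v) = ζ ^ ((n : ZMod l) * b).val • ρ g⁻¹ v := by
  rw [eig_conj e hv, ← pow_mul, ZMod.val_mul, ZMod.val_natCast, pow_eq_pow_mod _ hζ]
  congr 2; rw [mul_comm, Nat.mod_mul_mod]

theorem root_val {l : ℕ} [NeZero l] {ζ μ : k} (hζ : IsPrimitiveRoot ζ l) (hμ : μ ^ l = 1) :
    ∃ b : ZMod l, μ = ζ ^ b.val := by
  obtain ⟨i, hi, rfl⟩ := hζ.eq_pow_of_pow_eq_one hμ
  exact ⟨i, by rw [ZMod.val_natCast, Nat.mod_eq_of_lt hi]⟩

theorem val_inj' {l : ℕ} [NeZero l] {ζ : k} (hζ : IsPrimitiveRoot ζ l) {a b : ZMod l}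
    (e : ζ ^ a.val = ζ ^ b.val) : a = b :=
  ZMod.val_injective l (hζ.pow_inj (ZMod.val_lt a) (ZMod.val_lt b) e)

def p1 : Perm (Fin 10) := swap 0 4 * swap 0 3 * swap 0 2 * swap 0 1
def p2 : Perm (Fin 10) := swap 5 9 * swap 5 8 * swap 5 7 * swap 5 6
def pa : Perm (Fin 10) := swap 1 3 * swap 1 4 * swap 1 2 * (swap 6 8 * swap 6 9 * swap 6 7)
def pb : Perm (Fin 10) := swap 6 9 * swap 7 8
def pb' : Perm (Fin 10) := swap 1 4 * swap 2 3
def pc : Perm (Fin 10) :=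
  swap 1 3 * swap 1 4 * swap 1 2 * (swap 0 5 * swap 1 6 * swap 2 7 * swap 3 8 * swap 4 9)

theorem five_facts : pa * p1 * pa⁻¹ = p1 ^ 2 ∧ pa * p2 * pa⁻¹ = p2 ^ 2 ∧ pb * p1 * pb⁻¹ = p1 ^ 1 ∧
    pb * p2 * pb⁻¹ = p2 ^ 4 ∧ pc * p1 * pc⁻¹ = p2 ^ 1 ∧ pc * p2 * pc⁻¹ = p1 ^ 2 ∧
    pb' * p1 * pb'⁻¹ = p1⁻¹ ∧ pb * p2 * pb⁻¹ = p2⁻¹ ∧ p1 ^ 5 = 1 ∧ p2 ^ 5 = 1 ∧
    p1.support.card = 5 ∧ p2.support.card = 5 ∧ _root_.Disjoint p2.support p1.support ∧
    pb'.support ⊆ p1.support := by decide +kernel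

theorem orb5 : ∀ j : ZMod 5, j ≠ 0 → 16 ≤ (orb [fun w : ZMod 5 × ZMod 5 =>
    (((2 : ℕ) : ZMod 5) * w.1, ((2 : ℕ) : ZMod 5) * w.2),
    fun w => (((1 : ℕ) : ZMod 5) * w.1, ((4 : ℕ) : ZMod 5) * w.2),
    fun w => (((1 : ℕ) : ZMod 5) * w.2, ((2 : ℕ) : ZMod 5) * w.1)] 5 [(1, j)]).toFinset.card := by
  decide +kernel

theorem Cov.five [IsAlgClosed k] [FiniteDimensional k V] (h : Cov π ρ) (h5 : (5 : k) ≠ 0)
    (hr : 10 ≤ Fintype.card α) :
    Bd k (Fintype.card α) (finrank k V) ∨ (16 ≤ finrank k V ∧ ∃ (X : Finset α) (W : Submodule k V),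
      X.card + 5 = Fintype.card α ∧ 4 * finrank k W ≤ finrank k V ∧
      (∀ g, π g ∈ Al X → ∀ v ∈ W, ρ g v ∈ W) ∧
      (∀ g, π g ∈ Al X → (∀ v ∈ W, ρ g v = v) → π g = 1)) := by
  obtain ⟨e⟩ : Nonempty (Fin 10 ↪ α) := Function.Embedding.nonempty_of_card_le (by simpa using hr)
  obtain ⟨f1, f2, f3, f4, f5, f6, f7, f8, f9, f10, f11, f12, f13, f14⟩ := five_facts
  have s1 : sign p1 = 1 := by simp [p1]
  have s2 : sign p2 = 1 := by simp [p2]
  have sb' : sign pb' = 1 := by simp [pb']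
  obtain ⟨y1, hy1, c1⟩ := h.canJ (l := 5) (by decide) e s1 sb' f7 f9
  obtain ⟨y2, hy2, c2⟩ := h.canJ (l := 5) (by decide) e s2 (by simp [pb]) f8 f10
  obtain ⟨ga, hga⟩ := h.surj (J e pa) (by rw [J_sign]; simp [pa])
  obtain ⟨gb, hgb⟩ := h.surj (J e pb) (by rw [J_sign]; simp [pb])
  obtain ⟨gc, hgc⟩ := h.surj (J e pc) (by rw [J_sign]; simp [pc])
  have q : ∀ {σ σ' τ : Perm (Fin 10)} {y y' g : G}, π y = J e σ → Can 5 y → π y' = J e σ' →
      Can 5 y' → π g = J e τ → σ.support.card = 5 → ∀ {n : ℕ}, τ * σ * τ⁻¹ = σ' ^ n →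
      g * y * g⁻¹ = y' ^ n := fun a1 a2 a3 a4 a5 a6 _ a7 =>
    h.conjJ (by decide) (by decide) hr a1 a2 a3 a4 a5 a6 a7
  have r1 := q hy1 c1 hy1 c1 hga f11 f1
  have r2 := q hy2 c2 hy2 c2 hga f12 f2
  have r3 := q hy1 c1 hy1 c1 hgb f11 f3
  have r4 := q hy2 c2 hy2 c2 hgb f12 f4
  have r5 := q hy1 c1 hy2 c2 hgc f11 f5
  have r6 := q hy2 c2 hy1 c1 hgc f12 f6
  have hs : (π y1).support.card = 5 := by rw [hy1, J_supp, Finset.card_map, f11]
  have hc : 5 ≤ (π y1).supportᶜ.card := by rw [Finset.card_compl, hs]; omega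
  have hp : ∀ m : ℕ, ga ^ m * y1 * (ga ^ m)⁻¹ = y1 ^ 2 ^ m := fun m => by
    induction m with
    | zero => simp
    | succ m ih =>
      calc _ = ga ^ m * (ga * y1 * ga⁻¹) * (ga ^ m)⁻¹ := by rw [pow_succ]; group
        _ = _ := by rw [r1, ← conj_pow, ih, ← pow_mul, pow_succ]
  rcases h.step (l := 5) (by decide) (by omega) (by simpa using h5) hr c1.1 hs (fun i a b => by
      interval_cases i
      · exact ⟨_, hp 0⟩
      · exact ⟨_, hp 1⟩
      · exact ⟨_, (hp 3).trans (by rw [show 2 ^ 3 = 5 + 3 by rfl, pow_add, c1.1, one_mul])⟩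
      · exact ⟨_, hp 2⟩) (fun hb => by
      obtain ⟨a, ha, b, hb', hab⟩ := Finset.one_lt_card.1 (by omega : 1 < (π y1).support.card)
      obtain ⟨c, d, f, -, -, -, hcd⟩ := Finset.card_eq_three.1
        (show ((π y1).support \ {a, b}).card = 3 by
          rw [Finset.card_sdiff_of_subset (Finset.insert_subset ha (Finset.singleton_subset_iff.2 hb')), hs,
            Finset.card_pair hab])
      have hm : ∀ z ∈ ({c, d, f} : Finset α), ({a, b, z} : Finset α).card = 3 := fun z hz => by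
        rw [← hcd] at hz
        simp only [Finset.mem_sdiff, Finset.mem_insert, Finset.mem_singleton, not_or] at hz
        exact Finset.card_eq_three.2 ⟨a, b, z, hab, Ne.symm hz.2.1, Ne.symm hz.2.2, rfl⟩
      refine ⟨{a, b, c}, hm c (by simp), ?_⟩
      have hle : (F π ρ {a, b, c} ⊓ F π ρ {a, b, d}) ⊓ F π ρ {a, b, f} ≤ (ρ y1).eigenspace 1 := by
        intro v hv
        have hA : Al (π y1).support ≤ (St ρ v).map π := h.St_Al (by omega) hab fun z hz h1 h2 => by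
          have : z ∈ ({c, d, f} : Finset α) := by rw [← hcd]; simp [h1, h2, mem_support.1 hz]
          simp only [Finset.mem_insert, Finset.mem_singleton] at this
          rcases this with rfl | rfl | rfl
          · exact ⟨_, hv.1.1, by simp, by simp, by simp⟩
          · exact ⟨_, hv.1.2, by simp, by simp, by simp⟩
          · exact ⟨_, hv.2, by simp, by simp, by simp⟩
        have := h.mem_can (N := St ρ v) (by decide)
          (cyc_of (by decide) (by rw [← map_pow, c1.1, map_one]) hs) hc c1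
          (hA ⟨h.even _, fun x hx => by simpa using hx⟩) (σ := J e pb')
          (hA (J_mem e sb' (by rw [hy1, J_supp]; exact Finset.map_subset_map.2 f14)))
          (by rw [hy1, ← map_inv, ← map_inv, ← map_mul, ← map_mul, f7])
        rw [End.mem_eigenspace_iff, one_smul]; exact this
      have a1 := Submodule.finrank_mono hle
      have a2 := Submodule.finrank_sup_add_finrank_inf_eq (F π ρ {a, b, c}) (F π ρ {a, b, d})
      have a3 := Submodule.finrank_sup_add_finrank_inf_eq (F π ρ {a, b, c} ⊓ F π ρ {a, b, d})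
        (F π ρ {a, b, f})
      have a4 := Submodule.finrank_le (F π ρ {a, b, c} ⊔ F π ρ {a, b, d})
      have a5 := Submodule.finrank_le ((F π ρ {a, b, c} ⊓ F π ρ {a, b, d}) ⊔ F π ρ {a, b, f})
      have a6 := h.F_dim (ρ := ρ) (by omega) ((hm c (by simp)).trans (hm d (by simp)).symm)
      have a7 := h.F_dim (ρ := ρ) (by omega) ((hm c (by simp)).trans (hm f (by simp)).symm)
      omega) with hB | ⟨ζ, hζ, b1, b2, hW, hk⟩
  · exact Or.inl hB
  refine Or.inr ⟨?_, _, _, by rw [Finset.card_compl, hs]; omega, b1, hW, hk⟩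
  have hy2X : π y2 ∈ Al (π y1).supportᶜ := by rw [hy1, hy2]; exact J_mem' e s2 f13
  obtain ⟨μ, hμ1, hμ, v, hv, hv0, hvμ⟩ := ex_eig_ne (ρ y2) _ (hW _ hy2X) (n := 5)
    (by rw [← map_pow, c2.1, map_one]) (by simpa using h5) (by
      by_contra hcc; push Not at hcc
      have := hk _ hy2X hcc
      rw [hy2, ← map_one (J e)] at this
      rw [J_inj e this] at f12; simp at f12)
  obtain ⟨j, rfl⟩ := root_val hζ hμ
  have hj : j ≠ 0 := by rintro rfl; simp at hμ1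
  let P : ZMod 5 × ZMod 5 → Prop := fun w =>
    ∃ v, v ≠ 0 ∧ ρ y1 v = ζ ^ w.1.val • v ∧ ρ y2 v = ζ ^ w.2.val • v
  have hz := hζ.pow_eq_one
  refine (orb5 j hj).trans ?_
  rw [← Fintype.card_coe, ← finrank_top k V]
  refine wt_card_sub (fun b : Bool => cond b (ρ y1) (ρ y2))
    (fun w b => cond b (ζ ^ w.1.1.val) (ζ ^ w.1.2.val)) ?_ ⊤ fun w => ?_
  · exact fun w w' e => Subtype.ext (Prod.ext
      (val_inj' hζ (congrFun e true)) (val_inj' hζ (congrFun e false)))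
  obtain ⟨u, hu0, u1, u2⟩ : P w.1 := orb_cl (P := P) (by
      intro f hf x ⟨u, hu0, u1, u2⟩
      simp only [List.mem_cons, List.not_mem_nil, or_false] at hf
      rcases hf with rfl | rfl | rfl
      · exact ⟨_, ρ_ne ga⁻¹ hu0, wt_conj hz r1 u1, wt_conj hz r2 u2⟩
      · exact ⟨_, ρ_ne gb⁻¹ hu0, wt_conj hz r3 u1, wt_conj hz r4 u2⟩
      · exact ⟨_, ρ_ne gc⁻¹ hu0, wt_conj hz r5 u2, wt_conj hz r6 u1⟩) 5 _ (by
      intro x hx
      rw [List.mem_singleton] at hx; subst hx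
      exact ⟨v, hv0, by rw [ZMod.val_one'' (by decide), pow_one]; exact End.mem_eigenspace_iff.1 hv,
        hvμ⟩) _ (List.mem_toFinset.1 w.2)
  exact ⟨u, trivial, hu0, fun b => by cases b; exacts [u2, u1]⟩

def t1 : Perm (Fin 9) := swap 0 1 * swap 0 2
def t2 : Perm (Fin 9) := swap 3 4 * swap 3 5
def t3 : Perm (Fin 9) := swap 6 7 * swap 6 8
def ta : Perm (Fin 9) := swap 0 6 * swap 0 3 * (swap 1 7 * swap 1 4) * (swap 2 8 * swap 2 5)
def tb : Perm (Fin 9) := swap 1 2 * swap 4 5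
def tb' : Perm (Fin 9) := swap 1 2 * swap 7 8
def tc : Perm (Fin 9) := swap 3 6 * swap 4 7 * swap 5 8 * swap 1 2

theorem three_facts : ta * t1 * ta⁻¹ = t2 ^ 1 ∧ ta * t2 * ta⁻¹ = t3 ^ 1 ∧ ta * t3 * ta⁻¹ = t1 ^ 1 ∧
    tb * t1 * tb⁻¹ = t1 ^ 2 ∧ tb * t2 * tb⁻¹ = t2 ^ 2 ∧ tb * t3 * tb⁻¹ = t3 ^ 1 ∧
    tc * t1 * tc⁻¹ = t1 ^ 2 ∧ tc * t2 * tc⁻¹ = t3 ^ 1 ∧ tc * t3 * tc⁻¹ = t2 ^ 1 ∧
    tb * t1 * tb⁻¹ = t1⁻¹ ∧ tb * t2 * tb⁻¹ = t2⁻¹ ∧ tb' * t3 * tb'⁻¹ = t3⁻¹ ∧
    t1 ^ 3 = 1 ∧ t2 ^ 3 = 1 ∧ t3 ^ 3 = 1 ∧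
    t1.support.card = 3 ∧ t2.support.card = 3 ∧ t3.support.card = 3 ∧
    _root_.Disjoint t2.support t1.support ∧ _root_.Disjoint t3.support t1.support ∧
    _root_.Disjoint t3.support t2.support := by decide +kernel

theorem orb3 : ∀ j i : ZMod 3, j ≠ 0 → 8 ≤ (orb [fun w : ZMod 3 × ZMod 3 × ZMod 3 =>
    (((1 : ℕ) : ZMod 3) * w.2.1, ((1 : ℕ) : ZMod 3) * w.2.2, ((1 : ℕ) : ZMod 3) * w.1),
    fun w => (((2 : ℕ) : ZMod 3) * w.1, ((2 : ℕ) : ZMod 3) * w.2.1, ((1 : ℕ) : ZMod 3) * w.2.2),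
    fun w => (((2 : ℕ) : ZMod 3) * w.1, ((1 : ℕ) : ZMod 3) * w.2.2, ((1 : ℕ) : ZMod 3) * w.2.1)]
      5 [(1, j, i)]).toFinset.card := by
  decide +kernel

theorem Cov.three [IsAlgClosed k] [FiniteDimensional k V] (h : Cov π ρ) (h3 : (3 : k) ≠ 0)
    (hr : 9 ≤ Fintype.card α) :
    Bd k (Fintype.card α) (finrank k V) ∨ (8 ≤ finrank k V ∧ ∃ (X : Finset α) (W : Submodule k V),
      X.card + 3 = Fintype.card α ∧ 2 * finrank k W ≤ finrank k V ∧
      (∀ g, π g ∈ Al X → ∀ v ∈ W, ρ g v ∈ W) ∧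
      (∀ g, π g ∈ Al X → (∀ v ∈ W, ρ g v = v) → π g = 1)) := by
  obtain ⟨e⟩ : Nonempty (Fin 9 ↪ α) := Function.Embedding.nonempty_of_card_le (by simpa using hr)
  obtain ⟨f1, f2, f3, f4, f5, f6, f7, f8, f9, f10, f11, f12, f13, f14, f15, f16, f17, f18, f19,
    f20, f21⟩ := three_facts
  have s1 : sign t1 = 1 := by simp [t1]
  have s2 : sign t2 = 1 := by simp [t2]
  have s3 : sign t3 = 1 := by simp [t3]
  have sb : sign tb = 1 := by simp [tb]
  obtain ⟨y1, hy1, c1⟩ := h.canJ (l := 3) (by decide) e s1 sb f10 f13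
  obtain ⟨y2, hy2, c2⟩ := h.canJ (l := 3) (by decide) e s2 sb f11 f14
  obtain ⟨y3, hy3, c3⟩ := h.canJ (l := 3) (by decide) e s3 (by simp [tb']) f12 f15
  obtain ⟨ga, hga⟩ := h.surj (J e ta) (by rw [J_sign]; simp [ta])
  obtain ⟨gb, hgb⟩ := h.surj (J e tb) (by rw [J_sign]; simp [tb])
  obtain ⟨gc, hgc⟩ := h.surj (J e tc) (by rw [J_sign]; simp [tc])
  have q : ∀ {σ σ' τ : Perm (Fin 9)} {y y' g : G}, π y = J e σ → Can 3 y → π y' = J e σ' →
      Can 3 y' → π g = J e τ → σ.support.card = 3 → ∀ {n : ℕ}, τ * σ * τ⁻¹ = σ' ^ n →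
      g * y * g⁻¹ = y' ^ n := fun a1 a2 a3 a4 a5 a6 _ a7 =>
    h.conjJ (by decide) (by decide) (by omega) a1 a2 a3 a4 a5 a6 a7
  have r1 := q hy1 c1 hy2 c2 hga f16 f1
  have r2 := q hy2 c2 hy3 c3 hga f17 f2
  have r3 := q hy3 c3 hy1 c1 hga f18 f3
  have r4 := q hy1 c1 hy1 c1 hgb f16 f4
  have r5 := q hy2 c2 hy2 c2 hgb f17 f5
  have r6 := q hy3 c3 hy3 c3 hgb f18 f6
  have r7 := q hy1 c1 hy1 c1 hgc f16 f7
  have r8 := q hy2 c2 hy3 c3 hgc f17 f8
  have r9 := q hy3 c3 hy2 c2 hgc f18 f9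
  have hs : (π y1).support.card = 3 := by rw [hy1, J_supp, Finset.card_map, f16]
  rcases h.step (l := 3) (by decide) (by omega) (by simpa using h3) (by omega) c1.1 hs
      (fun i a b => by
        interval_cases i
        · exact ⟨1, by simp⟩
        · exact ⟨_, r4⟩) (fun hb => ⟨(π y1).support, hs, by
      have hle : F π ρ (π y1).support ≤ (ρ y1).eigenspace 1 := by
        intro v hv
        rw [End.mem_eigenspace_iff, one_smul]
        refine hv y1 ⟨⟨e 0, e 1, e 2, e.injective.ne (by decide), e.injective.ne (by decide),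
          e.injective.ne (by decide), ?_⟩, c1⟩ ⟨h.even _, fun x hx => by simpa using hx⟩
        rw [hy1, t1, map_mul, J_swap, J_swap]
      have := Submodule.finrank_mono hle
      omega⟩) with hB | ⟨ζ, hζ, b1, b2, hW, hk⟩
  · exact Or.inl hB
  refine Or.inr ⟨?_, _, _, by rw [Finset.card_compl, hs]; omega, b1, hW, hk⟩
  have hy2X : π y2 ∈ Al (π y1).supportᶜ := by rw [hy1, hy2]; exact J_mem' e s2 f19
  have hy3X : π y3 ∈ Al (π y1).supportᶜ := by rw [hy1, hy3]; exact J_mem' e s3 f20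
  have c23 : y2 * y3 = y3 * y2 := h.comm (X := (π y2).supportᶜ)
    (by rw [Finset.card_compl, hy2, J_supp, Finset.card_map, f17]; omega)
    (fun x hx => by simpa using hx) (by rw [hy2, hy3]; exact J_mem' e s3 f21)
  obtain ⟨μ, hμ1, hμ, w, hw, hw0, hwμ⟩ := ex_eig_ne (ρ y2) _ (hW _ hy2X) (n := 3)
    (by rw [← map_pow, c2.1, map_one]) (by simpa using h3) (by
      by_contra hcc; push Not at hcc
      have := hk _ hy2X hcc
      rw [hy2, ← map_one (J e)] at this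
      rw [J_inj e this] at f17; simp at f17)
  obtain ⟨ν, v, hv, hv0, hvν⟩ := ex_eig (ρ y3) ((ρ y1).eigenspace ζ ⊓ (ρ y2).eigenspace μ)
    (fun e => hw0 (by
      have : w ∈ (ρ y1).eigenspace ζ ⊓ (ρ y2).eigenspace μ := ⟨hw, End.mem_eigenspace_iff.2 hwμ⟩
      rwa [e] at this))
    (fun v hv => ⟨hW _ hy3X v hv.1, End.mem_eigenspace_iff.2 (by
      rw [← End.mul_apply, ← map_mul, c23, map_mul, End.mul_apply,
        End.mem_eigenspace_iff.1 hv.2, map_smul])⟩)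
  obtain ⟨j, rfl⟩ := root_val hζ hμ
  obtain ⟨i, rfl⟩ := root_val hζ (eig_root hv0 hvν (n := 3) (by rw [← map_pow, c3.1, map_one]))
  have hj : j ≠ 0 := by rintro rfl; simp at hμ1
  let P : ZMod 3 × ZMod 3 × ZMod 3 → Prop := fun w =>
    ∃ v, v ≠ 0 ∧ ρ y1 v = ζ ^ w.1.val • v ∧ ρ y2 v = ζ ^ w.2.1.val • v ∧ ρ y3 v = ζ ^ w.2.2.val • v
  have hz := hζ.pow_eq_one
  refine (orb3 j i hj).trans ?_
  rw [← Fintype.card_coe, ← finrank_top k V]
  refine wt_card_sub ![ρ y1, ρ y2, ρ y3]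
    (fun w => ![ζ ^ w.1.1.val, ζ ^ w.1.2.1.val, ζ ^ w.1.2.2.val]) ?_ ⊤ fun w => ?_
  · exact fun w w' e => Subtype.ext
      (Prod.ext (val_inj' hζ (congrFun e 0)) (Prod.ext (val_inj' hζ (congrFun e 1))
        (val_inj' hζ (congrFun e 2))))
  obtain ⟨u, hu0, u1, u2, u3⟩ : P w.1 := orb_cl (P := P) (by
      intro f hf x ⟨u, hu0, u1, u2, u3⟩
      simp only [List.mem_cons, List.not_mem_nil, or_false] at hf
      rcases hf with rfl | rfl | rfl
      · exact ⟨_, ρ_ne ga⁻¹ hu0, wt_conj hz r1 u2, wt_conj hz r2 u3, wt_conj hz r3 u1⟩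
      · exact ⟨_, ρ_ne gb⁻¹ hu0, wt_conj hz r4 u1, wt_conj hz r5 u2, wt_conj hz r6 u3⟩
      · exact ⟨_, ρ_ne gc⁻¹ hu0, wt_conj hz r7 u1, wt_conj hz r8 u3, wt_conj hz r9 u2⟩) 5 _ (by
      intro x hx
      rw [List.mem_singleton] at hx; subst hx
      exact ⟨v, hv0, by rw [ZMod.val_one'' (by decide), pow_one]; exact End.mem_eigenspace_iff.1 hv.1,
        End.mem_eigenspace_iff.1 hv.2, hvν⟩) _ (List.mem_toFinset.1 w.2)
  exact ⟨u, trivial, hu0, fun b => by fin_cases b; exacts [u1, u2, u3]⟩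

theorem Cov.main [IsAlgClosed k] [FiniteDimensional k V] (h : Cov π ρ) (hr : 9 ≤ Fintype.card α)
    (ih : ∀ (X : Finset α) (W : Submodule k V), 9 ≤ X.card → finrank k W < finrank k V →
      (∀ g, π g ∈ Al X → ∀ v ∈ W, ρ g v ∈ W) →
      (∀ g, π g ∈ Al X → (∀ v ∈ W, ρ g v = v) → π g = 1) → X.card ≤ finrank k W + 2) :
    Bd k (Fintype.card α) (finrank k V) := by
  by_cases h5 : (5 : k) = 0
  · have h3 : (3 : k) ≠ 0 := fun e => by
      have : (1 : k) = 2 * 3 - 5 := by norm_num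
      rw [e, h5] at this; simp at this
    have h2 : (2 : k) ≠ 0 := fun e => by
      have : (1 : k) = 5 - 2 * 2 := by norm_num
      rw [e, h5] at this; simp at this
    rcases h.three h3 hr with hB | ⟨h8, X, W, hX, hd, hW, hk⟩
    · exact hB
    by_cases c1 : 12 ≤ Fintype.card α
    · have := ih X W (by omega) (by omega) hW hk
      exact ⟨by omega, fun e => by omega⟩
    by_cases c2 : Fintype.card α = 11
    · have := h.seven h2 (by omega) W hW hk
      exact ⟨by omega, fun e => by omega⟩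
    refine ⟨by omega, fun e => ?_⟩
    rw [show Fintype.card α = 10 by omega]
    have : ((10 : ℕ) : k) = 2 * 5 := by norm_num
    rw [this, h5, mul_zero]
  by_cases c0 : 10 ≤ Fintype.card α
  · rcases h.five h5 c0 with hB | ⟨h16, X, W, hX, hd, hW, hk⟩
    · exact hB
    by_cases c1 : 14 ≤ Fintype.card α
    · have := ih X W (by omega) (by omega) hW hk
      exact ⟨by omega, fun e => by omega⟩
    exact ⟨by omega, fun e => by omega⟩
  by_cases h3 : (3 : k) = 0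
  · have h2 : (2 : k) ≠ 0 := fun e => by
      have : (1 : k) = 3 - 2 := by norm_num
      rw [e, h3] at this; simp at this
    have := h.seven h2 (X := Finset.univ) (by simp; omega) ⊤ (fun _ _ _ _ => trivial)
      (fun g _ hg => h.ker g (LinearMap.ext fun v => hg v trivial))
    rw [finrank_top] at this
    refine ⟨by omega, fun e => ?_⟩
    rw [show Fintype.card α = 9 by omega]
    have : ((9 : ℕ) : k) = 3 * 3 := by norm_num
    rw [this, h3, mul_zero]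
  rcases h.three h3 hr with hB | ⟨h8, -⟩
  · exact hB
  exact ⟨by omega, fun e => by omega⟩

end H23.Wag
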