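import Cfsg.Agent.H23.Wag5

set_option autoImplicit false

namespace H23.Wag

open Equiv Equiv.Perm Module

universe u

section aux
variable {α : Type} [Fintype α] [DecidableEq α] {G : Type*} [Group G] {π : G →* Perm α}

theorem fact_le {H : Type*} [Monoid H] [Finite H] (h2 : 2 ≤ Fintype.card α)
    (surj : ∀ σ, sign σ = 1 → ∃ g, π g = σ) (τ : G →* H) (hτ : ∀ g, τ g = 1 → π g = 1) :
    (Fintype.card α).factorial ≤ 2 * Nat.card H := by
  haveI : Nontrivial α := Fintype.one_lt_card_iff_nontrivial.1 h2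
  choose s hs using fun σ : alternatingGroup α => surj σ.1 (mem_alternatingGroup.1 σ.2)
  have := Nat.card_le_card_of_injective (fun σ => τ (s σ)) (fun a b e => by
    have := hτ ((s a)⁻¹ * s b) (by
      simp only at e
      rw [map_mul, ← e, ← map_mul, inv_mul_cancel, map_one])
    rw [map_mul, map_inv, hs, hs, inv_mul_eq_one] at this
    exact Subtype.ext this)
  rw [← Fintype.card_perm, ← Nat.card_eq_fintype_card, ← two_mul_nat_card_alternatingGroup]
  omega

theorem norm_dich (h5 : 5 ≤ Fintype.card α) (even : ∀ g, sign (π g) = 1)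
    (surj : ∀ σ, sign σ = 1 → ∃ g, π g = σ) (N : Subgroup G) [hN : N.Normal] :
    (∀ g ∈ N, π g = 1) ∨ ∀ σ, sign σ = 1 → ∃ g ∈ N, π g = σ := by
  let π' : G →* alternatingGroup α := π.codRestrict _ fun g => mem_alternatingGroup.2 (even g)
  have hs : Function.Surjective π' := fun σ => by
    obtain ⟨g, hg⟩ := surj σ.1 (mem_alternatingGroup.1 σ.2)
    exact ⟨g, Subtype.ext hg⟩
  haveI := hN.map π' hs
  rcases alternatingGroup.normal_subgroup_eq_bot_or_eq_top (N := N.map π') (by simpa using h5)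
    with h | h
  · left
    intro g hg
    have : π' g ∈ N.map π' := ⟨g, hg, rfl⟩
    rw [h, Subgroup.mem_bot] at this
    exact congrArg Subtype.val this
  · right
    intro σ hσ
    obtain ⟨g, hg, e⟩ : (⟨σ, mem_alternatingGroup.2 hσ⟩ : alternatingGroup α) ∈ N.map π' := by
      rw [h]; trivial
    exact ⟨g, hg, congrArg Subtype.val e⟩

theorem ex_comm (h5 : 5 ≤ Fintype.card α) (surj : ∀ σ, sign σ = 1 → ∃ g, π g = σ) :
    ∃ s t : G, π (s * t * s⁻¹ * t⁻¹) ≠ 1 := by
  obtain ⟨a, b, c, hab, hac, hbc⟩ := Fintype.two_lt_card_iff.1 (by omega : 2 < Fintype.card α)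
  obtain ⟨s, hs, hi⟩ := inv3 (X := Finset.univ) (by simpa using h5) (Finset.mem_univ b)
    (Finset.mem_univ c) hab hac hbc
  obtain ⟨s', rfl⟩ := surj s hs.1
  obtain ⟨g, hg⟩ := surj (swap a b * swap a c) (by simp [hab, hac])
  refine ⟨s', g, fun e => ?_⟩
  simp only [map_mul, map_inv, hg, hi] at e
  have h3 := sw3_cube hab hac hbc
  rw [← mul_inv_rev, inv_eq_one] at e
  rw [pow_three, e, mul_one] at h3
  exact (isThreeCycle_swap_mul_swap_same hab hac hbc).ne_one h3

/-- a `ZMod l`-representation from additive maps -/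
def mkRep (l : ℕ) {M : Type*} [AddCommGroup M] [Module (ZMod l) M] (f : G → M →+ M)
    (h1 : ∀ x, f 1 x = x) (hm : ∀ g h x, f (g * h) x = f g (f h x)) : G →* End (ZMod l) M where
  toFun g := (f g).toZModLinearMap l
  map_one' := LinearMap.ext h1
  map_mul' g h := LinearMap.ext (hm g h)

theorem add_rep (l : ℕ) [Fact l.Prime] {M : Type*} [AddCommGroup M] [Module (ZMod l) M] [Finite M]
    (f : G → M →+ M) (h1 : ∀ x, f 1 x = x) (hm : ∀ g h x, f (g * h) x = f g (f h x)) :
    ∃ d : ℕ, ∃ τ : G →* Matrix (Fin d) (Fin d) (ZMod l),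
      l ^ d = Nat.card M ∧ ∀ g, τ g = 1 → ∀ x, f g x = x := by
  haveI : Module.Finite (ZMod l) M := Module.Finite.of_finite
  let b := Module.finBasis (ZMod l) M
  refine ⟨_, (LinearMap.toMatrixAlgEquiv b).toMonoidHom.comp (mkRep l f h1 hm), ?_,
    fun g hg a => ?_⟩
  · have := Module.natCard_eq_pow_finrank (K := ZMod l) (V := M)
    rw [Nat.card_zmod] at this
    exact this.symm
  · have h1 : mkRep l f h1 hm g = 1 :=
      (LinearMap.toMatrixAlgEquiv b).injective (by rw [map_one]; exact hg)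
    exact LinearMap.congr_fun h1 a

theorem comm_rep {Q : Type*} [CommGroup Q] [Finite Q] (l : ℕ) [Fact l.Prime]
    (hexp : ∀ x : Q, x ^ l = 1) (f : G → Q →* Q) (h1 : ∀ x, f 1 x = x)
    (hm : ∀ g h x, f (g * h) x = f g (f h x)) :
    ∃ d : ℕ, ∃ τ : G →* Matrix (Fin d) (Fin d) (ZMod l),
      l ^ d = Nat.card Q ∧ ∀ g, τ g = 1 → ∀ x, f g x = x :=
  @add_rep G _ l _ (Additive Q) _ (AddCommGroup.zmodModule (n := l) (G := Additive Q) hexp) _
    (fun g => MonoidHom.toAdditive (f g)) h1 hm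

theorem quot_rep [Finite G] (A : Subgroup G) [hA : A.Normal]
    (hc : ∀ a ∈ A, ∀ b ∈ A, a * b * a⁻¹ * b⁻¹ ∈ Subgroup.center G) (l : ℕ) [Fact l.Prime]
    (hl : ∀ a ∈ A, a ^ l ∈ Subgroup.center G) :
    ∃ d : ℕ, ∃ τ : G →* Matrix (Fin d) (Fin d) (ZMod l),
      l ^ d = Nat.card (A ⧸ (Subgroup.center G).subgroupOf A) ∧
      ∀ g, τ g = 1 → ∀ a ∈ A, g * a * g⁻¹ * a⁻¹ ∈ Subgroup.center G := by
  set Zs := (Subgroup.center G).subgroupOf A with hZs
  have hcomm : ∀ x y : A ⧸ Zs, x * y = y * x := by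
    intro x y
    induction x using QuotientGroup.induction_on with | _ a => ?_
    induction y using QuotientGroup.induction_on with | _ b => ?_
    change ((a * b : A) : A ⧸ Zs) = ((b * a : A) : A ⧸ Zs)
    rw [QuotientGroup.eq, Subgroup.mem_subgroupOf]
    have := hc _ (A.inv_mem b.2) _ (A.inv_mem a.2)
    simpa [mul_assoc] using this
  letI : CommGroup (A ⧸ Zs) := { QuotientGroup.Quotient.group Zs with mul_comm := hcomm }
  let act : G → (A ⧸ Zs) →* (A ⧸ Zs) := fun g =>
    QuotientGroup.map Zs Zs (MulAut.conjNormal g).toMonoidHom fun a ha => by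
      rw [Subgroup.mem_comap, Subgroup.mem_subgroupOf]
      exact (inferInstance : (Subgroup.center G).Normal).conj_mem _ ha g
  have hact : ∀ g (a : A), act g a = (MulAut.conjNormal g a : A) := fun g a => rfl
  obtain ⟨d, τ, h1, h2⟩ := comm_rep (Q := A ⧸ Zs) l (fun x => by
      induction x using QuotientGroup.induction_on with | _ a => ?_
      rw [← QuotientGroup.mk_pow, QuotientGroup.eq_one_iff, Subgroup.mem_subgroupOf]
      exact hl _ a.2) act
    (fun x => by
      induction x using QuotientGroup.induction_on with | _ a => ?_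
      rw [hact]; simp)
    (fun g g' x => by
      induction x using QuotientGroup.induction_on with | _ a => ?_
      rw [hact, hact, hact]; simp)
  refine ⟨d, τ, h1, fun g hg a ha => ?_⟩
  have h3 := h2 g hg (⟨a⁻¹, A.inv_mem ha⟩ : A)
  rw [hact, QuotientGroup.eq, Subgroup.mem_subgroupOf] at h3
  simpa [mul_assoc] using h3

end aux

/-- the statement in dimension `n` -/
def PP (n : ℕ) : Prop := ∀ (k : Type) [Field k] [IsAlgClosed k] (V : Type) [AddCommGroup V]
  [Module k V] [FiniteDimensional k V], finrank k V = n → ∀ (α : Type) [Fintype α] [DecidableEq α],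
  9 ≤ Fintype.card α → ∀ (G : Type u) [Group G] [Finite G] (ρ : G →* End k V) (π : G →* Perm α),
  (∀ g, sign (π g) = 1) → (∀ σ, sign σ = 1 → ∃ g, π g = σ) → (∀ g, ρ g = 1 → π g = 1) →
  Bd k (Fintype.card α) n

theorem PP.mat {n : ℕ} (h : PP.{u} n) {K : Type*} [Field K] {k : Type} [Field k] [IsAlgClosed k]
    (f : K →+* k) {α : Type} [Fintype α] [DecidableEq α] (h9 : 9 ≤ Fintype.card α) {G : Type u}
    [Group G] [Finite G] (ρ : G →* Matrix (Fin n) (Fin n) K) (π : G →* Perm α)
    (h1 : ∀ g, sign (π g) = 1) (h2 : ∀ σ, sign σ = 1 → ∃ g, π g = σ)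
    (h3 : ∀ g, ρ g = 1 → π g = 1) : Bd k (Fintype.card α) n := by
  refine h k (Fin n → k) (by simp) α h9 G
    ((Matrix.toLinAlgEquiv' (R := k) (n := Fin n)).toMonoidHom.comp
      ((f.mapMatrix (m := Fin n)).toMonoidHom.comp ρ)) π h1 h2 fun g hg => h3 g ?_
  have a1 : f.mapMatrix (ρ g) = 1 :=
    (Matrix.toLinAlgEquiv' (R := k) (n := Fin n)).injective (by rw [map_one]; exact hg)
  exact Matrix.map_injective f.injective (a1.trans (map_one f.mapMatrix).symm)

section red
variable {α : Type} [Fintype α] [DecidableEq α] {G : Type u} [Group G] [Finite G] {π : G →* Perm α}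
variable {k V : Type} [Field k] [IsAlgClosed k] [AddCommGroup V] [Module k V]
  [FiniteDimensional k V] {ρ : G →* End k V}

/-- restriction to an invariant subspace -/
def resW {G : Type*} [Group G] (ρ : G →* End k V) (W : Submodule k V)
    (hW : ∀ g, ∀ v ∈ W, ρ g v ∈ W) : G →* End k W where
  toFun g := (ρ g).restrict (hW g)
  map_one' := by ext x; simp
  map_mul' a b := by ext x; simp

/-- action on the quotient -/
def quoW {G : Type*} [Group G] (ρ : G →* End k V) (W : Submodule k V)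
    (hW : ∀ g, ∀ v ∈ W, ρ g v ∈ W) : G →* End k (V ⧸ W) where
  toFun g := W.mapQ W (ρ g) (hW g)
  map_one' := by ext x; simp
  map_mul' a b := by ext x; simp

omit [Finite G] in
theorem schur (irr : ∀ W : Submodule k V, (∀ g, ∀ v ∈ W, ρ g v ∈ W) → W = ⊥ ∨ W = ⊤) {z : G}
    (hz : ∀ g, g * z = z * g) : ∃ c : k, ∀ v, ρ z v = c • v := by
  by_cases h0 : (⊤ : Submodule k V) = ⊥
  · exact ⟨0, fun v => by
      have : ∀ w : V, w = 0 := fun w => (Submodule.eq_bot_iff _).1 h0 w trivial
      rw [this (ρ z v), zero_smul]⟩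
  obtain ⟨μ, v, -, hv0, hv⟩ := ex_eig (ρ z) ⊤ h0 fun _ _ => trivial
  rcases irr ((ρ z).eigenspace μ) (fun g w hw => End.mem_eigenspace_iff.2 (by
    rw [← End.mul_apply, ← map_mul, ← hz, map_mul, End.mul_apply, End.mem_eigenspace_iff.1 hw,
      map_smul])) with h | h
  · exact absurd ((Submodule.eq_bot_iff _).1 h v (End.mem_eigenspace_iff.2 hv)) hv0
  · exact ⟨μ, fun w => End.mem_eigenspace_iff.1 (h ▸ Submodule.mem_top)⟩

theorem sub_case (ih : ∀ m < finrank k V, PP.{u} m) (h : Cv π) (X : Finset α) (W : Submodule k V)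
    (h9 : 9 ≤ X.card) (hlt : finrank k W < finrank k V)
    (hW : ∀ g, π g ∈ Al X → ∀ v ∈ W, ρ g v ∈ W)
    (hk : ∀ g, π g ∈ Al X → (∀ v ∈ W, ρ g v = v) → π g = 1) : X.card ≤ finrank k W + 2 := by
  let L := (Al X).comap π
  let π' : L →* Perm X :=
    { toFun := fun g => (π g).subtypePerm fun x => Al.maps g.2 x
      map_one' := by ext x; simp
      map_mul' := fun a b => Equiv.ext fun x => Subtype.ext (by
        change π (a * b) x = π a (π b x); rw [map_mul]; rfl) }
  have hπ' : ∀ g : L, ofSubtype (π' g) = π g := fun g =>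
    ofSubtype_subtypePerm (fun x => Al.maps g.2 x) fun x hx => by by_contra hn; exact hx (g.2.2 x hn)
  have := (ih _ hlt k W rfl X (by simpa using h9) L
    (resW (ρ.comp L.subtype) W fun g => hW g g.2) π'
    (fun g => by rw [← sign_ofSubtype, hπ']; exact h.even _)
    (fun σ hσ => by
      obtain ⟨g, hg⟩ := h.surj _ (Al.ofSub σ hσ).1
      refine ⟨⟨g, by rw [Subgroup.mem_comap, hg]; exact Al.ofSub σ hσ⟩, ?_⟩
      apply ofSubtype_injective
      rw [hπ']; exact hg)
    (fun g hg => by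
      apply ofSubtype_injective
      rw [hπ', map_one]
      exact hk g g.2 fun v hv => congrArg Subtype.val (LinearMap.congr_fun hg ⟨v, hv⟩))).1
  simpa using this

theorem ab_case (h9 : 9 ≤ Fintype.card α) (surj : ∀ σ, sign σ = 1 → ∃ g, π g = σ)
    (hN : ∀ N : Subgroup G, N.Normal → (∀ g ∈ N, π g = 1) ∨ N = ⊤) (inj : Function.Injective ρ)
    (irr : ∀ W : Submodule k V, (∀ g, ∀ v ∈ W, ρ g v ∈ W) → W = ⊥ ∨ W = ⊤)
    (A : Subgroup G) [hA : A.Normal] (hab : ∀ a ∈ A, ∀ b ∈ A, a * b = b * a)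
    (hnc : ¬ A ≤ Subgroup.center G) : Fintype.card α ≤ finrank k V := by
  have h0 : (⊤ : Submodule k V) ≠ ⊥ := fun h0 => hnc fun a _ => by
    have : ∀ w : V, w = 0 := fun w => (Submodule.eq_bot_iff _).1 h0 w trivial
    rw [inj (show ρ a = ρ 1 from LinearMap.ext fun v => by rw [this (ρ a v), this (ρ 1 v)])]
    exact Subgroup.one_mem _
  obtain ⟨v, -, hv0, χ0, hχ0⟩ := ex_joint (fun a : A => ρ a)
    (fun a b => by rw [← map_mul, hab _ a.2 _ b.2, map_mul]) ⊤ h0 fun _ _ _ => trivial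
  classical
  let χ : G → k := fun x => if h : x ∈ A then χ0 ⟨x, h⟩ else 0
  have hχ : ∀ a ∈ A, ρ a v = χ a • v := fun a ha => by simp only [χ, dif_pos ha]; exact hχ0 ⟨a, ha⟩
  have hcj : ∀ a ∈ A, ∀ g, g⁻¹ * a * g ∈ A := fun a ha g => by simpa using hA.conj_mem a ha g⁻¹
  let S : Subgroup G :=
    { carrier := {g | ∀ a ∈ A, χ (g⁻¹ * a * g) = χ a}
      one_mem' := by simp
      mul_mem' := by
        intro x y hx hy a ha
        rw [← hx a ha, ← hy _ (hcj a ha x)]; congr 1; group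
      inv_mem' := by
        intro x hx a ha
        rw [← hx _ (hcj a ha x⁻¹)]; congr 1; group }
  have hmv : ∀ g, ∀ a ∈ A, ∀ w, (∀ a ∈ A, ρ a w = χ a • w) →
      ρ a (ρ g w) = χ (g⁻¹ * a * g) • ρ g w := fun g a ha w hw => by
    rw [← map_smul, ← hw _ (hcj a ha g), ← End.mul_apply, ← End.mul_apply, ← map_mul, ← map_mul]
    congr 2; group
  have hS : S ≠ ⊤ := by
    intro hS
    let W : Submodule k V :=
      { carrier := {w | ∀ a ∈ A, ρ a w = χ a • w}
        zero_mem' := by simp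
        add_mem' := fun h1 h2 a ha => by rw [map_add, h1 a ha, h2 a ha, smul_add]
        smul_mem' := fun c w h1 a ha => by rw [map_smul, h1 a ha, smul_comm] }
    rcases irr W (fun g w hw a ha => by
      rw [hmv g a ha w hw, (show g ∈ S from hS ▸ Subgroup.mem_top g) a ha]) with h | h
    · exact hv0 ((Submodule.eq_bot_iff _).1 h v hχ)
    · refine hnc fun a ha => Subgroup.mem_center_iff.2 fun g => inj (LinearMap.ext fun w => ?_)
      have hw : ∀ w, ρ a w = χ a • w := fun w => (show w ∈ W from h ▸ Submodule.mem_top) a ha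
      rw [map_mul, map_mul, End.mul_apply, End.mul_apply, hw, hw, map_smul]
  have hi := (wt_card (ι := G ⧸ S) (fun a : A => ρ a) (fun q a => χ (q.out⁻¹ * a * q.out))
    (fun q q' e => by
      rw [← q.out_eq', ← q'.out_eq', QuotientGroup.eq]
      intro a ha
      have := congrFun e ⟨_, hA.conj_mem a ha q.out⟩
      simp only at this
      rw [show q.out⁻¹ * (q.out * a * q.out⁻¹) * q.out = a by group] at this
      rw [this]; congr 1; group)
    (fun q => ⟨ρ q.out v, ρ_ne _ hv0, fun a => hmv _ _ a.2 v hχ⟩)).2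
  have hf := fact_le (by omega) surj (MulAction.toPermHom G (G ⧸ S)) fun g hg =>
    ((hN S.normalCore inferInstance).resolve_right fun e => hS (top_le_iff.1
      (e ▸ S.normalCore_le))) g (by rw [S.normalCore_eq_ker]; exact hg)
  rw [Nat.card_perm] at hf
  by_contra hc
  obtain ⟨m, hm⟩ : ∃ m, Fintype.card α = m + 1 := ⟨Fintype.card α - 1, by omega⟩
  have := Nat.factorial_le (show Nat.card (G ⧸ S) ≤ m by omega)
  rw [hm, Nat.factorial_succ] at hf
  have := Nat.factorial_pos m
  nlinarith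

theorem nab_case (ih : ∀ m < finrank k V, PP.{u} m) (h9 : 9 ≤ Fintype.card α)
    (even : ∀ g, sign (π g) = 1) (surj : ∀ σ, sign σ = 1 → ∃ g, π g = σ)
    (hN : ∀ N : Subgroup G, N.Normal → (∀ g ∈ N, π g = 1) ∨ N = ⊤) (inj : Function.Injective ρ)
    (irr : ∀ W : Submodule k V, (∀ g, ∀ v ∈ W, ρ g v ∈ W) → W = ⊥ ∨ W = ⊤)
    (A : Subgroup G) [hA : A.Normal]
    (hc : ∀ a ∈ A, ∀ b ∈ A, a * b * a⁻¹ * b⁻¹ ∈ Subgroup.center G)
    (hZ : ∀ a ∈ A, (∀ b ∈ A, a * b = b * a) → a ∈ Subgroup.center G)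
    (l : ℕ) [hl : Fact l.Prime] (hp : ∀ a ∈ A, a ^ l ∈ Subgroup.center G)
    (hnc : ¬ A ≤ Subgroup.center G) : Fintype.card α ≤ finrank k V + 1 := by
  obtain ⟨d, τ, hd, hτ⟩ := quot_rep A hc l hp
  have hper : commutator G = ⊤ := (hN _ inferInstance).resolve_left fun hh => by
    obtain ⟨s, t, hst⟩ := ex_comm (by omega) surj
    exact hst (hh _ (Subgroup.commutator_mem_commutator (Subgroup.mem_top s) (Subgroup.mem_top t)))
  have hker : ∀ g, τ g = 1 → π g = 1 := by
    refine fun g hg => ((hN τ.ker inferInstance).resolve_right fun e => hnc ?_) g hg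
    have h1 : ⁅(⊤ : Subgroup G), A⁆ ≤ Subgroup.center G := Subgroup.commutator_le.2 fun g _ a ha =>
      hτ g (show g ∈ τ.ker from e ▸ Subgroup.mem_top g) a ha
    have h2 : ⁅⁅(⊤ : Subgroup G), A⁆, (⊤ : Subgroup G)⁆ = ⊥ := by
      rw [Subgroup.commutator_eq_bot_iff_le_centralizer]
      exact h1.trans (Subgroup.center_le_centralizer _)
    have h3 := Subgroup.commutator_commutator_eq_bot_of_rotate (H₁ := ⊤) (H₂ := ⊤) (H₃ := A) h2
      (by rw [Subgroup.commutator_comm A]; exact h2)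
    rw [← commutator_def, hper, Subgroup.commutator_comm,
      Subgroup.commutator_eq_bot_iff_le_centralizer] at h3
    rwa [Subgroup.coe_top, Subgroup.centralizer_univ] at h3
  have hsc : ∀ e : A, ∀ a : A, ∃ c : k, ∀ v, ρ (e * a * (e : G)⁻¹ * (a : G)⁻¹) v = c • v :=
    fun e a => schur irr fun g => Subgroup.mem_center_iff.1 (hc _ e.2 _ a.2) g
  choose c hcc using hsc
  have hi := (wt_card (V := End k V) (ι := A ⧸ (Subgroup.center G).subgroupOf A)
    (fun e : A => (LinearMap.mulLeft k (ρ e)).comp (LinearMap.mulRight k (ρ (e : G)⁻¹)))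
    (fun q e => c e q.out)
    (fun q q' h => by
      rw [← q.out_eq', ← q'.out_eq', QuotientGroup.eq, Subgroup.mem_subgroupOf]
      refine hZ _ (Subtype.mem _) fun b hb => ?_
      have e1 : b * q.out * b⁻¹ * (q.out : G)⁻¹ = b * q'.out * b⁻¹ * (q'.out : G)⁻¹ :=
        inj (LinearMap.ext fun v => by
          rw [hcc ⟨b, hb⟩, hcc ⟨b, hb⟩]; exact congrArg (· • v) (congrFun h ⟨b, hb⟩))
      have e2 := Subgroup.mem_center_iff.1 (hc _ hb _ q.out.2)
      simp only [Subgroup.coe_mul, Subgroup.coe_inv]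
      generalize (q.out : G) = x at e1 e2 ⊢
      generalize (q'.out : G) = y at e1 ⊢
      have e3 : b * y = (b * x * b⁻¹ * x⁻¹) * y * b := by rw [e1]; group
      have e4 : b * x⁻¹ = (b * x * b⁻¹ * x⁻¹)⁻¹ * x⁻¹ * b := by
        rw [mul_assoc, inv_mul_eq_iff_eq_mul.2 (show x⁻¹ * b = _ from ?_)]
        rw [← e2]
        calc x⁻¹ * b = x⁻¹ * (b * x * b⁻¹ * x⁻¹) * x * (b * x⁻¹) * x * x⁻¹ := by group
          _ = (b * x * b⁻¹ * x⁻¹) * (b * x⁻¹) := by rw [e2 x⁻¹]; group
          _ = _ := by rw [e2]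
      calc x⁻¹ * y * b = x⁻¹ * (b * x * b⁻¹ * x⁻¹)⁻¹ * (b * y) := by rw [e3]; group
        _ = (b * x * b⁻¹ * x⁻¹)⁻¹ * x⁻¹ * b * y := by
          rw [← mul_inv_rev, ← e2 x]; group
        _ = _ := by rw [← e4]; group)
    (fun q => ⟨ρ q.out, fun e => hnc fun a _ => by
        have : ∀ w : V, w = 0 := fun w => by rw [← ρ_cancel (ρ := ρ) (q.out : G) w, e]; rfl
        rw [inj (show ρ a = ρ 1 from LinearMap.ext fun v => by rw [this (ρ a v), this (ρ 1 v)])]
        exact Subgroup.one_mem _, fun e => LinearMap.ext fun v => by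
        simp only [LinearMap.comp_apply, LinearMap.mulLeft_apply, LinearMap.mulRight_apply,
          LinearMap.smul_apply]
        rw [← hcc, ← map_mul, ← map_mul, ← End.mul_apply, ← map_mul]; congr 2; group⟩)).2
  rw [← hd, Module.finrank_linearMap] at hi
  have h2 : 2 ^ d ≤ l ^ d := Nat.pow_le_pow_left hl.out.two_le d
  obtain ⟨r, hr⟩ : ∃ r, r = Fintype.card α := ⟨_, rfl⟩
  obtain ⟨n, hn⟩ : ∃ n, n = finrank k V := ⟨_, rfl⟩
  rw [← hn] at hi ih ⊢
  by_cases hdn : d < n
  · have h3 := ((ih d hdn).mat (algebraMap (ZMod l) (AlgebraicClosure (ZMod l))) h9 τ π even surj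
      hker).1
    rw [← hr] at h3 h9 ⊢
    have h4 : 2 ^ (r - 2) ≤ 2 ^ d := Nat.pow_le_pow_right (by omega) (by omega)
    have h5 : ∀ m, 7 ≤ m → (m + 1) * (m + 1) ≤ 2 ^ m := fun m hm => by
      induction m, hm using Nat.le_induction with
      | base => norm_num
      | succ m hm ih => rw [pow_succ]; nlinarith
    have h6 := h5 (r - 2) (by omega)
    have h7 : r - 2 + 1 ≤ n := Nat.mul_self_le_mul_self_iff.1 (by omega)
    omega
  · exfalso
    have h3 : 2 ^ n ≤ 2 ^ d := Nat.pow_le_pow_right (by omega) (by omega)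
    have h5 : ∀ m, 5 ≤ m → m * m < 2 ^ m := fun m hm => by
      induction m, hm using Nat.le_induction with
      | base => norm_num
      | succ m hm ih => rw [pow_succ]; nlinarith
    have h6 : n ≤ 4 := by by_contra hh; have := h5 n (by omega); omega
    have h7 : l ^ d ≤ 16 := hi.trans (Nat.mul_le_mul h6 h6)
    have h8 : d ≤ 4 := by
      by_contra hh
      have : 2 ^ 5 ≤ 2 ^ d := Nat.pow_le_pow_right (by omega) (by omega)
      omega
    have hf := fact_le (by omega) surj τ hker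
    have e : Nat.card (Matrix (Fin d) (Fin d) (ZMod l)) = (l ^ d) ^ d := by
      change Nat.card (Fin d → Fin d → ZMod l) = _
      rw [Nat.card_fun, Nat.card_fun]; simp
    have h10 : (l ^ d) ^ d ≤ 16 ^ 4 :=
      (Nat.pow_le_pow_left h7 d).trans (Nat.pow_le_pow_right (by omega) h8)
    have h11 := Nat.factorial_le h9
    rw [e] at hf
    norm_num [Nat.factorial] at h11 h10
    omega

end red

theorem pp (n : ℕ) : PP.{u} n := by
  induction n using Nat.strong_induction_on with | _ n ih => ?_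
  intro k _ _ V _ _ _ hn α _ _ h9 G
  subst hn
  suffices H : ∀ m, ∀ (G : Type u) [Group G] [Finite G], Nat.card G = m →
      ∀ (ρ : G →* End k V) (π : G →* Perm α), (∀ g, sign (π g) = 1) →
      (∀ σ, sign σ = 1 → ∃ g, π g = σ) → (∀ g, ρ g = 1 → π g = 1) →
      Bd k (Fintype.card α) (finrank k V) from fun _ _ => H _ G rfl
  intro m
  induction m using Nat.strong_induction_on with | _ m ih2 => ?_
  intro G _ _ hm ρ π even surj hker
  subst hm
  by_cases M1 : ∃ H : Subgroup G, H ≠ ⊤ ∧ ∀ σ, sign σ = 1 → ∃ g ∈ H, π g = σ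
  · obtain ⟨H, hH, hs⟩ := M1
    exact ih2 _ ((Subgroup.card_le_card_group H).lt_of_ne fun e => hH
      (Subgroup.eq_top_of_card_eq H e)) H rfl (ρ.comp H.subtype) (π.comp H.subtype)
      (fun g => even g) (fun σ hσ => by obtain ⟨g, hg, e⟩ := hs σ hσ; exact ⟨⟨g, hg⟩, e⟩)
      (fun g => hker g)
  by_cases inj : ¬ Function.Injective ρ
  · refine ih2 _ ?_ (G ⧸ ρ.ker) rfl (QuotientGroup.lift _ ρ fun _ h => h)
      (QuotientGroup.lift _ π fun g h => hker g h) (fun g => ?_) (fun σ hσ => ?_) (fun g => ?_)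
    · rw [Subgroup.card_eq_card_quotient_mul_card_subgroup ρ.ker]
      have := (Subgroup.one_lt_card_iff_ne_bot ρ.ker).2 fun e => inj ((MonoidHom.ker_eq_bot_iff ρ).1 e)
      have h2 : 0 < Nat.card (G ⧸ ρ.ker) := Nat.card_pos
      nlinarith
    · induction g using QuotientGroup.induction_on with | _ g => exact even g
    · obtain ⟨g, e⟩ := surj σ hσ; exact ⟨g, e⟩
    · induction g using QuotientGroup.induction_on with | _ g => exact hker g
  rw [not_not] at inj
  have hN : ∀ N : Subgroup G, N.Normal → (∀ g ∈ N, π g = 1) ∨ N = ⊤ := fun N _ =>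
    (norm_dich (by omega) even surj N).imp_right fun h => by
      by_contra hc; exact M1 ⟨N, hc, h⟩
  have mono : ∀ m, m < finrank k V → Bd k (Fintype.card α) m →
      Bd k (Fintype.card α) (finrank k V) := fun m hm hb => ⟨by have := hb.1; omega,
        fun e => by have := hb.1; omega⟩
  by_cases irr : ¬ ∀ W : Submodule k V, (∀ g, ∀ v ∈ W, ρ g v ∈ W) → W = ⊥ ∨ W = ⊤
  · push Not at irr
    obtain ⟨W, hW, h0, h1⟩ := irr
    rcases hN (resW ρ W hW).ker inferInstance with a | a
    · have := Submodule.finrank_lt h1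
      exact mono _ this (ih _ this k W rfl α h9 G _ π even surj a)
    rcases hN (quoW ρ W hW).ker inferInstance with b | b
    · have : finrank k (V ⧸ W) < finrank k V := by
        have := W.finrank_quotient_add_finrank
        have h2 : finrank k W ≠ 0 := fun e => h0 (Submodule.finrank_eq_zero.1 e)
        omega
      exact mono _ this (ih _ this k (V ⧸ W) rfl α h9 G _ π even surj b)
    exfalso
    have a' : ∀ g, ∀ v ∈ W, ρ g v = v := fun g v hv => congrArg Subtype.val
      (LinearMap.congr_fun (show g ∈ (resW ρ W hW).ker from a ▸ Subgroup.mem_top g) ⟨v, hv⟩)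
    have b' : ∀ g v, ρ g v - v ∈ W := fun g v => (Submodule.Quotient.eq W).1
      (LinearMap.congr_fun (show g ∈ (quoW ρ W hW).ker from b ▸ Subgroup.mem_top g)
        (Submodule.Quotient.mk v))
    obtain ⟨s, t, hst⟩ := ex_comm (by omega) surj
    have : s * t = t * s := inj (LinearMap.ext fun v => by
      have e1 := a' s _ (b' t v)
      have e2 := a' t _ (b' s v)
      rw [map_sub, sub_eq_iff_eq_add] at e1 e2
      rw [map_mul, map_mul, End.mul_apply, End.mul_apply, e1, e2]; abel)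
    exact hst (by rw [this]; simp)
  rw [not_not] at irr
  by_cases hc : π.ker ≤ Subgroup.center G
  · have hcv : Cv π := ⟨even, surj, fun z hz g => Subgroup.mem_center_iff.1 (hc hz) g⟩
    exact Cov.main ⟨hcv, fun z hz => schur irr (hcv.cen z hz), irr, hker⟩ h9 (sub_case ih hcv)
  suffices Fintype.card α ≤ finrank k V + 1 from ⟨by omega, fun e => by omega⟩
  obtain ⟨A, ⟨hA, hAK, hnc⟩, hmin⟩ := exists_minimal_of_wellFoundedLT
    (fun B : Subgroup G => B.Normal ∧ B ≤ π.ker ∧ ¬ B ≤ Subgroup.center G) ⟨_, inferInstance, le_rfl, hc⟩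
  have hsub : ∀ B : Subgroup G, B.Normal → B ≤ A → B ≤ Subgroup.center G ∨ A ≤ B := fun B h1 h2 =>
    or_iff_not_imp_left.2 fun h3 => hmin ⟨h1, h2.trans hAK, h3⟩ h2
  by_cases hab : ∀ a ∈ A, ∀ b ∈ A, a * b = b * a
  · exact (ab_case h9 surj hN inj irr A hab hnc).trans (Nat.le_succ _)
  have hfr : π.ker ≤ frattini G := by
    rw [frattini, Order.radical]
    refine le_iInf fun M => le_iInf fun hM => ?_
    by_contra hle
    have ht : M ⊔ π.ker = ⊤ := hM.2 _ (left_lt_sup.2 hle)
    refine M1 ⟨M, hM.1, fun σ hσ => ?_⟩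
    obtain ⟨g, rfl⟩ := surj σ hσ
    obtain ⟨y, hy, z, hz, rfl⟩ := Subgroup.mem_sup_of_normal_right.1
      (show g ∈ M ⊔ π.ker from ht ▸ Subgroup.mem_top g)
    exact ⟨y, hy, by rw [map_mul, (show π z = 1 from hz), mul_one]⟩
  haveI := frattini_nilpotent (G := G)
  haveI : Group.IsSolvable A := Group.isSolvable_of_isSolvable_injective
    (Subgroup.inclusion_injective (hAK.trans hfr))
  have hA0 : A ≠ ⊥ := by rintro rfl; exact hnc bot_le
  have hlt : ⁅A, A⁆ < A := by
    haveI := (Subgroup.nontrivial_iff_ne_bot A).2 hA0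
    have := Group.IsSolvable.commutator_lt_top_of_nontrivial A
    rwa [← Subgroup.map_subtype_lt_map_subtype, Subgroup.map_subtype_commutator,
      ← MonoidHom.range_eq_map, Subgroup.range_subtype] at this
  have hcz : ∀ a ∈ A, ∀ b ∈ A, a * b * a⁻¹ * b⁻¹ ∈ Subgroup.center G := fun a ha b hb =>
    ((hsub _ inferInstance hlt.le).resolve_right hlt.2) (Subgroup.commutator_mem_commutator ha hb)
  have hZ : ∀ a ∈ A, (∀ b ∈ A, a * b = b * a) → a ∈ Subgroup.center G := fun a ha h =>
    ((hsub (A ⊓ Subgroup.centralizer A) inferInstance inf_le_left).resolve_right fun e =>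
      hab fun x hx y hy => ((e hx).2 y hy).symm) ⟨ha, fun b hb => (h b hb).symm⟩
  let mk := QuotientGroup.mk' (Subgroup.center G)
  have hmk : ∀ x, mk x = 1 ↔ x ∈ Subgroup.center G := fun x => QuotientGroup.eq_one_iff x
  obtain ⟨a0, ha0, hn0⟩ := SetLike.not_le_iff_exists.1 hnc
  have ho : orderOf (mk a0) ≠ 1 := fun e => hn0 ((hmk _).1 (orderOf_eq_one_iff.1 e))
  have hl := Nat.minFac_prime ho
  set l := (orderOf (mk a0)).minFac with hld
  haveI := Fact.mk hl
  let B : Subgroup G :=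
    { carrier := {a | a ∈ A ∧ mk a ^ l = 1}
      one_mem' := ⟨A.one_mem, by simp⟩
      mul_mem' := by
        rintro a b ⟨h1, h2⟩ ⟨h3, h4⟩
        refine ⟨A.mul_mem h1 h3, ?_⟩
        have : Commute (mk a) (mk b) := by
          have := (hmk _).2 (hcz a h1 b h3)
          simp only [map_mul, map_inv] at this
          rw [mul_inv_eq_one, mul_inv_eq_iff_eq_mul] at this
          exact this
        rw [map_mul, this.mul_pow, h2, h4, one_mul]
      inv_mem' := by rintro a ⟨h1, h2⟩; exact ⟨A.inv_mem h1, by rw [map_inv, inv_pow, h2, inv_one]⟩ }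
  have hB : B.Normal := ⟨by
    rintro a ⟨h1, h2⟩ g
    exact ⟨hA.conj_mem a h1 g, by rw [map_mul, map_mul, map_inv, conj_pow, h2]; simp⟩⟩
  have hAB : A ≤ B := (hsub B hB fun a ha => ha.1).resolve_left fun e => by
    have h1 : orderOf (mk a0 ^ (orderOf (mk a0) / l)) = l :=
      orderOf_pow_orderOf_div (orderOf_pos _).ne' (Nat.minFac_dvd _)
    have h2 := (hmk _).2 (e (show a0 ^ (orderOf (mk a0) / l) ∈ B from
      ⟨A.pow_mem ha0 _, by rw [map_pow]; exact orderOf_dvd_iff_pow_eq_one.1 (by rw [h1])⟩))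
    rw [map_pow] at h2
    rw [h2, orderOf_one] at h1
    exact hl.ne_one h1.symm
  exact nab_case ih h9 even surj hN inj irr A hcz hZ l
    (fun a ha => (hmk _).1 (by rw [map_pow]; exact (hAB ha).2)) hnc

end H23.Wag
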