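import Cfsg.Agent.H1.Wielandt

/-! Flavell's extension of the zipper lemma. -/

set_option autoImplicit false

namespace H23
open Subgroup H1
open scoped Pointwise

variable {G : Type*} [Group G] [Finite G]

local notation:70 g " ∙ " H:70 => (MulAut.conj g • H : Subgroup G)

theorem exists_subnIn_max {D K : Subgroup G} (h : D < K) :
    ∃ u ∈ K, u ∉ D ∧ ∀ L, SubnIn L K → L ≤ D → (u ∙ L) ≤ D ∧ (u⁻¹ ∙ L) ≤ D := by
  set O : Subgroup G := sSup {L : Subgroup G | SubnIn L K ∧ L ≤ D}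
  have h1 : O ≤ D := sSup_le fun L hL => hL.2
  have h2 : ∀ L : Subgroup G, SubnIn L K → L ≤ D → L ≤ O := fun L a b => le_sSup ⟨a, b⟩
  obtain ⟨N, a, b, c⟩ := (SubnIn.sSup (S := {L : Subgroup G | SubnIn L K ∧ L ≤ D}) fun A hA => hA.1).exists_gt_normalizer
    (h1.trans_lt h).ne
  obtain ⟨u, hu, e⟩ := SetLike.not_le_iff_exists.1 fun e => a.not_ge (h2 N b e)
  exact ⟨u, b.le hu, e, fun L x y => ⟨(conj_smul_le_of_le_of_mem (h2 L x y) (c hu)).trans h1,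
    (conj_smul_le_of_le_of_mem (h2 L x y) (inv_mem (c hu))).trans h1⟩⟩

/-- elements reached by the two partial moves -/
inductive ZR (M K : Subgroup G) (u y : G) : G → Prop
  | one : ZR M K u y 1
  | u {g} : ZR M K u y g → (g ∙ M) ≠ K → ZR M K u y (u * g)
  | y {g} : ZR M K u y g → (g ∙ M) ≠ M → ZR M K u y (y * g)

theorem zip_core {A M K : Subgroup G} {u y : G} (hM : IsCoatom M) (hK : IsCoatom K) (hKM : M ≠ K) (hA : A ≤ M ⊓ K)
    (h2 : ∀ W, IsCoatom W → W ≠ M → A ≤ W → ∀ m ∈ M, (m ∙ A) ≤ W → (m ∙ A) = A) (u1 : (u ∙ M) ≠ M) (u2 : (u⁻¹ ∙ A) ≤ M)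
    (u3 : ∀ g : G, (g ∙ A) ≤ M ⊓ K → (g ∙ M) ≠ K → (u ∙ g ∙ A) ≤ M ⊓ K) (y1 : y ∈ M) (y2 : (y ∙ A) ≠ A)
    (y3 : ∀ g : G, (g ∙ A) ≤ M ⊓ K → (g ∙ M) ≠ M → (y ∙ g ∙ A) ≤ M ⊓ K) : False := by
  have y4 : (y⁻¹ ∙ A) ≠ A := fun e => y2 (by rw [← e, conj_smul_conj_inv_smul, e])
  have h1 : ∀ g, ZR M K u y g → (g ∙ A) ≤ M ⊓ K := fun g h => by
    induction h with
    | one => rwa [conj_one_smul]
    | u _ a b => exact conj_smul_conj_smul u _ A ▸ u3 _ b a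
    | y _ a b => exact conj_smul_conj_smul y _ A ▸ y3 _ b a
  have h3 : ∀ g : G, ¬ (g ∙ A) ≤ ((g * (y * u)) ∙ M) := fun g e => y4 (h2 _ (isCoatom_conj_smul hM u) u1
    (le_conj_smul_iff.2 u2) _ (inv_mem y1) (by
      rwa [← conj_smul_conj_smul, conj_smul_le_conj_smul_iff, ← conj_smul_conj_smul, le_conj_smul_iff] at e))
  have h4 := ZR.u (u := u) (y := y) .one (by rwa [conj_one_smul] : ((1 : G) ∙ M) ≠ K)
  have h5 : ∀ g, ZR M K u y g → ZR M K u y (g * (y * u)) := fun g h => by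
    induction h with
    | one => simpa using h4.y (by simpa using u1)
    | u c _ b => exact mul_assoc u _ _ ▸ b.u fun e => h3 _ (e ▸ (h1 _ c).trans inf_le_right)
    | y c _ b => exact mul_assoc y _ _ ▸ b.y fun e => h3 _ (e ▸ (h1 _ c).trans inf_le_left)
  obtain ⟨⟨g, hg⟩, e⟩ := (Finite.injective_iff_surjective (f := fun g : {g // ZR M K u y g} =>
    (⟨g * (y * u), h5 _ g.2⟩ : {g // ZR M K u y g}))).1 (fun a b e => Subtype.ext (by simpa using e)) ⟨_, h4⟩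
  obtain rfl : g = y⁻¹ := by simpa [← mul_assoc, mul_eq_one_iff_eq_inv] using e
  exact y4 (h2 K hK hKM.symm (hA.trans inf_le_right) _ (inv_mem y1) ((h1 _ hg).trans inf_le_right))

theorem flavell_zipper {A M : Subgroup G} (hA : normalClosure (A : Set G) = ⊤) (hM : IsCoatom M) (hAM : A ≤ M)
    (h : ∀ W, IsCoatom W → W ≠ M → A ≤ W → SubnIn A W) {K : Subgroup G} (hK : IsCoatom K) (hAK : A ≤ K) : K = M := by
  induction A using WellFoundedGT.induction generalizing K with | ind A ih =>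
  have n1 : ∀ N : Subgroup G, ∀ g : G, (g ∙ A) ≤ N → normalizer (N : Set G) = ⊤ → N = ⊤ := fun N g a b => by
    have := normalizer_eq_top_iff.1 b
    rw [conj_smul_le_iff, conj_smul_eq_of_mem_normalizer (b ▸ mem_top _)] at a
    exact eq_top_iff.2 (hA ▸ normalClosure_le_normal a)
  by_cases hs : SubnIn A M
  · refine zipper (fun H a b => ?_) (fun e => ?_) hK hM hAK hAM
    · obtain ⟨W, c, d⟩ := exists_coatom_ge b
      by_cases e : W = M
      · exact hs.mono a (e ▸ d)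
      · exact (h W c e (a.trans d)).mono a d
    · obtain ⟨N, a, b, c⟩ := (SubnIn.top_iff.2 e).exists_normal_lt fun e => hM.1 (top_le_iff.1 (e ▸ hAM))
      exact b.ne (n1 N 1 (by rwa [conj_one_smul]) (top_le_iff.1 c))
  have h1 : ∀ g, (g ∙ M) = M → g ∈ M := fun g e => by_contra fun a => hM.1 (n1 M 1 (by rwa [conj_one_smul])
    (hM.2 _ (lt_of_le_of_ne le_normalizer fun b => a (b ▸ mem_normalizer_iff_conj_smul_eq.2 e))))
  have h3 : ∀ g W, IsCoatom W → (g ∙ M) ≠ W → (g ∙ A) ≤ W → SubnIn (g ∙ A) W := fun g W a b c => by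
    simpa [conj_smul_conj_inv_smul] using (h _ (isCoatom_conj_smul a g⁻¹) (fun e => b (by
      rw [← e, conj_smul_conj_inv_smul])) (conj_smul_le_iff.1 c)).conj g
  have h0 : ∀ m ∈ M, (m ∙ M) = M := fun m a => conj_smul_eq_of_mem_normalizer (le_normalizer a)
  have h2 : ∀ W, IsCoatom W → W ≠ M → A ≤ W → ∀ m ∈ M, (m ∙ A) ≤ W → (m ∙ A) = A := fun W a b c m d e =>
    eq_of_le_of_card_ge (by_contra fun f => b (ih (A ⊔ m ∙ A) (left_lt_sup.2 f)
      (eq_top_iff.2 (hA ▸ normalClosure_mono (SetLike.coe_subset_coe.2 le_sup_left))) (sup_le hAM (conj_smul_le_of_le_of_mem hAM (le_normalizer d)))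
      (fun V v1 v2 v3 => (h V v1 v2 (le_sup_left.trans v3)).sup (h3 m V v1 (by rw [h0 m d]; exact v2.symm)
        (le_sup_right.trans v3))) a (sup_le c e))) (card_conj_smul m A).ge
  by_contra hn
  obtain ⟨D, -, ⟨K, k1, k2, k3, rfl⟩, hD⟩ := exists_maximal_ge
    (P := fun D : Subgroup G => ∃ K, IsCoatom K ∧ K ≠ M ∧ A ≤ K ∧ D = M ⊓ K) ⟨K, hK, hn, hAK, rfl⟩
  obtain ⟨u, u1, u2, u3⟩ := exists_subnIn_max (D := M ⊓ K) (inf_lt_right.2 fun e => k2 (by_contra fun f =>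
    hM.1 (k1.2 _ (lt_of_le_of_ne e f))))
  obtain ⟨y, y1, y2, y3⟩ := exists_subnIn_max (D := M ⊓ K) (inf_lt_left.2 fun e => k2 (by_contra fun f =>
    k1.1 (hM.2 _ (lt_of_le_of_ne e (Ne.symm f)))))
  have u4 : ∀ g, (g ∙ A) ≤ M ⊓ K → (g ∙ M) ≠ K → _ := fun g a b => u3 _ (h3 g K k1 b (a.trans inf_le_right)) a
  have y4 : ∀ g, (g ∙ A) ≤ M ⊓ K → (g ∙ M) ≠ M → _ := fun g a b => y3 _ (h3 g M hM b (a.trans inf_le_left)) a
  have hAD := le_inf hAM k3
  refine zip_core hM k1 (Ne.symm k2) hAD h2 (fun e => u2 ⟨h1 u e, u1⟩) ((u3 A (h K k1 k2 k3) hAD).2.trans inf_le_left)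
    (fun g a b => (u4 g a b).1) y1 (fun y5 => ?_) fun g a b => (y4 g a b).1
  set F : Subgroup G := sSup {E | ∃ g : G, E = (g ∙ A) ∧ E ≤ M ⊓ K}
  have f1 : F ≤ M ⊓ K := sSup_le fun E ⟨_, _, a⟩ => a
  have f2 : ∀ x : G, (∀ g : G, (g ∙ A) ≤ M ⊓ K → (x ∙ g ∙ A) ≤ M ⊓ K) → x ∈ normalizer (F : Set G) := fun x a =>
    mem_normalizer_of_conj_smul_le (by
      rw [conj_smul_sSup]
      refine iSup₂_le ?_
      rintro _ ⟨g, rfl, b⟩
      exact le_sSup ⟨_, conj_smul_conj_smul x g A, a g b⟩)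
  have f3 := f2 y fun g a => by
    by_cases b : (g ∙ M) = M
    · rwa [h2 K k1 k2 k3 g (h1 g b) (a.trans inf_le_right), y5]
    · exact (y4 g a b).1
  have f0 : A ≤ F := le_sSup ⟨1, (conj_one_smul A).symm, hAD⟩
  by_cases f4 : ∀ g : G, (g ∙ A) ≤ M ⊓ K → (u ∙ g ∙ A) ≤ M ⊓ K
  · obtain ⟨W, w1, w2⟩ := exists_coatom_ge (H := normalizer (F : Set G)) fun e =>
      hM.1 (top_le_iff.1 (n1 F 1 (by rwa [conj_one_smul]) e ▸ f1.trans inf_le_left))
    have := hD _ ⟨W, w1, fun e => u2 ⟨e ▸ w2 (f2 u f4), u1⟩, f0.trans (le_normalizer.trans w2), rfl⟩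
      (le_inf inf_le_left fun x hx => w2 (f2 x fun g a => conj_smul_le_of_le_of_mem a (le_normalizer hx)))
    exact y2 (this ▸ ⟨y1, w2 f3⟩)
  push Not at f4
  obtain ⟨g, g1, g2⟩ := f4
  obtain rfl : (g ∙ M) = K := by_contra fun e => g2 (u4 g g1 e).1
  have y6 : (y ∙ g ∙ M) ≠ (g ∙ M) := fun e => y2 ⟨y1, mem_conj_smul_iff.2 (h1 _ (by
    rw [← conj_smul_conj_smul, ← conj_smul_conj_smul, e, conj_inv_smul_conj_smul]))⟩
  refine zip_core (A := g ∙ A) (u := y) (y := u) k1 hM k2 (inf_comm M _ ▸ g1) (fun W a b c m d e => ?_) y6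
    ((y4 g g1 k2).2.trans inf_le_right) (fun x a b => ?_) u1 (fun e => g2 (e.symm ▸ g1)) fun x a b => ?_
  · have := h2 _ (isCoatom_conj_smul a g⁻¹) (fun f => b (by rw [← f, conj_smul_conj_inv_smul])) (conj_smul_le_iff.1 c)
      _ (mem_conj_smul_iff.1 d) (by
        rwa [← conj_smul_conj_smul, ← conj_smul_conj_smul, conj_smul_le_conj_smul_iff])
    rwa [← conj_smul_conj_smul, ← conj_smul_conj_smul, ← conj_smul_inj (g := g), conj_smul_conj_inv_smul] at this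
  · rw [conj_smul_conj_smul x g] at a b ⊢
    rw [inf_comm] at a ⊢
    exact (y4 _ a b).1
  · rw [conj_smul_conj_smul x g] at a b ⊢
    rw [inf_comm] at a ⊢
    exact (u4 _ a b).1

theorem exists_snClosure {A W : Subgroup G} (h : A ≤ W) : ∃ S, A ≤ S ∧ SubnIn S W ∧
    normalClosure ((A.subgroupOf S : Subgroup S) : Set S) = ⊤ := by
  obtain ⟨S, -, ⟨a, b⟩, c⟩ := exists_minimal_le (P := fun S => A ≤ S ∧ SubnIn S W) ⟨h, SubnIn.refl W⟩
  exact ⟨S, a, b, map_subtype_eq_self_iff.1 (c _ ⟨le_map_subtype_iff.2 ⟨a, subset_normalClosure⟩,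
    (SubnIn.map_subtype_iff.2 (Normal.isSubnormal inferInstance)).trans b⟩ (map_subtype_le _))⟩

end H23
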